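import Groth.Agent.Helper1.Graded
import Mathlib.Algebra.MvPolynomial.Eval
import Mathlib.Algebra.GradedMulAction
import Mathlib.Algebra.Module.GradedModule

set_option autoImplicit false
universe u

namespace Groth.Agent.Helper1.GradedMono

open DirectSum

variable {R A : Type u} [CommRing R] [CommRing A] [Algebra R A] (𝒜 : ℕ → Submodule R A)
  [GradedAlgebra 𝒜]
variable {ι : Type*} [Fintype ι] (f : ι → A) (d : ι → ℕ)

/-- weighted degree of an exponent vector -/
def wdeg (α : ι →₀ ℕ) : ℕ := ∑ i, α i * d i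

/-- the monomial in the `f i` attached to an exponent vector -/
def mon (α : ι →₀ ℕ) : A := ∏ i, f i ^ α i

variable {f d}

theorem mon_mem (hf : ∀ i, f i ∈ 𝒜 (d i)) (α : ι →₀ ℕ) : mon f α ∈ 𝒜 (wdeg d α) := by
  have := SetLike.prod_pow_mem_graded (A := 𝒜) (F := Finset.univ) (i := d) (g := f) (fun i => α i)
    (fun i _ => hf i)
  simpa [mon, wdeg] using this

theorem smul_mon_mem (hf : ∀ i, f i ∈ 𝒜 (d i)) {c : A} (hc : c ∈ 𝒜 0) (α : ι →₀ ℕ) :
    c * mon f α ∈ 𝒜 (wdeg d α) := by
  have := SetLike.mul_mem_graded (A := 𝒜) hc (mon_mem 𝒜 hf α)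
  simpa using this

/-- Induction principle: a predicate closed under sums that holds for all monomials of weighted
degree `n` (times an element of degree `0`) holds on `𝒜 n`. -/
theorem homogeneous_induction (hf : ∀ i, f i ∈ 𝒜 (d i))
    (hadj : Algebra.adjoin (𝒜 0) (Set.range f) = ⊤) {P : A → Prop} (n : ℕ) (h0 : P 0)
    (hadd : ∀ x y, P x → P y → P (x + y))
    (hmon : ∀ c ∈ 𝒜 0, ∀ α : ι →₀ ℕ, wdeg d α = n → P (c * mon f α)) :
    ∀ x ∈ 𝒜 n, P x := by
  classical
  intro x hx
  have hxr : x ∈ (MvPolynomial.aeval (R := 𝒜 0) f).range := by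
    rw [← Algebra.adjoin_range_eq_range_aeval, hadj]; exact Algebra.mem_top
  obtain ⟨p, hp⟩ := hxr
  replace hp : MvPolynomial.aeval (R := 𝒜 0) f p = x := hp
  subst hp
  have hsum : MvPolynomial.aeval (R := 𝒜 0) f p =
      ∑ α ∈ p.support, ((p.coeff α : 𝒜 0) : A) * mon f α := by
    rw [MvPolynomial.aeval_def, MvPolynomial.eval₂_eq']
    rfl
  have hdec : MvPolynomial.aeval (R := 𝒜 0) f p =
      ∑ α ∈ p.support, ((decompose 𝒜 (((p.coeff α : 𝒜 0) : A) * mon f α) n : 𝒜 n) : A) := by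
    conv_lhs => rw [← decompose_of_mem_same 𝒜 hx, hsum, decompose_sum, DFinsupp.finsetSum_apply,
      AddSubmonoidClass.coe_finsetSum]
  rw [hdec]
  refine Finset.sum_induction _ P hadd h0 ?_
  intro α _
  have hmem := smul_mon_mem 𝒜 hf (p.coeff α).2 α
  by_cases hα : wdeg d α = n
  · rw [← hα, decompose_of_mem_same 𝒜 hmem]
    exact hmon _ (p.coeff α).2 α hα
  · rw [decompose_of_mem_ne 𝒜 hmem hα]
    exact h0

theorem mon_add (α β : ι →₀ ℕ) : mon f (α + β) = mon f α * mon f β := by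
  simp [mon, pow_add, Finset.prod_mul_distrib]

theorem mon_single (i : ι) (k : ℕ) : mon f (Finsupp.single i k) = f i ^ k := by
  classical
  simp only [mon]
  rw [Finset.prod_eq_single i]
  · simp
  · intro j _ hj
    simp [Ne.symm hj]
  · intro h; exact absurd (Finset.mem_univ i) h

theorem wdeg_add (α β : ι →₀ ℕ) : wdeg d (α + β) = wdeg d α + wdeg d β := by
  simp [wdeg, add_mul, Finset.sum_add_distrib]

theorem wdeg_single (i : ι) (k : ℕ) : wdeg d (Finsupp.single i k) = k * d i := by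
  classical
  simp only [wdeg]
  rw [Finset.sum_eq_single i]
  · simp
  · intro j _ hj
    simp [Ne.symm hj]
  · intro h; exact absurd (Finset.mem_univ i) h

end Groth.Agent.Helper1.GradedMono

namespace Groth.Agent.Helper1.GradedMono

open DirectSum

section Module

variable {R A : Type u} [CommRing R] [CommRing A] [Algebra R A] (𝒜 : ℕ → Submodule R A)
  [GradedAlgebra 𝒜]
variable {M : Type u} [AddCommGroup M] [Module R M] [Module A M] [IsScalarTower R A M]
  (ℳ : ℕ → Submodule R M) [DirectSum.Decomposition ℳ] [SetLike.GradedSMul 𝒜 ℳ]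

theorem smul_mem_graded {k e : ℕ} {a : A} {g : M} (ha : a ∈ 𝒜 k) (hg : g ∈ ℳ e) :
    a • g ∈ ℳ (k + e) :=
  SetLike.GradedSMul.smul_mem ha hg

/-- the degree `N` component of `s • g` for homogeneous `g` -/
theorem decompose_smul_induction {P : M → Prop} (h0 : P 0) (hadd : ∀ x y, P x → P y → P (x + y))
    {g : M} {e : ℕ} (hg : g ∈ ℳ e) (N : ℕ) (s : A)
    (hP : ∀ k, ∀ a ∈ 𝒜 k, k + e = N → P (a • g)) :
    P ((decompose ℳ (s • g) N : ℳ N) : M) := by
  classical
  have hs : s • g = ∑ k ∈ (decompose 𝒜 s).support, ((decompose 𝒜 s k : 𝒜 k) : A) • g := by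
    conv_lhs => rw [← sum_support_decompose 𝒜 s, Finset.sum_smul]
  rw [hs, decompose_sum, DFinsupp.finsetSum_apply, AddSubmonoidClass.coe_finsetSum]
  refine Finset.sum_induction _ P hadd h0 ?_
  intro k _
  have hmem := smul_mem_graded 𝒜 ℳ (decompose 𝒜 s k).2 hg
  by_cases hk : k + e = N
  · rw [← hk, decompose_of_mem_same ℳ hmem]
    exact hP k _ (decompose 𝒜 s k).2 hk
  · rw [decompose_of_mem_ne ℳ hmem hk]
    exact h0

/-- Induction principle for the graded pieces of a module generated by homogeneous elements. -/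
theorem module_homogeneous_induction (G : Finset M) (e : M → ℕ) (hG : ∀ g ∈ G, g ∈ ℳ (e g))
    (hspan : Submodule.span A (G : Set M) = ⊤) {P : M → Prop} (h0 : P 0)
    (hadd : ∀ x y, P x → P y → P (x + y)) (N : ℕ)
    (hP : ∀ g ∈ G, ∀ k, ∀ a ∈ 𝒜 k, k + e g = N → P (a • g)) :
    ∀ x ∈ ℳ N, P x := by
  classical
  intro x hx
  have hxs : x ∈ Submodule.span A (G : Set M) := by rw [hspan]; exact Submodule.mem_top
  obtain ⟨φ, -, hφ⟩ := Submodule.mem_span_finset.1 hxs
  have hdec : x = ∑ g ∈ G, ((decompose ℳ (φ g • g) N : ℳ N) : M) := by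
    conv_lhs => rw [← decompose_of_mem_same ℳ hx, ← hφ, decompose_sum, DFinsupp.finsetSum_apply,
      AddSubmonoidClass.coe_finsetSum]
  rw [hdec]
  refine Finset.sum_induction _ P hadd h0 ?_
  intro g hg
  exact decompose_smul_induction 𝒜 ℳ h0 hadd (hG g hg) N (φ g) (hP g hg)

/-- A finite module over a graded ring is generated by finitely many homogeneous elements. -/
theorem exists_finset_homogeneous_span_eq_top [Module.Finite A M] :
    ∃ G : Finset M, (∀ g ∈ G, ∃ e : ℕ, g ∈ ℳ e) ∧ Submodule.span A (G : Set M) = ⊤ := by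
  classical
  obtain ⟨F, hF⟩ := (Module.Finite.fg_top : (⊤ : Submodule A M).FG)
  let G : Finset M := F.biUnion fun m =>
    (decompose ℳ m).support.image fun k => ((decompose ℳ m k : ℳ k) : M)
  refine ⟨G, ?_, ?_⟩
  · intro g hg
    obtain ⟨m, _, hg⟩ := Finset.mem_biUnion.1 hg
    obtain ⟨k, _, rfl⟩ := Finset.mem_image.1 hg
    exact ⟨k, (decompose ℳ m k).2⟩
  · rw [eq_top_iff, ← hF, Submodule.span_le]
    intro m hm
    rw [SetLike.mem_coe, ← sum_support_decompose ℳ m]
    refine Submodule.sum_mem _ fun k hk => Submodule.subset_span ?_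
    exact Finset.mem_biUnion.2 ⟨m, hm, Finset.mem_image.2 ⟨k, hk, rfl⟩⟩

end Module

end Groth.Agent.Helper1.GradedMono
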