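import Mathlib
import Groth.Prelude.Def_CAlg
import Groth.Agent.H29.DepthFlat
import Groth.Agent.H29.DepthMore
import Groth.Agent.H29.RegLocal2

namespace Groth.Agent.Helper1.CMAscent

open IsLocalRing

universe u

set_option linter.style.haveILetI false
set_option linter.unusedSectionVars false

section Gen

variable (R S : Type u) [CommRing R] [CommRing S] [IsNoetherianRing R] [IsLocalRing R]
    [IsNoetherianRing S] [IsLocalRing S] [Algebra R S]
    [IsLocalHom (algebraMap R S)] [Module.Flat R S]

omit [IsNoetherianRing R] [IsNoetherianRing S] [Module.Flat R S] in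
theorem map_le : (maximalIdeal R).map (algebraMap R S) ≤ maximalIdeal S := by
  rw [Ideal.map_le_iff_le_comap]
  exact le_of_eq (Ideal.LiesOver.over (P := maximalIdeal S) (p := maximalIdeal R))

omit [IsNoetherianRing R] in
theorem depth_le : LocCoh.depth R R ≤ LocCoh.depth S S := by
  unfold LocCoh.depth
  have h1 := Groth.Agent.H29.idealDepth_le_idealDepth_tensor R S (maximalIdeal R) R
  rw [Groth.Agent.H29.idealDepth_congr _ (TensorProduct.AlgebraTensorModule.rid R S S)] at h1
  exact h1.trans (Groth.Agent.H29.idealDepth_mono (map_le R S) S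
    (Groth.Agent.H29.maximalIdeal_smul_top_ne_top S S))

omit [IsNoetherianRing R] [IsNoetherianRing S] [Module.Flat R S] in
theorem map_ne_top : (maximalIdeal R).map (algebraMap R S) ≠ ⊤ := fun h =>
  (maximalIdeal.isMaximal S).ne_top (top_le_iff.mp (h.ge.trans (map_le R S)))

omit [IsNoetherianRing R] [IsNoetherianRing S] [Module.Flat R S] in
theorem isLocalRing_quot : IsLocalRing (S ⧸ (maximalIdeal R).map (algebraMap R S)) := by
  have : Nontrivial (S ⧸ (maximalIdeal R).map (algebraMap R S)) :=
    Ideal.Quotient.nontrivial_iff.mpr (map_ne_top R S)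
  exact IsLocalRing.of_surjective' (Ideal.Quotient.mk _) Ideal.Quotient.mk_surjective

theorem height_eq [IsLocalRing (S ⧸ (maximalIdeal R).map (algebraMap R S))] :
    (maximalIdeal S).height = (maximalIdeal R).height +
      (maximalIdeal (S ⧸ (maximalIdeal R).map (algebraMap R S))).height := by
  have hht := Ideal.height_eq_height_add_of_liesOver_of_hasGoingDown (maximalIdeal R)
    (maximalIdeal S)
  rw [Groth.Agent.H29.map_mk_maximalIdeal] at hht
  exact hht

omit [IsNoetherianRing R] [IsNoetherianRing S] [Module.Flat R S] [IsLocalRing S]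
  [IsLocalHom (algebraMap R S)] in
theorem krullDimLE_zero_of_finite [Module.Finite R S] :
    Ring.KrullDimLE 0 (S ⧸ (maximalIdeal R).map (algebraMap R S)) := by
  apply Ring.KrullDimLE.mk₀
  intro q' hq'
  have hle : (maximalIdeal R).map (algebraMap R S) ≤
      q'.comap (Ideal.Quotient.mk ((maximalIdeal R).map (algebraMap R S))) := by
    intro x hx
    rw [Ideal.mem_comap, Ideal.Quotient.eq_zero_iff_mem.mpr hx]
    exact zero_mem _
  have hint : Algebra.IsIntegral R S := Algebra.IsIntegral.of_finite R S
  have hmax : (q'.comap (Ideal.Quotient.mk ((maximalIdeal R).map (algebraMap R S)))).IsMaximal := by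
    apply Ideal.isMaximal_of_isIntegral_of_isMaximal_comap (R := R)
    have h1 : maximalIdeal R ≤
        ((q'.comap (Ideal.Quotient.mk ((maximalIdeal R).map (algebraMap R S)))).comap
          (algebraMap R S)) := Ideal.map_le_iff_le_comap.mp hle
    have hne : ((q'.comap (Ideal.Quotient.mk ((maximalIdeal R).map (algebraMap R S)))).comap
          (algebraMap R S)) ≠ ⊤ := Ideal.IsPrime.ne_top inferInstance
    rw [← (maximalIdeal.isMaximal R).eq_of_le hne h1]
    exact maximalIdeal.isMaximal R
  rw [← Ideal.map_comap_of_surjective (Ideal.Quotient.mk ((maximalIdeal R).map (algebraMap R S)))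
    Ideal.Quotient.mk_surjective q']
  rcases Ideal.map_eq_top_or_isMaximal_of_surjective
    (Ideal.Quotient.mk ((maximalIdeal R).map (algebraMap R S))) Ideal.Quotient.mk_surjective hmax
    with h | h
  · exfalso
    rw [Ideal.map_comap_of_surjective _ Ideal.Quotient.mk_surjective] at h
    exact hq'.ne_top h
  · exact h

end Gen

theorem main (R S : Type u) [CommRing R] [CommRing S]
    [LocCoh.IsCohenMacaulayLocalRing R] [IsNoetherianRing S] [IsLocalRing S] [Algebra R S]
    [IsLocalHom (algebraMap R S)] [Module.Flat R S]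
    (h : Module.Finite R S ∨ ringKrullDim S ≤ ringKrullDim R) :
    LocCoh.IsCohenMacaulayLocalRing S ∧ ringKrullDim R = ringKrullDim S := by
  haveI := isLocalRing_quot R S
  have hht := height_eq R S
  have hR : ringKrullDim R = ((maximalIdeal R).height : WithBot ℕ∞) :=
    maximalIdeal_height_eq_ringKrullDim.symm
  have hS : ringKrullDim S = ((maximalIdeal S).height : WithBot ℕ∞) :=
    maximalIdeal_height_eq_ringKrullDim.symm
  have hfin : (maximalIdeal R).height ≠ ⊤ := Ideal.height_ne_top_of_isPrime
  have hc : (maximalIdeal (S ⧸ (maximalIdeal R).map (algebraMap R S))).height = 0 := by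
    rcases h with hfinite | hle
    · have hK := krullDimLE_zero_of_finite R S
      have h0 : ringKrullDim (S ⧸ (maximalIdeal R).map (algebraMap R S)) ≤ ((0 : ℕ) : WithBot ℕ∞) :=
        Ring.krullDimLE_iff.mp hK
      rw [← maximalIdeal_height_eq_ringKrullDim] at h0
      have h1 : (maximalIdeal (S ⧸ (maximalIdeal R).map (algebraMap R S))).height ≤ 0 :=
        WithBot.coe_le_coe.mp (h0.trans (le_of_eq rfl))
      exact nonpos_iff_eq_zero.mp h1
    · rw [hS, hR, hht] at hle
      have h1 := WithBot.coe_le_coe.mp hle
      have h2 : (maximalIdeal R).height +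
          (maximalIdeal (S ⧸ (maximalIdeal R).map (algebraMap R S))).height ≤
          (maximalIdeal R).height + 0 := by rwa [add_zero]
      exact nonpos_iff_eq_zero.mp ((ENat.add_le_add_iff_left hfin).mp h2)
  have hdim : ringKrullDim R = ringKrullDim S := by rw [hR, hS, hht, hc, add_zero]
  refine ⟨?_, hdim⟩
  have hd := depth_le R S
  have hCM : Module.supportDim R R = ((LocCoh.depth R R : ℕ∞) : WithBot ℕ∞) :=
    LocCoh.IsCohenMacaulayLocalRing.supportDim_eq_depth
  refine { supportDim_eq_depth := le_antisymm ?_ (Groth.Agent.H29.depth_le_supportDim S S) }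
  rw [Module.supportDim_self_eq_ringKrullDim, ← hdim, ← Module.supportDim_self_eq_ringKrullDim, hCM]
  exact WithBot.coe_le_coe.mpr hd

end Groth.Agent.Helper1.CMAscent
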