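import Mathlib
import Groth.Prelude.Def_CAlg
import Groth.Agent.H29.DepthMore
import Groth.Agent.H29.Depth
import Groth.Agent.H29.DepthLib
import Groth.Agent.H29.DepthFinite
import Groth.Agent.Lib.Helper8.RegLift
import Groth.Agent.Lib.Helper8.LocalCrit

namespace Groth.Agent.Helper1.DepthTensor

open TensorProduct IsLocalRing
open scoped Pointwise

universe u

set_option linter.style.haveILetI false
set_option linter.unusedSectionVars false

section Equivs

variable {R S : Type u} [CommRing R] [CommRing S] [Algebra R S]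
  (M : Type u) [AddCommGroup M] [Module R M]
  (N : Type u) [AddCommGroup N] [Module S N] [Module R N] [IsScalarTower R S N]

theorem algebraMap_smul_tensor (x : R) (t : N ⊗[R] M) :
    algebraMap R S x • t = (LinearMap.lsmul R M x).lTensor N t := by
  rw [algebraMap_smul]
  induction t using TensorProduct.induction_on with
  | zero => simp
  | tmul n m => rw [LinearMap.lTensor_tmul, LinearMap.lsmul_apply, TensorProduct.tmul_smul]
  | add a b ha hb => rw [smul_add, map_add, ha, hb]

theorem isSMulRegular_right [Module.Flat R N] (x : R) (hx : IsSMulRegular M x) :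
    IsSMulRegular (N ⊗[R] M) (algebraMap R S x) := by
  have hinj : Function.Injective ((LinearMap.lsmul R M x).lTensor N) :=
    Module.Flat.lTensor_preserves_injective_linearMap _ hx
  intro a b hab
  apply hinj
  rw [← algebraMap_smul_tensor (S := S) M N x a, ← algebraMap_smul_tensor (S := S) M N x b]
  exact hab

theorem exact_smul_mkQ_S (y : S) (f : N →ₗ[R] N) (hf : ∀ n, f n = y • n)
    (g : N →ₗ[R] QuotSMulTop y N) (hg : ∀ n, g n = Submodule.Quotient.mk n) :
    Function.Exact f g := by
  intro n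
  rw [hg, Submodule.Quotient.mk_eq_zero, Submodule.mem_smul_pointwise_iff_exists]
  constructor
  · rintro ⟨z, -, rfl⟩; exact ⟨z, hf z⟩
  · rintro ⟨z, rfl⟩; exact ⟨z, trivial, (hf z).symm⟩

theorem exact_smul_mkQ_R (x : R) :
    Function.Exact (LinearMap.lsmul R M x) (Submodule.mkQ (x • (⊤ : Submodule R M))) := by
  intro n
  change Submodule.Quotient.mk n = 0 ↔ n ∈ Set.range (LinearMap.lsmul R M x)
  rw [Submodule.Quotient.mk_eq_zero, Submodule.mem_smul_pointwise_iff_exists]
  constructor
  · rintro ⟨z, -, rfl⟩; exact ⟨z, rfl⟩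
  · rintro ⟨z, rfl⟩; exact ⟨z, trivial, rfl⟩

theorem isSMulRegular_left (y : S) (hy : IsSMulRegular N y) [Module.Flat R (QuotSMulTop y N)] :
    IsSMulRegular (N ⊗[R] M) y := by
  obtain ⟨f, hf⟩ : ∃ f : N →ₗ[R] N, ∀ n, f n = y • n :=
    ⟨(LinearMap.lsmul S N y).restrictScalars R, fun _ => rfl⟩
  obtain ⟨g, hg⟩ : ∃ g : N →ₗ[R] QuotSMulTop y N, ∀ n, g n = Submodule.Quotient.mk n :=
    ⟨(Submodule.mkQ (y • (⊤ : Submodule S N))).restrictScalars R, fun _ => rfl⟩
  have hgs : Function.Surjective g := by
    intro z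
    obtain ⟨n, rfl⟩ := Submodule.Quotient.mk_surjective _ z
    exact ⟨n, hg n⟩
  have hfi : Function.Injective f := by
    intro a b hab
    rw [hf, hf] at hab
    exact hy hab
  have h1 : Function.Injective (f.lTensor M) :=
    LinearMap.lTensor_injective_of_exact_of_flat g hgs f hfi (exact_smul_mkQ_S N y f hf g hg) M
  have h2 : Function.Injective (f.rTensor M) := by
    rwa [LinearMap.lTensor_inj_iff_rTensor_inj] at h1
  have h3 : ∀ t : N ⊗[R] M, y • t = f.rTensor M t := by
    intro t
    induction t using TensorProduct.induction_on with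
    | zero => simp
    | tmul n m => rw [LinearMap.rTensor_tmul, hf]; rfl
    | add a b ha hb => rw [smul_add, map_add, ha, hb]
  intro a b hab
  apply h2
  rw [← h3, ← h3]; exact hab

theorem nonempty_equiv_right (x : R) :
    Nonempty (QuotSMulTop (algebraMap R S x) (N ⊗[R] M) ≃ₗ[S] N ⊗[R] QuotSMulTop x M) := by
  obtain ⟨φ, hφ⟩ : ∃ φ : N ⊗[R] M →ₗ[S] N ⊗[R] QuotSMulTop x M,
      ∀ t, φ t = (Submodule.mkQ (x • (⊤ : Submodule R M))).lTensor N t :=
    ⟨AlgebraTensorModule.lTensor S N (Submodule.mkQ (x • (⊤ : Submodule R M))), fun t => rfl⟩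
  have hsurj : Function.Surjective φ := by
    intro z
    obtain ⟨t, ht⟩ := LinearMap.lTensor_surjective N
      (Submodule.mkQ_surjective (x • (⊤ : Submodule R M))) z
    exact ⟨t, (hφ t).trans ht⟩
  have hex' := lTensor_exact N (exact_smul_mkQ_R M x)
    (Submodule.mkQ_surjective (x • (⊤ : Submodule R M)))
  have hker : LinearMap.ker φ = algebraMap R S x • (⊤ : Submodule S (N ⊗[R] M)) := by
    ext t
    rw [LinearMap.mem_ker, hφ, hex' t, Submodule.mem_smul_pointwise_iff_exists]
    constructor
    · rintro ⟨z, rfl⟩; exact ⟨z, trivial, algebraMap_smul_tensor M N x z⟩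
    · rintro ⟨z, -, rfl⟩; exact ⟨z, (algebraMap_smul_tensor M N x z).symm⟩
  exact ⟨(Submodule.quotEquivOfEq _ _ hker.symm) ≪≫ₗ φ.quotKerEquivOfSurjective hsurj⟩

theorem nonempty_equiv_left (y : S) :
    Nonempty (QuotSMulTop y (N ⊗[R] M) ≃ₗ[S] (QuotSMulTop y N) ⊗[R] M) := by
  obtain ⟨f, hf⟩ : ∃ f : N →ₗ[R] N, ∀ n, f n = y • n :=
    ⟨(LinearMap.lsmul S N y).restrictScalars R, fun _ => rfl⟩
  obtain ⟨g, hg⟩ : ∃ g : N →ₗ[R] QuotSMulTop y N, ∀ n, g n = Submodule.Quotient.mk n :=
    ⟨(Submodule.mkQ (y • (⊤ : Submodule S N))).restrictScalars R, fun _ => rfl⟩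
  have hgs : Function.Surjective g := by
    intro z
    obtain ⟨n, rfl⟩ := Submodule.Quotient.mk_surjective _ z
    exact ⟨n, hg n⟩
  obtain ⟨φ, hφ⟩ : ∃ φ : N ⊗[R] M →ₗ[S] (QuotSMulTop y N) ⊗[R] M,
      ∀ t, φ t = g.rTensor M t := by
    refine ⟨AlgebraTensorModule.rTensor R M (Submodule.mkQ (y • (⊤ : Submodule S N))), fun t => ?_⟩
    induction t using TensorProduct.induction_on with
    | zero => simp
    | tmul n m => rw [AlgebraTensorModule.rTensor_tmul, LinearMap.rTensor_tmul, hg]; rfl
    | add a b ha hb => rw [map_add, map_add, ha, hb]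
  have hsurj : Function.Surjective φ := by
    intro z
    obtain ⟨t, ht⟩ := LinearMap.rTensor_surjective M hgs z
    exact ⟨t, (hφ t).trans ht⟩
  have hex' := rTensor_exact M (exact_smul_mkQ_S N y f hf g hg) hgs
  have h3 : ∀ t : N ⊗[R] M, y • t = f.rTensor M t := by
    intro t
    induction t using TensorProduct.induction_on with
    | zero => simp
    | tmul n m => rw [LinearMap.rTensor_tmul, hf]; rfl
    | add a b ha hb => rw [smul_add, map_add, ha, hb]
  have hker : LinearMap.ker φ = y • (⊤ : Submodule S (N ⊗[R] M)) := by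
    ext t
    rw [LinearMap.mem_ker, hφ, hex' t, Submodule.mem_smul_pointwise_iff_exists]
    constructor
    · rintro ⟨z, rfl⟩; exact ⟨z, trivial, h3 z⟩
    · rintro ⟨z, -, rfl⟩; exact ⟨z, (h3 z).symm⟩
  exact ⟨(Submodule.quotEquivOfEq _ _ hker.symm) ≪≫ₗ φ.quotKerEquivOfSurjective hsurj⟩

end Equivs

section Depth

variable {R S : Type u} [CommRing R] [CommRing S] [IsLocalRing R] [IsLocalRing S]
    [IsNoetherianRing R] [IsNoetherianRing S] [Algebra R S] [IsLocalHom (algebraMap R S)]

/-- The closed-fibre module `N / m_R N`. -/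
abbrev Fib (R : Type u) (S : Type u) [CommRing R] [CommRing S] [IsLocalRing R] [Algebra R S]
    (N : Type u) [AddCommGroup N] [Module S N] : Type u :=
  N ⧸ (IsLocalRing.maximalIdeal R).map (algebraMap R S) • (⊤ : Submodule S N)

theorem subsingleton_tensor_of_right {R : Type u} [CommRing R] (M N : Type u) [AddCommGroup M]
    [Module R M] [AddCommGroup N] [Module R N] [Subsingleton M] : Subsingleton (N ⊗[R] M) :=
  ⟨fun a b => by
    have h : ∀ t : N ⊗[R] M, t = 0 := fun t => by
      induction t using TensorProduct.induction_on with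
      | zero => rfl
      | tmul n m => rw [Subsingleton.elim m 0, TensorProduct.tmul_zero]
      | add a b ha hb => rw [ha, hb, add_zero]
    rw [h a, h b]⟩

theorem subsingleton_tensor_of_left {R : Type u} [CommRing R] (M N : Type u) [AddCommGroup M]
    [Module R M] [AddCommGroup N] [Module R N] [Subsingleton N] : Subsingleton (N ⊗[R] M) :=
  ⟨fun a b => by
    have h : ∀ t : N ⊗[R] M, t = 0 := fun t => by
      induction t using TensorProduct.induction_on with
      | zero => rfl
      | tmul n m => rw [Subsingleton.elim n 0, TensorProduct.zero_tmul]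
      | add a b ha hb => rw [ha, hb, add_zero]
    rw [h a, h b]⟩

theorem depth_zero_zero (M : Type u) [AddCommGroup M] [Module R M] [Module.Finite R M]
    (N : Type u) [AddCommGroup N] [Module S N] [Module R N] [IsScalarTower R S N]
    [Module.Finite S N] [Module.Flat R N]
    (hM : LocCoh.depth R M = 0) (hN : LocCoh.depth S (Fib R S N) = 0) :
    LocCoh.depth S (N ⊗[R] M) = 0 := by
  rw [Groth.Agent.H29.depth_eq_zero_iff_mem_ass] at hM hN
  obtain ⟨-, u, hu⟩ := isAssociatedPrime_iff.mp hM
  obtain ⟨-, nb, hnb⟩ := isAssociatedPrime_iff.mp hN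
  obtain ⟨n, rfl⟩ := Submodule.Quotient.mk_surjective _ nb
  have hu' : ∀ a : R, a ∈ maximalIdeal R ↔ a • u = 0 := by
    intro a; rw [hu, Submodule.mem_colon_singleton, Submodule.mem_bot]
  have hn' : ∀ b : S, b ∈ maximalIdeal S ↔
      b • n ∈ (maximalIdeal R).map (algebraMap R S) • (⊤ : Submodule S N) := by
    intro b
    rw [hnb, Submodule.mem_colon_singleton, Submodule.mem_bot, ← Submodule.Quotient.mk_smul,
      Submodule.Quotient.mk_eq_zero]
  have hres : ((maximalIdeal R).map (algebraMap R S) • (⊤ : Submodule S N)).restrictScalars R =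
      maximalIdeal R • (⊤ : Submodule R N) := by
    rw [Ideal.smul_restrictScalars, Submodule.restrictScalars_top]
  have hmem : ∀ z : N, z ∈ (maximalIdeal R).map (algebraMap R S) • (⊤ : Submodule S N) ↔
      z ∈ maximalIdeal R • (⊤ : Submodule R N) := by
    intro z; rw [← hres]; exact Iff.rfl
  have hkill : ∀ z ∈ maximalIdeal R • (⊤ : Submodule R N), z ⊗ₜ[R] u = 0 := by
    intro z hz
    refine Submodule.smul_induction_on hz (fun a ha n' _ => ?_) (fun z₁ z₂ h₁ h₂ => ?_)
    · rw [TensorProduct.smul_tmul, (hu' a).mp ha, TensorProduct.tmul_zero]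
    · rw [TensorProduct.add_tmul, h₁, h₂, add_zero]
  obtain ⟨t, ht⟩ : ∃ t : N ⊗[R] M, t = n ⊗ₜ[R] u := ⟨_, rfl⟩
  have htk : ∀ b ∈ maximalIdeal S, b • t = 0 := by
    intro b hb
    rw [ht, TensorProduct.smul_tmul']
    exact hkill _ ((hmem _).mp ((hn' b).mp hb))
  have ht0 : t ≠ 0 := by
    intro h0
    have hle : maximalIdeal R ≤ LinearMap.ker (LinearMap.toSpanSingleton R M u) := by
      intro a ha
      rw [LinearMap.mem_ker, LinearMap.toSpanSingleton_apply]
      exact (hu' a).mp ha
    obtain ⟨ψ, hψ1, hψ⟩ : ∃ ψ : (R ⧸ maximalIdeal R) →ₗ[R] M,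
        ψ (Ideal.Quotient.mk (maximalIdeal R) 1) = u ∧ Function.Injective ψ := by
      refine ⟨Submodule.liftQ (maximalIdeal R) (LinearMap.toSpanSingleton R M u) hle, ?_, ?_⟩
      · change Submodule.liftQ (maximalIdeal R) (LinearMap.toSpanSingleton R M u) hle
          (Submodule.Quotient.mk 1) = u
        rw [Submodule.liftQ_apply, LinearMap.toSpanSingleton_apply, one_smul]
      · rw [← LinearMap.ker_eq_bot]
        apply Submodule.ker_liftQ_eq_bot
        intro a ha
        rw [LinearMap.mem_ker, LinearMap.toSpanSingleton_apply] at ha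
        exact (hu' a).mpr ha
    have hinj := Module.Flat.lTensor_preserves_injective_linearMap (M := N) ψ hψ
    have h1 : ψ.lTensor N (n ⊗ₜ[R] (Ideal.Quotient.mk (maximalIdeal R) 1)) = 0 := by
      rw [LinearMap.lTensor_tmul, hψ1, ← ht, h0]
    have h2 : n ⊗ₜ[R] (Ideal.Quotient.mk (maximalIdeal R) (1 : R)) = 0 :=
      hinj (h1.trans (map_zero _).symm)
    have h3 := congrArg (TensorProduct.tensorQuotEquivQuotSMul N (maximalIdeal R)) h2
    rw [TensorProduct.tensorQuotEquivQuotSMul_tmul_mk, map_zero, one_smul,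
      Submodule.Quotient.mk_eq_zero] at h3
    have h4 : (1 : S) ∈ maximalIdeal S := (hn' 1).mpr (by rw [one_smul]; exact (hmem n).mpr h3)
    exact (Ideal.ne_top_iff_one _).mp (maximalIdeal.isMaximal S).ne_top h4
  haveI : Nontrivial (N ⊗[R] M) := ⟨⟨t, 0, ht0⟩⟩
  haveI : Module.Finite S (N ⊗[R] M) := Groth.Agent.Helper8.LocalCrit.finite_tensor R S N M
  rw [Groth.Agent.H29.depth_eq_zero_iff]
  intro b hb hreg
  exact ht0 (hreg (by simp only [htk b hb, smul_zero]))

theorem depth_tensor_of_depth_zero (M : Type u) [AddCommGroup M] [Module R M] [Module.Finite R M]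
    (hM : LocCoh.depth R M = 0) (s : ℕ) :
    ∀ (N : Type u) [AddCommGroup N] [Module S N] [Module R N] [IsScalarTower R S N]
      [Module.Finite S N] [Module.Flat R N],
      LocCoh.depth S (Fib R S N) = s → LocCoh.depth S (N ⊗[R] M) = s := by
  induction s with
  | zero =>
    intro N _ _ _ _ _ _ hN
    rw [Nat.cast_zero] at hN ⊢
    exact depth_zero_zero M N hM hN
  | succ s ih =>
    intro N _ _ _ _ _ _ hN
    haveI hnt : Nontrivial (Fib R S N) := by
      by_contra hcon
      rw [not_nontrivial_iff_subsingleton] at hcon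
      rw [Groth.Agent.H29.depth_eq_top_of_subsingleton] at hN
      exact ENat.top_ne_natCast _ hN
    have hne0 : LocCoh.depth S (Fib R S N) ≠ 0 := by
      rw [hN]; exact_mod_cast Nat.succ_ne_zero s
    rw [Ne, Groth.Agent.H29.depth_eq_zero_iff] at hne0
    push Not at hne0
    obtain ⟨y, hym, hyreg⟩ := hne0
    obtain ⟨hregN, hflat⟩ :=
      Groth.Agent.Helper8.RegLift.isSMulRegular_and_flat_quotSMulTop (R := R) y hyreg
    haveI := hflat
    obtain ⟨e⟩ := Groth.Agent.Helper8.RegLift.nonempty_quotSMulTop_quot_equiv (M := N)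
      ((maximalIdeal R).map (algebraMap R S)) y
    have h1 := Groth.Agent.H29.depth_quotSMulTop_add_one S (Fib R S N) y hym hyreg
    rw [hN, Nat.cast_succ] at h1
    have h2 : LocCoh.depth S (QuotSMulTop y (Fib R S N)) = s :=
      ENat.add_left_injective_of_ne_top ENat.one_ne_top h1
    have h3 : LocCoh.depth S (Fib R S (QuotSMulTop y N)) = s := by
      rw [← h2]; exact (Groth.Agent.H29.idealDepth_congr _ e).symm
    have h4 := ih (QuotSMulTop y N) h3
    obtain ⟨e2⟩ := nonempty_equiv_left (R := R) M N y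
    have h5 : LocCoh.depth S (QuotSMulTop y (N ⊗[R] M)) = s := by
      rw [← h4]; exact Groth.Agent.H29.idealDepth_congr _ e2
    haveI : Module.Finite S (N ⊗[R] M) := Groth.Agent.Helper8.LocalCrit.finite_tensor R S N M
    haveI : Nontrivial (N ⊗[R] M) := by
      by_contra hcon
      rw [not_nontrivial_iff_subsingleton] at hcon
      rw [Groth.Agent.H29.depth_eq_top_of_subsingleton] at h5
      exact ENat.top_ne_natCast _ h5
    have h6 := Groth.Agent.H29.depth_quotSMulTop_add_one S (N ⊗[R] M) y hym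
      (isSMulRegular_left M N y hregN)
    rw [← h6, h5, Nat.cast_succ]

theorem depth_tensor_aux (N : Type u) [AddCommGroup N] [Module S N] [Module R N]
    [IsScalarTower R S N] [Module.Finite S N] [Module.Flat R N] (s : ℕ)
    (hN : LocCoh.depth S (Fib R S N) = s) (r : ℕ) :
    ∀ (M : Type u) [AddCommGroup M] [Module R M] [Module.Finite R M],
      LocCoh.depth R M = r → LocCoh.depth S (N ⊗[R] M) = r + s := by
  induction r with
  | zero =>
    intro M _ _ _ hM
    rw [Nat.cast_zero] at hM
    rw [depth_tensor_of_depth_zero M hM s N hN, Nat.cast_zero, zero_add]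
  | succ r ih =>
    intro M _ _ _ hM
    haveI hnt : Nontrivial M := by
      by_contra hcon
      rw [not_nontrivial_iff_subsingleton] at hcon
      rw [Groth.Agent.H29.depth_eq_top_of_subsingleton] at hM
      exact ENat.top_ne_natCast _ hM
    have hne0 : LocCoh.depth R M ≠ 0 := by
      rw [hM]; exact_mod_cast Nat.succ_ne_zero r
    rw [Ne, Groth.Agent.H29.depth_eq_zero_iff] at hne0
    push Not at hne0
    obtain ⟨x, hxm, hxreg⟩ := hne0
    have h1 := Groth.Agent.H29.depth_quotSMulTop_add_one R M x hxm hxreg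
    rw [hM, Nat.cast_succ] at h1
    have h2 : LocCoh.depth R (QuotSMulTop x M) = r :=
      ENat.add_left_injective_of_ne_top ENat.one_ne_top h1
    have h4 := ih (QuotSMulTop x M) h2
    obtain ⟨e1⟩ := nonempty_equiv_right (S := S) M N x
    have h5 : LocCoh.depth S (QuotSMulTop (algebraMap R S x) (N ⊗[R] M)) = r + s := by
      rw [← h4]; exact Groth.Agent.H29.idealDepth_congr _ e1
    haveI : Module.Finite S (N ⊗[R] M) := Groth.Agent.Helper8.LocalCrit.finite_tensor R S N M
    haveI : Nontrivial (N ⊗[R] M) := by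
      by_contra hcon
      rw [not_nontrivial_iff_subsingleton] at hcon
      rw [Groth.Agent.H29.depth_eq_top_of_subsingleton] at h5
      have h7 : ((r + s : ℕ) : ℕ∞) = ⊤ := by rw [Nat.cast_add]; exact h5.symm
      exact ENat.natCast_ne_top _ h7
    have hx' : algebraMap R S x ∈ maximalIdeal S :=
      Groth.Agent.H29.algebraMap_mem_maximalIdeal R S hxm
    have h6 := Groth.Agent.H29.depth_quotSMulTop_add_one S (N ⊗[R] M) _ hx'
      (isSMulRegular_right M N x hxreg)
    rw [← h6, h5, Nat.cast_succ, add_right_comm]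

theorem main {M N : Type u}
    [AddCommGroup M] [Module R M] [Module.Finite R M] [AddCommGroup N] [Module S N] [Module R N]
    [IsScalarTower R S N] [Module.Finite S N] [Module.Flat R N] :
    LocCoh.depth S (N ⊗[R] M) =
      LocCoh.depth R M + LocCoh.depth S
        (N ⧸ (IsLocalRing.maximalIdeal R).map (algebraMap R S) • (⊤ : Submodule S N)) := by
  rcases subsingleton_or_nontrivial M with hM | hM
  · haveI := subsingleton_tensor_of_right (R := R) M N
    rw [Groth.Agent.H29.depth_eq_top_of_subsingleton S (N ⊗[R] M),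
      Groth.Agent.H29.depth_eq_top_of_subsingleton R M, top_add]
  rcases subsingleton_or_nontrivial (Fib R S N) with hF | hF
  · have htop : (maximalIdeal R).map (algebraMap R S) • (⊤ : Submodule S N) = ⊤ :=
      (Submodule.Quotient.subsingleton_iff).mp hF
    have hle : (maximalIdeal R).map (algebraMap R S) ≤ Ideal.jacobson ⊥ := by
      rw [IsLocalRing.jacobson_eq_maximalIdeal ⊥ bot_ne_top]
      exact IsLocalRing.map_maximalIdeal_le (algebraMap R S)
    have h0 := Submodule.eq_bot_of_le_smul_of_le_jacobson_bot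
      ((maximalIdeal R).map (algebraMap R S)) (⊤ : Submodule S N) Module.Finite.fg_top htop.ge hle
    haveI : Subsingleton N := by
      have : Subsingleton (Submodule S N) := subsingleton_of_bot_eq_top h0.symm
      exact (Submodule.subsingleton_iff S).mp this
    haveI := subsingleton_tensor_of_left (R := R) M N
    rw [Groth.Agent.H29.depth_eq_top_of_subsingleton S (N ⊗[R] M),
      Groth.Agent.H29.depth_eq_top_of_subsingleton S (Fib R S N), add_top]
  obtain ⟨r, hr⟩ := ENat.ne_top_iff_exists.mp (Groth.Agent.H29.depth_ne_top R M)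
  obtain ⟨s, hs⟩ := ENat.ne_top_iff_exists.mp (Groth.Agent.H29.depth_ne_top S (Fib R S N))
  have hs' : LocCoh.depth S (Fib R S N) = s := hs.symm
  rw [← hr, hs']
  exact depth_tensor_aux N s hs' r M hr.symm

end Depth

end Groth.Agent.Helper1.DepthTensor
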