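import Mathlib
import Groth.Prelude.Def_CInt

/-!
# Vanishing of Koszul H1 implies weakly regular (Noetherian, Jacobson radical, finite module)
(helper for S2868)
-/

namespace Groth.Agent.Helper1.KoszulH1

open CInt RingTheory.Sequence

universe u v

variable {A : Type u} [CommRing A] {M : Type v} [AddCommGroup M] [Module A M]

/-- the span of trivial relations -/
def Triv {n : ℕ} (f : Fin n → A) (M : Type v) [AddCommGroup M] [Module A M] :
    Submodule A (Fin n → M) :=
  Submodule.span A {v : Fin n → M | ∃ (i j : Fin n) (x : M),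
    v = f j • (Pi.single i x : Fin n → M) - f i • (Pi.single j x : Fin n → M)}

/-- relations -/
def Rel {n : ℕ} (f : Fin n → A) (M : Type v) [AddCommGroup M] [Module A M] :
    Submodule A (Fin n → M) where
  carrier := {w | ∑ i, f i • w i = 0}
  add_mem' {a b} ha hb := by
    simp only [Set.mem_ofPred_eq] at ha hb ⊢
    simp [smul_add, Finset.sum_add_distrib, ha, hb]
  zero_mem' := by simp
  smul_mem' r a ha := by
    simp only [Set.mem_ofPred_eq] at ha ⊢
    simp only [Pi.smul_apply, smul_comm _ r]
    rw [← Finset.smul_sum, ha, smul_zero]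

lemma mem_Rel {n : ℕ} (f : Fin n → A) (w : Fin n → M) : w ∈ Rel f M ↔ ∑ i, f i • w i = 0 :=
  Iff.rfl

lemma koszulH1Zero_iff {n : ℕ} (f : Fin n → A) :
    KoszulH1Zero f M ↔ Rel f M ≤ Triv f M := Iff.rfl

lemma mem_span_smul_top {n : ℕ} (f : Fin n → A) (x : M) :
    x ∈ (Ideal.span (Set.range f) • (⊤ : Submodule A M)) ↔ ∃ y : Fin n → M, ∑ i, f i • y i = x := by
  constructor
  · intro hx
    refine Submodule.smul_induction_on hx ?_ ?_
    · intro r hr m _
      obtain ⟨c, rfl⟩ := Ideal.mem_span_range_iff_exists_fun.1 hr
      refine ⟨fun i => c i • m, ?_⟩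
      rw [Finset.sum_smul]
      refine Finset.sum_congr rfl fun i _ => ?_
      rw [smul_smul, mul_comm]
    · rintro x y ⟨a, rfl⟩ ⟨b, rfl⟩
      exact ⟨a + b, by simp [smul_add, Finset.sum_add_distrib]⟩
  · rintro ⟨y, rfl⟩
    refine Submodule.sum_mem _ fun i _ => ?_
    exact Submodule.smul_mem_smul (Ideal.subset_span ⟨i, rfl⟩) Submodule.mem_top

variable {n : ℕ} (f : Fin (n + 1) → A)

/-- the last coordinate of a trivial relation lies in `(f')M`. -/
lemma last_mem (v : Fin (n + 1) → M) (hv : v ∈ Triv f M) :
    v (Fin.last n) ∈ (Ideal.span (Set.range fun i : Fin n => f (Fin.castSucc i)) •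
      (⊤ : Submodule A M)) := by
  classical
  set N : Submodule A M := (Ideal.span (Set.range fun i : Fin n => f (Fin.castSucc i)) •
      (⊤ : Submodule A M)) with hN
  have hmem : ∀ (i : Fin n) (z : M), f (Fin.castSucc i) • z ∈ N := fun i z =>
    Submodule.smul_mem_smul (Ideal.subset_span ⟨i, rfl⟩) Submodule.mem_top
  induction hv using Submodule.span_induction with
  | mem x hx =>
    obtain ⟨i, j, z, rfl⟩ := hx
    induction i using Fin.lastCases with
    | last =>
      induction j using Fin.lastCases with
      | last => simp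
      | cast j =>
        simp only [Pi.sub_apply, Pi.smul_apply, Pi.single_eq_same]
        rw [Pi.single_eq_of_ne (Fin.castSucc_ne_last j).symm, smul_zero, sub_zero]
        exact hmem j z
    | cast i =>
      induction j using Fin.lastCases with
      | last =>
        simp only [Pi.sub_apply, Pi.smul_apply, Pi.single_eq_same]
        rw [Pi.single_eq_of_ne (Fin.castSucc_ne_last i).symm, smul_zero, zero_sub]
        exact Submodule.neg_mem _ (hmem i z)
      | cast j =>
        simp only [Pi.sub_apply, Pi.smul_apply]
        rw [Pi.single_eq_of_ne (Fin.castSucc_ne_last i).symm,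
          Pi.single_eq_of_ne (Fin.castSucc_ne_last j).symm, smul_zero, smul_zero, sub_zero]
        exact Submodule.zero_mem _
  | zero => exact Submodule.zero_mem _
  | add x y _ _ hx hy => exact Submodule.add_mem _ hx hy
  | smul r x _ hx => exact Submodule.smul_mem _ r hx

/-- structure of the first `n` coordinates of a trivial relation. -/
lemma init_decomp (v : Fin (n + 1) → M) (hv : v ∈ Triv f M) :
    ∃ t ∈ Triv (fun i : Fin n => f (Fin.castSucc i)) M, ∃ w : Fin n → M,
      (fun i => v (Fin.castSucc i)) = t + f (Fin.last n) • w ∧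
      ∑ i, f (Fin.castSucc i) • w i = - v (Fin.last n) := by
  classical
  induction hv using Submodule.span_induction with
  | mem x hx =>
    obtain ⟨i, j, z, rfl⟩ := hx
    induction i using Fin.lastCases with
    | last =>
      induction j using Fin.lastCases with
      | last => exact ⟨0, Submodule.zero_mem _, 0, by ext k; simp, by simp⟩
      | cast j =>
        refine ⟨0, Submodule.zero_mem _, -(Pi.single j z), ?_, ?_⟩
        · ext k
          simp only [Pi.sub_apply, Pi.smul_apply, Pi.add_apply, Pi.zero_apply, Pi.neg_apply,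
            zero_add, smul_neg]
          rw [Pi.single_eq_of_ne (Fin.castSucc_ne_last k), smul_zero, zero_sub]
          simp [Pi.single_apply, Fin.castSucc_inj]
        · simp only [Pi.sub_apply, Pi.smul_apply, Pi.single_eq_same, Pi.neg_apply, smul_neg]
          rw [Pi.single_eq_of_ne (Fin.castSucc_ne_last j).symm, smul_zero, sub_zero,
            Finset.sum_neg_distrib]
          simp [Pi.single_apply]
    | cast i =>
      induction j using Fin.lastCases with
      | last =>
        refine ⟨0, Submodule.zero_mem _, Pi.single i z, ?_, ?_⟩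
        · ext k
          simp only [Pi.sub_apply, Pi.smul_apply, Pi.add_apply, Pi.zero_apply, zero_add]
          rw [Pi.single_eq_of_ne (Fin.castSucc_ne_last k) , smul_zero, sub_zero]
          simp [Pi.single_apply, Fin.castSucc_inj]
        · simp only [Pi.sub_apply, Pi.smul_apply, Pi.single_eq_same]
          rw [Pi.single_eq_of_ne (Fin.castSucc_ne_last i).symm, smul_zero, zero_sub, neg_neg]
          simp [Pi.single_apply]
      | cast j =>
        refine ⟨f (Fin.castSucc j) • (Pi.single i z : Fin n → M)
            - f (Fin.castSucc i) • (Pi.single j z : Fin n → M),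
          Submodule.subset_span ⟨i, j, z, rfl⟩, 0, ?_, ?_⟩
        · ext k
          simp [Pi.single_apply, Fin.castSucc_inj]
        · simp only [Pi.sub_apply, Pi.smul_apply]
          rw [Pi.single_eq_of_ne (Fin.castSucc_ne_last i).symm,
            Pi.single_eq_of_ne (Fin.castSucc_ne_last j).symm]
          simp
  | zero => exact ⟨0, Submodule.zero_mem _, 0, by ext k; simp, by simp⟩
  | add x y _ _ hx hy =>
    obtain ⟨t, ht, w, h1, h2⟩ := hx
    obtain ⟨t', ht', w', h1', h2'⟩ := hy
    refine ⟨t + t', Submodule.add_mem _ ht ht', w + w', ?_, ?_⟩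
    · have : (fun i => (x + y) (Fin.castSucc i)) =
          (fun i => x (Fin.castSucc i)) + (fun i => y (Fin.castSucc i)) := rfl
      rw [this, h1, h1', smul_add]
      abel
    · simp only [Pi.add_apply, smul_add, Finset.sum_add_distrib, h2, h2']
      abel
  | smul r x _ hx =>
    obtain ⟨t, ht, w, h1, h2⟩ := hx
    refine ⟨r • t, Submodule.smul_mem _ r ht, r • w, ?_, ?_⟩
    · have : (fun i => (r • x) (Fin.castSucc i)) = r • (fun i => x (Fin.castSucc i)) := rfl
      rw [this, h1, smul_add, smul_comm]
    · simp only [Pi.smul_apply, smul_comm _ r]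
      rw [← Finset.smul_sum, h2, smul_neg]

theorem main [IsNoetherianRing A] [Module.Finite A M] : ∀ (n : ℕ) (f : Fin n → A),
    (∀ i, f i ∈ (⊥ : Ideal A).jacobson) → KoszulH1Zero f M →
      IsWeaklyRegular M (List.ofFn f) := by
  intro n
  induction n with
  | zero => intro f _ _; simp
  | succ n ih =>
    intro f hrad h
    rw [koszulH1Zero_iff] at h
    set f' : Fin n → A := fun i => f (Fin.castSucc i) with hf'
    -- (b) KoszulH1Zero f' M
    have hb : KoszulH1Zero f' M := by
      rw [koszulH1Zero_iff]
      have hfg : (Rel f' M).FG := IsNoetherian.noetherian _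
      have hI : Ideal.span {f (Fin.last n)} ≤ (⊥ : Ideal A).jacobson :=
        Ideal.span_le.2 (Set.singleton_subset_iff.2 (hrad _))
      refine Submodule.le_of_le_smul_of_le_jacobson_bot hfg hI ?_
      intro w hw
      rw [mem_Rel] at hw
      have hm : (Fin.snoc w 0 : Fin (n + 1) → M) ∈ Rel f M := by
        rw [mem_Rel, Fin.sum_univ_castSucc]
        simp only [Fin.snoc_castSucc, Fin.snoc_last, smul_zero, add_zero]
        exact hw
      obtain ⟨t, ht, w', h1, h2⟩ := init_decomp f _ (h hm)
      simp only [Fin.snoc_castSucc, Fin.snoc_last, neg_zero] at h1 h2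
      have hw' : w' ∈ Rel f' M := h2
      have : w = t + f (Fin.last n) • w' := h1
      rw [this]
      exact Submodule.add_mem_sup ht
        (Submodule.smul_mem_smul (Ideal.mem_span_singleton_self _) hw')
    have hwr := ih f' (fun i => hrad _) hb
    -- (a)
    have ha : IsSMulRegular (M ⧸ (Ideal.ofList (List.ofFn f') • (⊤ : Submodule A M)))
        (f (Fin.last n)) := by
      have hof : Ideal.ofList (List.ofFn f') = Ideal.span (Set.range f') := by
        unfold Ideal.ofList
        congr 1; ext x; simp [List.mem_ofFn]
      rw [hof, isSMulRegular_quotient_iff_mem_of_smul_mem]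
      intro x hx
      obtain ⟨y, hy⟩ := (mem_span_smul_top f' _).1 hx
      have hm : (Fin.snoc (-y) x : Fin (n + 1) → M) ∈ Rel f M := by
        rw [mem_Rel, Fin.sum_univ_castSucc]
        simp only [Fin.snoc_castSucc, Fin.snoc_last, Pi.neg_apply, smul_neg,
          Finset.sum_neg_distrib]
        rw [← hy]
        exact neg_add_cancel _
      have := last_mem f _ (h hm)
      simpa using this
    rw [List.ofFn_succ', List.concat_eq_append, isWeaklyRegular_append_iff,
      isWeaklyRegular_singleton_iff]
    exact ⟨hwr, ha⟩

end Groth.Agent.Helper1.KoszulH1
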