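import Mathlib
import Groth.Agent.Helper1.KoszulH1

/-!
# Regular sequences have vanishing Koszul H1; descent to quotient modules (helper for S2867)
-/

namespace Groth.Agent.Helper1.KoszulH1

open CInt RingTheory.Sequence

universe u v

variable {A : Type u} [CommRing A] {M : Type v} [AddCommGroup M] [Module A M]

lemma Triv_le_Rel {n : ℕ} (f : Fin n → A) : Triv f M ≤ Rel f M := by
  classical
  rw [Triv, Submodule.span_le]
  rintro _ ⟨i, j, x, rfl⟩
  show ∑ k, f k • _ = 0
  simp only [Pi.sub_apply, Pi.smul_apply, smul_sub, Finset.sum_sub_distrib, Pi.single_apply,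
    smul_ite, smul_zero, Finset.sum_ite_eq', Finset.mem_univ, if_true]
  rw [smul_smul, smul_smul, mul_comm, sub_self]

/-- extension by zero in the last coordinate -/
def ε {n : ℕ} : (Fin n → M) →ₗ[A] (Fin (n + 1) → M) where
  toFun w := Fin.snoc w 0
  map_add' a b := by
    ext k; induction k using Fin.lastCases <;> simp
  map_smul' r a := by
    ext k; induction k using Fin.lastCases <;> simp

lemma ε_single {n : ℕ} (i : Fin n) (x : M) :
    (ε (A := A) (Pi.single i x) : Fin (n + 1) → M) = Pi.single (Fin.castSucc i) x := by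
  classical
  ext k
  induction k using Fin.lastCases with
  | last => simp [ε, Pi.single_eq_of_ne (Fin.castSucc_ne_last i).symm]
  | cast k => simp [ε, Pi.single_apply, Fin.castSucc_inj]

lemma ε_Triv {n : ℕ} (f : Fin (n + 1) → A) :
    (Triv (fun i : Fin n => f (Fin.castSucc i)) M).map ε ≤ Triv f M := by
  rw [Triv, Submodule.map_span, Submodule.span_le]
  rintro _ ⟨_, ⟨i, j, x, rfl⟩, rfl⟩
  rw [map_sub, map_smul, map_smul, ε_single, ε_single]
  exact Submodule.subset_span ⟨Fin.castSucc i, Fin.castSucc j, x, rfl⟩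

theorem wreg_H1 : ∀ (n : ℕ) (f : Fin n → A),
    IsWeaklyRegular M (List.ofFn f) → KoszulH1Zero f M := by
  classical
  intro n
  induction n with
  | zero =>
    intro f _
    rw [koszulH1Zero_iff]
    intro m _
    have : m = 0 := Subsingleton.elim _ _
    rw [this]; exact Submodule.zero_mem _
  | succ n ih =>
    intro f hf
    rw [List.ofFn_succ', List.concat_eq_append, isWeaklyRegular_append_iff,
      isWeaklyRegular_singleton_iff] at hf
    obtain ⟨hf', hlast⟩ := hf
    set f' : Fin n → A := fun i => f (Fin.castSucc i) with hf'def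
    have hof : Ideal.ofList (List.ofFn f') = Ideal.span (Set.range f') := by
      unfold Ideal.ofList
      congr 1; ext x; simp [List.mem_ofFn]
    rw [hof, isSMulRegular_quotient_iff_mem_of_smul_mem] at hlast
    have ih' := ih f' hf'
    rw [koszulH1Zero_iff] at ih' ⊢
    intro m hm
    rw [mem_Rel, Fin.sum_univ_castSucc] at hm
    have h1 : f (Fin.last n) • m (Fin.last n) ∈
        Ideal.span (Set.range f') • (⊤ : Submodule A M) := by
      rw [mem_span_smul_top]
      refine ⟨fun i => - m (Fin.castSucc i), ?_⟩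
      simp only [smul_neg, Finset.sum_neg_distrib]
      rw [neg_eq_iff_add_eq_zero]
      exact hm
    obtain ⟨z, hz⟩ := (mem_span_smul_top f' _).1 (hlast _ h1)
    set T : Fin (n + 1) → M := ∑ i : Fin n, (f (Fin.castSucc i) • (Pi.single (Fin.last n) (z i) :
        Fin (n + 1) → M) - f (Fin.last n) • (Pi.single (Fin.castSucc i) (z i) : Fin (n + 1) → M))
      with hT
    have hTmem : T ∈ Triv f M :=
      Submodule.sum_mem _ fun i _ => Submodule.subset_span ⟨Fin.last n, Fin.castSucc i, z i, rfl⟩
    have hTlast : T (Fin.last n) = m (Fin.last n) := by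
      rw [hT, Finset.sum_apply, ← hz]
      refine Finset.sum_congr rfl fun i _ => ?_
      simp only [Pi.sub_apply, Pi.smul_apply, Pi.single_eq_same]
      rw [Pi.single_eq_of_ne (Fin.castSucc_ne_last i).symm, smul_zero, sub_zero]
    have hrel : m - T ∈ Rel f M :=
      Submodule.sub_mem _ (by rw [mem_Rel, Fin.sum_univ_castSucc]; exact hm) (Triv_le_Rel f hTmem)
    have hinit : (fun i => (m - T) (Fin.castSucc i)) ∈ Rel f' M := by
      rw [mem_Rel] at hrel ⊢
      rw [Fin.sum_univ_castSucc] at hrel
      simp only [Pi.sub_apply, hTlast, sub_self, smul_zero, add_zero] at hrel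
      simpa using hrel
    have h2 := ih' hinit
    have h3 : m - T = ε (A := A) (fun i => (m - T) (Fin.castSucc i)) := by
      ext k
      induction k using Fin.lastCases with
      | last => simp [ε, hTlast]
      | cast k => simp [ε]
    have : m = T + (m - T) := by abel
    rw [this, h3]
    exact Submodule.add_mem _ hTmem (ε_Triv f ⟨_, h2, rfl⟩)

lemma compLeft_Triv {M'' : Type v} [AddCommGroup M''] [Module A M''] (p : M →ₗ[A] M'') {n : ℕ}
    (f : Fin n → A) : (Triv f M).map (p.compLeft (Fin n)) ≤ Triv f M'' := by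
  classical
  rw [Triv, Submodule.map_span, Submodule.span_le]
  rintro _ ⟨_, ⟨i, j, x, rfl⟩, rfl⟩
  refine Submodule.subset_span ⟨i, j, p x, ?_⟩
  ext k
  simp [Pi.single_apply, apply_ite p]

theorem descent [IsNoetherianRing A] {M' M'' : Type v}
    [AddCommGroup M'] [Module A M'] [AddCommGroup M''] [Module A M''] [Module.Finite A M'']
    (i : M' →ₗ[A] M) (p : M →ₗ[A] M'') (hp : Function.Surjective p)
    (hex : Function.Exact i p)
    (fs : List A) (hrad : ∀ f ∈ fs, f ∈ (⊥ : Ideal A).jacobson)
    (hM : IsWeaklyRegular M fs)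
    (hinj : (∀ x : M', i x ∈ Ideal.ofList fs • (⊤ : Submodule A M) →
      x ∈ Ideal.ofList fs • (⊤ : Submodule A M'))) :
    IsWeaklyRegular M'' fs := by
  classical
  set n := fs.length with hn
  set f : Fin n → A := fun k => fs.get k with hf
  have hfs : List.ofFn f = fs := List.ofFn_get fs
  have hof : Ideal.ofList fs = Ideal.span (Set.range f) := by
    rw [← hfs]
    unfold Ideal.ofList
    congr 1; ext x; simp [List.mem_ofFn]
  rw [hof] at hinj
  rw [← hfs] at hM ⊢
  have hH1 := wreg_H1 n f hM
  rw [koszulH1Zero_iff] at hH1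
  apply main n f (fun k => hrad _ (List.get_mem fs k))
  rw [koszulH1Zero_iff]
  intro m'' hm''
  rw [mem_Rel] at hm''
  choose m hm using fun k => hp (m'' k)
  have hy' : p (∑ k, f k • m k) = 0 := by
    rw [map_sum, ← hm'']
    refine Finset.sum_congr rfl fun k _ => ?_
    rw [map_smul, hm]
  obtain ⟨y, hy⟩ := (hex _).1 hy'
  have hy2 : i y ∈ Ideal.span (Set.range f) • (⊤ : Submodule A M) := by
    rw [hy, mem_span_smul_top]
    exact ⟨m, rfl⟩
  obtain ⟨z, hz⟩ := (mem_span_smul_top f _).1 (hinj y hy2)
  have hrel : (fun k => m k - i (z k)) ∈ Rel f M := by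
    rw [mem_Rel]
    simp only [smul_sub, Finset.sum_sub_distrib]
    rw [← hy, ← hz, map_sum]
    simp only [map_smul]
    exact sub_self _
  have h1 := compLeft_Triv p f ⟨_, hH1 hrel, rfl⟩
  have h2 : (p.compLeft (Fin n)) (fun k => m k - i (z k)) = m'' := by
    ext k
    simp only [LinearMap.compLeft_apply, Function.comp_apply, map_sub, hm,
      hex.apply_apply_eq_zero, sub_zero]
  rw [h2] at h1
  exact h1

end Groth.Agent.Helper1.KoszulH1
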