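import Mathlib
import Groth.Agent.Lib.Helper8.RegLift
import Groth.Agent.Lib.Helper8.LocalCrit
import Groth.Agent.Helper1.KoszulH1b

/-!
# Regular sequences and flatness over a local base (EGA 0_IV 15.1.14–15.1.21)
(helpers for S5773, S5774, S5775, S5777)
-/

set_option autoImplicit false

namespace Groth.Agent.Helper1.FlatReg

open TensorProduct RingTheory.Sequence IsLocalRing
open scoped Pointwise

universe u v

section general

variable {A : Type*} [CommRing A]

/-- Flat modules preserve weakly regular sequences. -/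
theorem isWeaklyRegular_tensor_of_flat (M : Type v) [AddCommGroup M] [Module A M]
    [Module.Flat A M] (rs : List A) :
    ∀ (N : Type u) [AddCommGroup N] [Module A N], IsWeaklyRegular N rs →
      IsWeaklyRegular (N ⊗[A] M) rs := by
  induction rs with
  | nil =>
    intro N _ _ _
    exact IsWeaklyRegular.nil A _
  | cons x rs ih =>
    intro N _ _ h
    rw [isWeaklyRegular_cons_iff] at h ⊢
    refine ⟨?_, ?_⟩
    · have hinj : Function.Injective (LinearMap.lsmul A N x) := h.1
      have h1 : Function.Injective ((LinearMap.lsmul A N x).rTensor M) :=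
        Module.Flat.rTensor_preserves_injective_linearMap _ hinj
      have h2 : ∀ z : N ⊗[A] M, (LinearMap.lsmul A N x).rTensor M z = x • z := by
        intro z
        induction z using TensorProduct.induction_on with
        | zero => simp
        | tmul a b => rfl
        | add a b ha hb => rw [map_add, smul_add, ha, hb]
      intro a b hab
      apply h1
      rw [h2, h2]
      exact hab
    · exact ((QuotSMulTop.quotSMulTopTensorEquivQuotSMulTop x M N).isWeaklyRegular_congr rs).mp
        (ih (QuotSMulTop x N) h.2)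

theorem isWeaklyRegular_of_flat (M : Type u) {A : Type u} [CommRing A] [AddCommGroup M]
    [Module A M] [Module.Flat A M]
    (rs : List A) (h : IsWeaklyRegular A rs) : IsWeaklyRegular M rs :=
  ((TensorProduct.lid A M).isWeaklyRegular_congr rs).mp
    (isWeaklyRegular_tensor_of_flat M rs A h)

/-- If `M ⧸ N` is flat then `N ∩ I M = I N`. -/
theorem mem_smul_of_flat_quotient {M : Type*} [AddCommGroup M] [Module A M] (N : Submodule A M)
    [Module.Flat A (M ⧸ N)] (I : Ideal A) {y : M} (hy : y ∈ N)
    (hyI : y ∈ I • (⊤ : Submodule A M)) : y ∈ I • N := by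
  have hinj : Function.Injective (N.subtype.lTensor (A ⧸ I)) :=
    LinearMap.lTensor_injective_of_exact_of_flat N.mkQ N.mkQ_surjective N.subtype
      N.injective_subtype (LinearMap.exact_subtype_mkQ N) (A ⧸ I)
  have h0 : (1 : A ⧸ I) ⊗ₜ[A] (⟨y, hy⟩ : N) = 0 := by
    apply hinj
    rw [LinearMap.lTensor_tmul, map_zero]
    exact (Groth.Agent.Helper8.FlatLocal.one_tmul_eq_zero_iff I y).mpr hyI
  have h1 : (⟨y, hy⟩ : N) ∈ I • (⊤ : Submodule A N) :=
    (Groth.Agent.Helper8.FlatLocal.one_tmul_eq_zero_iff I _).mp h0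
  have h2 : N.subtype ⟨y, hy⟩ ∈ (I • (⊤ : Submodule A N)).map N.subtype :=
    Submodule.mem_map_of_mem h1
  rwa [Submodule.map_smul'', Submodule.map_subtype_top] at h2

theorem quot_mk_smul (J : Ideal A) {M : Type*} [AddCommGroup M] [Module A M] (a : A)
    (y : M ⧸ (J • ⊤ : Submodule A M)) : (Ideal.Quotient.mk J a) • y = a • y := by
  obtain ⟨y, rfl⟩ := Submodule.Quotient.mk_surjective _ y
  rfl

/-- `(A/J) ⊗ M ≃ M / J M` as `A/J`-modules. -/
noncomputable def quotEquiv (J : Ideal A) (M : Type*) [AddCommGroup M] [Module A M] :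
    ((A ⧸ J) ⊗[A] M) ≃ₗ[A ⧸ J] (M ⧸ (J • ⊤ : Submodule A M)) :=
  { (TensorProduct.quotTensorEquivQuotSMul M J) with
    map_smul' := by
      intro c z
      obtain ⟨a, rfl⟩ := Ideal.Quotient.mk_surjective c
      simp only [AddHom.toFun_eq_coe, LinearMap.coe_toAddHom, LinearEquiv.coe_coe,
        RingHom.id_apply]
      rw [quot_mk_smul, ← Ideal.Quotient.algebraMap_eq, algebraMap_smul, map_smul] }

end general

section nil

theorem flat_quot_nil_iff {A B M : Type*} [CommRing A] [CommRing B] [Algebra A B]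
    [AddCommGroup M] [Module B M] [Module A M] [IsScalarTower A B M] :
    Module.Flat A (M ⧸ (Ideal.ofList ([] : List B) • ⊤ : Submodule B M)) ↔ Module.Flat A M :=
  Module.Flat.equiv_iff ((Submodule.quotEquivOfEqBot _
    (by rw [Ideal.ofList_nil, Submodule.bot_smul])).restrictScalars A)

end nil

section loc

variable (A B : Type u) [CommRing A] [CommRing B] [IsLocalRing A] [IsLocalRing B]
  [IsNoetherianRing A] [IsNoetherianRing B] [Algebra A B] [IsLocalHom (algebraMap A B)]

theorem map_maximalIdeal_le_jacobson :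
    (maximalIdeal A).map (algebraMap A B) ≤ Ideal.jacobson ⊥ := by
  rw [IsLocalRing.jacobson_eq_maximalIdeal ⊥ bot_ne_top]
  exact IsLocalRing.map_maximalIdeal_le (algebraMap A B)

/-- EGA 0_IV 15.1.16 (one step of (a)): S5774. -/
theorem main74 (fs : List B) :
    ∀ (M : Type u) [AddCommGroup M] [Module B M] [Module A M]
      [IsScalarTower A B M] [Module.Finite B M] [Module.Flat A M],
      IsWeaklyRegular
        (M ⧸ ((maximalIdeal A).map (algebraMap A B) • (⊤ : Submodule B M))) fs →
      IsWeaklyRegular M fs ∧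
        ∀ i ≤ fs.length, Module.Flat A (M ⧸ (Ideal.ofList (fs.take i) • (⊤ : Submodule B M))) := by
  induction fs with
  | nil =>
    intro M _ _ _ _ _ _ _
    refine ⟨IsWeaklyRegular.nil B M, fun i _ => ?_⟩
    rw [List.take_nil]
    exact flat_quot_nil_iff.mpr inferInstance
  | cons x rs ih =>
    intro M _ _ _ _ _ _ h
    rw [isWeaklyRegular_cons_iff] at h
    obtain ⟨h1, h2⟩ := h
    obtain ⟨hreg, hflat⟩ :=
      Groth.Agent.Helper8.RegLift.isSMulRegular_and_flat_quotSMulTop (R := A) x h1
    haveI := hflat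
    obtain ⟨e⟩ := Groth.Agent.Helper8.RegLift.nonempty_quotSMulTop_quot_equiv (M := M)
      ((maximalIdeal A).map (algebraMap A B)) x
    obtain ⟨ih1, ih2⟩ := ih (QuotSMulTop x M) ((e.isWeaklyRegular_congr rs).mp h2)
    refine ⟨(isWeaklyRegular_cons_iff M x rs).mpr ⟨hreg, ih1⟩, ?_⟩
    intro i hi
    cases i with
    | zero =>
      rw [List.take_zero]
      exact flat_quot_nil_iff.mpr inferInstance
    | succ j =>
      rw [List.take_succ_cons]
      haveI := ih2 j (by simpa using hi)
      exact Module.Flat.of_linearEquiv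
        ((Submodule.quotOfListConsSMulTopEquivQuotSMulTopInner M x (rs.take j)).restrictScalars A)

/-- One step of EGA 0_IV 15.1.16 (b): if `f ∈ m_B` is `M`-regular and `M/fM` is `A`-flat, then `M`
is `A`-flat. -/
theorem flat_of_regular_of_flat_quot (M : Type u) [AddCommGroup M] [Module B M] [Module A M]
    [IsScalarTower A B M] [Module.Finite B M] (f : B) (hf : f ∈ maximalIdeal B)
    (hreg : IsSMulRegular M f) (hflat : Module.Flat A (QuotSMulTop f M)) : Module.Flat A M := by
  have h2 : Module.Flat (A ⧸ maximalIdeal A) ((A ⧸ maximalIdeal A) ⊗[A] M) :=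
    (inferInstance : Module.Flat (ResidueField A) ((ResidueField A) ⊗[A] M))
  refine Groth.Agent.Helper8.LocalCrit.flat_of_rTensor_injective_of_flat_quotient (S := B)
    (maximalIdeal A) (map_maximalIdeal_le_jacobson A B) ?_ h2
  rw [← LinearMap.lTensor_inj_iff_rTensor_inj]
  set m := maximalIdeal A with hm
  set ψ : M ⊗[A] m →ₗ[A] M ⊗[A] A := LinearMap.lTensor M m.subtype with hψ
  let K : Submodule B (M ⊗[A] m) :=
    { carrier := {z | ψ z = 0}
      add_mem' := by
        intro a b ha hb
        simp only [Set.mem_ofPred_eq] at ha hb ⊢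
        rw [map_add, ha, hb, add_zero]
      zero_mem' := by simp
      smul_mem' := by
        intro b z hz
        simp only [Set.mem_ofPred_eq] at hz ⊢
        rw [hψ, ← LinearMap.smul_lTensor, ← hψ, hz, smul_zero] }
  have hKmem : ∀ z, z ∈ K ↔ ψ z = 0 := fun z => Iff.rfl
  haveI : Module.Finite B (M ⊗[A] m) := Groth.Agent.Helper8.LocalCrit.finite_tensor A B M m
  haveI : IsNoetherian B (M ⊗[A] m) := isNoetherian_of_isNoetherianRing_of_finite B _
  have hKfg : K.FG := IsNoetherian.noetherian K
  let F : M →ₗ[A] M := (LinearMap.lsmul B M f).restrictScalars A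
  let q : M →ₗ[A] QuotSMulTop f M := (Submodule.mkQ (f • ⊤ : Submodule B M)).restrictScalars A
  have hq : Function.Surjective q := fun y => by
    obtain ⟨x, rfl⟩ := Submodule.Quotient.mk_surjective (f • ⊤ : Submodule B M) y
    exact ⟨x, rfl⟩
  have hex : Function.Exact F q := by
    intro y
    change Submodule.Quotient.mk y = 0 ↔ _
    rw [Submodule.Quotient.mk_eq_zero, Submodule.mem_smul_pointwise_iff_exists]
    constructor
    · rintro ⟨z, -, rfl⟩
      exact ⟨z, rfl⟩
    · rintro ⟨z, rfl⟩
      exact ⟨z, Submodule.mem_top, rfl⟩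
  have hex' : Function.Exact (F.rTensor m) (q.rTensor m) := rTensor_exact m hex hq
  have hinj : Function.Injective (LinearMap.lTensor (QuotSMulTop f M) m.subtype) :=
    Module.Flat.lTensor_preserves_injective_linearMap m.subtype Subtype.val_injective
  have hF : ∀ w : M ⊗[A] m, F.rTensor m w = f • w := by
    intro w
    induction w using TensorProduct.induction_on with
    | zero => simp
    | tmul a b => rfl
    | add a b ha hb => rw [map_add, smul_add, ha, hb]
  have key : ∀ z ∈ K, ∃ z' ∈ K, z = f • z' := by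
    intro z hz
    rw [hKmem] at hz
    have h1 : LinearMap.lTensor (QuotSMulTop f M) m.subtype (q.rTensor m z) = 0 := by
      have : LinearMap.lTensor (QuotSMulTop f M) m.subtype (q.rTensor m z) =
          q.rTensor A (ψ z) := by
        rw [hψ, ← LinearMap.comp_apply, ← LinearMap.comp_apply, LinearMap.lTensor_comp_rTensor,
          LinearMap.rTensor_comp_lTensor]
      rw [this, hz, map_zero]
    have h2 : q.rTensor m z = 0 := hinj (by rw [h1, map_zero])
    obtain ⟨z', hz'⟩ := (hex' z).mp h2
    rw [hF] at hz'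
    refine ⟨z', ?_, hz'.symm⟩
    rw [hKmem]
    have h3 : f • ψ z' = 0 := by
      rw [hψ, LinearMap.smul_lTensor, ← hψ, hz', hz]
    apply (TensorProduct.AlgebraTensorModule.rid A B M).injective
    rw [map_zero]
    apply hreg
    change f • _ = f • 0
    rw [← map_smul, h3, map_zero, smul_zero]
  have hK : K = ⊥ := by
    refine Submodule.eq_bot_of_le_smul_of_le_jacobson_bot (Ideal.span {f}) K hKfg ?_ ?_
    · intro z hz
      obtain ⟨z', hz', rfl⟩ := key z hz
      exact Submodule.smul_mem_smul (Ideal.mem_span_singleton_self f) hz'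
    · rw [IsLocalRing.jacobson_eq_maximalIdeal ⊥ bot_ne_top]
      exact (Ideal.span_singleton_le_iff_mem _).mpr hf
  rw [injective_iff_map_eq_zero]
  intro z hz
  have hzK : z ∈ K := (hKmem z).mpr hz
  rw [hK] at hzK
  exact (Submodule.mem_bot B).mp hzK

/-- EGA 0_IV 15.1.16 (b): S5773. -/
theorem main73 (fs : List B) :
    ∀ (M : Type u) [AddCommGroup M] [Module B M] [Module A M]
      [IsScalarTower A B M] [Module.Finite B M],
      (∀ f ∈ fs, f ∈ maximalIdeal B) → IsWeaklyRegular M fs →
      Module.Flat A (M ⧸ (Ideal.ofList fs • (⊤ : Submodule B M))) →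
        ∀ i ≤ fs.length, Module.Flat A (M ⧸ (Ideal.ofList (fs.take i) • (⊤ : Submodule B M))) := by
  induction fs with
  | nil =>
    intro M _ _ _ _ _ _ _ hflat i _
    rw [List.take_nil]
    exact hflat
  | cons x rs ih =>
    intro M _ _ _ _ _ hmem hreg hflat i hi
    rw [isWeaklyRegular_cons_iff] at hreg
    have hflat₁ : Module.Flat A
        (QuotSMulTop x M ⧸ (Ideal.ofList rs • ⊤ : Submodule B (QuotSMulTop x M))) :=
      Module.Flat.of_linearEquiv
        ((Submodule.quotOfListConsSMulTopEquivQuotSMulTopInner M x rs).symm.restrictScalars A)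
    have IH := ih (QuotSMulTop x M) (fun f hf => hmem f (List.mem_cons_of_mem _ hf)) hreg.2 hflat₁
    cases i with
    | zero =>
      rw [List.take_zero]
      have h0 := IH 0 (Nat.zero_le _)
      rw [List.take_zero, flat_quot_nil_iff] at h0
      exact flat_quot_nil_iff.mpr
        (flat_of_regular_of_flat_quot A B M x (hmem x List.mem_cons_self) hreg.1 h0)
    | succ j =>
      rw [List.take_succ_cons]
      haveI := IH j (by simpa using hi)
      exact Module.Flat.of_linearEquiv
        ((Submodule.quotOfListConsSMulTopEquivQuotSMulTopInner M x (rs.take j)).restrictScalars A)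

/-- `J ⊗ M → M` is injective when `J` is generated by an `M`-weakly-regular sequence. -/
theorem rTensor_injective_of_isWeaklyRegular {A : Type u} [CommRing A] (M : Type u)
    [AddCommGroup M] [Module A M] (fs : List A) (hreg : IsWeaklyRegular M fs) :
    Function.Injective ((Ideal.ofList fs).subtype.rTensor M) := by
  classical
  set J := Ideal.ofList fs with hJ
  set n := fs.length
  let f : Fin n → A := fs.get
  have hJspan : J = Ideal.span (Set.range f) := by
    rw [hJ, Ideal.ofList, Set.range_list_get]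
  have hH1 : CInt.KoszulH1Zero f M :=
    Groth.Agent.Helper1.KoszulH1.wreg_H1 n f (by rwa [List.ofFn_get])
  rw [Groth.Agent.Helper1.KoszulH1.koszulH1Zero_iff] at hH1
  have hfmem : ∀ i, f i ∈ J := fun i => by
    rw [hJspan]
    exact Ideal.subset_span ⟨i, rfl⟩
  let gen : Fin n → J := fun i => ⟨f i, hfmem i⟩
  let Θ : (Fin n → M) →ₗ[A] J ⊗[A] M :=
    ∑ i, (TensorProduct.mk A J M (gen i)) ∘ₗ (LinearMap.proj i)
  have hΘ : ∀ w, Θ w = ∑ i, gen i ⊗ₜ[A] w i := by
    intro w
    simp [Θ, LinearMap.sum_apply]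
  have hΘs : ∀ i x, Θ (Pi.single i x) = gen i ⊗ₜ[A] x := by
    intro i x
    rw [hΘ, Finset.sum_eq_single i]
    · rw [Pi.single_eq_same]
    · intro j _ hji
      rw [Pi.single_eq_of_ne hji, TensorProduct.tmul_zero]
    · intro h
      exact absurd (Finset.mem_univ i) h
  have hsurj : ∀ z : J ⊗[A] M, ∃ w, Θ w = z := by
    intro z
    induction z using TensorProduct.induction_on with
    | zero => exact ⟨0, map_zero _⟩
    | tmul a x =>
      have ha : (a : A) ∈ Ideal.span (Set.range f) := hJspan ▸ a.2
      obtain ⟨c, hc⟩ := Ideal.mem_span_range_iff_exists_fun.mp ha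
      refine ⟨fun i => c i • x, ?_⟩
      rw [hΘ]
      have h1 : ∀ i, gen i ⊗ₜ[A] (c i • x) = (c i • gen i) ⊗ₜ[A] x := fun i =>
        (TensorProduct.smul_tmul (c i) (gen i) x).symm
      rw [Finset.sum_congr rfl (fun i _ => h1 i), ← TensorProduct.sum_tmul]
      congr 1
      apply Subtype.ext
      rw [← hc]
      simp [gen]
    | add a b ha hb =>
      obtain ⟨wa, rfl⟩ := ha
      obtain ⟨wb, rfl⟩ := hb
      exact ⟨wa + wb, map_add _ _ _⟩
  have hTriv : Groth.Agent.Helper1.KoszulH1.Triv f M ≤ LinearMap.ker Θ := by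
    rw [Groth.Agent.Helper1.KoszulH1.Triv, Submodule.span_le]
    rintro _ ⟨i, j, x, rfl⟩
    rw [SetLike.mem_coe, LinearMap.mem_ker, map_sub, map_smul, map_smul, hΘs, hΘs,
      TensorProduct.smul_tmul', TensorProduct.smul_tmul']
    have : f j • gen i = f i • gen j := by
      apply Subtype.ext
      simp [gen, mul_comm]
    rw [this, sub_self]
  rw [injective_iff_map_eq_zero]
  intro z hz
  obtain ⟨w, rfl⟩ := hsurj z
  have hw : w ∈ Groth.Agent.Helper1.KoszulH1.Rel f M := by
    rw [Groth.Agent.Helper1.KoszulH1.mem_Rel]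
    have := congrArg (TensorProduct.lid A M) hz
    rw [hΘ, map_sum, map_sum, map_zero] at this
    rw [← this]
    refine Finset.sum_congr rfl fun i _ => ?_
    rw [LinearMap.rTensor_tmul, TensorProduct.lid_tmul]
    rfl
  exact LinearMap.mem_ker.mp (hTriv (hH1 hw))

/-- EGA 0_IV 15.1.21: S5777. -/
theorem main77 (M : Type u) [AddCommGroup M] [Module B M] [Module A M]
    [IsScalarTower A B M] [Module.Finite B M] (fs : List A)
    (hfs : ∀ f ∈ fs, f ∈ maximalIdeal A) (hA : IsWeaklyRegular A fs) :
    Module.Flat A M ↔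
      Module.Flat (A ⧸ Ideal.ofList fs) (M ⧸ (Ideal.ofList fs • (⊤ : Submodule A M))) ∧
        IsWeaklyRegular M fs := by
  constructor
  · intro hflat
    exact ⟨Module.Flat.of_linearEquiv (quotEquiv (Ideal.ofList fs) M).symm,
      isWeaklyRegular_of_flat M fs hA⟩
  · rintro ⟨h2, hreg⟩
    have hJ : Ideal.ofList fs ≤ maximalIdeal A := Ideal.span_le.mpr hfs
    have hIS : (Ideal.ofList fs).map (algebraMap A B) ≤ Ideal.jacobson ⊥ :=
      (Ideal.map_mono hJ).trans (map_maximalIdeal_le_jacobson A B)
    have h2' : Module.Flat (A ⧸ Ideal.ofList fs) ((A ⧸ Ideal.ofList fs) ⊗[A] M) :=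
      Module.Flat.of_linearEquiv (quotEquiv (Ideal.ofList fs) M)
    exact Groth.Agent.Helper8.LocalCrit.flat_of_rTensor_injective_of_flat_quotient (S := B)
      (Ideal.ofList fs) hIS (rTensor_injective_of_isWeaklyRegular M fs hreg) h2'

/-- EGA 0_IV 15.1.18 (?): S5775. -/
theorem main75 (M : Type u) [AddCommGroup M] [Module B M] [Module A M]
    [IsScalarTower A B M] [Module.Finite B M] [Module.Flat A M] (R : Submodule B M)
    (hR : Module.Flat A (M ⧸ R)) (fs : List B)
    (h1 : Ideal.ofList fs • (⊤ : Submodule B M) ≤ R)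
    (h2 : IsWeaklyRegular
      (M ⧸ ((maximalIdeal A).map (algebraMap A B) • (⊤ : Submodule B M))) fs)
    (h3 : Ideal.ofList fs • (⊤ : Submodule B
        (M ⧸ ((maximalIdeal A).map (algebraMap A B) • (⊤ : Submodule B M)))) =
      R.map ((maximalIdeal A).map (algebraMap A B) • (⊤ : Submodule B M)).mkQ) :
    IsWeaklyRegular M fs ∧ R = Ideal.ofList fs • (⊤ : Submodule B M) := by
  refine ⟨(main74 A B fs M h2).1, le_antisymm ?_ h1⟩
  set mB := (maximalIdeal A).map (algebraMap A B) with hmB
  set R₀ : Submodule B M := Ideal.ofList fs • (⊤ : Submodule B M) with hR₀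
  haveI : IsNoetherian B M := isNoetherian_of_isNoetherianRing_of_finite B M
  have hRfg : R.FG := IsNoetherian.noetherian R
  refine Submodule.le_of_le_smul_of_le_jacobson_bot hRfg (map_maximalIdeal_le_jacobson A B) ?_
  intro r hr
  -- r ∈ R₀ + mB M
  have hr1 : (mB • (⊤ : Submodule B M)).mkQ r ∈ R₀.map (mB • (⊤ : Submodule B M)).mkQ := by
    rw [← Groth.Agent.Helper8.RegLift.ideal_smul_top_eq_map, h3]
    exact Submodule.mem_map_of_mem hr
  obtain ⟨r₀, hr₀, hr₀r⟩ := hr1
  have hy : r - r₀ ∈ mB • (⊤ : Submodule B M) := by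
    rw [← Submodule.Quotient.mk_eq_zero, Submodule.Quotient.mk_sub]
    rw [Submodule.mkQ_apply, Submodule.mkQ_apply] at hr₀r
    rw [hr₀r, sub_self]
  have hyR : r - r₀ ∈ R := R.sub_mem hr (h1 hr₀)
  -- flatness of M/R
  haveI : Module.Flat A (M ⧸ R.restrictScalars A) :=
    Module.Flat.of_linearEquiv (Submodule.Quotient.restrictScalarsEquiv A R)
  have hy' : r - r₀ ∈ maximalIdeal A • (⊤ : Submodule A M) := by
    have h : (mB • (⊤ : Submodule B M)).restrictScalars A =
        maximalIdeal A • (⊤ : Submodule A M) := by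
      rw [hmB, Ideal.smul_restrictScalars, Submodule.restrictScalars_top]
    rw [← h]
    exact hy
  have hy2 : r - r₀ ∈ maximalIdeal A • R.restrictScalars A :=
    mem_smul_of_flat_quotient (R.restrictScalars A) (maximalIdeal A) hyR hy'
  have hy3 : r - r₀ ∈ mB • R := by
    have h : (mB • R).restrictScalars A = maximalIdeal A • R.restrictScalars A := by
      rw [hmB, Ideal.smul_restrictScalars]
    have : r - r₀ ∈ (mB • R).restrictScalars A := h ▸ hy2
    exact this
  have : r = r₀ + (r - r₀) := by abel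
  rw [this]
  exact Submodule.add_mem_sup hr₀ hy3

end loc

end Groth.Agent.Helper1.FlatReg
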