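import Mathlib
import Groth.Prelude.Def_CAlg
import Groth.Agent.Helper1.DepthTensor
import Groth.Agent.Helper1.CMAscent
import Groth.Agent.Helper1.FlatReg

/-!
# Dimension and depth formulas for flat local homomorphisms (ring level), and the fibre
description of the local rings of a flat algebra.
-/

namespace Groth.Agent.Helper1.FlatLocalCM

open TensorProduct IsLocalRing
open scoped Pointwise

universe u

set_option linter.style.haveILetI false
set_option linter.unusedSectionVars false

theorem depth_self_eq_of_ringEquiv {R S : Type u} [CommRing R] [CommRing S] [IsLocalRing R]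
    [IsLocalRing S] [IsNoetherianRing R] [IsNoetherianRing S] (e : R ≃+* S) :
    LocCoh.depth R R = LocCoh.depth S S := by
  letI : Algebra R S := e.toRingHom.toAlgebra
  haveI : IsLocalHom (algebraMap R S) := IsLocalHom.of_surjective _ e.surjective
  haveI : Module.Finite R S := Module.Finite.of_surjective (Algebra.linearMap R S) e.surjective
  have h1 := Groth.Agent.H29.depth_eq_depth_of_isLocalHom R S S
  let l : R ≃ₗ[R] S :=
    { e.toAddEquiv with
      map_smul' := fun r x => by
        show e (r * x) = e r * e x
        exact map_mul e r x }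
  rw [← h1]
  exact Groth.Agent.H29.idealDepth_congr _ l

section FlatLocal

variable (A B : Type u) [CommRing A] [CommRing B] [IsNoetherianRing A] [IsLocalRing A]
    [IsNoetherianRing B] [IsLocalRing B] [Algebra A B]
    [IsLocalHom (algebraMap A B)] [Module.Flat A B]

theorem dim_eq_add (𝔞 : Ideal B) (h𝔞 : 𝔞 = Ideal.map (algebraMap A B) (maximalIdeal A))
    [IsLocalRing (B ⧸ 𝔞)] :
    ringKrullDim B = ringKrullDim A + ringKrullDim (B ⧸ 𝔞) := by
  subst h𝔞
  have h := CMAscent.height_eq A B
  rw [← maximalIdeal_height_eq_ringKrullDim, ← maximalIdeal_height_eq_ringKrullDim,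
    ← maximalIdeal_height_eq_ringKrullDim, h, WithBot.coe_add]

theorem depth_eq_add (𝔞 : Ideal B) (h𝔞 : 𝔞 = Ideal.map (algebraMap A B) (maximalIdeal A))
    [IsLocalRing (B ⧸ 𝔞)] :
    LocCoh.depth B B = LocCoh.depth A A + LocCoh.depth (B ⧸ 𝔞) (B ⧸ 𝔞) := by
  subst h𝔞
  have h := DepthTensor.main (R := A) (S := B) (M := A) (N := B)
  have e1 : LocCoh.depth B (B ⊗[A] A) = LocCoh.depth B B :=
    Groth.Agent.H29.idealDepth_congr _ (TensorProduct.AlgebraTensorModule.rid A B B)
  have e2 : LocCoh.depth B (B ⧸ (Ideal.map (algebraMap A B) (maximalIdeal A)) •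
        (⊤ : Submodule B B)) =
      LocCoh.depth B (B ⧸ Ideal.map (algebraMap A B) (maximalIdeal A)) :=
    Groth.Agent.H29.idealDepth_congr _ (Submodule.quotEquivOfEq _ _
      (by rw [smul_eq_mul, Ideal.mul_top]))
  haveI : IsLocalHom (algebraMap B (B ⧸ Ideal.map (algebraMap A B) (maximalIdeal A))) :=
    isLocalHom_of_le_jacobson_bot _ (FlatReg.map_maximalIdeal_le_jacobson A B)
  have e3 : LocCoh.depth B (B ⧸ Ideal.map (algebraMap A B) (maximalIdeal A)) =
      LocCoh.depth (B ⧸ Ideal.map (algebraMap A B) (maximalIdeal A))
        (B ⧸ Ideal.map (algebraMap A B) (maximalIdeal A)) :=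
    Groth.Agent.H29.depth_eq_depth_of_isLocalHom B _ _
  rw [← e1, h, e2, e3]

end FlatLocal

open Algebra.TensorProduct in
/-- The local formulas for a flat algebra at a prime described through the fibre ring. -/
theorem local_formulas (R S : Type u) [CommRing R] [CommRing S] [Algebra R S]
    [IsNoetherianRing R] [IsNoetherianRing S] [Module.Flat R S] (p : Ideal R) [p.IsPrime]
    [IsNoetherianRing (p.Fiber S)] (q : Ideal (p.Fiber S)) [q.IsPrime] :
    ringKrullDim (Localization.AtPrime
        (q.comap (includeRight (R := R) (A := p.ResidueField) (B := S)))) =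
      ringKrullDim (Localization.AtPrime p) + ringKrullDim (Localization.AtPrime q) ∧
    LocCoh.depth (Localization.AtPrime
        (q.comap (includeRight (R := R) (A := p.ResidueField) (B := S))))
      (Localization.AtPrime (q.comap (includeRight (R := R) (A := p.ResidueField) (B := S)))) =
      LocCoh.depth (Localization.AtPrime p) (Localization.AtPrime p) +
        LocCoh.depth (Localization.AtPrime q) (Localization.AtPrime q) := by
  letI := Localization.AtPrime.algebraOfLiesOver p
    (q.comap (includeRight (R := R) (A := p.ResidueField) (B := S)))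
  have e := Ideal.Fiber.localizationAlgEquivQuotient p q
  haveI hloc : IsLocalHom (algebraMap (Localization.AtPrime p)
      (Localization.AtPrime (q.comap (includeRight (R := R) (A := p.ResidueField) (B := S))))) :=
    Localization.isLocalHom_localRingHom _ _ _ Ideal.LiesOver.over
  have h𝔞 : p.map (algebraMap R (Localization.AtPrime
        (q.comap (includeRight (R := R) (A := p.ResidueField) (B := S))))) =
      Ideal.map (algebraMap (Localization.AtPrime p) (Localization.AtPrime
        (q.comap (includeRight (R := R) (A := p.ResidueField) (B := S)))))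
        (maximalIdeal (Localization.AtPrime p)) := by
    rw [← Localization.AtPrime.map_eq_maximalIdeal, Ideal.map_map, ← IsScalarTower.algebraMap_eq]
  haveI : IsLocalRing (Localization.AtPrime
        (q.comap (includeRight (R := R) (A := p.ResidueField) (B := S))) ⧸
      p.map (algebraMap R (Localization.AtPrime
        (q.comap (includeRight (R := R) (A := p.ResidueField) (B := S)))))) :=
    e.toRingEquiv.isLocalRing
  have h1 := dim_eq_add (Localization.AtPrime p) _ _ h𝔞
  have h2 := depth_eq_add (Localization.AtPrime p) _ _ h𝔞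
  have h3 := ringKrullDim_eq_of_ringEquiv e.toRingEquiv
  have h4 := depth_self_eq_of_ringEquiv (R := Localization.AtPrime q) e.toRingEquiv
  rw [h1, h2, ← h3, ← h4]
  exact ⟨rfl, rfl⟩

open Algebra.TensorProduct in
theorem exists_fiber_prime (R S : Type u) [CommRing R] [CommRing S] [Algebra R S]
    (Q : Ideal S) [hQ : Q.IsPrime] :
    ∃ (p : Ideal R) (_ : p.IsPrime) (q : Ideal (p.Fiber S)) (_ : q.IsPrime),
      q.comap (includeRight (R := R) (A := p.ResidueField) (B := S)) = Q := by
  obtain ⟨p, hp⟩ : ∃ p : Ideal R, p = Q.under R := ⟨_, rfl⟩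
  haveI : p.IsPrime := by rw [hp]; infer_instance
  haveI : Q.LiesOver p := ⟨hp⟩
  refine ⟨p, inferInstance,
    (PrimeSpectrum.primesOverOrderIsoFiber R S p ⟨Q, hQ, inferInstance⟩).asIdeal,
    inferInstance, ?_⟩
  have := PrimeSpectrum.coe_primesOverOrderIsoFiber_symm_apply (R := R) (S := S) (p := p)
    (PrimeSpectrum.primesOverOrderIsoFiber R S p ⟨Q, hQ, inferInstance⟩)
  rw [OrderIso.symm_apply_apply] at this
  exact this.symm

end Groth.Agent.Helper1.FlatLocalCM
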