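import Mathlib
import Groth.Prelude.Def_CAlg
import Groth.Agent.Helper1.FlatLocalCM
import Groth.Agent.H29.RegLocal3

namespace Groth.Agent.Helper1.CMFlat

open TensorProduct IsLocalRing
open scoped Pointwise

universe u

set_option linter.style.haveILetI false

theorem isCohenMacaulayRing_of_isRegularRing (T : Type u) [CommRing T] [IsRegularRing T] :
    LocCoh.IsCohenMacaulayRing T :=
  { isCohenMacaulayLocalRing_localization := fun _ _ =>
      Groth.Agent.H29.isCohenMacaulayLocalRing_of_isRegularLocalRing _ }

/-- Cohen–Macaulayness ascends along flat maps with Cohen–Macaulay fibres. -/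
theorem isCohenMacaulayRing_of_flat (R S : Type u) [CommRing R] [CommRing S] [Algebra R S]
    [LocCoh.IsCohenMacaulayRing R] [IsNoetherianRing S] [Module.Flat R S]
    (hfib : ∀ (p : Ideal R) [p.IsPrime], LocCoh.IsCohenMacaulayRing (p.Fiber S)) :
    LocCoh.IsCohenMacaulayRing S := by
  refine { isCohenMacaulayLocalRing_localization := fun Q hQ => ?_ }
  obtain ⟨p, hp, q, hq, hQeq⟩ := FlatLocalCM.exists_fiber_prime R S Q
  subst hQeq
  haveI := hfib p
  obtain ⟨h1, h2⟩ := FlatLocalCM.local_formulas R S p q
  have hA : LocCoh.IsCohenMacaulayLocalRing (Localization.AtPrime p) :=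
    LocCoh.IsCohenMacaulayRing.isCohenMacaulayLocalRing_localization p
  have hF : LocCoh.IsCohenMacaulayLocalRing (Localization.AtPrime q) :=
    LocCoh.IsCohenMacaulayRing.isCohenMacaulayLocalRing_localization q
  have hA' := hA.supportDim_eq_depth
  have hF' := hF.supportDim_eq_depth
  rw [Module.supportDim_self_eq_ringKrullDim] at hA' hF'
  refine { supportDim_eq_depth := ?_ }
  rw [Module.supportDim_self_eq_ringKrullDim, h1, h2, WithBot.coe_add, hA', hF']

theorem polynomial (R : Type u) [CommRing R] [LocCoh.IsCohenMacaulayRing R] (n : ℕ) :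
    LocCoh.IsCohenMacaulayRing (MvPolynomial (Fin n) R) := by
  haveI : IsNoetherianRing R := inferInstance
  apply isCohenMacaulayRing_of_flat R (MvPolynomial (Fin n) R)
  intro p _
  have e := MvPolynomial.algebraTensorAlgEquiv (σ := Fin n) R p.ResidueField
  haveI : IsRegularRing (p.Fiber (MvPolynomial (Fin n) R)) :=
    IsRegularRing.of_ringEquiv (R := MvPolynomial (Fin n) p.ResidueField) e.symm.toRingEquiv
  exact isCohenMacaulayRing_of_isRegularRing _

end Groth.Agent.Helper1.CMFlat
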