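import Mathlib
import Groth.Prelude.Def_CAlg
import Groth.Prelude.Def_Found
import Groth.Agent.H29.CMLoc
import Groth.Agent.H29.ReducedR0S1
import Groth.Agent.Helper1.CMFlat

namespace Groth.Agent.Helper1.CMCatenary

open IsLocalRing

universe u

set_option linter.style.haveILetI false

/-- In a Cohen–Macaulay local ring: `dim L = dim L/𝔭 + ht 𝔭`. -/
theorem dim_formula (L : Type u) [CommRing L] [LocCoh.IsCohenMacaulayLocalRing L] (𝔭 : Ideal L)
    [h𝔭 : 𝔭.IsPrime] :
    ringKrullDim L = ringKrullDim (L ⧸ 𝔭) + ((𝔭.height : ℕ∞) : WithBot ℕ∞) := by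
  have hCM : LocCoh.IsCohenMacaulayModule L L :=
    LocCoh.IsCohenMacaulayLocalRing.supportDim_eq_depth
  have hmem : (⟨𝔭, h𝔭⟩ : PrimeSpectrum L) ∈ Module.support L L :=
    Module.mem_support_iff'.mpr ⟨1, fun r hr h0 => hr (by
      rw [smul_eq_mul, mul_one] at h0
      rw [h0]
      exact zero_mem _)⟩
  obtain ⟨-, h2⟩ := Groth.Agent.H29.isCohenMacaulayModule_localizedModule_and_dim L L hCM
    ⟨𝔭, h𝔭⟩ hmem
  dsimp only at h2
  rw [Module.supportDim_self_eq_ringKrullDim, Groth.Agent.H29.supportDim_localizedModule_self,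
    IsLocalization.AtPrime.ringKrullDim_eq_height 𝔭 (Localization.AtPrime 𝔭)] at h2
  exact h2

theorem dim_quotient_le_one (T : Type u) [CommRing T] (P Q : Ideal T) [hP : P.IsPrime]
    [hQ : Q.IsPrime] (hPQ : P ≤ Q)
    (hcov : ∀ I : Ideal T, I.IsPrime → P < I → I ≤ Q → I = Q)
    (𝔭 : Ideal (Localization.AtPrime Q)) [𝔭.IsPrime]
    (h𝔭 : 𝔭 = P.map (algebraMap T (Localization.AtPrime Q))) :
    ringKrullDim (Localization.AtPrime Q ⧸ 𝔭) ≤ 1 := by
  haveI : IsDomain (Localization.AtPrime Q ⧸ 𝔭) := Ideal.Quotient.isDomain 𝔭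
  rw [← Nat.cast_one, ← Ring.krullDimLE_iff]
  apply Ring.krullDimLE_one_iff_of_noZeroDivisors.mpr
  intro I hI0 hIprime
  have hmk : Function.Surjective (Ideal.Quotient.mk 𝔭) := Ideal.Quotient.mk_surjective
  haveI hI' : (I.comap (Ideal.Quotient.mk 𝔭)).IsPrime := Ideal.comap_isPrime _ I
  haveI hI'' : ((I.comap (Ideal.Quotient.mk 𝔭)).comap
      (algebraMap T (Localization.AtPrime Q))).IsPrime := Ideal.comap_isPrime _ _
  have h1 : P ≤ (I.comap (Ideal.Quotient.mk 𝔭)).comap
      (algebraMap T (Localization.AtPrime Q)) := by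
    intro x hx
    rw [Ideal.mem_comap, Ideal.mem_comap]
    have : (Ideal.Quotient.mk 𝔭) (algebraMap T (Localization.AtPrime Q) x) = 0 :=
      Ideal.Quotient.eq_zero_iff_mem.mpr (h𝔭 ▸ Ideal.mem_map_of_mem _ hx)
    rw [this]
    exact zero_mem _
  have h2 : (I.comap (Ideal.Quotient.mk 𝔭)).comap
      (algebraMap T (Localization.AtPrime Q)) ≤ Q := by
    have h := IsLocalization.AtPrime.under_maximalIdeal (Localization.AtPrime Q) Q
    exact (Ideal.comap_mono (IsLocalRing.le_maximalIdeal hI'.ne_top)).trans (le_of_eq h)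
  have hmu := IsLocalization.map_under Q.primeCompl (Localization.AtPrime Q)
    (I.comap (Ideal.Quotient.mk 𝔭))
  have h3 : P ≠ (I.comap (Ideal.Quotient.mk 𝔭)).comap
      (algebraMap T (Localization.AtPrime Q)) := by
    intro heq
    apply hI0
    have h4 : I.comap (Ideal.Quotient.mk 𝔭) = 𝔭 :=
      hmu.symm.trans ((congrArg (Ideal.map (algebraMap T (Localization.AtPrime Q)))
        heq.symm).trans h𝔭.symm)
    rw [← Ideal.map_comap_of_surjective _ hmk I, h4, Ideal.map_quotient_self]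
  have h5 := hcov _ hI'' (lt_of_le_of_ne h1 h3) h2
  have h6 : I.comap (Ideal.Quotient.mk 𝔭) = maximalIdeal (Localization.AtPrime Q) :=
    hmu.symm.trans ((congrArg (Ideal.map (algebraMap T (Localization.AtPrime Q))) h5).trans
      Localization.AtPrime.map_eq_maximalIdeal)
  have h7 := Ideal.map_eq_top_or_isMaximal_of_surjective (Ideal.Quotient.mk 𝔭) hmk
    (maximalIdeal.isMaximal (Localization.AtPrime Q))
  rw [← h6, Ideal.map_comap_of_surjective _ hmk I] at h7
  exact h7.resolve_left hIprime.ne_top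

/-- In a Cohen–Macaulay ring, heights go up by exactly one along covering primes. -/
theorem height_covBy (T : Type u) [CommRing T] [LocCoh.IsCohenMacaulayRing T] (P Q : Ideal T)
    [hP : P.IsPrime] [hQ : Q.IsPrime] (hPQ : P < Q)
    (hcov : ∀ I : Ideal T, I.IsPrime → P < I → I ≤ Q → I = Q) : Q.height = P.height + 1 := by
  apply le_antisymm _ (Ideal.height_add_one_le_of_lt_of_isPrime hPQ)
  haveI hL : LocCoh.IsCohenMacaulayLocalRing (Localization.AtPrime Q) :=
    LocCoh.IsCohenMacaulayRing.isCohenMacaulayLocalRing_localization Q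
  have hdisj : Disjoint (Q.primeCompl : Set T) (P : Set T) := by
    rw [Set.disjoint_left]
    intro x hx hxP
    exact hx (hPQ.le hxP)
  haveI h𝔭 : (P.map (algebraMap T (Localization.AtPrime Q))).IsPrime :=
    IsLocalization.isPrime_of_isPrime_disjoint Q.primeCompl _ P hP hdisj
  have hht : (P.map (algebraMap T (Localization.AtPrime Q))).height = P.height :=
    IsLocalization.height_map_of_disjoint Q.primeCompl P hdisj
  have hF := dim_formula (Localization.AtPrime Q) (P.map (algebraMap T (Localization.AtPrime Q)))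
  rw [IsLocalization.AtPrime.ringKrullDim_eq_height Q (Localization.AtPrime Q), hht] at hF
  have hD := dim_quotient_le_one T P Q hPQ.le hcov
    (P.map (algebraMap T (Localization.AtPrime Q))) rfl
  have h3 : ((Q.height : ℕ∞) : WithBot ℕ∞) ≤ ((P.height + 1 : ℕ∞) : WithBot ℕ∞) := by
    rw [hF, WithBot.coe_add, WithBot.coe_one, add_comm ((P.height : ℕ∞) : WithBot ℕ∞) 1]
    exact add_le_add hD le_rfl
  exact WithBot.coe_le_coe.mp h3

section Quot

variable {T S : Type u} [CommRing T] [CommRing S] (φ : T →+* S)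

/-- Height of the preimage in `T`. -/
noncomputable def hh (x : PrimeSpectrum S) : ℕ∞ := (x.asIdeal.comap φ).height

theorem comap_lt (hφ : Function.Surjective φ) {x y : PrimeSpectrum S} (hxy : x < y) :
    x.asIdeal.comap φ < y.asIdeal.comap φ := by
  have hxy' : x.asIdeal < y.asIdeal := hxy
  exact lt_of_le_of_ne (Ideal.comap_mono hxy'.le)
    (fun h => hxy'.ne (Ideal.comap_injective_of_surjective φ hφ h))

theorem hh_ne_top [IsNoetherianRing T] (x : PrimeSpectrum S) : hh φ x ≠ ⊤ := by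
  haveI : (x.asIdeal.comap φ).IsPrime := Ideal.comap_isPrime φ _
  exact Ideal.height_ne_top_of_isPrime

theorem hh_lt [IsNoetherianRing T] (hφ : Function.Surjective φ) {x y : PrimeSpectrum S}
    (hxy : x < y) : hh φ x < hh φ y := by
  haveI : (x.asIdeal.comap φ).IsPrime := Ideal.comap_isPrime φ _
  haveI : (y.asIdeal.comap φ).IsPrime := Ideal.comap_isPrime φ _
  exact Ideal.height_strict_mono_of_isPrime_of_isPrime (comap_lt φ hφ hxy)

theorem hh_covBy [LocCoh.IsCohenMacaulayRing T] (hφ : Function.Surjective φ)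
    {x y : PrimeSpectrum S} (hxy : x ⋖ y) : hh φ y = hh φ x + 1 := by
  haveI : (x.asIdeal.comap φ).IsPrime := Ideal.comap_isPrime φ _
  haveI : (y.asIdeal.comap φ).IsPrime := Ideal.comap_isPrime φ _
  refine height_covBy T _ _ (comap_lt φ hφ hxy.lt) ?_
  intro I hI hPI hIQ
  have hker : RingHom.ker φ ≤ I := by
    refine le_trans ?_ hPI.le
    intro a ha
    rw [Ideal.mem_comap, (RingHom.mem_ker).mp ha]
    exact zero_mem _
  haveI : (I.map φ).IsPrime := Ideal.map_isPrime_of_surjective hφ hker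
  have hcm : (I.map φ).comap φ = I := by
    rw [Ideal.comap_map_of_surjective φ hφ]
    exact sup_eq_left.mpr hker
  have hxz : x < (⟨I.map φ, inferInstance⟩ : PrimeSpectrum S) := by
    have h1 : x.asIdeal ≤ I.map φ :=
      (Ideal.comap_le_comap_iff_of_surjective φ hφ _ _).mp (by rw [hcm]; exact hPI.le)
    have h2 : x.asIdeal ≠ I.map φ := by
      intro h
      apply hPI.ne
      rw [h, hcm]
    exact (PrimeSpectrum.asIdeal_lt_asIdeal x ⟨I.map φ, inferInstance⟩).mp
      (lt_of_le_of_ne h1 h2)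
  have hzy : (⟨I.map φ, inferInstance⟩ : PrimeSpectrum S) ≤ y := by
    have h1 : I.map φ ≤ y.asIdeal :=
      (Ideal.comap_le_comap_iff_of_surjective φ hφ _ _).mp (by rw [hcm]; exact hIQ)
    exact h1
  have hzeq : (⟨I.map φ, inferInstance⟩ : PrimeSpectrum S) = y :=
    eq_of_le_of_not_lt hzy (hxy.2 hxz)
  rw [← hcm]
  exact congrArg (fun w : PrimeSpectrum S => w.asIdeal.comap φ) hzeq

theorem enat_cancel {a : ℕ∞} {m n : ℕ} (ha : a ≠ ⊤) (h : a + m = a + n) : m = n := by
  lift a to ℕ using ha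
  norm_cast at h
  omega

theorem key1 [IsNoetherianRing T] (hφ : Function.Surjective φ) (s : LTSeries (PrimeSpectrum S)) :
    ∀ (i : ℕ) (hi : i ≤ s.length),
      hh φ (s 0) + (i : ℕ∞) ≤ hh φ (s ⟨i, Nat.lt_succ_of_le hi⟩) := by
  intro i
  induction i with
  | zero =>
    intro hi
    rw [Nat.cast_zero, add_zero]
    exact le_of_eq rfl
  | succ k ih =>
    intro hi
    have hk := ih (Nat.le_of_succ_le hi)
    have hstep : s ⟨k, Nat.lt_succ_of_le (Nat.le_of_succ_le hi)⟩ < s ⟨k + 1, Nat.lt_succ_of_le hi⟩ :=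
      s.strictMono (by rw [Fin.lt_def]; exact Nat.lt_succ_self k)
    have h1 := hh_lt φ hφ hstep
    calc hh φ (s 0) + ((k + 1 : ℕ) : ℕ∞) = (hh φ (s 0) + (k : ℕ∞)) + 1 := by
          rw [Nat.cast_add, Nat.cast_one, add_assoc]
      _ ≤ hh φ (s ⟨k, Nat.lt_succ_of_le (Nat.le_of_succ_le hi)⟩) + 1 := add_le_add hk le_rfl
      _ ≤ hh φ (s ⟨k + 1, Nat.lt_succ_of_le hi⟩) := Order.add_one_le_of_lt h1

theorem key2 [LocCoh.IsCohenMacaulayRing T] (hφ : Function.Surjective φ)
    (s : LTSeries (PrimeSpectrum S))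
    (hs : ∀ i : Fin s.length, s (Fin.castSucc i) ⋖ s (Fin.succ i)) :
    ∀ (i : ℕ) (hi : i ≤ s.length),
      hh φ (s ⟨i, Nat.lt_succ_of_le hi⟩) = hh φ (s 0) + (i : ℕ∞) := by
  intro i
  induction i with
  | zero =>
    intro hi
    rw [Nat.cast_zero, add_zero]
    rfl
  | succ k ih =>
    intro hi
    have hk := ih (Nat.le_of_succ_le hi)
    have hstep : s ⟨k, Nat.lt_succ_of_le (Nat.le_of_succ_le hi)⟩ ⋖ s ⟨k + 1, Nat.lt_succ_of_le hi⟩ :=
      hs ⟨k, hi⟩
    rw [hh_covBy φ hφ hstep, hk, Nat.cast_add, Nat.cast_one, add_assoc]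

/-- Quotients of Cohen–Macaulay rings are catenary. -/
theorem isCatenary_of_surjective [LocCoh.IsCohenMacaulayRing T] (hφ : Function.Surjective φ) :
    CAlg.IsCatenary S := by
  haveI : IsNoetherianRing T := inferInstance
  refine ⟨fun p q _ => ⟨(hh φ q).toNat, fun s hs0 hs1 => ?_⟩, fun s t h0 h1 hs ht => ?_⟩
  · have h := key1 φ hφ s s.length le_rfl
    have h2 : ((s.length : ℕ) : ℕ∞) ≤ hh φ q := by
      rw [← hs1]
      exact le_trans le_add_self h
    have := ENat.toNat_le_toNat h2 (hh_ne_top φ q)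
    rwa [ENat.toNat_natCast] at this
  · have hs' := key2 φ hφ s hs s.length le_rfl
    have ht' := key2 φ hφ t ht t.length le_rfl
    have e0 : s 0 = t 0 := h0
    have e1 : s ⟨s.length, Nat.lt_succ_of_le le_rfl⟩ = t ⟨t.length, Nat.lt_succ_of_le le_rfl⟩ := h1
    rw [e1, ht', e0] at hs'
    exact (enat_cancel (hh_ne_top φ (t 0)) hs').symm

end Quot

theorem main (R : Type u) [CommRing R] [LocCoh.IsCohenMacaulayRing R] :
    CAlg.IsUniversallyCatenary R := by
  refine ⟨inferInstance, fun S _ _ hS => ?_⟩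
  obtain ⟨n, f, hf⟩ := Algebra.FiniteType.iff_quotient_mvPolynomial''.mp hS
  haveI := CMFlat.polynomial R n
  exact isCatenary_of_surjective f.toRingHom hf

end Groth.Agent.Helper1.CMCatenary
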