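import Mathlib

namespace Groth.Agent.Helper1.ARFlat

open TensorProduct

universe u

variable {A B : Type u} [CommRing A] [CommRing B] [Algebra A B]

/-- `J B` kills `B ⊗ (N / J N)`. -/
theorem map_smul_quot_eq_zero (J : Ideal A) {N : Type u} [AddCommGroup N] [Module A N] (r : B)
    (hr : r ∈ J.map (algebraMap A B)) (t : B ⊗[A] (N ⧸ (J • ⊤ : Submodule A N))) : r • t = 0 := by
  have h1 : ∀ a ∈ J, ∀ t : B ⊗[A] (N ⧸ (J • ⊤ : Submodule A N)),
      (algebraMap A B a) • t = 0 := by
    intro a ha t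
    induction t using TensorProduct.induction_on with
    | zero => simp
    | tmul b n =>
      obtain ⟨n, rfl⟩ := Submodule.Quotient.mk_surjective _ n
      rw [TensorProduct.smul_tmul', algebraMap_smul, TensorProduct.smul_tmul,
        ← Submodule.Quotient.mk_smul,
        (Submodule.Quotient.mk_eq_zero _).mpr (Submodule.smul_mem_smul ha Submodule.mem_top),
        TensorProduct.tmul_zero]
    | add x y hx hy => rw [smul_add, hx, hy, add_zero]
  refine Submodule.span_induction (p := fun r _ => r • t = 0) ?_ ?_ ?_ ?_ hr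
  · rintro _ ⟨a, ha, rfl⟩; exact h1 a ha t
  · simp
  · intro x y _ _ hx hy; rw [add_smul, hx, hy, add_zero]
  · intro c x _ hx; rw [smul_eq_mul, mul_smul, hx, smul_zero]

theorem tmul_mem_map_smul_top (J : Ideal A) {M : Type u} [AddCommGroup M] [Module A M] (b : B)
    (k : M) (hk : k ∈ J • (⊤ : Submodule A M)) :
    b ⊗ₜ[A] k ∈ (J.map (algebraMap A B)) • (⊤ : Submodule B (B ⊗[A] M)) := by
  refine Submodule.smul_induction_on hk ?_ ?_
  · intro a ha m _
    have : b ⊗ₜ[A] (a • m) = (algebraMap A B a) • (b ⊗ₜ[A] m) := by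
      rw [TensorProduct.smul_tmul', algebraMap_smul, TensorProduct.smul_tmul]
    rw [this]
    exact Submodule.smul_mem_smul (Ideal.mem_map_of_mem _ ha) Submodule.mem_top
  · intro x y hx hy; rw [TensorProduct.tmul_add]; exact add_mem hx hy

theorem main [Module.Flat A B] (I : Ideal A) {M N : Type u} [AddCommGroup M] [Module A M]
    [AddCommGroup N] [Module A N] (f : M →ₗ[A] N) (c : ℕ)
    (hf : ∀ n : ℕ, c ≤ n → LinearMap.range f ⊓ (I ^ n • (⊤ : Submodule A N)) ≤
      Submodule.map f (I ^ (n - c) • (⊤ : Submodule A M))) :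
    ∀ n : ℕ, c ≤ n →
      LinearMap.range (f.baseChange B) ⊓
        ((I.map (algebraMap A B)) ^ n • (⊤ : Submodule B (B ⊗[A] N))) ≤
        Submodule.map (f.baseChange B)
          ((I.map (algebraMap A B)) ^ (n - c) • (⊤ : Submodule B (B ⊗[A] M))) := by
  rintro n hn z ⟨⟨w, hw⟩, hz⟩
  obtain ⟨q, hq⟩ : ∃ q : N →ₗ[A] N ⧸ (I ^ n • ⊤ : Submodule A N), q = Submodule.mkQ _ :=
    ⟨_, rfl⟩
  obtain ⟨h, hh⟩ : ∃ h : M →ₗ[A] N ⧸ (I ^ n • ⊤ : Submodule A N), h = q ∘ₗ f := ⟨_, rfl⟩
  have hhe : ∀ m : M, h m = Submodule.Quotient.mk (f m) := fun m => by rw [hh, hq]; rfl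
  have hex : Function.Exact (LinearMap.ker h).subtype h := LinearMap.exact_subtype_ker_map h
  have hexB := Module.Flat.lTensor_exact B hex
  have h3 : q.baseChange B z = 0 := by
    rw [← Ideal.map_pow] at hz
    refine Submodule.smul_induction_on hz ?_ ?_
    · intro r hr t _
      rw [map_smul]
      exact map_smul_quot_eq_zero (I ^ n) r hr _
    · intro x y hx hy; rw [map_add, hx, hy, add_zero]
  have h4 : h.lTensor B w = 0 := by
    have : h.lTensor B w = q.baseChange B (f.baseChange B w) := by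
      rw [hh, LinearMap.lTensor_comp]; rfl
    rw [this, hw, h3]
  obtain ⟨w', hw'⟩ := (hexB w).mp h4
  have h5 : ∀ w' : B ⊗[A] ↥(LinearMap.ker h),
      f.baseChange B ((LinearMap.ker h).subtype.lTensor B w') ∈
        Submodule.map (f.baseChange B)
          ((I.map (algebraMap A B)) ^ (n - c) • (⊤ : Submodule B (B ⊗[A] M))) := by
    intro w'
    induction w' using TensorProduct.induction_on with
    | zero => simp
    | tmul b k =>
      rw [LinearMap.lTensor_tmul, LinearMap.baseChange_tmul, Submodule.subtype_apply]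
      have hk : h k = 0 := k.2
      rw [hhe, Submodule.Quotient.mk_eq_zero] at hk
      obtain ⟨k₁, hk₁, hk₁'⟩ := hf n hn ⟨⟨k, rfl⟩, hk⟩
      refine ⟨b ⊗ₜ[A] k₁, ?_, ?_⟩
      · rw [← Ideal.map_pow]; exact tmul_mem_map_smul_top _ b k₁ hk₁
      · rw [LinearMap.baseChange_tmul, hk₁']
    | add x y hx hy => rw [map_add, map_add]; exact add_mem hx hy
  rw [← hw, ← hw']
  exact h5 w'

end Groth.Agent.Helper1.ARFlat
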