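import Mathlib
import Groth.Prelude.Def_CotT

/-!
# Abstract relation-module framework for `T²` (helper1)

For a ring `R`, an `R`-algebra `B` and a family `rel : σ → R` of elements of the kernel of `R → B`,
we redo the prelude's `L₁`, `L₂`, `d₂`, `T²` (definitionally equal to `CotT.*` for
`R = P.toExtension.Ring`, `rel = CotT.rel P`) and prove that `T²` only depends on the ideal
spanned by the family.
-/

open TensorProduct

noncomputable section

namespace Groth.Agent.Helper1.AT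

universe u v w w' w'' m

section Defs

variable {R : Type u} [CommRing R] (B : Type v) [CommRing B] [Algebra R B] {σ : Type w}
  (rel : σ → R)

/-- `j : F → R`. -/
def jm : (σ →₀ R) →ₗ[R] R := Finsupp.linearCombination R rel

@[simp] lemma jm_single (s : σ) (r : R) : jm rel (Finsupp.single s r) = r * rel s := by
  simp [jm, Finsupp.linearCombination_single]

/-- relation module -/
def Q : Submodule R (σ →₀ R) := LinearMap.ker (jm rel)

lemma mem_Q {x : σ →₀ R} : x ∈ Q rel ↔ jm rel x = 0 := Iff.rfl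

/-- trivial relations -/
def F0 : Submodule R (σ →₀ R) :=
  Submodule.span R {y | ∃ a b : σ →₀ R, y = jm rel a • b - jm rel b • a}

lemma gen_mem_F0 (a b : σ →₀ R) : jm rel a • b - jm rel b • a ∈ F0 rel :=
  Submodule.subset_span ⟨a, b, rfl⟩

lemma F0_le_Q : F0 rel ≤ Q rel := by
  refine Submodule.span_le.mpr ?_
  rintro _ ⟨a, b, rfl⟩
  simp [Q, mul_comm]

/-- trivial relations inside the relation module -/
def F0Q : Submodule R (Q rel) := (F0 rel).comap (Q rel).subtype

abbrev L1 (R : Type u) [CommRing R] (B : Type v) [CommRing B] [Algebra R B] (σ : Type w) :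
    Type (max v w u) := B ⊗[R] (σ →₀ R)

abbrev L2 : Type (max v w u) :=
  (B ⊗[R] (Q rel)) ⧸ LinearMap.range ((F0Q rel).subtype.baseChange B)

variable (hrel : ∀ s, algebraMap R B (rel s) = 0)

include hrel in
lemma algebraMap_jm (f : σ →₀ R) : algebraMap R B (jm rel f) = 0 := by
  induction f using Finsupp.induction_linear with
  | zero => simp
  | add f g hf hg => rw [map_add, map_add, hf, hg, add_zero]
  | single s r => rw [jm_single, map_mul, hrel, mul_zero]

include hrel in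
lemma one_tmul_eq_zero_of_mem_F0 (y : σ →₀ R) (hy : y ∈ F0 rel) :
    (1 : B) ⊗ₜ[R] y = (0 : L1 R B σ) := by
  have : F0 rel ≤ LinearMap.ker (TensorProduct.mk R B (σ →₀ R) 1) := by
    refine Submodule.span_le.mpr ?_
    rintro _ ⟨a, b, rfl⟩
    simp only [SetLike.mem_coe, LinearMap.mem_ker, map_sub, map_smul, TensorProduct.mk_apply]
    rw [TensorProduct.smul_tmul', TensorProduct.smul_tmul', Algebra.smul_def, Algebra.smul_def,
      algebraMap_jm B rel hrel, algebraMap_jm B rel hrel, zero_mul, TensorProduct.zero_tmul,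
      TensorProduct.zero_tmul, sub_zero]
  exact this hy

include hrel in
lemma range_le_ker :
    LinearMap.range ((F0Q rel).subtype.baseChange B) ≤
      LinearMap.ker ((Q rel).subtype.baseChange B) := by
  rw [LinearMap.range_le_ker_iff]
  refine TensorProduct.AlgebraTensorModule.ext fun b k => ?_
  simp only [LinearMap.coe_comp, Function.comp_apply, LinearMap.baseChange_tmul,
    Submodule.coe_subtype, LinearMap.zero_apply]
  have hk : ((k : Q rel) : σ →₀ R) ∈ F0 rel := k.2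
  rw [← mul_one b, ← smul_eq_mul, ← TensorProduct.smul_tmul',
    one_tmul_eq_zero_of_mem_F0 B rel hrel _ hk, smul_zero]

/-- `d₂ : L₂ → L₁`. -/
def d2 : L2 B rel →ₗ[B] L1 R B σ :=
  Submodule.liftQ _ ((Q rel).subtype.baseChange B) (range_le_ker B rel hrel)

@[simp] lemma d2_mk (b : B) (q : Q rel) :
    d2 B rel hrel (Submodule.Quotient.mk (b ⊗ₜ[R] q)) = b ⊗ₜ[R] (q : σ →₀ R) := by
  simp [d2]

abbrev T2 (M : Type m) [AddCommGroup M] [Module B M] : Type (max v w u m) :=
  (L2 B rel →ₗ[B] M) ⧸ LinearMap.range (LinearMap.lcomp B M (d2 B rel hrel))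

variable {B rel}

lemma ext_L2 {M : Type m} [AddCommGroup M] [Module B M] {f g : L2 B rel →ₗ[B] M}
    (h : ∀ (b : B) (q : Q rel), f (Submodule.Quotient.mk (b ⊗ₜ[R] q)) =
      g (Submodule.Quotient.mk (b ⊗ₜ[R] q))) : f = g := by
  apply LinearMap.ext
  intro z
  induction z using Submodule.Quotient.induction_on with
  | H z =>
    induction z using TensorProduct.induction_on with
    | zero => simp
    | tmul b q => exact h b q
    | add x y hx hy => rw [Submodule.Quotient.mk_add, map_add, map_add, hx, hy]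

/-- If all relations are trivial then `L₂ = 0`. -/
lemma L2_eq_zero (hQ : Q rel ≤ F0 rel) (z : L2 B rel) : z = 0 := by
  induction z using Submodule.Quotient.induction_on with
  | H z =>
    induction z using TensorProduct.induction_on with
    | zero => simp
    | tmul b q =>
      rw [Submodule.Quotient.mk_eq_zero]
      refine ⟨b ⊗ₜ ⟨q, ?_⟩, ?_⟩
      · exact hQ q.2
      · rw [LinearMap.baseChange_tmul]; rfl
    | add x y hx hy => rw [Submodule.Quotient.mk_add, hx, hy, add_zero]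

lemma T2_subsingleton (hQ : Q rel ≤ F0 rel) (M : Type m) [AddCommGroup M] [Module B M] :
    Subsingleton (T2 B rel hrel M) := by
  have h0 : ∀ χ : L2 B rel →ₗ[B] M, χ = 0 := by
    intro χ
    apply LinearMap.ext
    intro z
    rw [L2_eq_zero hQ z, map_zero, map_zero]
  refine ⟨fun x y => ?_⟩
  induction x using Submodule.Quotient.induction_on with
  | H x =>
    induction y using Submodule.Quotient.induction_on with
    | H y => rw [h0 x, h0 y]

end Defs

section Mor

variable {R : Type u} [CommRing R] (B : Type v) [CommRing B] [Algebra R B]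
  {σ : Type w} {σ₂ : Type w'} {σ₃ : Type w''}
  (rel : σ → R) (rel₂ : σ₂ → R) (rel₃ : σ₃ → R)
  (Φ : (σ →₀ R) →ₗ[R] (σ₂ →₀ R)) (hΦ : ∀ x, jm rel₂ (Φ x) = jm rel x)

/-- restriction to relation modules -/
def mapQ' : Q rel →ₗ[R] Q rel₂ :=
  Φ.restrict (fun x hx => by
    show jm rel₂ (Φ x) = 0
    rw [hΦ]
    exact hx)

@[simp] lemma mapQ'_coe (q : Q rel) : ((mapQ' rel rel₂ Φ hΦ q : Q rel₂) : σ₂ →₀ R) = Φ q := rfl

include hΦ in
lemma Φ_mem_F0 {y : σ →₀ R} (hy : y ∈ F0 rel) : Φ y ∈ F0 rel₂ := by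
  induction hy using Submodule.span_induction with
  | mem x hx =>
    obtain ⟨a, b, rfl⟩ := hx
    refine Submodule.subset_span ⟨Φ a, Φ b, ?_⟩
    rw [map_sub, map_smul, map_smul, hΦ, hΦ]
  | zero => rw [map_zero]; exact zero_mem _
  | add x y _ _ hx hy => rw [map_add]; exact add_mem hx hy
  | smul r x _ hx => rw [map_smul]; exact Submodule.smul_mem _ _ hx

/-- induced map on `L₂`. -/
def L2map : L2 B rel →ₗ[B] L2 B rel₂ :=
  Submodule.mapQ _ _ ((mapQ' rel rel₂ Φ hΦ).baseChange B) (by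
    rintro _ ⟨z, rfl⟩
    rw [Submodule.mem_comap]
    induction z using TensorProduct.induction_on with
    | zero => simp
    | add x y hx hy => rw [map_add, map_add]; exact add_mem hx hy
    | tmul b k =>
      rw [LinearMap.baseChange_tmul, LinearMap.baseChange_tmul]
      refine ⟨b ⊗ₜ ⟨mapQ' rel rel₂ Φ hΦ (k : Q rel), ?_⟩, ?_⟩
      · show ((mapQ' rel rel₂ Φ hΦ (k : Q rel) : Q rel₂) : σ₂ →₀ R) ∈ F0 rel₂
        exact Φ_mem_F0 rel rel₂ Φ hΦ k.2
      · rw [LinearMap.baseChange_tmul]; rfl)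

@[simp] lemma L2map_mk (b : B) (q : Q rel) :
    L2map B rel rel₂ Φ hΦ (Submodule.Quotient.mk (b ⊗ₜ[R] q)) =
      Submodule.Quotient.mk (b ⊗ₜ[R] mapQ' rel rel₂ Φ hΦ q) := rfl

variable (hrel : ∀ s, algebraMap R B (rel s) = 0) (hrel₂ : ∀ s, algebraMap R B (rel₂ s) = 0)
  (hrel₃ : ∀ s, algebraMap R B (rel₃ s) = 0)

lemma d2_comp_L2map :
    d2 B rel₂ hrel₂ ∘ₗ L2map B rel rel₂ Φ hΦ = Φ.baseChange B ∘ₗ d2 B rel hrel := by
  apply ext_L2
  intro b q
  simp only [LinearMap.comp_apply, L2map_mk, d2_mk, LinearMap.baseChange_tmul, mapQ'_coe]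

variable (M : Type m) [AddCommGroup M] [Module B M]

/-- pull-back on `T²`. -/
def pull : T2 B rel₂ hrel₂ M →ₗ[B] T2 B rel hrel M :=
  Submodule.mapQ _ _ (LinearMap.lcomp B M (L2map B rel rel₂ Φ hΦ)) (by
    rintro _ ⟨ξ, rfl⟩
    refine ⟨ξ ∘ₗ Φ.baseChange B, ?_⟩
    show (ξ ∘ₗ Φ.baseChange B) ∘ₗ d2 B rel hrel = (ξ ∘ₗ d2 B rel₂ hrel₂) ∘ₗ L2map B rel rel₂ Φ hΦ
    rw [LinearMap.comp_assoc, LinearMap.comp_assoc, d2_comp_L2map])

@[simp] lemma pull_mk (χ : L2 B rel₂ →ₗ[B] M) :
    pull B rel rel₂ Φ hΦ hrel hrel₂ M (Submodule.Quotient.mk χ) =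
      Submodule.Quotient.mk (χ ∘ₗ L2map B rel rel₂ Φ hΦ) := rfl

lemma L2map_comp (Ψ : (σ₂ →₀ R) →ₗ[R] (σ₃ →₀ R)) (hΨ : ∀ x, jm rel₃ (Ψ x) = jm rel₂ x) :
    L2map B rel rel₃ (Ψ ∘ₗ Φ) (fun x => by rw [LinearMap.comp_apply, hΨ, hΦ]) =
      L2map B rel₂ rel₃ Ψ hΨ ∘ₗ L2map B rel rel₂ Φ hΦ := by
  apply ext_L2
  intro b q
  rfl

lemma pull_comp (Ψ : (σ₂ →₀ R) →ₗ[R] (σ₃ →₀ R)) (hΨ : ∀ x, jm rel₃ (Ψ x) = jm rel₂ x) :
    pull B rel rel₃ (Ψ ∘ₗ Φ) (fun x => by rw [LinearMap.comp_apply, hΨ, hΦ]) hrel hrel₃ M =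
      pull B rel rel₂ Φ hΦ hrel hrel₂ M ∘ₗ pull B rel₂ rel₃ Ψ hΨ hrel₂ hrel₃ M := by
  apply LinearMap.ext
  intro x
  induction x using Submodule.Quotient.induction_on with
  | H χ =>
    rw [LinearMap.comp_apply, pull_mk, pull_mk, pull_mk, L2map_comp, LinearMap.comp_assoc]

/-- A self-map of `F` over `j` induces the identity on `T²`. -/
lemma pull_self (Θ : (σ →₀ R) →ₗ[R] (σ →₀ R)) (hΘ : ∀ x, jm rel (Θ x) = jm rel x) :
    pull B rel rel Θ hΘ hrel hrel M = LinearMap.id := by
  apply LinearMap.ext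
  intro x
  induction x using Submodule.Quotient.induction_on with
  | H χ =>
    rw [pull_mk, LinearMap.id_apply, Submodule.Quotient.eq]
    let DQ : (σ →₀ R) →ₗ[R] Q rel := (Θ - LinearMap.id).codRestrict (Q rel) (fun x => by
      show jm rel ((Θ - LinearMap.id : (σ →₀ R) →ₗ[R] (σ →₀ R)) x) = 0
      rw [LinearMap.sub_apply, LinearMap.id_apply, map_sub, hΘ, sub_self])
    refine ⟨χ ∘ₗ (Submodule.mkQ _) ∘ₗ (DQ.baseChange B), ?_⟩
    apply ext_L2
    intro b q
    rw [LinearMap.lcomp_apply, d2_mk, LinearMap.comp_apply, LinearMap.comp_apply,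
      LinearMap.baseChange_tmul, Submodule.mkQ_apply, LinearMap.sub_apply, LinearMap.comp_apply,
      L2map_mk, ← map_sub, ← Submodule.Quotient.mk_sub]
    have hD : mapQ' rel rel Θ hΘ q = DQ (q : σ →₀ R) + q :=
      Subtype.ext (sub_add_cancel (Θ (q : σ →₀ R)) (q : σ →₀ R)).symm
    rw [hD, TensorProduct.tmul_add, add_sub_cancel_right]

end Mor

section Equiv

variable {R : Type u} [CommRing R] (B : Type v) [CommRing B] [Algebra R B]
  {σ : Type w} {σ₂ : Type w'} (rel : σ → R) (rel₂ : σ₂ → R)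

lemma exists_lift (h : Ideal.span (Set.range rel) ≤ Ideal.span (Set.range rel₂)) :
    ∃ Φ : (σ →₀ R) →ₗ[R] (σ₂ →₀ R), ∀ x, jm rel₂ (Φ x) = jm rel x := by
  have h1 : ∀ s, ∃ u : σ₂ →₀ R, jm rel₂ u = rel s := by
    intro s
    have hs : rel s ∈ Ideal.span (Set.range rel₂) := h (Ideal.subset_span ⟨s, rfl⟩)
    have hs' : rel s ∈ LinearMap.range (Finsupp.linearCombination R rel₂) := by
      rw [Finsupp.range_linearCombination]
      exact hs
    exact hs'
  choose u hu using h1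
  refine ⟨Finsupp.linearCombination R u, ?_⟩
  intro x
  induction x using Finsupp.induction_linear with
  | zero => simp
  | add f g hf hg => rw [map_add, map_add, hf, hg, map_add]
  | single s r => rw [Finsupp.linearCombination_single, map_smul, hu, jm_single, smul_eq_mul]

variable (hrel : ∀ s, algebraMap R B (rel s) = 0) (hrel₂ : ∀ s, algebraMap R B (rel₂ s) = 0)

/-- `T²` only depends on the ideal spanned by the relations. -/
theorem T2_equiv (hspan : Ideal.span (Set.range rel) = Ideal.span (Set.range rel₂))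
    (M : Type m) [AddCommGroup M] [Module B M] :
    Nonempty (T2 B rel hrel M ≃ₗ[B] T2 B rel₂ hrel₂ M) := by
  obtain ⟨Φ, hΦ⟩ := exists_lift rel rel₂ hspan.le
  obtain ⟨Ψ, hΨ⟩ := exists_lift rel₂ rel hspan.ge
  refine ⟨LinearEquiv.ofLinearMap (pull B rel₂ rel Ψ hΨ hrel₂ hrel M)
    (pull B rel rel₂ Φ hΦ hrel hrel₂ M) ?_ ?_⟩
  · rw [← pull_comp, pull_self]
  · rw [← pull_comp, pull_self]

end Equiv

section Transfer

variable {A : Type u} {B : Type v} {ι : Type w} {σ : Type w'}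
variable [CommRing A] [CommRing B] [Algebra A B]
variable (P : Algebra.Presentation A B ι σ)

/-- The prelude's `T²` is the abstract one. -/
theorem T2_eq (M : Type m) [AddCommGroup M] [Module B M] :
    CotT.T2 P M = T2 B (CotT.rel P) (CotT.algebraMap_rel P) M := rfl

end Transfer

end Groth.Agent.Helper1.AT

end
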