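import Mathlib
import Groth.Agent.Helper1.AT1
import Groth.Agent.Helper1.KoszulH1b

/-!
# Relations among variables / regular sequences are trivial; `T²` of a regular quotient (helper1)
-/

open TensorProduct MvPolynomial

noncomputable section

namespace Groth.Agent.Helper1.AT

universe u v w w' m

/-! ## Semilinear transport of relation modules along a ring homomorphism -/

section Transport

variable {R : Type u} {R' : Type v} [CommRing R] [CommRing R'] {κ : Type w} (φ : R →+* R')
  (v : κ → R) (v' : κ → R') (hφ : ∀ k, φ (v k) = v' k)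

/-- coordinatewise application of a ring hom -/
def mr (x : κ →₀ R) : κ →₀ R' := Finsupp.mapRange φ (map_zero φ) x

@[simp] lemma mr_apply (x : κ →₀ R) (k : κ) : mr φ x k = φ (x k) := Finsupp.mapRange_apply

lemma mr_zero : mr φ (0 : κ →₀ R) = 0 := Finsupp.mapRange_zero

lemma mr_add (x y : κ →₀ R) : mr φ (x + y) = mr φ x + mr φ y :=
  Finsupp.mapRange_add (map_add φ) x y

lemma mr_sub (x y : κ →₀ R) : mr φ (x - y) = mr φ x - mr φ y :=
  Finsupp.mapRange_sub (map_sub φ) x y

lemma mr_smul (r : R) (x : κ →₀ R) : mr φ (r • x) = φ r • mr φ x := by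
  ext k
  simp [mr_apply, map_mul]

lemma mr_single (k : κ) (r : R) : mr φ (Finsupp.single k r) = Finsupp.single k (φ r) :=
  Finsupp.mapRange_single

include hφ in
lemma jm_mr (x : κ →₀ R) : jm v' (mr φ x) = φ (jm v x) := by
  induction x using Finsupp.induction_linear with
  | zero => rw [mr_zero, map_zero, map_zero, map_zero]
  | add f g hf hg => rw [mr_add, map_add, hf, hg, map_add, map_add]
  | single s r => rw [mr_single, jm_single, jm_single, map_mul, hφ]

include hφ in
lemma mr_mem_Q {x : κ →₀ R} (hx : x ∈ Q v) : mr φ x ∈ Q v' := by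
  rw [mem_Q, jm_mr φ v v' hφ, (mem_Q v).1 hx, map_zero]

include hφ in
lemma mr_mem_F0 {x : κ →₀ R} (hx : x ∈ F0 v) : mr φ x ∈ F0 v' := by
  induction hx using Submodule.span_induction with
  | mem x hx =>
    obtain ⟨a, b, rfl⟩ := hx
    rw [mr_sub, mr_smul, mr_smul, ← jm_mr φ v v' hφ, ← jm_mr φ v v' hφ]
    exact gen_mem_F0 v' _ _
  | zero => rw [mr_zero]; exact zero_mem _
  | add x y _ _ hx hy => rw [mr_add]; exact add_mem hx hy
  | smul r x _ hx => rw [mr_smul]; exact Submodule.smul_mem _ _ hx

end Transport

/-! ## Relations among the variables of a polynomial ring -/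

section KH0

variable {A : Type u} [CommRing A] {κ : Type w}

lemma zero_modMonomial (s : κ →₀ ℕ) : (0 : MvPolynomial κ A).modMonomial s = 0 := by
  ext m
  by_cases h : s ≤ m
  · rw [coeff_modMonomial_of_le _ h, coeff_zero]
  · rw [coeff_modMonomial_of_not_le _ h]

/-- relations among the variables are trivial -/
theorem Q_X_le_F0 : Q (X : κ → MvPolynomial κ A) ≤ F0 (X : κ → MvPolynomial κ A) := by
  classical
  have key : ∀ (s : Finset κ) (g : κ →₀ MvPolynomial κ A), g.support ⊆ s →
      g ∈ Q (X : κ → MvPolynomial κ A) → g ∈ F0 (X : κ → MvPolynomial κ A) := by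
    intro s
    induction s using Finset.induction_on with
    | empty =>
      intro g hg _
      have : g = 0 := by rwa [Finset.subset_empty, Finsupp.support_eq_empty] at hg
      rw [this]
      exact zero_mem _
    | insert k₀ s' hk₀ ih =>
      intro g hg hgQ
      set d : κ →₀ ℕ := Finsupp.single k₀ 1 with hd
      let q : κ →₀ MvPolynomial κ A :=
        Finsupp.mapRange (fun p => p.divMonomial d) (zero_divMonomial d) g
      let u : κ →₀ MvPolynomial κ A :=
        Finsupp.mapRange (fun p => p.modMonomial d) (zero_modMonomial d) g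
      have hg_eq : g = (X k₀ : MvPolynomial κ A) • q + u := by
        ext k : 1
        simp only [Finsupp.add_apply, Finsupp.smul_apply, smul_eq_mul, q, u,
          Finsupp.mapRange_apply]
        exact (divMonomial_add_modMonomial_single (g k) k₀).symm
      let e₀ : κ →₀ MvPolynomial κ A := Finsupp.single k₀ 1
      have he₀ : jm (X : κ → MvPolynomial κ A) e₀ = X k₀ := by
        rw [jm_single, one_mul]
      have ht : (X k₀ : MvPolynomial κ A) • q - jm (X : κ → MvPolynomial κ A) q • e₀ ∈
          F0 (X : κ → MvPolynomial κ A) := by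
        have := gen_mem_F0 (X : κ → MvPolynomial κ A) e₀ q
        rwa [he₀] at this
      set W : MvPolynomial κ A := jm (X : κ → MvPolynomial κ A) q + u k₀ with hW
      set u' : κ →₀ MvPolynomial κ A := u.erase k₀ with hu'
      have hu_eq : u = u k₀ • e₀ + u' := by
        rw [hu', Finsupp.smul_single, smul_eq_mul, mul_one, Finsupp.single_add_erase]
      -- g = t + (W • e₀ + u')
      have hg2 : g = ((X k₀ : MvPolynomial κ A) • q - jm (X : κ → MvPolynomial κ A) q • e₀) +
          (W • e₀ + u') := by
        rw [hW, add_smul]
        conv_lhs => rw [hg_eq, hu_eq]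
        abel
      have hQ2 : W • e₀ + u' ∈ Q (X : κ → MvPolynomial κ A) := by
        have h1 : W • e₀ + u' = g - ((X k₀ : MvPolynomial κ A) • q -
            jm (X : κ → MvPolynomial κ A) q • e₀) := by
          conv_rhs => rw [hg2]
          abel
        rw [h1]
        exact sub_mem hgQ (F0_le_Q _ ht)
      have hrel0 : W * X k₀ + jm (X : κ → MvPolynomial κ A) u' = 0 := by
        have := (mem_Q _).1 hQ2
        rwa [map_add, map_smul, he₀, smul_eq_mul] at this
      -- coefficients of jm u'
      have hcoef1 : ∀ m : κ →₀ ℕ, d ≤ m → coeff m (jm (X : κ → MvPolynomial κ A) u') = 0 := by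
        intro m hm
        rw [jm, Finsupp.linearCombination_apply, Finsupp.sum, coeff_sum]
        refine Finset.sum_eq_zero fun k hk => ?_
        have hkk : k ≠ k₀ := by
          intro h
          rw [h, hu', Finsupp.mem_support_iff, Finsupp.erase_same] at hk
          exact hk rfl
        rw [smul_eq_mul, coeff_mul_X']
        split_ifs with hks
        · have huk : u' k = (g k).modMonomial d := by
            rw [hu', Finsupp.erase_ne hkk]
            exact Finsupp.mapRange_apply
          rw [huk]
          apply coeff_modMonomial_of_le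
          rw [hd, Finsupp.single_le_iff] at hm ⊢
          have h0 : (Finsupp.single k 1 : κ →₀ ℕ) k₀ = 0 := by
            simp [Finsupp.single_apply, hkk]
          rw [Finsupp.tsub_apply, h0, tsub_zero]
          exact hm
        · rfl
      have hcoef2 : ∀ m : κ →₀ ℕ, ¬ d ≤ m → coeff m (W * X k₀) = 0 := by
        intro m hm
        rw [coeff_mul_X']
        split_ifs with hks
        · exfalso
          apply hm
          rw [hd, Finsupp.single_le_iff]
          exact Nat.one_le_iff_ne_zero.mpr (Finsupp.mem_support_iff.1 hks)
        · rfl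
      have hju' : jm (X : κ → MvPolynomial κ A) u' = 0 := by
        ext m
        rw [coeff_zero]
        by_cases hm : d ≤ m
        · exact hcoef1 m hm
        · have h1 := congrArg (coeff m) hrel0
          rw [coeff_add, hcoef2 m hm, zero_add, coeff_zero] at h1
          exact h1
      have hW0 : W = 0 := by
        rw [hju', add_zero] at hrel0
        ext m
        rw [coeff_zero, ← coeff_mul_X m k₀ W, hrel0, coeff_zero]
      have hu'F : u' ∈ F0 (X : κ → MvPolynomial κ A) := by
        apply ih u'
        · intro k hk
          have hkk : k ≠ k₀ := by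
            intro h
            rw [h, hu', Finsupp.mem_support_iff, Finsupp.erase_same] at hk
            exact hk rfl
          have hku : k ∈ u.support := by
            rw [hu', Finsupp.support_erase] at hk
            exact Finset.mem_of_mem_erase hk
          have hkg : k ∈ g.support := Finsupp.support_mapRange hku
          rcases Finset.mem_insert.1 (hg hkg) with h | h
          · exact absurd h hkk
          · exact h
        · exact hju'
      rw [hg2, hW0, zero_smul, zero_add]
      exact add_mem ht hu'F
  intro g hg
  exact key g.support g subset_rfl hg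

variable (a : κ → A)

/-- relations among the `X k - C (a k)` are trivial -/
theorem Q_X_sub_C_le_F0 :
    Q (fun k => (X k - C (a k) : MvPolynomial κ A)) ≤ F0 (fun k => (X k - C (a k) : MvPolynomial κ A)) := by
  let τ : MvPolynomial κ A →ₐ[A] MvPolynomial κ A := aeval (fun k => X k + C (a k))
  let τ' : MvPolynomial κ A →ₐ[A] MvPolynomial κ A := aeval (fun k => X k - C (a k))
  have hτ : ∀ k, τ (X k - C (a k)) = X k := by
    intro k
    rw [map_sub, aeval_X, ← algebraMap_eq, AlgHom.commutes, algebraMap_eq, add_sub_cancel_right]
  have hτ' : ∀ k, τ' (X k) = X k - C (a k) := fun k => aeval_X _ k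
  have hcomp : ∀ p, τ' (τ p) = p := by
    have : τ'.comp τ = AlgHom.id A _ := by
      apply MvPolynomial.algHom_ext
      intro k
      rw [AlgHom.comp_apply, aeval_X, map_add, hτ', ← algebraMap_eq, AlgHom.commutes,
        AlgHom.id_apply, sub_add_cancel]
    intro p
    exact congrArg (fun f => f p) this
  intro g hg
  have h1 : mr (τ : MvPolynomial κ A →+* MvPolynomial κ A) g ∈ F0 (X : κ → MvPolynomial κ A) :=
    Q_X_le_F0 (mr_mem_Q (τ : MvPolynomial κ A →+* MvPolynomial κ A) _ _ hτ hg)
  have h2 := mr_mem_F0 (τ' : MvPolynomial κ A →+* MvPolynomial κ A) (X : κ → MvPolynomial κ A)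
    (fun k => (X k - C (a k) : MvPolynomial κ A)) hτ' h1
  have h3 : mr (τ' : MvPolynomial κ A →+* MvPolynomial κ A)
      (mr (τ : MvPolynomial κ A →+* MvPolynomial κ A) g) = g := by
    ext k : 1
    rw [mr_apply, mr_apply]
    exact hcomp (g k)
  rwa [h3] at h2

lemma sub_C_aeval_mem (p : MvPolynomial κ A) :
    p - C (aeval a p) ∈ Ideal.span (Set.range fun k => (X k - C (a k) : MvPolynomial κ A)) := by
  induction p using MvPolynomial.induction_on with
  | C c =>
    rw [aeval_C, Algebra.algebraMap_self_apply, sub_self]
    exact zero_mem _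
  | add p q hp hq =>
    have : p + q - C (aeval a (p + q)) = (p - C (aeval a p)) + (q - C (aeval a q)) := by
      rw [map_add, map_add]; ring
    rw [this]
    exact add_mem hp hq
  | mul_X p k hp =>
    have : p * X k - C (aeval a (p * X k)) =
        (p - C (aeval a p)) * X k + C (aeval a p) * (X k - C (a k)) := by
      rw [map_mul, aeval_X, map_mul]; ring
    rw [this]
    exact add_mem (Ideal.mul_mem_right _ _ hp)
      (Ideal.mul_mem_left _ _ (Ideal.subset_span ⟨k, rfl⟩))

end KH0

/-! ## Weakly regular sequences -/

section WReg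

variable {A : Type u} [CommRing A] {n : ℕ} (r : Fin n → A)

theorem Q_le_F0_of_wreg (hreg : RingTheory.Sequence.IsWeaklyRegular A (List.ofFn r)) :
    Q r ≤ F0 r := by
  intro x hx
  have h1 : CInt.KoszulH1Zero r A := KoszulH1.wreg_H1 n r hreg
  have hx' : ∑ i, r i • (x i) = 0 := by
    have := (mem_Q r).1 hx
    rw [jm, Finsupp.linearCombination_apply,
      Finsupp.sum_fintype x (fun i a => a • r i) (fun i => zero_smul A (r i))] at this
    rw [← this]
    refine Finset.sum_congr rfl fun i _ => ?_
    rw [smul_eq_mul, smul_eq_mul, mul_comm]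
  have h2 := h1 (fun i => x i) hx'
  -- transport along the linear equivalence with functions
  let E : (Fin n → A) ≃ₗ[A] (Fin n →₀ A) := (Finsupp.linearEquivFunOnFinite A A (Fin n)).symm
  have hE : ∀ (i : Fin n) (c : A), E (Pi.single i c) = Finsupp.single i c := by
    intro i c
    apply (Finsupp.linearEquivFunOnFinite A A (Fin n)).injective
    rw [LinearEquiv.apply_symm_apply, Finsupp.linearEquivFunOnFinite_single]
  have h3 : Submodule.span A {v : Fin n → A | ∃ (i j : Fin n) (c : A),
      v = r j • (Pi.single i c : Fin n → A) - r i • (Pi.single j c : Fin n → A)} ≤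
      (F0 r).comap E.toLinearMap := by
    rw [Submodule.span_le]
    rintro _ ⟨i, j, c, rfl⟩
    rw [SetLike.mem_coe, Submodule.mem_comap, LinearEquiv.coe_coe, map_sub, map_smul, map_smul,
      hE, hE]
    have := gen_mem_F0 r (Finsupp.single j 1) (Finsupp.single i c)
    rw [jm_single, jm_single, one_mul, Finsupp.smul_single, Finsupp.smul_single, smul_eq_mul,
      smul_eq_mul, mul_one] at this
    rw [Finsupp.smul_single, Finsupp.smul_single, smul_eq_mul, smul_eq_mul]
    convert this using 3
    ring
  have h4 := h3 h2
  rw [Submodule.mem_comap, LinearEquiv.coe_coe] at h4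
  have h5 : E (fun i => x i) = x := by
    apply (Finsupp.linearEquivFunOnFinite A A (Fin n)).injective
    rw [LinearEquiv.apply_symm_apply]
    rfl
  rwa [h5] at h4

end WReg

end Groth.Agent.Helper1.AT

end
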