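import Mathlib
import Groth.Agent.Helper1.AT2

/-!
# `T²` of a quotient by a regular sequence vanishes (helper1)
-/

open TensorProduct MvPolynomial

noncomputable section

namespace Groth.Agent.Helper1.AT

universe u v w w' m

section Nice

variable {A : Type u} [CommRing A] {κ : Type w} {n : ℕ} (r : Fin n → A)

/-- the "nice" generating family `C (r i)`, `X k - C (a k)`. -/
def niceRel (a : κ → A) : Fin n ⊕ κ → MvPolynomial κ A :=
  Sum.elim (fun i => C (r i)) (fun k => X k - C (a k))

theorem nice_Q_le_F0 (hreg : RingTheory.Sequence.IsWeaklyRegular A (List.ofFn r)) (a : κ → A) :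
    Q (niceRel r a) ≤ F0 (niceRel r a) := by
  classical
  let relL : Fin n → MvPolynomial κ A := fun i => C (r i)
  let y : κ → MvPolynomial κ A := fun k => X k - C (a k)
  let inL : (Fin n →₀ MvPolynomial κ A) →ₗ[MvPolynomial κ A] (Fin n ⊕ κ →₀ MvPolynomial κ A) :=
    Finsupp.lmapDomain (MvPolynomial κ A) (MvPolynomial κ A) Sum.inl
  let inR : (κ →₀ MvPolynomial κ A) →ₗ[MvPolynomial κ A] (Fin n ⊕ κ →₀ MvPolynomial κ A) :=
    Finsupp.lmapDomain (MvPolynomial κ A) (MvPolynomial κ A) Sum.inr
  have hjL : ∀ x, jm (niceRel r a) (inL x) = jm relL x := by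
    intro x
    show Finsupp.linearCombination (MvPolynomial κ A) (niceRel r a) (Finsupp.mapDomain Sum.inl x) = _
    rw [Finsupp.linearCombination_mapDomain]
    rfl
  have hjR : ∀ x, jm (niceRel r a) (inR x) = jm y x := by
    intro x
    show Finsupp.linearCombination (MvPolynomial κ A) (niceRel r a) (Finsupp.mapDomain Sum.inr x) = _
    rw [Finsupp.linearCombination_mapDomain]
    rfl
  have hdec : ∀ x : Fin n ⊕ κ →₀ MvPolynomial κ A, ∃ h g, x = inL h + inR g := by
    intro x
    induction x using Finsupp.induction_linear with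
    | zero => exact ⟨0, 0, by rw [map_zero, map_zero, add_zero]⟩
    | add f g hf hg =>
      obtain ⟨h1, g1, rfl⟩ := hf
      obtain ⟨h2, g2, rfl⟩ := hg
      exact ⟨h1 + h2, g1 + g2, by rw [map_add, map_add]; abel⟩
    | single s c =>
      rcases s with i | k
      · refine ⟨Finsupp.single i c, 0, ?_⟩
        rw [map_zero, add_zero]
        exact (Finsupp.mapDomain_single).symm
      · refine ⟨0, Finsupp.single k c, ?_⟩
        rw [map_zero, zero_add]
        exact (Finsupp.mapDomain_single).symm
  let π : MvPolynomial κ A →+* A := (aeval a : MvPolynomial κ A →ₐ[A] A)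
  have hπC : ∀ c : A, π (C c) = c := by
    intro c
    show aeval a (C c) = c
    rw [aeval_C]
    rfl
  have hπL : ∀ i, π (relL i) = r i := fun i => hπC (r i)
  have hπy : ∀ k, π (y k) = (fun _ : κ => (0 : A)) k := fun k => by
    show aeval a (X k - C (a k)) = 0
    rw [map_sub, aeval_X]
    have : aeval a (C (a k)) = a k := hπC (a k)
    rw [this, sub_self]
  have hCL : ∀ i, (C : A →+* MvPolynomial κ A) (r i) = relL i := fun i => rfl
  intro x hx
  obtain ⟨h, g, rfl⟩ := hdec x
  -- Step 1
  have hrel0 : jm relL h + jm y g = 0 := by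
    have := (mem_Q (niceRel r a)).1 hx
    rwa [map_add, hjL, hjR] at this
  have hπg : π (jm y g) = 0 := by
    rw [← jm_mr π y (fun _ => (0 : A)) hπy g]
    have : jm (fun _ : κ => (0 : A)) = 0 := by
      apply Finsupp.lhom_ext'
      intro k
      apply LinearMap.ext_ring
      simp
    rw [this, LinearMap.zero_apply]
  have hA : mr π h ∈ Q r := by
    rw [mem_Q, jm_mr π relL r hπL]
    have := congrArg π hrel0
    rw [map_add, hπg, add_zero, map_zero] at this
    exact this
  have hAF := Q_le_F0_of_wreg r hreg hA
  have hCF : mr (C : A →+* MvPolynomial κ A) (mr π h) ∈ F0 relL :=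
    mr_mem_F0 C r relL hCL hAF
  set hC := mr (C : A →+* MvPolynomial κ A) (mr π h) with hhC
  have hCi : ∀ i, hC i = C (aeval a (h i)) := by
    intro i
    rw [hhC, mr_apply, mr_apply]
    rfl
  have ht : inL hC ∈ F0 (niceRel r a) := Φ_mem_F0 relL (niceRel r a) inL hjL hCF
  -- Step 2
  have hmem : ∀ i, ∃ c : κ →₀ MvPolynomial κ A, jm y c = h i - hC i := by
    intro i
    have h1 : h i - hC i ∈ Ideal.span (Set.range y) := by
      rw [hCi]
      exact sub_C_aeval_mem a (h i)
    have h2 : h i - hC i ∈ LinearMap.range (Finsupp.linearCombination (MvPolynomial κ A) y) := by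
      rw [Finsupp.range_linearCombination]
      exact h1
    exact h2
  choose c hc using hmem
  have hstep2 : inL (h - hC) - inR (∑ i, relL i • c i) ∈ F0 (niceRel r a) := by
    have h1 : h - hC = ∑ i, Finsupp.single i ((h - hC) i) := (Finsupp.univ_sum_single _).symm
    rw [h1, map_sum, map_sum, ← Finset.sum_sub_distrib]
    refine Submodule.sum_mem _ fun i _ => ?_
    have h2 : inL (Finsupp.single i ((h - hC) i)) =
        jm (niceRel r a) (inR (c i)) • Finsupp.single (Sum.inl i) (1 : MvPolynomial κ A) := by
      rw [hjR, hc, Finsupp.smul_single, smul_eq_mul, mul_one]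
      show Finsupp.mapDomain Sum.inl (Finsupp.single i ((h - hC) i)) = _
      rw [Finsupp.mapDomain_single]
      rfl
    have h3 : inR (relL i • c i) =
        jm (niceRel r a) (Finsupp.single (Sum.inl i) (1 : MvPolynomial κ A)) • inR (c i) := by
      rw [map_smul, jm_single, one_mul]
      rfl
    rw [h2, h3]
    exact gen_mem_F0 (niceRel r a) _ _
  set g' := g + ∑ i, relL i • c i with hg'
  have hxg : inL h + inR g - inR g' ∈ F0 (niceRel r a) := by
    have : inL h + inR g - inR g' = inL hC + (inL (h - hC) - inR (∑ i, relL i • c i)) := by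
      rw [hg', map_add, map_sub]
      abel
    rw [this]
    exact add_mem ht hstep2
  -- Step 3
  have hg'Q : g' ∈ Q y := by
    rw [mem_Q, ← hjR]
    have h1 : inR g' = (inL h + inR g) - (inL h + inR g - inR g') := by abel
    have h2 : inR g' ∈ Q (niceRel r a) := by
      rw [h1]
      exact sub_mem hx (F0_le_Q _ hxg)
    exact h2
  have hg'F : inR g' ∈ F0 (niceRel r a) :=
    Φ_mem_F0 y (niceRel r a) inR hjR (Q_X_sub_C_le_F0 a hg'Q)
  have : inL h + inR g = (inL h + inR g - inR g') + inR g' := by abel
  rw [this]
  exact add_mem hxg hg'F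

end Nice

section Vanish

variable {A : Type u} [CommRing A] {B : Type v} [CommRing B] [Algebra A B] {κ : Type w}
  [Algebra (MvPolynomial κ A) B] (val : κ → B)
  (halg : ∀ x : MvPolynomial κ A, algebraMap (MvPolynomial κ A) B x = aeval val x)
  (hs : Function.Surjective (algebraMap A B))
  {n : ℕ} (r : Fin n → A) (hreg : RingTheory.Sequence.IsWeaklyRegular A (List.ofFn r))
  (hI : RingHom.ker (algebraMap A B) = Ideal.span (Set.range r))

include halg hs hreg hI in
theorem T2_vanish_of_regular {σ : Type w'} (rel : σ → MvPolynomial κ A)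
    (hrel : ∀ s, algebraMap (MvPolynomial κ A) B (rel s) = 0)
    (hspan : Ideal.span (Set.range rel) = RingHom.ker (algebraMap (MvPolynomial κ A) B))
    (M : Type m) [AddCommGroup M] [Module B M] : Subsingleton (T2 B rel hrel M) := by
  choose a ha using fun k => hs (val k)
  have hπ : ∀ x : MvPolynomial κ A, algebraMap A B (aeval a x) = aeval val x := by
    intro x
    induction x using MvPolynomial.induction_on with
    | C c =>
      rw [aeval_C, aeval_C]
      rfl
    | add p q hp hq => rw [map_add, map_add, hp, hq, map_add]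
    | mul_X p k hp =>
      rw [map_mul (aeval a), aeval_X, map_mul (algebraMap A B), hp, ha, map_mul (aeval val), aeval_X]
  have hrel₂ : ∀ s, algebraMap (MvPolynomial κ A) B (niceRel r a s) = 0 := by
    rintro (i | k)
    · show algebraMap _ B (C (r i)) = 0
      rw [halg, aeval_C]
      have : r i ∈ RingHom.ker (algebraMap A B) := by
        rw [hI]
        exact Ideal.subset_span ⟨i, rfl⟩
      exact this
    · show algebraMap _ B (X k - C (a k)) = 0
      rw [halg, map_sub, aeval_X, aeval_C, ha, sub_self]
  have hspan₂ : Ideal.span (Set.range (niceRel r a)) =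
      RingHom.ker (algebraMap (MvPolynomial κ A) B) := by
    apply le_antisymm
    · rw [Ideal.span_le]
      rintro _ ⟨s, rfl⟩
      exact hrel₂ s
    · intro x hx
      have h1 : x - C (aeval a x) ∈ Ideal.span (Set.range (niceRel r a)) := by
        refine Ideal.span_mono ?_ (sub_C_aeval_mem a x)
        rintro _ ⟨k, rfl⟩
        exact ⟨Sum.inr k, rfl⟩
      have h2 : aeval a x ∈ Ideal.span (Set.range r) := by
        rw [← hI, RingHom.mem_ker, hπ, ← halg]
        exact hx
      have h3 : C (aeval a x) ∈ Ideal.span (Set.range (niceRel r a)) := by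
        have : C (aeval a x) ∈
            Ideal.map (C : A →+* MvPolynomial κ A) (Ideal.span (Set.range r)) :=
          Ideal.mem_map_of_mem _ h2
        rw [Ideal.map_span] at this
        refine Ideal.span_mono ?_ this
        rintro _ ⟨_, ⟨i, rfl⟩, rfl⟩
        exact ⟨Sum.inl i, rfl⟩
      have : x = (x - C (aeval a x)) + C (aeval a x) := by ring
      rw [this]
      exact add_mem h1 h3
  obtain ⟨e⟩ := T2_equiv B rel (niceRel r a) hrel hrel₂ (hspan.trans hspan₂.symm) M
  haveI := T2_subsingleton (B := B) (rel := niceRel r a) hrel₂ (nice_Q_le_F0 r hreg a) M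
  exact e.toEquiv.subsingleton

end Vanish


end Groth.Agent.Helper1.AT

end
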