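import Mathlib
import Groth.Agent.Helper1.AT3

/-!
# `T²` of a quotient by a regular sequence vanishes, for presentations (helper1)
-/

open TensorProduct MvPolynomial

noncomputable section

namespace Groth.Agent.Helper1.AT

universe u v w w' m

section Pres

variable {A : Type u} [CommRing A] {B : Type v} [CommRing B] [Algebra A B] {ι : Type w} {σ : Type w'}

set_option maxHeartbeats 400000 in
theorem pres_T2_subsingleton (P : Algebra.Presentation A B ι σ)
    (hs : Function.Surjective (algebraMap A B))
    {n : ℕ} (r : Fin n → A) (hreg : RingTheory.Sequence.IsWeaklyRegular A (List.ofFn r))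
    (hI : RingHom.ker (algebraMap A B) = Ideal.span (Set.range r))
    (M : Type m) [AddCommGroup M] [Module B M] :
    Subsingleton (CotT.T2 P M) := by
  letI inst : Algebra (MvPolynomial ι A) B := inferInstanceAs (Algebra P.toExtension.Ring B)
  have halg : ∀ x : MvPolynomial ι A, algebraMap (MvPolynomial ι A) B x = aeval P.val x :=
    fun x => P.algebraMap_apply x
  have key := T2_vanish_of_regular (A := A) (B := B) (κ := ι) P.val halg hs r hreg hI
    (σ := σ) (CotT.rel P) (CotT.algebraMap_rel P) P.span_range_relation_eq_ker M
  exact key

end Pres

section Canon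

theorem canon_T2_subsingleton (A B : Type u) [CommRing A] [CommRing B] [Algebra A B]
    (hs : Function.Surjective (algebraMap A B)) (rs : List A)
    (hreg : RingTheory.Sequence.IsWeaklyRegular A rs)
    (hI : RingHom.ker (algebraMap A B) = Ideal.ofList rs)
    (M : Type m) [AddCommGroup M] [Module B M] :
    Subsingleton (CotT.T2 (CotT.canon A B) M) := by
  have hr : List.ofFn (fun i : Fin rs.length => rs.get i) = rs := List.ofFn_get rs
  refine pres_T2_subsingleton (CotT.canon A B) hs (fun i : Fin rs.length => rs.get i)
    (by rw [hr]; exact hreg) ?_ M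
  rw [hI, Ideal.ofList, Set.range_list_get]

end Canon

end Groth.Agent.Helper1.AT

end
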