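import Mathlib
import Groth.Agent.Helper1.AT3

/-!
# Ring change for the abstract `T²` (helper1)
-/

open TensorProduct MvPolynomial

noncomputable section

namespace Groth.Agent.Helper1.AT

universe u u' v w w' w'' m n n'

section TMap

variable {R : Type u} {S : Type u'} [CommRing R] [CommRing S] {B : Type v} [CommRing B]
  [Algebra R B] [Algebra S B]
  (τ : R →+* S) (hτ : ∀ r, algebraMap S B (τ r) = algebraMap R B r)
  {N : Type n} {N' : Type n'} [AddCommMonoid N] [Module R N] [AddCommMonoid N'] [Module S N']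
  (g : N →ₛₗ[τ] N')

/-- additive form of `tmap`. -/
def tmapAdd : B ⊗[R] N →+ B ⊗[S] N' :=
  TensorProduct.liftAddHom
    { toFun := fun b =>
        { toFun := fun x => b ⊗ₜ[S] g x
          map_zero' := by rw [map_zero, TensorProduct.tmul_zero]
          map_add' := fun x y => by rw [map_add, TensorProduct.tmul_add] }
      map_zero' := AddMonoidHom.ext fun x => by
        change (0 : B) ⊗ₜ[S] g x = 0
        rw [TensorProduct.zero_tmul]
      map_add' := fun b b' => AddMonoidHom.ext fun x => by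
        change (b + b') ⊗ₜ[S] g x = b ⊗ₜ[S] g x + b' ⊗ₜ[S] g x
        rw [TensorProduct.add_tmul] }
    (fun r b x => by
      change (r • b) ⊗ₜ[S] g x = b ⊗ₜ[S] g (r • x)
      rw [LinearMap.map_smulₛₗ, ← TensorProduct.smul_tmul, Algebra.smul_def r b,
        Algebra.smul_def (τ r), hτ])

lemma tmapAdd_tmul (b : B) (x : N) : tmapAdd τ hτ g (b ⊗ₜ x) = b ⊗ₜ g x := rfl

/-- `b ⊗ x ↦ b ⊗ g x` for a `τ`-semilinear `g`. -/
def tmap : B ⊗[R] N →ₗ[B] B ⊗[S] N' where
  toFun := tmapAdd τ hτ g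
  map_add' x y := map_add _ x y
  map_smul' b z := by
    induction z using TensorProduct.induction_on with
    | zero => rw [smul_zero, map_zero, smul_zero]
    | add x y hx hy => rw [smul_add, map_add, hx, hy, map_add, smul_add]
    | tmul c x =>
      rw [TensorProduct.smul_tmul', smul_eq_mul, tmapAdd_tmul, tmapAdd_tmul, RingHom.id_apply,
        TensorProduct.smul_tmul', smul_eq_mul]

@[simp] lemma tmap_tmul (b : B) (x : N) : tmap τ hτ g (b ⊗ₜ x) = b ⊗ₜ g x := rfl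

end TMap

section RingChange

variable {R : Type u} {S : Type u'} [CommRing R] [CommRing S] (B : Type v) [CommRing B]
  [Algebra R B] [Algebra S B]
  (τ : R →+* S) (hτ : ∀ r, algebraMap S B (τ r) = algebraMap R B r)
  {σ : Type w} {σ₂ : Type w'} (rel : σ → R) (rel₂ : σ₂ → S)
  (Φ : (σ →₀ R) →ₛₗ[τ] (σ₂ →₀ S)) (hΦ : ∀ x, jm rel₂ (Φ x) = τ (jm rel x))

/-- restriction to relation modules -/
def mapQs : Q rel →ₛₗ[τ] Q rel₂ where
  toFun q := ⟨Φ q, by
    show jm rel₂ (Φ q) = 0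
    rw [hΦ, (mem_Q rel).1 q.2, map_zero]⟩
  map_add' x y := Subtype.ext (map_add Φ (x : σ →₀ R) (y : σ →₀ R))
  map_smul' c x := Subtype.ext (Φ.map_smulₛₗ c (x : σ →₀ R))

@[simp] lemma mapQs_coe (q : Q rel) : ((mapQs τ rel rel₂ Φ hΦ q : Q rel₂) : σ₂ →₀ S) = Φ q := rfl

include hΦ in
lemma Φs_mem_F0 {y : σ →₀ R} (hy : y ∈ F0 rel) : Φ y ∈ F0 rel₂ := by
  induction hy using Submodule.span_induction with
  | mem x hx =>
    obtain ⟨a, b, rfl⟩ := hx
    rw [map_sub, Φ.map_smulₛₗ, Φ.map_smulₛₗ, ← hΦ, ← hΦ]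
    exact gen_mem_F0 rel₂ _ _
  | zero => rw [map_zero]; exact zero_mem _
  | add x y _ _ hx hy => rw [map_add]; exact add_mem hx hy
  | smul r x _ hx => rw [Φ.map_smulₛₗ]; exact Submodule.smul_mem _ _ hx

/-- induced map on `L₂` along a ring change. -/
def L2maps : L2 B rel →ₗ[B] L2 B rel₂ :=
  Submodule.mapQ _ _ (tmap τ hτ (mapQs τ rel rel₂ Φ hΦ)) (by
    rintro _ ⟨z, rfl⟩
    rw [Submodule.mem_comap]
    induction z using TensorProduct.induction_on with
    | zero => simp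
    | add x y hx hy => rw [map_add, map_add]; exact add_mem hx hy
    | tmul b k =>
      rw [LinearMap.baseChange_tmul, tmap_tmul]
      refine ⟨b ⊗ₜ ⟨mapQs τ rel rel₂ Φ hΦ (k : Q rel), ?_⟩, ?_⟩
      · show ((mapQs τ rel rel₂ Φ hΦ (k : Q rel) : Q rel₂) : σ₂ →₀ S) ∈ F0 rel₂
        exact Φs_mem_F0 τ rel rel₂ Φ hΦ k.2
      · rw [LinearMap.baseChange_tmul]; rfl)

@[simp] lemma L2maps_mk (b : B) (q : Q rel) :
    L2maps B τ hτ rel rel₂ Φ hΦ (Submodule.Quotient.mk (b ⊗ₜ[R] q)) =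
      Submodule.Quotient.mk (b ⊗ₜ[S] mapQs τ rel rel₂ Φ hΦ q) := rfl

variable (hrel : ∀ s, algebraMap R B (rel s) = 0) (hrel₂ : ∀ s, algebraMap S B (rel₂ s) = 0)

lemma d2_comp_L2maps :
    d2 B rel₂ hrel₂ ∘ₗ L2maps B τ hτ rel rel₂ Φ hΦ = tmap τ hτ Φ ∘ₗ d2 B rel hrel := by
  apply ext_L2
  intro b q
  simp only [LinearMap.comp_apply, L2maps_mk, d2_mk, tmap_tmul, mapQs_coe]

end RingChange

section EquivOfMaps

variable {R : Type u} {S : Type u'} [CommRing R] [CommRing S] (B : Type v) [CommRing B]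
  [Algebra R B] [Algebra S B]
  {σ : Type w} {σ₂ : Type w'} (rel : σ → R) (rel₂ : σ₂ → S)
  (hrel : ∀ s, algebraMap R B (rel s) = 0) (hrel₂ : ∀ s, algebraMap S B (rel₂ s) = 0)

theorem T2_equiv_of_maps
    (a : L2 B rel →ₗ[B] L2 B rel₂) (a' : L2 B rel₂ →ₗ[B] L2 B rel)
    (b : L1 R B σ →ₗ[B] L1 S B σ₂) (b' : L1 S B σ₂ →ₗ[B] L1 R B σ)
    (hab : d2 B rel₂ hrel₂ ∘ₗ a = b ∘ₗ d2 B rel hrel)
    (hab' : d2 B rel hrel ∘ₗ a' = b' ∘ₗ d2 B rel₂ hrel₂)
    (h1 : a' ∘ₗ a = LinearMap.id) (h2 : a ∘ₗ a' = LinearMap.id)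
    (M : Type m) [AddCommGroup M] [Module B M] :
    Nonempty (T2 B rel hrel M ≃ₗ[B] T2 B rel₂ hrel₂ M) := by
  let f : T2 B rel₂ hrel₂ M →ₗ[B] T2 B rel hrel M :=
    Submodule.mapQ _ _ (LinearMap.lcomp B M a) (by
      rintro _ ⟨ξ, rfl⟩
      refine ⟨ξ ∘ₗ b, ?_⟩
      show (ξ ∘ₗ b) ∘ₗ d2 B rel hrel = (ξ ∘ₗ d2 B rel₂ hrel₂) ∘ₗ a
      rw [LinearMap.comp_assoc, LinearMap.comp_assoc, hab])
  let f' : T2 B rel hrel M →ₗ[B] T2 B rel₂ hrel₂ M :=
    Submodule.mapQ _ _ (LinearMap.lcomp B M a') (by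
      rintro _ ⟨ξ, rfl⟩
      refine ⟨ξ ∘ₗ b', ?_⟩
      show (ξ ∘ₗ b') ∘ₗ d2 B rel₂ hrel₂ = (ξ ∘ₗ d2 B rel hrel) ∘ₗ a'
      rw [LinearMap.comp_assoc, LinearMap.comp_assoc, hab'])
  refine ⟨LinearEquiv.ofLinearMap f' f ?_ ?_⟩
  · apply LinearMap.ext
    intro x
    induction x using Submodule.Quotient.induction_on with
    | H χ =>
      show Submodule.Quotient.mk ((χ ∘ₗ a) ∘ₗ a') = Submodule.Quotient.mk χ
      rw [LinearMap.comp_assoc, h2, LinearMap.comp_id]
  · apply LinearMap.ext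
    intro x
    induction x using Submodule.Quotient.induction_on with
    | H χ =>
      show Submodule.Quotient.mk ((χ ∘ₗ a') ∘ₗ a) = Submodule.Quotient.mk χ
      rw [LinearMap.comp_assoc, h1, LinearMap.comp_id]

end EquivOfMaps

section MrL

variable {R : Type u} {S : Type u'} [CommRing R] [CommRing S] {σ : Type w}

/-- coordinatewise application of a ring hom, as a semilinear map -/
def mrL (φ : R →+* S) : (σ →₀ R) →ₛₗ[φ] (σ →₀ S) where
  toFun := mr φ
  map_add' := mr_add φ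
  map_smul' := mr_smul φ

@[simp] lemma mrL_apply (φ : R →+* S) (x : σ →₀ R) : mrL φ x = mr φ x := rfl

end MrL

section Iso

variable {R : Type u} {S : Type u'} [CommRing R] [CommRing S] (B : Type v) [CommRing B]
  [Algebra R B] [Algebra S B]
  (e : R ≃+* S) (he : ∀ r, algebraMap S B (e r) = algebraMap R B r)
  {σ : Type w} (rel : σ → R) (hrel : ∀ s, algebraMap R B (rel s) = 0)

include he in
/-- transport of `T²` along a ring isomorphism over `B`. -/
theorem T2_iso (hrel₂ : ∀ s, algebraMap S B (e (rel s)) = 0)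
    (M : Type m) [AddCommGroup M] [Module B M] :
    Nonempty (T2 B rel hrel M ≃ₗ[B] T2 B (fun s => e (rel s)) hrel₂ M) := by
  have he' : ∀ p, algebraMap R B ((e.symm : S →+* R) p) = algebraMap S B p := by
    intro p
    rw [← he, RingEquiv.coe_toRingHom, e.apply_symm_apply]
  have he1 : ∀ r, algebraMap S B ((e : R →+* S) r) = algebraMap R B r := he
  have hj : ∀ x, jm (fun s => e (rel s)) (mrL (e : R →+* S) x) = (e : R →+* S) (jm rel x) :=
    fun x => jm_mr (e : R →+* S) rel (fun s => e (rel s)) (fun _ => rfl) x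
  have hj' : ∀ x, jm rel (mrL (e.symm : S →+* R) x) =
      (e.symm : S →+* R) (jm (fun s => e (rel s)) x) :=
    fun x => jm_mr (e.symm : S →+* R) (fun s => e (rel s)) rel
      (fun s => e.symm_apply_apply (rel s)) x
  refine T2_equiv_of_maps B rel (fun s => e (rel s)) hrel hrel₂
    (L2maps B (e : R →+* S) he1 rel _ (mrL (e : R →+* S)) hj)
    (L2maps B (e.symm : S →+* R) he' _ rel (mrL (e.symm : S →+* R)) hj')
    (tmap (e : R →+* S) he1 (mrL (e : R →+* S)))
    (tmap (e.symm : S →+* R) he' (mrL (e.symm : S →+* R)))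
    (d2_comp_L2maps B _ he1 rel _ _ hj hrel hrel₂)
    (d2_comp_L2maps B _ he' _ rel _ hj' hrel₂ hrel) ?_ ?_ M
  · apply ext_L2
    intro b q
    rw [LinearMap.comp_apply, L2maps_mk, L2maps_mk, LinearMap.id_apply]
    have : mapQs (e.symm : S →+* R) _ rel (mrL (e.symm : S →+* R)) hj'
        (mapQs (e : R →+* S) rel _ (mrL (e : R →+* S)) hj q) = q := by
      apply Subtype.ext
      ext k
      simp [mr_apply]
    rw [this]
  · apply ext_L2
    intro b q
    rw [LinearMap.comp_apply, L2maps_mk, L2maps_mk, LinearMap.id_apply]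
    have : mapQs (e : R →+* S) rel _ (mrL (e : R →+* S)) hj
        (mapQs (e.symm : S →+* R) _ rel (mrL (e.symm : S →+* R)) hj' q) = q := by
      apply Subtype.ext
      ext k
      simp [mr_apply]
    rw [this]

end Iso

end Groth.Agent.Helper1.AT

end
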