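import Mathlib
import Groth.Agent.Helper1.AT5

/-!
# The retract lemma: adjoining variables does not change `T²` (helper1)
-/

open TensorProduct MvPolynomial

noncomputable section

namespace Groth.Agent.Helper1.AT

universe u u' v w w' w'' m

section SumMaps

variable (S : Type u') [CommRing S] (σ : Type w) (κ : Type w')

def inL : (σ →₀ S) →ₗ[S] (σ ⊕ κ →₀ S) := Finsupp.lmapDomain S S Sum.inl
def inR : (κ →₀ S) →ₗ[S] (σ ⊕ κ →₀ S) := Finsupp.lmapDomain S S Sum.inr
def prL : (σ ⊕ κ →₀ S) →ₗ[S] (σ →₀ S) :=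
  Finsupp.linearCombination S (Sum.elim (fun s => Finsupp.single s (1 : S)) (fun _ => 0))

variable {S σ κ}

lemma inL_single (s : σ) (c : S) :
    inL S σ κ (Finsupp.single s c) = Finsupp.single (Sum.inl s) c := Finsupp.mapDomain_single

lemma inR_single (k : κ) (c : S) :
    inR S σ κ (Finsupp.single k c) = Finsupp.single (Sum.inr k) c := Finsupp.mapDomain_single

lemma prL_single_inl (s : σ) (c : S) :
    prL S σ κ (Finsupp.single (Sum.inl s) c) = Finsupp.single s c := by
  rw [prL, Finsupp.linearCombination_single, Sum.elim_inl, Finsupp.smul_single, smul_eq_mul,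
    mul_one]

lemma prL_single_inr (k : κ) (c : S) :
    prL S σ κ (Finsupp.single (Sum.inr k) c) = 0 := by
  rw [prL, Finsupp.linearCombination_single, Sum.elim_inr, smul_zero]

lemma prL_inL (z : σ →₀ S) : prL S σ κ (inL S σ κ z) = z := by
  induction z using Finsupp.induction_linear with
  | zero => rw [map_zero, map_zero]
  | add f g hf hg => rw [map_add, map_add, hf, hg]
  | single s c => rw [inL_single, prL_single_inl]

lemma prL_inR (z : κ →₀ S) : prL S σ κ (inR S σ κ z) = 0 := by
  induction z using Finsupp.induction_linear with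
  | zero => rw [map_zero, map_zero]
  | add f g hf hg => rw [map_add, map_add, hf, hg, add_zero]
  | single s c => rw [inR_single, prL_single_inr]

lemma dec (x : σ ⊕ κ →₀ S) : ∃ h g, x = inL S σ κ h + inR S σ κ g := by
  induction x using Finsupp.induction_linear with
  | zero => exact ⟨0, 0, by rw [map_zero, map_zero, add_zero]⟩
  | add f g hf hg =>
    obtain ⟨h1, g1, rfl⟩ := hf
    obtain ⟨h2, g2, rfl⟩ := hg
    exact ⟨h1 + h2, g1 + g2, by rw [map_add, map_add]; abel⟩
  | single s c =>
    rcases s with i | k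
    · exact ⟨Finsupp.single i c, 0, by rw [map_zero, add_zero, inL_single]⟩
    · exact ⟨0, Finsupp.single k c, by rw [map_zero, zero_add, inR_single]⟩

end SumMaps

section Retract

variable {R : Type u} {S : Type u'} [CommRing R] [CommRing S] (B : Type v) [CommRing B]
  [Algebra R B] [Algebra S B]
  (i : R →+* S) (π : S →+* R) (hπi : ∀ r, π (i r) = r)
  (hi : ∀ r, algebraMap S B (i r) = algebraMap R B r)
  (hπ : ∀ p, algebraMap R B (π p) = algebraMap S B p)
  {σ : Type w} {κ : Type w'} (rel : σ → R) (y : κ → S) (hy : ∀ k, π (y k) = 0)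

/-- the enlarged family -/
def relS : σ ⊕ κ → S := Sum.elim (fun s => i (rel s)) y

lemma jm_inL (z : σ →₀ S) : jm (relS i rel y) (inL S σ κ z) = jm (fun s => i (rel s)) z := by
  show Finsupp.linearCombination S (relS i rel y) (Finsupp.mapDomain Sum.inl z) = _
  rw [Finsupp.linearCombination_mapDomain]
  rfl

lemma jm_inR (z : κ →₀ S) : jm (relS i rel y) (inR S σ κ z) = jm y z := by
  show Finsupp.linearCombination S (relS i rel y) (Finsupp.mapDomain Sum.inr z) = _
  rw [Finsupp.linearCombination_mapDomain]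
  rfl

variable (σ κ) in
/-- inclusion of the free modules, semilinear over `i` -/
def Φin : (σ →₀ R) →ₛₗ[i] (σ ⊕ κ →₀ S) where
  toFun f := inL S σ κ (mr i f)
  map_add' f g := by rw [mr_add, map_add]
  map_smul' c f := by rw [mr_smul, map_smul]

variable (σ κ) in
/-- retraction of the free modules, semilinear over `π` -/
def Φπ : (σ ⊕ κ →₀ S) →ₛₗ[π] (σ →₀ R) where
  toFun f := mr π (prL S σ κ f)
  map_add' f g := by rw [map_add, mr_add]
  map_smul' c f := by rw [map_smul, mr_smul]

lemma Φin_apply (f : σ →₀ R) : Φin i σ κ f = inL S σ κ (mr i f) := rfl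
lemma Φπ_apply (f : σ ⊕ κ →₀ S) : Φπ π σ κ f = mr π (prL S σ κ f) := rfl

lemma hΦin (x : σ →₀ R) : jm (relS i rel y) (Φin i σ κ x) = i (jm rel x) := by
  rw [Φin_apply, jm_inL]
  exact jm_mr i rel (fun s => i (rel s)) (fun _ => rfl) x

include hπi hy in
lemma hΦπ (x : σ ⊕ κ →₀ S) : jm rel (Φπ π σ κ x) = π (jm (relS i rel y) x) := by
  induction x using Finsupp.induction_linear with
  | zero => rw [map_zero, map_zero, map_zero, map_zero]
  | add f g hf hg => rw [map_add, map_add, hf, hg, map_add, map_add]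
  | single s c =>
    rcases s with s | k
    · rw [Φπ_apply, prL_single_inl, mr_single, jm_single, jm_single, map_mul]
      show π c * rel s = π c * π (i (rel s))
      rw [hπi]
    · rw [Φπ_apply, prL_single_inr, mr_zero, map_zero, jm_single, map_mul]
      show 0 = π c * π (y k)
      rw [hy, mul_zero]

include hπi in
lemma Φπ_Φin (x : σ →₀ R) : Φπ π σ κ (Φin i σ κ x) = x := by
  rw [Φπ_apply, Φin_apply, prL_inL]
  ext s
  rw [mr_apply, mr_apply, hπi]

include hi hπ hy in
lemma relS_mem (hrel : ∀ s, algebraMap R B (rel s) = 0) (s : σ ⊕ κ) :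
    algebraMap S B (relS i rel y s) = 0 := by
  rcases s with s | k
  · show algebraMap S B (i (rel s)) = 0
    rw [hi, hrel]
  · show algebraMap S B (y k) = 0
    rw [← hπ, hy, map_zero]

variable (ha : ∀ p : S, p - i (π p) ∈ Ideal.span (Set.range y)) (hb : Q y ≤ F0 y)

include hπi hy ha hb in
lemma Θ_sub_mem_F0 {x : σ ⊕ κ →₀ S} (hx : x ∈ Q (relS i rel y)) :
    Φin i σ κ (Φπ π σ κ x) - x ∈ F0 (relS i rel y) := by
  classical
  have hΘQ : Φin i σ κ (Φπ π σ κ x) ∈ Q (relS i rel y) := by
    rw [mem_Q, hΦin, hΦπ i π hπi rel y hy, (mem_Q _).1 hx, map_zero, map_zero]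
  obtain ⟨h, g, rfl⟩ := dec x
  set hC : σ →₀ S := mr i (mr π h) with hhC
  have hΘ : Φin i σ κ (Φπ π σ κ (inL S σ κ h + inR S σ κ g)) = inL S σ κ hC := by
    rw [Φin_apply, Φπ_apply, map_add, prL_inL, prL_inR, add_zero]
  set z : σ →₀ S := hC - h with hz
  have hmem : ∀ s, ∃ c : κ →₀ S, jm y c = z s := by
    intro s
    have h1 : z s ∈ Ideal.span (Set.range y) := by
      have h0 : z s = -(h s - i (π (h s))) := by
        rw [hz, Finsupp.sub_apply, hhC, mr_apply, mr_apply, neg_sub]
      rw [h0]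
      exact neg_mem (ha (h s))
    have h2 : z s ∈ LinearMap.range (Finsupp.linearCombination S y) := by
      rw [Finsupp.range_linearCombination]
      exact h1
    exact h2
  choose c hc using hmem
  let g₁ : κ →₀ S := ∑ s ∈ z.support, i (rel s) • c s
  have hstep2 : inL S σ κ z - inR S σ κ g₁ ∈ F0 (relS i rel y) := by
    have h1 : inL S σ κ z = ∑ s ∈ z.support, inL S σ κ (Finsupp.single s (z s)) := by
      conv_lhs => rw [← Finsupp.sum_single z]
      rw [Finsupp.sum, map_sum]
    rw [h1, map_sum, ← Finset.sum_sub_distrib]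
    refine Submodule.sum_mem _ fun s _ => ?_
    have h2 : inL S σ κ (Finsupp.single s (z s)) =
        jm (relS i rel y) (inR S σ κ (c s)) • Finsupp.single (Sum.inl s) (1 : S) := by
      rw [jm_inR, hc, Finsupp.smul_single, smul_eq_mul, mul_one, inL_single]
    have h3 : inR S σ κ (i (rel s) • c s) =
        jm (relS i rel y) (Finsupp.single (Sum.inl s) (1 : S)) • inR S σ κ (c s) := by
      rw [map_smul, jm_single, one_mul]
      rfl
    rw [h2, h3]
    exact gen_mem_F0 (relS i rel y) _ _
  set g' : κ →₀ S := g₁ - g with hg'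
  have hsplit : Φin i σ κ (Φπ π σ κ (inL S σ κ h + inR S σ κ g)) - (inL S σ κ h + inR S σ κ g) =
      (inL S σ κ z - inR S σ κ g₁) + inR S σ κ g' := by
    rw [hΘ, hz, hg', map_sub, map_sub]
    abel
  have hg'Q : g' ∈ Q y := by
    rw [mem_Q, ← jm_inR i rel y]
    have h1 : inR S σ κ g' = (Φin i σ κ (Φπ π σ κ (inL S σ κ h + inR S σ κ g)) -
        (inL S σ κ h + inR S σ κ g)) - (inL S σ κ z - inR S σ κ g₁) := by
      rw [hsplit]; abel
    have h2 : inR S σ κ g' ∈ Q (relS i rel y) := by
      rw [h1]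
      exact sub_mem (sub_mem hΘQ hx) (F0_le_Q _ hstep2)
    exact h2
  have hg'F : inR S σ κ g' ∈ F0 (relS i rel y) :=
    Φ_mem_F0 y (relS i rel y) (inR S σ κ) (jm_inR i rel y) (hb hg'Q)
  rw [hsplit]
  exact add_mem hstep2 hg'F

include hπi hi hπ hy ha hb in
/-- **Retract lemma.** -/
theorem T2_retract (hrel : ∀ s, algebraMap R B (rel s) = 0)
    (hrelS : ∀ s, algebraMap S B (relS i rel y s) = 0)
    (M : Type m) [AddCommGroup M] [Module B M] :
    Nonempty (T2 B rel hrel M ≃ₗ[B] T2 B (relS i rel y) hrelS M) := by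
  have hj := hΦin i rel y
  have hj' := hΦπ i π hπi rel y hy
  refine T2_equiv_of_maps B rel (relS i rel y) hrel hrelS
    (L2maps B i hi rel _ (Φin i σ κ) hj)
    (L2maps B π hπ _ rel (Φπ π σ κ) hj')
    (tmap i hi (Φin i σ κ)) (tmap π hπ (Φπ π σ κ))
    (d2_comp_L2maps B i hi rel _ _ hj hrel hrelS)
    (d2_comp_L2maps B π hπ _ rel _ hj' hrelS hrel) ?_ ?_ M
  · apply ext_L2
    intro b q
    rw [LinearMap.comp_apply, L2maps_mk, L2maps_mk, LinearMap.id_apply]
    have : mapQs π _ rel (Φπ π σ κ) hj' (mapQs i rel _ (Φin i σ κ) hj q) = q :=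
      Subtype.ext (Φπ_Φin i π hπi (q : σ →₀ R))
    rw [this]
  · apply ext_L2
    intro b q
    rw [LinearMap.comp_apply, L2maps_mk, L2maps_mk, LinearMap.id_apply, Submodule.Quotient.eq]
    have hmem := Θ_sub_mem_F0 i π hπi rel y hy ha hb q.2
    let d' : Q (relS i rel y) := ⟨Φin i σ κ (Φπ π σ κ (q : σ ⊕ κ →₀ S)) - q, F0_le_Q _ hmem⟩
    have hD : mapQs i rel _ (Φin i σ κ) hj (mapQs π _ rel (Φπ π σ κ) hj' q) = d' + q :=
      Subtype.ext (sub_add_cancel _ _).symm
    rw [hD, TensorProduct.tmul_add, add_sub_cancel_right]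
    refine ⟨b ⊗ₜ ⟨d', hmem⟩, ?_⟩
    rw [LinearMap.baseChange_tmul]
    rfl

include hi hπ hy ha in
lemma relS_span (hrel : ∀ s, algebraMap R B (rel s) = 0)
    (hspan : Ideal.span (Set.range rel) = RingHom.ker (algebraMap R B)) :
    Ideal.span (Set.range (relS i rel y)) = RingHom.ker (algebraMap S B) := by
  apply le_antisymm
  · rw [Ideal.span_le]
    rintro _ ⟨s, rfl⟩
    exact relS_mem B i π hi hπ rel y hy hrel s
  · intro p hp
    have h1 : p - i (π p) ∈ Ideal.span (Set.range (relS i rel y)) := by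
      refine Ideal.span_mono ?_ (ha p)
      rintro _ ⟨k, rfl⟩
      exact ⟨Sum.inr k, rfl⟩
    have h2 : π p ∈ Ideal.span (Set.range rel) := by
      rw [hspan, RingHom.mem_ker, hπ]
      exact hp
    have h3 : i (π p) ∈ Ideal.span (Set.range (relS i rel y)) := by
      have : i (π p) ∈ Ideal.map i (Ideal.span (Set.range rel)) := Ideal.mem_map_of_mem _ h2
      rw [Ideal.map_span] at this
      refine Ideal.span_mono ?_ this
      rintro _ ⟨_, ⟨s, rfl⟩, rfl⟩
      exact ⟨Sum.inl s, rfl⟩
    have : p = (p - i (π p)) + i (π p) := by ring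
    rw [this]
    exact add_mem h1 h3

include hπi hi hπ hy ha hb in
/-- abstract form of "adjoining variables does not change `T²`". -/
theorem T2_retract' (hrel : ∀ s, algebraMap R B (rel s) = 0)
    (hspan : Ideal.span (Set.range rel) = RingHom.ker (algebraMap R B))
    {σ' : Type w''} (rel' : σ' → S) (hrel' : ∀ s, algebraMap S B (rel' s) = 0)
    (hspan' : Ideal.span (Set.range rel') = RingHom.ker (algebraMap S B))
    (M : Type m) [AddCommGroup M] [Module B M] :
    Nonempty (T2 B rel' hrel' M ≃ₗ[B] T2 B rel hrel M) := by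
  have hrelS := relS_mem B i π hi hπ rel y hy hrel
  obtain ⟨e1⟩ := T2_retract B i π hπi hi hπ rel y hy ha hb hrel hrelS M
  obtain ⟨e2⟩ := T2_equiv B rel' (relS i rel y) hrel' hrelS
    (hspan'.trans (relS_span B i π hi hπ rel y hy ha hrel hspan).symm) M
  exact ⟨e2.trans e1.symm⟩

end Retract

section Concrete

variable {R : Type u} [CommRing R] (B : Type v) [CommRing B] [Algebra R B] {κ : Type w'}
  [Algebra (MvPolynomial κ R) B] [IsScalarTower R (MvPolynomial κ R) B]

/-- **Adjoining variables does not change `T²`.** -/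
theorem T2_adjoin_vars (hsurj : Function.Surjective (algebraMap R B))
    {σ : Type w} (rel : σ → R) (hrel : ∀ s, algebraMap R B (rel s) = 0)
    (hspan : Ideal.span (Set.range rel) = RingHom.ker (algebraMap R B))
    {σ' : Type w''} (rel' : σ' → MvPolynomial κ R)
    (hrel' : ∀ s, algebraMap (MvPolynomial κ R) B (rel' s) = 0)
    (hspan' : Ideal.span (Set.range rel') = RingHom.ker (algebraMap (MvPolynomial κ R) B))
    (M : Type m) [AddCommGroup M] [Module B M] :
    Nonempty (T2 B rel' hrel' M ≃ₗ[B] T2 B rel hrel M) := by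
  choose r hr using fun k : κ => hsurj (algebraMap (MvPolynomial κ R) B (X k))
  have hi : ∀ x : R, algebraMap (MvPolynomial κ R) B ((C : R →+* MvPolynomial κ R) x) =
      algebraMap R B x := by
    intro x
    rw [IsScalarTower.algebraMap_apply R (MvPolynomial κ R) B, MvPolynomial.algebraMap_eq]
  have hπ : ∀ p : MvPolynomial κ R,
      algebraMap R B (((aeval r : MvPolynomial κ R →ₐ[R] R) : MvPolynomial κ R →+* R) p) =
        algebraMap (MvPolynomial κ R) B p := by
    intro p
    show algebraMap R B (aeval r p) = _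
    induction p using MvPolynomial.induction_on with
    | C c =>
      rw [aeval_C, Algebra.algebraMap_self_apply]
      exact (hi c).symm
    | add p q hp hq => rw [map_add, map_add, hp, hq, map_add]
    | mul_X p k hp =>
      rw [map_mul (aeval r), aeval_X, map_mul (algebraMap R B), hp, hr,
        map_mul (algebraMap (MvPolynomial κ R) B)]
  refine T2_retract' B (C : R →+* MvPolynomial κ R)
    ((aeval r : MvPolynomial κ R →ₐ[R] R) : MvPolynomial κ R →+* R) ?_ hi hπ rel
    (fun k => (X k - C (r k) : MvPolynomial κ R)) ?_ ?_ (Q_X_sub_C_le_F0 r) hrel hspan rel' hrel'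
    hspan' M
  · intro x
    show aeval r (C x) = x
    rw [aeval_C, Algebra.algebraMap_self_apply]
  · intro k
    show aeval r (X k - C (r k)) = 0
    rw [map_sub, aeval_X, aeval_C, Algebra.algebraMap_self_apply, sub_self]
  · intro p
    exact sub_C_aeval_mem r p

end Concrete

end Groth.Agent.Helper1.AT

end
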