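import Mathlib
import Groth.Agent.Helper1.AT6

/-!
# `T²` over a polynomial ring and over the base (helper1)
-/

open TensorProduct MvPolynomial

noncomputable section

namespace Groth.Agent.Helper1.AT

universe u v w w' w'' w''' m

section OverPoly

variable {k : Type u} {B : Type v} [CommRing k] [CommRing B] [Algebra k B]
  {ι : Type w} {σ : Type w'} {ι' : Type w''} {σ' : Type w'''}

set_option maxHeartbeats 400000 in
theorem T2_over_poly (P : Algebra.Presentation k B ι σ)
    (P' : Algebra.Presentation P.toExtension.Ring B ι' σ')
    (M : Type m) [AddCommGroup M] [Module B M] :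
    Nonempty (CotT.T2 P' M ≃ₗ[B] CotT.T2 P M) := by
  letI inst : Algebra (MvPolynomial ι' P.toExtension.Ring) B :=
    inferInstanceAs (Algebra P'.toExtension.Ring B)
  have halg : ∀ x : MvPolynomial ι' P.toExtension.Ring,
      algebraMap (MvPolynomial ι' P.toExtension.Ring) B x = aeval P'.val x :=
    fun x => P'.algebraMap_apply x
  haveI hst : IsScalarTower P.toExtension.Ring (MvPolynomial ι' P.toExtension.Ring) B :=
    IsScalarTower.of_algebraMap_eq (fun x => by
      rw [halg, MvPolynomial.algebraMap_eq, aeval_C])
  exact @T2_adjoin_vars P.toExtension.Ring _ B _ _ ι' inst hst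
    P.toExtension.algebraMap_surjective σ
    (CotT.rel P) (CotT.algebraMap_rel P) P.span_range_relation_eq_ker σ'
    (CotT.rel P') (CotT.algebraMap_rel P') P'.span_range_relation_eq_ker M _ _

end OverPoly

end Groth.Agent.Helper1.AT

end
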