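import Mathlib
import Groth.Agent.Helper1.AT7

/-!
# `T²` is independent of the presentation (helper1)
-/

open TensorProduct MvPolynomial

noncomputable section

namespace Groth.Agent.Helper1.AT

universe u v w w' w'' w''' m

section Indep

variable {A : Type u} [CommRing A] (B : Type v) [CommRing B] {ι : Type w} {ι' : Type w'}
  [Algebra (MvPolynomial ι A) B] [Algebra (MvPolynomial ι' A) B]

set_option maxHeartbeats 1000000 in
theorem T2_indep_abs
    (hA : ∀ a : A, algebraMap (MvPolynomial ι A) B (C a) = algebraMap (MvPolynomial ι' A) B (C a))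
    (hsurj : Function.Surjective (algebraMap (MvPolynomial ι A) B))
    (hsurj' : Function.Surjective (algebraMap (MvPolynomial ι' A) B))
    {σ : Type w''} (rel : σ → MvPolynomial ι A)
    (hrel : ∀ s, algebraMap (MvPolynomial ι A) B (rel s) = 0)
    (hspan : Ideal.span (Set.range rel) = RingHom.ker (algebraMap (MvPolynomial ι A) B))
    {σ' : Type w'''} (rel' : σ' → MvPolynomial ι' A)
    (hrel' : ∀ s, algebraMap (MvPolynomial ι' A) B (rel' s) = 0)
    (hspan' : Ideal.span (Set.range rel') = RingHom.ker (algebraMap (MvPolynomial ι' A) B))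
    (M : Type m) [AddCommGroup M] [Module B M] :
    Nonempty (T2 B rel hrel M ≃ₗ[B] T2 B rel' hrel' M) := by
  classical
  let f₀ : MvPolynomial ι' (MvPolynomial ι A) →+* B :=
    eval₂Hom (algebraMap (MvPolynomial ι A) B) (fun k => algebraMap (MvPolynomial ι' A) B (X k))
  let f₀' : MvPolynomial ι (MvPolynomial ι' A) →+* B :=
    eval₂Hom (algebraMap (MvPolynomial ι' A) B) (fun i => algebraMap (MvPolynomial ι A) B (X i))
  letI alg₀ : Algebra (MvPolynomial ι' (MvPolynomial ι A)) B := f₀.toAlgebra
  letI alg₀' : Algebra (MvPolynomial ι (MvPolynomial ι' A)) B := f₀'.toAlgebra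
  have hf₀ : ∀ p, algebraMap (MvPolynomial ι' (MvPolynomial ι A)) B p = f₀ p := fun _ => rfl
  have hf₀' : ∀ p, algebraMap (MvPolynomial ι (MvPolynomial ι' A)) B p = f₀' p := fun _ => rfl
  have hf₀C : ∀ r, f₀ (C r) = algebraMap (MvPolynomial ι A) B r := fun r => eval₂Hom_C _ _ r
  have hf₀X : ∀ k, f₀ (X k) = algebraMap (MvPolynomial ι' A) B (X k) := fun k => eval₂Hom_X' _ _ k
  have hf₀'C : ∀ r, f₀' (C r) = algebraMap (MvPolynomial ι' A) B r := fun r => eval₂Hom_C _ _ r
  have hf₀'X : ∀ k, f₀' (X k) = algebraMap (MvPolynomial ι A) B (X k) := fun k => eval₂Hom_X' _ _ k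
  haveI st₀ : IsScalarTower (MvPolynomial ι A) (MvPolynomial ι' (MvPolynomial ι A)) B :=
    IsScalarTower.of_algebraMap_eq (fun x => by
      rw [hf₀, MvPolynomial.algebraMap_eq, hf₀C])
  haveI st₀' : IsScalarTower (MvPolynomial ι' A) (MvPolynomial ι (MvPolynomial ι' A)) B :=
    IsScalarTower.of_algebraMap_eq (fun x => by
      rw [hf₀', MvPolynomial.algebraMap_eq, hf₀'C])
  let E : MvPolynomial ι' (MvPolynomial ι A) ≃+* MvPolynomial ι (MvPolynomial ι' A) :=
    (commAlgEquiv A ι' ι).toRingEquiv
  have hEC : ∀ r : MvPolynomial ι A, E (C r) = map C r := fun r => commAlgEquiv_C r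
  have hEX : ∀ k : ι', E (X k) = C (X k) := fun k => commAlgEquiv_X k
  have hC1 : ∀ r : MvPolynomial ι A, f₀' (map C r) = algebraMap (MvPolynomial ι A) B r := by
    intro r
    induction r using MvPolynomial.induction_on with
    | C a => rw [MvPolynomial.map_C, hf₀'C, hA]
    | add p q hp hq => rw [map_add, map_add, hp, hq, map_add]
    | mul_X p i hp => rw [map_mul, MvPolynomial.map_X, map_mul, hp, map_mul, hf₀'X]
  have he : ∀ p, algebraMap (MvPolynomial ι (MvPolynomial ι' A)) B (E p) =
      algebraMap (MvPolynomial ι' (MvPolynomial ι A)) B p := by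
    intro p
    rw [hf₀, hf₀']
    have : f₀'.comp (E : MvPolynomial ι' (MvPolynomial ι A) →+* MvPolynomial ι (MvPolynomial ι' A))
        = f₀ := by
      apply MvPolynomial.ringHom_ext
      · intro r
        rw [RingHom.comp_apply, RingEquiv.coe_toRingHom, hEC, hC1, hf₀C]
      · intro k
        rw [RingHom.comp_apply, RingEquiv.coe_toRingHom, hEX, hf₀'C, hf₀X]
    exact congrArg (fun g => g p) this
  let K : RingHom.ker (algebraMap (MvPolynomial ι' (MvPolynomial ι A)) B) →
      MvPolynomial ι' (MvPolynomial ι A) := Subtype.val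
  have hK : ∀ s, algebraMap (MvPolynomial ι' (MvPolynomial ι A)) B (K s) = 0 := fun s => s.2
  have hKspan : Ideal.span (Set.range K) =
      RingHom.ker (algebraMap (MvPolynomial ι' (MvPolynomial ι A)) B) := by
    refine le_antisymm (Ideal.span_le.mpr ?_) fun x hx => Ideal.subset_span ⟨⟨x, hx⟩, rfl⟩
    rintro _ ⟨r, rfl⟩
    exact r.2
  have hK₂ : ∀ s, algebraMap (MvPolynomial ι (MvPolynomial ι' A)) B (E (K s)) = 0 := fun s => by
    rw [he]
    exact hK s
  have hK₂span : Ideal.span (Set.range fun s => E (K s)) =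
      RingHom.ker (algebraMap (MvPolynomial ι (MvPolynomial ι' A)) B) := by
    apply le_antisymm
    · rw [Ideal.span_le]
      rintro _ ⟨s, rfl⟩
      exact hK₂ s
    · intro x hx
      have hx' : E.symm x ∈ RingHom.ker (algebraMap (MvPolynomial ι' (MvPolynomial ι A)) B) := by
        rw [RingHom.mem_ker, ← he, E.apply_symm_apply]
        exact hx
      exact Ideal.subset_span ⟨⟨E.symm x, hx'⟩, E.apply_symm_apply x⟩
  obtain ⟨e1⟩ := T2_adjoin_vars B hsurj rel hrel hspan K hK hKspan M
  obtain ⟨e2⟩ := T2_iso B E he K hK hK₂ M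
  obtain ⟨e3⟩ := T2_adjoin_vars B hsurj' rel' hrel' hspan' (fun s => E (K s)) hK₂ hK₂span M
  exact ⟨e1.symm.trans (e2.trans e3)⟩

end Indep

section Pres

variable {A : Type u} {B : Type v} [CommRing A] [CommRing B] [Algebra A B]
  {ι : Type w} {σ : Type w''} {ι' : Type w'} {σ' : Type w'''}

set_option maxHeartbeats 1000000 in
/-- **`T²` does not depend on the presentation.** -/
theorem T2_indep (P : Algebra.Presentation A B ι σ) (P' : Algebra.Presentation A B ι' σ')
    (M : Type m) [AddCommGroup M] [Module B M] :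
    Nonempty (CotT.T2 P M ≃ₗ[B] CotT.T2 P' M) := by
  let i1 : Algebra (MvPolynomial ι A) B := inferInstanceAs (Algebra P.toExtension.Ring B)
  let i2 : Algebra (MvPolynomial ι' A) B := inferInstanceAs (Algebra P'.toExtension.Ring B)
  have h1 : ∀ x : MvPolynomial ι A, @algebraMap _ B _ _ i1 x = aeval P.val x :=
    fun x => P.algebraMap_apply x
  have h2 : ∀ x : MvPolynomial ι' A, @algebraMap _ B _ _ i2 x = aeval P'.val x :=
    fun x => P'.algebraMap_apply x
  exact @T2_indep_abs A _ B _ ι ι' i1 i2 (fun a => by rw [h1, h2, aeval_C, aeval_C])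
    P.toExtension.algebraMap_surjective P'.toExtension.algebraMap_surjective σ
    (CotT.rel P) (CotT.algebraMap_rel P) P.span_range_relation_eq_ker σ'
    (CotT.rel P') (CotT.algebraMap_rel P') P'.span_range_relation_eq_ker M _ _

set_option maxHeartbeats 1000000 in
/-- `T²` of a polynomial algebra vanishes, for any presentation. -/
theorem T2_subsingleton_of_poly (P : Algebra.Presentation A B ι σ) {κ : Type w'}
    (e : MvPolynomial κ A ≃ₐ[A] B) (M : Type m) [AddCommGroup M] [Module B M] :
    Subsingleton (CotT.T2 P M) := by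
  let i1 : Algebra (MvPolynomial ι A) B := inferInstanceAs (Algebra P.toExtension.Ring B)
  let i2 : Algebra (MvPolynomial κ A) B := (e : MvPolynomial κ A →+* B).toAlgebra
  have h1 : ∀ x : MvPolynomial ι A, @algebraMap _ B _ _ i1 x = aeval P.val x :=
    fun x => P.algebraMap_apply x
  have h2 : ∀ x : MvPolynomial κ A, @algebraMap _ B _ _ i2 x = e x := fun x => rfl
  have hrel' : ∀ s : PEmpty.{1}, @algebraMap _ B _ _ i2 ((PEmpty.elim : PEmpty.{1} → MvPolynomial κ A) s) = 0 :=
    fun s => s.elim
  have hspan' : Ideal.span (Set.range (PEmpty.elim : PEmpty.{1} → MvPolynomial κ A)) =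
      RingHom.ker (@algebraMap _ B _ _ i2) := by
    apply le_antisymm
    · rw [Ideal.span_le]
      rintro _ ⟨s, rfl⟩
      exact s.elim
    · intro x hx
      have hx0 : e x = 0 := hx
      have : x = 0 := by
        rw [← e.symm_apply_apply x, hx0, map_zero]
      rw [this]
      exact zero_mem _
  obtain ⟨E⟩ := @T2_indep_abs A _ B _ ι κ i1 i2
    (fun a => by
      rw [h1, h2, aeval_C, ← MvPolynomial.algebraMap_eq, e.commutes])
    P.toExtension.algebraMap_surjective e.surjective σ
    (CotT.rel P) (CotT.algebraMap_rel P) P.span_range_relation_eq_ker PEmpty.{1}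
    PEmpty.elim hrel' hspan' M _ _
  haveI : Subsingleton (@T2 (MvPolynomial κ A) _ B _ i2 PEmpty.{1} PEmpty.elim hrel' M _ _) := by
    refine @T2_subsingleton (MvPolynomial κ A) _ B _ i2 PEmpty.{1} PEmpty.elim hrel' ?_ M _ _
    intro x _
    have : x = 0 := Subsingleton.elim _ _
    rw [this]
    exact zero_mem _
  exact E.toEquiv.subsingleton

end Pres

end Groth.Agent.Helper1.AT

end
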