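import Mathlib
import Groth.Agent.Helper1.AT8
import Groth.Agent.S12286
import Groth.Agent.S12289

/-!
# `T⁰`, `T¹` are independent of the presentation (helper1)
-/

open TensorProduct MvPolynomial

noncomputable section

namespace Groth.Agent.Helper1.AT

universe u v w w' m

open Algebra Algebra.Extension

section HQ

variable {A : Type u} {B : Type v} [CommRing A] [CommRing B] [Algebra A B]

/-- `Hom(I/I², M)` modulo the maps factoring through the conormal map -/
abbrev HQ (Q : Algebra.Extension.{w} A B) (M : Type m) [AddCommGroup M] [Module B M] :=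
  (Q.Cotangent →ₗ[B] M) ⧸ LinearMap.range (LinearMap.lcomp B M Q.cotangentComplex)

variable {Q Q' : Algebra.Extension.{w} A B} (M : Type m) [AddCommGroup M] [Module B M]

/-- pull-back along a morphism of extensions -/
def pullH (f : Q.Hom Q') : HQ Q' M →ₗ[B] HQ Q M :=
  Submodule.mapQ _ _ (LinearMap.lcomp B M (Cotangent.map f)) (by
    rintro _ ⟨ψ, rfl⟩
    refine ⟨ψ ∘ₗ CotangentSpace.map f, ?_⟩
    apply LinearMap.ext
    intro x
    show ψ (CotangentSpace.map f (Q.cotangentComplex x)) =
      ψ (Q'.cotangentComplex (Cotangent.map f x))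
    rw [CotangentSpace.map_cotangentComplex])

lemma pullH_comp (f : Q.Hom Q') (g : Q'.Hom Q) : pullH M f ∘ₗ pullH M g = LinearMap.id := by
  apply LinearMap.ext
  intro x
  induction x using Submodule.Quotient.induction_on with
  | H χ =>
    show Submodule.Quotient.mk ((χ ∘ₗ Cotangent.map g) ∘ₗ Cotangent.map f) =
      Submodule.Quotient.mk χ
    rw [Submodule.Quotient.eq]
    refine ⟨χ ∘ₗ ((g.comp f).sub (Hom.id Q)), ?_⟩
    apply LinearMap.ext
    intro z
    show χ (((g.comp f).sub (Hom.id Q)) (Q.cotangentComplex z)) =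
      χ (Cotangent.map g (Cotangent.map f z)) - χ z
    have h1 := congrArg (fun F => F z) (Cotangent.map_sub_map (g.comp f) (Hom.id Q))
    simp only [LinearMap.sub_apply, LinearMap.comp_apply, Cotangent.map_id,
      LinearMap.id_apply] at h1
    rw [← h1, map_sub, Cotangent.map_comp]
    rfl

theorem HQ_equiv (f : Q.Hom Q') (g : Q'.Hom Q) : Nonempty (HQ Q M ≃ₗ[B] HQ Q' M) :=
  ⟨LinearEquiv.ofLinearMap (pullH M g) (pullH M f) (pullH_comp M g f) (pullH_comp M f g)⟩

end HQ

section Pres

variable {A B : Type u} [CommRing A] [CommRing B] [Algebra A B] {ι σ ι' σ' : Type w}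

theorem T1_equiv_HQ (P : Algebra.Presentation A B ι σ) (M : Type m) [AddCommGroup M]
    [Module B M] : Nonempty (HQ P.toExtension M ≃ₗ[B] CotT.T1 P M) := by
  obtain ⟨-, h2, h3⟩ := Groth.Agent.S12289.result A B ι σ P M
  exact ⟨(Submodule.quotEquivOfEq _ _ h2.symm).trans
    (LinearMap.quotKerEquivOfSurjective (CotT.homToT1 P M) h3)⟩

theorem T1_indep (P : Algebra.Presentation A B ι σ) (P' : Algebra.Presentation A B ι' σ')
    (M : Type m) [AddCommGroup M] [Module B M] :
    Nonempty (CotT.T1 P M ≃ₗ[B] CotT.T1 P' M) := by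
  obtain ⟨e1⟩ := T1_equiv_HQ P M
  obtain ⟨e1'⟩ := T1_equiv_HQ P' M
  obtain ⟨e⟩ := HQ_equiv M
    (Algebra.Generators.defaultHom P.toGenerators P'.toGenerators).toExtensionHom
    (Algebra.Generators.defaultHom P'.toGenerators P.toGenerators).toExtensionHom
  exact ⟨e1.symm.trans (e.trans e1')⟩

theorem T0_indep (P : Algebra.Presentation A B ι σ) (P' : Algebra.Presentation A B ι' σ')
    (M : Type m) [AddCommGroup M] [Module B M] :
    Nonempty (CotT.T0 P M ≃ₗ[B] CotT.T0 P' M) := by
  letI : Module A M := Module.compHom M (algebraMap A B)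
  haveI : IsScalarTower A B M := IsScalarTower.of_compHom A B M
  exact ⟨(LinearEquiv.ofBijective _ (Groth.Agent.S12286.result A B ι σ P M)).symm.trans
    (LinearEquiv.ofBijective _ (Groth.Agent.S12286.result A B ι' σ' P' M))⟩

theorem T1_subsingleton_of_formallySmooth (P : Algebra.Presentation A B ι σ)
    [Algebra.FormallySmooth A B] (M : Type m) [AddCommGroup M] [Module B M] :
    Subsingleton (CotT.T1 P M) := by
  haveI : Algebra.FormallySmooth A P.toExtension.Ring :=
    inferInstanceAs (Algebra.FormallySmooth A (MvPolynomial ι A))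
  obtain ⟨l, hl⟩ := (P.toExtension.formallySmooth_iff_split_injection).mp inferInstance
  obtain ⟨-, h2, h3⟩ := Groth.Agent.S12289.result A B ι σ P M
  have hker : ∀ χ : P.toExtension.Cotangent →ₗ[B] M, CotT.homToT1 P M χ = 0 := by
    intro χ
    have : χ ∈ LinearMap.ker (CotT.homToT1 P M) := by
      rw [h2]
      refine ⟨χ ∘ₗ l, ?_⟩
      show (χ ∘ₗ l) ∘ₗ P.toExtension.cotangentComplex = χ
      rw [LinearMap.comp_assoc, hl, LinearMap.comp_id]
    exact this
  refine ⟨fun x y => ?_⟩
  obtain ⟨χ, rfl⟩ := h3 x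
  obtain ⟨χ', rfl⟩ := h3 y
  rw [hker χ, hker χ']

end Pres

end Groth.Agent.Helper1.AT

end
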