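import Mathlib

/-!
Helper: in a complete Hausdorff linearly topologized ring, if `I` is finitely generated and the
closures of the `I^n` are open and form a basis of neighbourhoods of `0`, then the closure of `I^n`
is `I^n` (helper1).
-/

set_option autoImplicit false

namespace Groth.Agent.Helper1.AdicComplete

open Topology Filter

universe u

theorem mem_span_mul_decomp {A : Type u} [CommRing A] {N : ℕ} (g : Fin N → A) (K : Ideal A) (x : A)
    (hx : x ∈ Ideal.span (Set.range g) * K) :
    ∃ a : Fin N → A, (∀ j, a j ∈ K) ∧ x = ∑ j, g j * a j := by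
  refine Submodule.mul_induction_on hx ?_ ?_
  · intro l hl k hk
    obtain ⟨c, rfl⟩ := Ideal.mem_span_range_iff_exists_fun.mp hl
    refine ⟨fun j => c j * k, fun j => K.mul_mem_left _ hk, ?_⟩
    rw [Finset.sum_mul]
    refine Finset.sum_congr rfl (fun j _ => by ring)
  · rintro _ _ ⟨a, ha, rfl⟩ ⟨b, hb, rfl⟩
    exact ⟨a + b, fun j => K.add_mem (ha j) (hb j), by
      simp [mul_add, Finset.sum_add_distrib]⟩

variable (A : Type u) [CommRing A] [UniformSpace A] [IsUniformAddGroup A] [IsTopologicalRing A]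
  [T2Space A] [CompleteSpace A]

theorem nonarchimedean (I : Ideal A)
    (hopen : ∀ n : ℕ, IsOpen (closure ((I ^ n : Ideal A) : Set A)))
    (hbasis : ∀ U ∈ nhds (0 : A), ∃ n : ℕ, closure ((I ^ n : Ideal A) : Set A) ⊆ U) :
    NonarchimedeanAddGroup A where
  is_nonarchimedean U hU := by
    obtain ⟨n, hn⟩ := hbasis U hU
    refine ⟨⟨(I ^ n).closure.toAddSubgroup, ?_⟩, ?_⟩
    · show IsOpen (((I ^ n).closure : Ideal A) : Set A)
      rw [Ideal.coe_closure]; exact hopen n
    · show (((I ^ n).closure : Ideal A) : Set A) ⊆ U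
      rw [Ideal.coe_closure]; exact hn

theorem closure_pow_subset (I : Ideal A) (hfg : I.FG)
    (hopen : ∀ n : ℕ, IsOpen (closure ((I ^ n : Ideal A) : Set A)))
    (hbasis : ∀ U ∈ nhds (0 : A), ∃ n : ℕ, closure ((I ^ n : Ideal A) : Set A) ⊆ U) (n : ℕ) :
    closure ((I ^ n : Ideal A) : Set A) ⊆ ((I ^ n : Ideal A) : Set A) := by
  intro x hx
  have hna : NonarchimedeanAddGroup A := nonarchimedean A I hopen hbasis
  obtain ⟨N, g, hg⟩ := Submodule.fg_iff_exists_fin_generating_family.mp (hfg.pow (n := n))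
  -- approximation step
  have step : ∀ (m : ℕ) (y : A), y ∈ closure ((I ^ (n + m) : Ideal A) : Set A) →
      ∃ x' ∈ I ^ (n + m), y - x' ∈ closure ((I ^ (n + m + 1) : Ideal A) : Set A) := by
    intro m y hy
    have hnhds : {z | y - z ∈ closure ((I ^ (n + m + 1) : Ideal A) : Set A)} ∈ nhds y := by
      have hcont : Continuous (fun z : A => y - z) := continuous_const.sub continuous_id
      apply ((hopen (n + m + 1)).preimage hcont).mem_nhds
      show y - y ∈ closure ((I ^ (n + m + 1) : Ideal A) : Set A)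
      rw [sub_self]
      exact subset_closure (Ideal.zero_mem _)
    obtain ⟨z, hz1, hz2⟩ := mem_closure_iff_nhds.mp hy _ hnhds
    exact ⟨z, hz2, hz1⟩
  -- the sequence of remainders
  let seq : ∀ m : ℕ, {y : A // y ∈ closure ((I ^ (n + m) : Ideal A) : Set A)} := fun m =>
    Nat.rec (motive := fun m => {y : A // y ∈ closure ((I ^ (n + m) : Ideal A) : Set A)})
      ⟨x, hx⟩
      (fun m y => ⟨y.1 - Classical.choose (step m y.1 y.2),
        (Classical.choose_spec (step m y.1 y.2)).2⟩) m
  let xs : ℕ → A := fun m => Classical.choose (step m (seq m).1 (seq m).2)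
  have hxs : ∀ m, xs m ∈ I ^ (n + m) := fun m =>
    (Classical.choose_spec (step m (seq m).1 (seq m).2)).1
  have hseq0 : (seq 0).1 = x := rfl
  have hseqS : ∀ m, (seq (m + 1)).1 = (seq m).1 - xs m := fun m => rfl
  have htel : ∀ M : ℕ, ∑ m ∈ Finset.range M, xs m = x - (seq M).1 := by
    intro M
    induction M with
    | zero => simp [hseq0]
    | succ M ih => rw [Finset.sum_range_succ, ih, hseqS]; abel
  -- decomposition
  have hdec : ∀ m, ∃ a : Fin N → A, (∀ j, a j ∈ I ^ m) ∧ xs m = ∑ j, g j * a j := by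
    intro m
    apply mem_span_mul_decomp
    have := hxs m
    rw [pow_add] at this
    rw [show Ideal.span (Set.range g) = I ^ n from hg]
    exact this
  choose a ha1 ha2 using hdec
  have htend0 : ∀ (b : ℕ → A), (∀ m, ∃ k, m ≤ k + n ∧ b m ∈ closure ((I ^ k : Ideal A) : Set A)) →
      Tendsto b atTop (𝓝 0) := by
    intro b hb
    rw [tendsto_atTop']
    intro U hU
    obtain ⟨n₀, hn₀⟩ := hbasis U hU
    refine ⟨n₀ + n, fun m hm => ?_⟩
    obtain ⟨k, hk1, hk2⟩ := hb m
    apply hn₀
    have hle : n₀ ≤ k := by omega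
    exact closure_mono (fun z hz => Ideal.pow_le_pow_right hle hz) hk2
  have hsummable : ∀ j, Summable (fun m => a m j) := by
    intro j
    apply NonarchimedeanAddGroup.summable_of_tendsto_cofinite_zero
    rw [Nat.cofinite_eq_atTop]
    apply htend0
    intro m
    exact ⟨m, Nat.le_add_right m n, subset_closure (ha1 m j)⟩
  have h1 : HasSum xs (∑ j, g j * ∑' m, a m j) := by
    have hx' : xs = fun m => ∑ j, g j * a m j := funext ha2
    rw [hx']
    exact hasSum_sum (fun j _ => ((hsummable j).hasSum).mul_left (g j))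
  have h2 := h1.tendsto_sum_nat
  have h3 : Tendsto (fun M => ∑ m ∈ Finset.range M, xs m) atTop (𝓝 x) := by
    have hy0 : Tendsto (fun M => (seq M).1) atTop (𝓝 0) := by
      apply htend0
      intro m
      exact ⟨n + m, by omega, (seq m).2⟩
    have : Tendsto (fun M => x - (seq M).1) atTop (𝓝 (x - 0)) := tendsto_const_nhds.sub hy0
    rw [sub_zero] at this
    exact this.congr (fun M => (htel M).symm)
  have hxeq := tendsto_nhds_unique h3 h2
  rw [SetLike.mem_coe, hxeq]
  refine Ideal.sum_mem _ (fun j _ => Ideal.mul_mem_right _ _ ?_)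
  rw [← hg]
  exact Submodule.subset_span (Set.mem_range_self j)

theorem isAdic (I : Ideal A) (hfg : I.FG)
    (hopen : ∀ n : ℕ, IsOpen (closure ((I ^ n : Ideal A) : Set A)))
    (hbasis : ∀ U ∈ nhds (0 : A), ∃ n : ℕ, closure ((I ^ n : Ideal A) : Set A) ⊆ U) :
    IsAdic I := by
  rw [isAdic_iff]
  constructor
  · intro n
    have : closure ((I ^ n : Ideal A) : Set A) = ((I ^ n : Ideal A) : Set A) :=
      Set.Subset.antisymm (closure_pow_subset A I hfg hopen hbasis n) subset_closure
    rw [← this]; exact hopen n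
  · intro U hU
    obtain ⟨n, hn⟩ := hbasis U hU
    exact ⟨n, subset_closure.trans hn⟩

end Groth.Agent.Helper1.AdicComplete
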