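import Groth.Prelude.Def_W4stk3formalspacesTaut

/-!
Helper lemmas on linearly topologized rings (helper1).
-/

set_option autoImplicit false

namespace Groth.Agent.Helper1.LinTopAux

open Topology Filter

universe u v

section

variable {R : Type u} [CommRing R] [TopologicalSpace R] [IsTopologicalRing R]

/-- An ideal containing an open ideal is open. -/
theorem isOpen_of_le {U I : Ideal R} (h : U ≤ I) (hU : IsOpen (U : Set R)) :
    IsOpen (I : Set R) :=
  Ideal.isOpen_of_isOpen_subideal h hU

/-- An open ideal is closed. -/
theorem isClosed_of_isOpen {I : Ideal R} (hI : IsOpen (I : Set R)) : IsClosed (I : Set R) :=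
  I.toAddSubgroup.isClosed_of_isOpen hI

/-- The closure of an ideal is open as soon as it contains an open ideal. -/
theorem isOpen_closure_of_le {U I : Ideal R} (h : (U : Set R) ⊆ closure (I : Set R))
    (hU : IsOpen (U : Set R)) : IsOpen (closure (I : Set R)) := by
  rw [← Ideal.coe_closure]
  exact isOpen_of_le (U := U) (I := I.closure) h hU

theorem closure_open_ideal {I : Ideal R} (hI : IsOpen (I : Set R)) :
    closure (I : Set R) = I :=
  (isClosed_of_isOpen hI).closure_eq

theorem closure_mul_le (I J : Ideal R) : I.closure * J.closure ≤ (I * J).closure := by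
  rw [Ideal.mul_le]
  intro r hr s hs
  exact map_mem_closure₂ continuous_mul hr hs (fun a ha b hb => Ideal.mul_mem_mul ha hb)

theorem closure_pow_le (I : Ideal R) (n : ℕ) : I.closure ^ n ≤ (I ^ n).closure := by
  induction n with
  | zero =>
    simp only [pow_zero, Ideal.one_eq_top]
    exact fun x hx => subset_closure hx
  | succ n ih =>
    rw [pow_succ, pow_succ]
    exact (Ideal.mul_mono ih le_rfl).trans (closure_mul_le _ _)

/-- In a linearly topologized ring, a limit of topologically nilpotent elements is topologically
nilpotent. -/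
theorem isTopologicallyNilpotent_of_mem_closure [IsLinearTopology R R] {a : R}
    (ha : a ∈ closure {x : R | IsTopologicallyNilpotent x}) : IsTopologicallyNilpotent a := by
  simp only [IsTopologicallyNilpotent,
    atTop_basis.tendsto_iff (IsLinearTopology.hasBasis_open_ideal (R := R)), true_and]
  intro I hI
  -- `a + I` is an open neighbourhood of `a`
  have hopen : IsOpen ((fun x => x - a) ⁻¹' (I : Set R)) :=
    hI.preimage (by fun_prop)
  have hmem : a ∈ (fun x => x - a) ⁻¹' (I : Set R) := by simp
  obtain ⟨g, hgI, hg⟩ := mem_closure_iff.mp ha _ hopen hmem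
  have hgI' : g - a ∈ I := hgI
  obtain ⟨N, hN⟩ := (atTop_basis.tendsto_iff (IsLinearTopology.hasBasis_open_ideal (R := R))).mp
    hg I hI
  refine ⟨N, fun n hn => ?_⟩
  have h1 : g ^ n ∈ I := hN.2 n hn
  have h2 : g ^ n - a ^ n ∈ I := by
    obtain ⟨c, hc⟩ := sub_dvd_pow_sub_pow g a n
    rw [hc]
    exact I.mul_mem_right _ hgI'
  have : a ^ n = g ^ n - (g ^ n - a ^ n) := by ring
  show a ^ n ∈ I
  rw [this]
  exact I.sub_mem h1 h2

end

section Map

variable {A : Type u} [CommRing A] [TopologicalSpace A]
variable {B : Type v} [CommRing B] [TopologicalSpace B] [IsTopologicalRing B]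

/-- The closure of `φ(I)B` depends only on the closure of `I`, for continuous `φ`. -/
theorem closure_map_closure [IsTopologicalRing A] (φ : A →+* B) (hφ : Continuous φ) (I : Ideal A) :
    closure ((I.closure.map φ : Ideal B) : Set B) = closure ((I.map φ : Ideal B) : Set B) := by
  apply subset_antisymm
  · -- `I.closure.map φ ≤ (I.map φ).closure`
    have h1 : I.closure.map φ ≤ (I.map φ).closure := by
      rw [Ideal.map_le_iff_le_comap]
      intro x hx
      rw [Ideal.mem_comap]
      have hx' : x ∈ closure (I : Set A) := hx
      have : φ x ∈ closure (φ '' (I : Set A)) := image_closure_subset_closure_image hφ ⟨x, hx', rfl⟩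
      refine _root_.closure_mono ?_ this
      rintro _ ⟨a, ha, rfl⟩
      exact Ideal.mem_map_of_mem φ ha
    have := _root_.closure_mono (s := ((I.closure.map φ : Ideal B) : Set B))
      (t := ((I.map φ).closure : Set B)) h1
    rwa [Ideal.coe_closure, closure_closure] at this
  · apply _root_.closure_mono
    exact Ideal.map_mono (fun x hx => subset_closure hx)

/-- In the taut faithfully flat situation, an open ideal `I` of `A` is the preimage of the closure
of `φ(I)B`. -/
theorem mem_of_map_mem_closure (φ : A →+* B) (hφ : LinTop.IsTautFFlat φ) {I : Ideal A}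
    (hI : IsOpen (I : Set A)) {x : A} (hx : φ x ∈ closure ((I.map φ : Ideal B) : Set B)) :
    x ∈ I := by
  have hinj := (hφ.2 I hI).injective
  have h0 : LinTop.descentMap φ I (Ideal.Quotient.mk I x) = 0 := by
    unfold LinTop.descentMap
    rw [Ideal.quotientMap_mk, Ideal.Quotient.eq_zero_iff_mem]
    exact hx
  have := hinj (h0.trans (map_zero _).symm)
  rwa [Ideal.Quotient.eq_zero_iff_mem] at this

theorem map_mem_closure_of_mem (φ : A →+* B) {I : Ideal A} {x : A} (hx : x ∈ I) :
    φ x ∈ closure ((I.map φ : Ideal B) : Set B) :=
  subset_closure (Ideal.mem_map_of_mem φ hx)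

end Map

end Groth.Agent.Helper1.LinTopAux
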