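import Mathlib
import Groth.Agent.Helper1.LinTop

/-!
Helper lemmas for descent of adic-ness along taut faithfully flat maps (helper1).
-/

set_option autoImplicit false

namespace Groth.Agent.Helper1.AdicDescent

open Topology Filter

universe u v

section Unit

variable {B : Type v} [CommRing B] [UniformSpace B] [IsUniformAddGroup B] [IsTopologicalRing B]
  [T2Space B] [CompleteSpace B]

theorem isUnit_one_sub [NonarchimedeanAddGroup B] (z : B)
    (hz : Tendsto (fun n : ℕ => z ^ n) atTop (𝓝 0)) : IsUnit (1 - z) := by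
  have hs : Summable (fun n : ℕ => z ^ n) :=
    NonarchimedeanAddGroup.summable_of_tendsto_cofinite_zero (by rwa [Nat.cofinite_eq_atTop])
  have h1 : ∑' n : ℕ, z ^ n = 1 + z * ∑' n : ℕ, z ^ n := by
    conv_lhs => rw [hs.tsum_eq_zero_add]
    simp only [pow_zero, pow_succ']
    rw [hs.tsum_mul_left]
  exact IsUnit.of_mul_eq_one (∑' n : ℕ, z ^ n) (by linear_combination h1)

/-- An ideal of definition (open, powers tending to zero) of a complete Hausdorff ring whose
topology has a basis of open additive subgroups lies in the Jacobson radical. -/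
theorem le_jacobson [NonarchimedeanAddGroup B] (J : Ideal B)
    (hJ : ∀ U ∈ nhds (0 : B), ∃ n : ℕ, ((J ^ n : Ideal B) : Set B) ⊆ U) :
    J ≤ Ideal.jacobson ⊥ := by
  intro x hx
  rw [Ideal.mem_jacobson_bot]
  intro y
  have hz : Tendsto (fun n : ℕ => (-(x * y)) ^ n) atTop (𝓝 0) := by
    rw [tendsto_atTop']
    intro U hU
    obtain ⟨n, hn⟩ := hJ U hU
    refine ⟨n, fun k hk => hn ?_⟩
    have : -(x * y) ∈ J := J.neg_mem (J.mul_mem_right _ hx)
    exact Ideal.pow_le_pow_right hk (Ideal.pow_mem_pow this k)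
  have := isUnit_one_sub _ hz
  rwa [sub_neg_eq_add, add_comm] at this

end Unit

section Span

variable {A : Type u} [CommRing A] {B : Type v} [CommRing B]

/-- An element of `K.map φ` lies in `K₀.map φ` for a finitely generated `K₀ ≤ K`. -/
theorem exists_fg_le_mem_map (φ : A →+* B) (K : Ideal A) {c : B} (hc : c ∈ K.map φ) :
    ∃ K₀ : Ideal A, K₀.FG ∧ K₀ ≤ K ∧ c ∈ K₀.map φ := by
  refine Submodule.span_induction (p := fun c _ => ∃ K₀ : Ideal A, K₀.FG ∧ K₀ ≤ K ∧ c ∈ K₀.map φ)
    ?_ ?_ ?_ ?_ hc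
  · rintro _ ⟨k, hk, rfl⟩
    refine ⟨Ideal.span {k}, ⟨{k}, by simp⟩, ?_, ?_⟩
    · rw [Ideal.span_le]; simpa using hk
    · exact Ideal.mem_map_of_mem φ (Ideal.subset_span rfl)
  · exact ⟨⊥, Submodule.fg_bot, bot_le, Ideal.zero_mem _⟩
  · rintro x y _ _ ⟨K₁, h1, h1', hx⟩ ⟨K₂, h2, h2', hy⟩
    refine ⟨K₁ ⊔ K₂, Submodule.FG.sup h1 h2, sup_le h1' h2', ?_⟩
    exact Ideal.add_mem _ (Ideal.map_mono le_sup_left hx) (Ideal.map_mono le_sup_right hy)
  · rintro b x _ ⟨K₁, h1, h1', hx⟩
    exact ⟨K₁, h1, h1', Ideal.mul_mem_left _ _ hx⟩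

/-- A finitely generated ideal inside `K.map φ` lies in `K₀.map φ` for a finitely generated
`K₀ ≤ K`. -/
theorem exists_fg_le_map (φ : A →+* B) (K : Ideal A) {N : Ideal B} (hN : N.FG)
    (hNK : N ≤ K.map φ) : ∃ K₀ : Ideal A, K₀.FG ∧ K₀ ≤ K ∧ N ≤ K₀.map φ := by
  classical
  obtain ⟨s, rfl⟩ := hN
  induction s using Finset.induction_on with
  | empty => exact ⟨⊥, Submodule.fg_bot, bot_le, by simp⟩
  | insert c s hc ih =>
    have hs : Submodule.span B (s : Set B) ≤ K.map φ :=
      (Submodule.span_mono (by simp)).trans hNK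
    obtain ⟨K₁, h1, h1', h1''⟩ := ih hs
    have hcK : c ∈ K.map φ := hNK (Submodule.subset_span (by simp))
    obtain ⟨K₂, h2, h2', h2''⟩ := exists_fg_le_mem_map φ K hcK
    refine ⟨K₁ ⊔ K₂, Submodule.FG.sup h1 h2, sup_le h1' h2', ?_⟩
    rw [Ideal.span_le]
    intro x hx
    rcases Finset.mem_insert.mp (Finset.mem_coe.mp hx) with rfl | hx
    · exact Ideal.map_mono le_sup_right h2''
    · exact Ideal.map_mono le_sup_left (h1'' (Ideal.subset_span (Finset.mem_coe.mpr hx)))

end Span

section Closure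

variable {A : Type u} [CommRing A] [TopologicalSpace A] [IsTopologicalRing A]

/-- The closure of an ideal is contained in its sum with any open ideal. -/
theorem closure_le_sup_of_isOpen (S U : Ideal A) (hU : IsOpen (U : Set A)) :
    closure (S : Set A) ⊆ ((S ⊔ U : Ideal A) : Set A) :=
  closure_minimal (fun x hx => Ideal.mem_sup_left hx)
    (LinTopAux.isClosed_of_isOpen (LinTopAux.isOpen_of_le le_sup_right hU))

/-- In a linearly topologized ring, an element lying in `S ⊔ L` for all open ideals `L` lies in the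
closure of `S`. -/
theorem mem_closure_of_forall_mem_sup [IsLinearTopology A A] (S : Ideal A) (k : A)
    (h : ∀ L : Ideal A, IsOpen (L : Set A) → k ∈ S ⊔ L) : k ∈ closure (S : Set A) := by
  rw [mem_closure_iff_nhds]
  intro t ht
  have h0 : {y : A | k - y ∈ t} ∈ nhds (0 : A) := by
    have hcont : Continuous (fun y : A => k - y) := continuous_const.sub continuous_id
    have : Filter.Tendsto (fun y : A => k - y) (nhds 0) (nhds (k - 0)) := hcont.tendsto 0
    rw [sub_zero] at this
    exact this ht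
  obtain ⟨L, hLopen, hL⟩ := (IsLinearTopology.hasBasis_open_ideal (R := A)).mem_iff.mp h0
  obtain ⟨s, hs, l, hl, rfl⟩ := Submodule.mem_sup.mp (h L hLopen)
  refine ⟨s, ?_, hs⟩
  have := hL hl
  simpa using this

end Closure

end Groth.Agent.Helper1.AdicDescent
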