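import Mathlib

/-!
Helper: completion of a module with an open submodule carrying the `I`-adic topology (helper1).
-/

set_option autoImplicit false

namespace Groth.Agent.Helper1.AdicModule

open Topology Filter UniformSpace

universe u v

theorem mem_span_smul_decomp {R : Type u} [CommRing R] {M : Type v} [AddCommGroup M] [Module R M]
    {N : ℕ} (g : Fin N → R) (K : Submodule R M) (x : M)
    (hx : x ∈ Ideal.span (Set.range g) • K) :
    ∃ a : Fin N → M, (∀ j, a j ∈ K) ∧ x = ∑ j, g j • a j := by
  refine Submodule.smul_induction_on hx ?_ ?_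
  · intro l hl k hk
    obtain ⟨c, rfl⟩ := Ideal.mem_span_range_iff_exists_fun.mp hl
    refine ⟨fun j => c j • k, fun j => K.smul_mem _ hk, ?_⟩
    rw [Finset.sum_smul]
    refine Finset.sum_congr rfl (fun j _ => by rw [smul_smul, mul_comm])
  · rintro _ _ ⟨a, ha, rfl⟩ ⟨b, hb, rfl⟩
    exact ⟨a + b, fun j => K.add_mem (ha j) (hb j), by
      simp [smul_add, Finset.sum_add_distrib]⟩

variable {R : Type u} [CommRing R] (I : Ideal R)
  {M : Type v} [AddCommGroup M] [Module R M] [UniformSpace M] [IsUniformAddGroup M]
  [UniformContinuousConstSMul R M] (M' : Submodule R M)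

/-- the canonical linear map to the completion -/
noncomputable def ι : M →ₗ[R] Completion M where
  toFun := (↑)
  map_add' := Completion.coe_add
  map_smul' c x := Completion.coe_smul c x

theorem ι_apply (m : M) : (ι (R := R) m : Completion M) = (m : Completion M) := rfl

/-- closure in the completion of the image of `I^n M'` -/
noncomputable def P (n : ℕ) : Submodule R (Completion M) :=
  ((I ^ n • M').map (ι (R := R))).topologicalClosure

theorem coe_P (n : ℕ) : ((P I M' n : Submodule R (Completion M)) : Set (Completion M)) =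
    closure (((↑) : M → Completion M) '' ((I ^ n • M' : Submodule R M) : Set M)) := by
  rw [P, Submodule.topologicalClosure_coe, Submodule.map_coe]
  rfl

theorem coe_mem_P {n : ℕ} {m : M} (hm : m ∈ I ^ n • M') : (m : Completion M) ∈ P I M' n := by
  rw [← SetLike.mem_coe, coe_P]
  exact subset_closure ⟨m, hm, rfl⟩

theorem P_anti {m n : ℕ} (h : m ≤ n) : P I M' n ≤ P I M' m := by
  apply Submodule.topologicalClosure_mono
  exact Submodule.map_mono (Submodule.smul_mono_left (Ideal.pow_le_pow_right h))

theorem P_closed (n : ℕ) : IsClosed ((P I M' n : Submodule R (Completion M)) : Set (Completion M)) :=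
  Submodule.isClosed_topologicalClosure _

section
variable (hopen : ∀ n : ℕ, IsOpen ((I ^ n • M' : Submodule R M) : Set M))
  (hbasis : ∀ U ∈ nhds (0 : M), ∃ n : ℕ, ((I ^ n • M' : Submodule R M) : Set M) ⊆ U)

include hopen in
theorem P_mem_nhds (n : ℕ) :
    ((P I M' n : Submodule R (Completion M)) : Set (Completion M)) ∈ 𝓝 (0 : Completion M) := by
  have h0 : ((I ^ n • M' : Submodule R M) : Set M) ∈ 𝓝 (0 : M) :=
    (hopen n).mem_nhds (Submodule.zero_mem _)
  have := (Completion.isDenseInducing_coe (α := M)).closure_image_mem_nhds h0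
  rw [Completion.coe_zero] at this
  rw [coe_P]; exact this

include hopen in
theorem P_open (n : ℕ) : IsOpen ((P I M' n : Submodule R (Completion M)) : Set (Completion M)) :=
  AddSubgroup.isOpen_of_mem_nhds (P I M' n).toAddSubgroup (P_mem_nhds I M' hopen n)

include hbasis in
theorem P_small {W : Set (Completion M)} (hW : W ∈ 𝓝 (0 : Completion M)) :
    ∃ n : ℕ, ((P I M' n : Submodule R (Completion M)) : Set (Completion M)) ⊆ W := by
  obtain ⟨W', hW', hW'closed, hW'W⟩ := exists_mem_nhds_isClosed_subset hW
  have hpre : ((↑) : M → Completion M) ⁻¹' W' ∈ 𝓝 (0 : M) := by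
    apply (Completion.continuous_coe M).continuousAt
    rw [Completion.coe_zero]; exact hW'
  obtain ⟨n, hn⟩ := hbasis _ hpre
  refine ⟨n, ?_⟩
  rw [coe_P]
  refine (closure_minimal ?_ hW'closed).trans hW'W
  rintro _ ⟨u, hu, rfl⟩
  exact hn hu

include hopen hbasis in
theorem nonarchimedean : NonarchimedeanAddGroup (Completion M) where
  is_nonarchimedean W hW := by
    obtain ⟨n, hn⟩ := P_small I M' hbasis hW
    exact ⟨⟨(P I M' n).toAddSubgroup, P_open I M' hopen n⟩, hn⟩

theorem smul_P_le (n : ℕ) : I ^ n • P I M' 0 ≤ P I M' n := by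
  rw [Submodule.smul_le]
  intro r hr p hp
  have hp' : p ∈ closure (((↑) : M → Completion M) '' ((I ^ 0 • M' : Submodule R M) : Set M)) := by
    rw [← coe_P]; exact hp
  have hc : Continuous (fun z : Completion M => r • z) := continuous_const_smul r
  have h1 := image_closure_subset_closure_image hc ⟨p, hp', rfl⟩
  rw [← SetLike.mem_coe, coe_P]
  refine closure_mono ?_ h1
  rintro _ ⟨_, ⟨m, hm, rfl⟩, rfl⟩
  refine ⟨r • m, ?_, Completion.coe_smul r m⟩
  have hm' : m ∈ M' := by simpa using hm
  exact Submodule.smul_mem_smul hr hm'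

include hopen hbasis in
theorem P_le_smul (hI : I.FG) (n : ℕ) : P I M' n ≤ I ^ n • P I M' 0 := by
  intro x hx
  have hna : NonarchimedeanAddGroup (Completion M) := nonarchimedean I M' hopen hbasis
  obtain ⟨N, g, hg⟩ := Submodule.fg_iff_exists_fin_generating_family.mp (hI.pow (n := n))
  -- approximation step
  have step : ∀ (k : ℕ) (y : Completion M), y ∈ P I M' (n + k) →
      ∃ x' ∈ I ^ (n + k) • M', y - (x' : Completion M) ∈ P I M' (n + k + 1) := by
    intro k y hy
    have hnhds : {z : Completion M | y - z ∈ P I M' (n + k + 1)} ∈ 𝓝 y := by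
      have hc : Continuous (fun z : Completion M => y - z) := continuous_const.sub continuous_id
      have : Tendsto (fun z : Completion M => y - z) (𝓝 y) (𝓝 (y - y)) := hc.tendsto y
      rw [sub_self] at this
      exact this (P_mem_nhds I M' hopen (n + k + 1))
    have hy' : y ∈ closure (((↑) : M → Completion M) '' ((I ^ (n + k) • M' : Submodule R M) : Set M)) := by
      rw [← coe_P]; exact hy
    obtain ⟨_, hz1, ⟨u, hu, rfl⟩⟩ := mem_closure_iff_nhds.mp hy' _ hnhds
    exact ⟨u, hu, hz1⟩
  let seq : ∀ k : ℕ, {y : Completion M // y ∈ P I M' (n + k)} := fun k =>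
    Nat.rec (motive := fun k => {y : Completion M // y ∈ P I M' (n + k)}) ⟨x, hx⟩
      (fun k y => ⟨y.1 - ((Classical.choose (step k y.1 y.2) : M) : Completion M),
        (Classical.choose_spec (step k y.1 y.2)).2⟩) k
  let xs : ℕ → M := fun k => Classical.choose (step k (seq k).1 (seq k).2)
  have hxs : ∀ k, xs k ∈ I ^ (n + k) • M' := fun k =>
    (Classical.choose_spec (step k (seq k).1 (seq k).2)).1
  have hseq0 : (seq 0).1 = x := rfl
  have hseqS : ∀ k, (seq (k + 1)).1 = (seq k).1 - ((xs k : M) : Completion M) := fun k => rfl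
  have htel : ∀ K : ℕ, ∑ k ∈ Finset.range K, ((xs k : M) : Completion M) = x - (seq K).1 := by
    intro K
    induction K with
    | zero => simp [hseq0]
    | succ K ih => rw [Finset.sum_range_succ, ih, hseqS]; abel
  -- decomposition
  have hdec : ∀ k, ∃ a : Fin N → M, (∀ j, a j ∈ I ^ k • M') ∧ xs k = ∑ j, g j • a j := by
    intro k
    apply mem_span_smul_decomp
    have := hxs k
    rw [pow_add, Submodule.mul_smul] at this
    rw [show Ideal.span (Set.range g) = I ^ n from hg]
    exact this
  choose a ha1 ha2 using hdec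
  have htend0 : ∀ (b : ℕ → Completion M), (∀ k, ∃ l, k ≤ l + n ∧ b k ∈ P I M' l) →
      Tendsto b atTop (𝓝 0) := by
    intro b hb
    rw [tendsto_atTop']
    intro W hW
    obtain ⟨n₀, hn₀⟩ := P_small I M' hbasis hW
    refine ⟨n₀ + n, fun k hk => ?_⟩
    obtain ⟨l, hl1, hl2⟩ := hb k
    exact hn₀ (P_anti I M' (by omega : n₀ ≤ l) hl2)
  have hsummable : ∀ j, Summable (fun k => ((a k j : M) : Completion M)) := by
    intro j
    apply NonarchimedeanAddGroup.summable_of_tendsto_cofinite_zero
    rw [Nat.cofinite_eq_atTop]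
    apply htend0
    intro k
    exact ⟨k, Nat.le_add_right k n, coe_mem_P I M' (ha1 k j)⟩
  have hbmem : ∀ j, (∑' k, ((a k j : M) : Completion M)) ∈ P I M' 0 := by
    intro j
    apply (P_closed I M' 0).mem_of_tendsto (hsummable j).hasSum.tendsto_sum_nat
    exact Filter.Eventually.of_forall (fun K => (P I M' 0).sum_mem
      (fun k _ => P_anti I M' (Nat.zero_le k) (coe_mem_P I M' (ha1 k j))))
  have h1 : HasSum (fun k => ((xs k : M) : Completion M))
      (∑ j, g j • ∑' k, ((a k j : M) : Completion M)) := by
    have hx' : (fun k => ((xs k : M) : Completion M)) =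
        fun k => ∑ j, g j • ((a k j : M) : Completion M) := by
      funext k
      rw [ha2 k]
      have := map_sum (ι (R := R) (M := M)) (fun j => g j • a k j) Finset.univ
      simp only [ι_apply] at this
      rw [this]
      refine Finset.sum_congr rfl (fun j _ => Completion.coe_smul _ _)
    rw [hx']
    exact hasSum_sum (fun j _ => ((hsummable j).hasSum).const_smul (g j))
  have h2 := h1.tendsto_sum_nat
  have h3 : Tendsto (fun K => ∑ k ∈ Finset.range K, ((xs k : M) : Completion M)) atTop (𝓝 x) := by
    have hy0 : Tendsto (fun K => (seq K).1) atTop (𝓝 0) := by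
      apply htend0
      intro k
      exact ⟨n + k, by omega, (seq k).2⟩
    have : Tendsto (fun K => x - (seq K).1) atTop (𝓝 (x - 0)) := tendsto_const_nhds.sub hy0
    rw [sub_zero] at this
    exact this.congr (fun K => (htel K).symm)
  have hxeq := tendsto_nhds_unique h3 h2
  rw [hxeq]
  refine Submodule.sum_mem _ (fun j _ => Submodule.smul_mem_smul ?_ (hbmem j))
  rw [← hg]
  exact Submodule.subset_span (Set.mem_range_self j)

include hopen hbasis in
theorem smul_P_eq (hI : I.FG) (n : ℕ) : I ^ n • P I M' 0 = P I M' n :=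
  le_antisymm (smul_P_le I M' n) (P_le_smul I M' hopen hbasis hI n)

end

end Groth.Agent.Helper1.AdicModule
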