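import Mathlib
import Groth.Prelude.Def_CAlg
import Groth.Prelude.Def_W4bk5brsh7111920

set_option autoImplicit false
universe u v

namespace Groth.Agent.Helper1.AdjDepthQuot

/-- transfer of ideal depth along a surjective ring hom and a semilinear additive equivalence -/
theorem idealDepth_transfer {S₁ S₂ : Type u} [CommRing S₁] [CommRing S₂] (θ : S₁ →+* S₂)
    (hθ : Function.Surjective θ) (I₁ : Ideal S₁) (I₂ : Ideal S₂) (hI : ∀ s, s ∈ I₁ ↔ θ s ∈ I₂)
    {M₁ M₂ : Type v} [AddCommGroup M₁] [Module S₁ M₁] [AddCommGroup M₂] [Module S₂ M₂]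
    (e : M₁ ≃+ M₂) (he : ∀ s x, e (s • x) = θ s • e x) :
    LocCoh.idealDepth I₁ M₁ = LocCoh.idealDepth I₂ M₂ := by
  have hsymm : ∀ s y, e.symm (θ s • y) = s • e.symm y := by
    intro s y
    apply e.injective
    rw [he, e.apply_symm_apply, e.apply_symm_apply]
  have h1 : ∀ x, x ∈ I₁ • (⊤ : Submodule S₁ M₁) → e x ∈ I₂ • (⊤ : Submodule S₂ M₂) := by
    intro x hx
    refine Submodule.smul_induction_on hx ?_ ?_
    · intro r hr m _
      rw [he]
      exact Submodule.smul_mem_smul ((hI r).mp hr) Submodule.mem_top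
    · intro x y hx hy
      rw [map_add]
      exact add_mem hx hy
  have h2 : ∀ y, y ∈ I₂ • (⊤ : Submodule S₂ M₂) → e.symm y ∈ I₁ • (⊤ : Submodule S₁ M₁) := by
    intro y hy
    refine Submodule.smul_induction_on hy ?_ ?_
    · intro r hr m _
      obtain ⟨r, rfl⟩ := hθ r
      rw [hsymm]
      exact Submodule.smul_mem_smul ((hI r).mpr hr) Submodule.mem_top
    · intro x y hx hy
      rw [map_add]
      exact add_mem hx hy
  have htop : I₁ • (⊤ : Submodule S₁ M₁) = ⊤ ↔ I₂ • (⊤ : Submodule S₂ M₂) = ⊤ := by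
    rw [Submodule.eq_top_iff', Submodule.eq_top_iff']
    constructor
    · intro h y
      have := h1 _ (h (e.symm y))
      rwa [e.apply_symm_apply] at this
    · intro h x
      have := h2 _ (h (e x))
      rwa [e.symm_apply_apply] at this
  have hwr : ∀ rs : List S₁, RingTheory.Sequence.IsWeaklyRegular M₁ rs ↔
      RingTheory.Sequence.IsWeaklyRegular M₂ (rs.map θ) := by
    intro rs
    exact e.isWeaklyRegular_congr
      (List.forall₂_map_right_iff.mpr (List.forall₂_same.mpr fun r _ x => he r x))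
  unfold LocCoh.idealDepth
  by_cases h : I₁ • (⊤ : Submodule S₁ M₁) = ⊤
  · rw [if_pos h, if_pos (htop.mp h)]
  · rw [if_neg h, if_neg (fun h' => h (htop.mpr h'))]
    apply le_antisymm
    · refine iSup₂_le fun rs hrs => ?_
      refine le_iSup₂_of_le (rs.map θ) ⟨(hwr rs).mp hrs.1, ?_⟩ ?_
      · intro r hr
        obtain ⟨r', hr', rfl⟩ := List.mem_map.mp hr
        exact (hI r').mp (hrs.2 r' hr')
      · rw [List.length_map]
    · refine iSup₂_le fun rs hrs => ?_
      obtain ⟨rs', rfl⟩ := List.map_surjective_iff.mpr hθ rs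
      refine le_iSup₂_of_le rs' ⟨(hwr rs').mpr hrs.1, ?_⟩ ?_
      · intro r hr
        exact (hI r).mpr (hrs.2 _ (List.mem_map_of_mem hr))
      · rw [List.length_map]

section
variable {R : Type u} [CommRing R] (c : Ideal R) (M : Type u) [AddCommGroup M] [Module R M]
  [Module (R ⧸ c) M] [IsScalarTower R (R ⧸ c) M]

theorem mk_smul' (r : R) (m : M) : (Ideal.Quotient.mk c r) • m = r • m :=
  algebraMap_smul (R ⧸ c) r m

variable (q : Ideal (R ⧸ c)) [q.IsPrime] (p : Ideal R) [p.IsPrime]
  (hpq : p = q.comap (Ideal.Quotient.mk c))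

/-- the map on denominators -/
def toQ (s : p.primeCompl) : q.primeCompl :=
  ⟨Ideal.Quotient.mk c s.1, Localization.le_comap_primeCompl_iff.mpr (ge_of_eq hpq) s.2⟩

theorem toQ_mul (s t : p.primeCompl) : toQ c q p hpq (s * t) = toQ c q p hpq s * toQ c q p hpq t :=
  Subtype.ext (map_mul _ _ _)

theorem toQ_smul (s : p.primeCompl) (m : M) : toQ c q p hpq s • m = s • m := by
  simp only [Submonoid.smul_def, toQ]
  exact mk_smul' c M _ m

/-- the comparison map of localized modules -/
noncomputable def F : LocalizedModule p.primeCompl M → LocalizedModule q.primeCompl M :=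
  fun x => x.liftOn (fun ms => LocalizedModule.mk ms.1 (toQ c q p hpq ms.2)) (by
    rintro ⟨m, s⟩ ⟨m', s'⟩ ⟨u, hu⟩
    refine LocalizedModule.mk_eq.mpr ⟨toQ c q p hpq u, ?_⟩
    simp only [toQ_smul]
    exact hu)

theorem F_mk (m : M) (s : p.primeCompl) :
    F c M q p hpq (LocalizedModule.mk m s) = LocalizedModule.mk m (toQ c q p hpq s) :=
  LocalizedModule.liftOn_mk _ _ _

theorem F_add (x y : LocalizedModule p.primeCompl M) :
    F c M q p hpq (x + y) = F c M q p hpq x + F c M q p hpq y := by
  induction x, y using LocalizedModule.induction_on₂ with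
  | _ m m' s s' =>
    rw [LocalizedModule.mk_add_mk, F_mk, F_mk, F_mk, LocalizedModule.mk_add_mk, toQ_smul, toQ_smul,
      toQ_mul]

theorem F_injective : Function.Injective (F c M q p hpq) := by
  intro x y
  induction x, y using LocalizedModule.induction_on₂ with
  | _ m m' s s' =>
    intro h
    rw [F_mk, F_mk, LocalizedModule.mk_eq] at h
    obtain ⟨v, hv⟩ := h
    obtain ⟨u, hu⟩ := Ideal.Quotient.mk_surjective v.1
    have hup : u ∈ p.primeCompl := by
      intro hmem
      apply v.2
      rw [← hu]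
      rw [hpq] at hmem
      exact hmem
    have hvu : v = toQ c q p hpq ⟨u, hup⟩ := Subtype.ext hu.symm
    rw [hvu, toQ_smul, toQ_smul, toQ_smul, toQ_smul] at hv
    exact LocalizedModule.mk_eq.mpr ⟨⟨u, hup⟩, hv⟩

theorem F_surjective : Function.Surjective (F c M q p hpq) := by
  intro y
  induction y using LocalizedModule.induction_on with
  | _ m t =>
    obtain ⟨s, hs⟩ := Ideal.Quotient.mk_surjective t.1
    have hsp : s ∈ p.primeCompl := by
      intro hmem
      apply t.2
      rw [← hs]
      rw [hpq] at hmem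
      exact hmem
    refine ⟨LocalizedModule.mk m ⟨s, hsp⟩, ?_⟩
    rw [F_mk]
    congr 1
    exact Subtype.ext hs

/-- the comparison map as an additive equivalence -/
noncomputable def eF : LocalizedModule p.primeCompl M ≃+ LocalizedModule q.primeCompl M :=
  AddEquiv.ofBijective (AddMonoidHom.mk' (F c M q p hpq) (F_add c M q p hpq))
    ⟨F_injective c M q p hpq, F_surjective c M q p hpq⟩

theorem eF_apply (x : LocalizedModule p.primeCompl M) : eF c M q p hpq x = F c M q p hpq x := rfl

theorem theta_surjective :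
    Function.Surjective (Localization.localRingHom p q (Ideal.Quotient.mk c) hpq) := by
  intro y
  obtain ⟨s, t, rfl⟩ := IsLocalization.exists_mk'_eq q.primeCompl y
  obtain ⟨r, rfl⟩ := Ideal.Quotient.mk_surjective s
  obtain ⟨u, hu⟩ := Ideal.Quotient.mk_surjective t.1
  have hup : u ∈ p.primeCompl := by
    intro hmem
    apply t.2
    rw [← hu]
    rw [hpq] at hmem
    exact hmem
  refine ⟨IsLocalization.mk' _ r ⟨u, hup⟩, ?_⟩
  rw [Localization.localRingHom_mk']
  congr 1
  exact Subtype.ext hu

include hpq in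
theorem depth_eq :
    LocCoh.depth (Localization.AtPrime p) (LocalizedModule p.primeCompl M) =
      LocCoh.depth (Localization.AtPrime q) (LocalizedModule q.primeCompl M) := by
  unfold LocCoh.depth
  refine idealDepth_transfer (Localization.localRingHom p q (Ideal.Quotient.mk c) hpq)
    (theta_surjective c q p hpq) _ _ ?_ (eF c M q p hpq) ?_
  · intro s
    rw [IsLocalRing.mem_maximalIdeal, IsLocalRing.mem_maximalIdeal, mem_nonunits_iff,
      mem_nonunits_iff, isUnit_map_iff]
  · intro s x
    obtain ⟨r, u, rfl⟩ := IsLocalization.exists_mk'_eq p.primeCompl s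
    induction x using LocalizedModule.induction_on with
    | _ m t =>
      rw [← Localization.mk_eq_mk'_apply, eF_apply, eF_apply, LocalizedModule.mk_smul_mk,
        F_mk, F_mk, Localization.localRingHom_mk, LocalizedModule.mk_smul_mk, mk_smul', toQ_mul]
      rfl

include hpq in
theorem height_eq (a : Ideal R) :
    ((a ⊔ p).map (Ideal.Quotient.mk p)).height =
      ((a.map (Ideal.Quotient.mk c) ⊔ q).map (Ideal.Quotient.mk q)).height := by
  subst hpq
  let f : R →+* (R ⧸ c) ⧸ q := (Ideal.Quotient.mk q).comp (Ideal.Quotient.mk c)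
  have hf : Function.Surjective f :=
    Ideal.Quotient.mk_surjective.comp Ideal.Quotient.mk_surjective
  have hker : q.comap (Ideal.Quotient.mk c) = RingHom.ker f := by
    ext x
    simp [f, RingHom.mem_ker, Ideal.Quotient.eq_zero_iff_mem]
  let e : R ⧸ q.comap (Ideal.Quotient.mk c) ≃+* (R ⧸ c) ⧸ q :=
    (Ideal.quotEquivOfEq hker).trans (RingHom.quotientKerEquivOfSurjective hf)
  have he : (e : R ⧸ q.comap (Ideal.Quotient.mk c) →+* (R ⧸ c) ⧸ q).comp
      (Ideal.Quotient.mk (q.comap (Ideal.Quotient.mk c))) = f := by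
    ext x
    rfl
  have h1 : (((a ⊔ q.comap (Ideal.Quotient.mk c)).map
      (Ideal.Quotient.mk (q.comap (Ideal.Quotient.mk c)))).map
        (e : R ⧸ q.comap (Ideal.Quotient.mk c) →+* (R ⧸ c) ⧸ q)).height =
      ((a ⊔ q.comap (Ideal.Quotient.mk c)).map
        (Ideal.Quotient.mk (q.comap (Ideal.Quotient.mk c)))).height :=
    RingEquiv.height_map e _
  rw [← h1, Ideal.map_map, he]
  congr 1
  show (a ⊔ q.comap (Ideal.Quotient.mk c)).map
    ((Ideal.Quotient.mk q).comp (Ideal.Quotient.mk c)) = _
  rw [← Ideal.map_map, Ideal.map_sup,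
    Ideal.map_comap_of_surjective _ Ideal.Quotient.mk_surjective]

end

section
variable {R : Type u} [CommRing R] (c : Ideal R) (M : Type u) [AddCommGroup M] [Module R M]
  [Module (R ⧸ c) M] [IsScalarTower R (R ⧸ c) M]

theorem adjDepth_top (a : Ideal R) (p : PrimeSpectrum R) (hc : ¬ c ≤ p.asIdeal) :
    LocCoh.adjDepth a M p = ⊤ := by
  obtain ⟨s, hs, hsp⟩ := SetLike.not_le_iff_exists.mp hc
  have hsub : Subsingleton (LocalizedModule p.asIdeal.primeCompl M) := by
    rw [LocalizedModule.subsingleton_iff]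
    intro m
    refine ⟨s, hsp, ?_⟩
    rw [← mk_smul' c M s m, Ideal.Quotient.eq_zero_iff_mem.mpr hs, zero_smul]
  unfold LocCoh.adjDepth LocCoh.depth LocCoh.idealDepth
  rw [if_pos (Subsingleton.elim _ _), top_add]

theorem main (a b : Ideal R) :
    LocCoh.minAdjDepth a b M =
      LocCoh.minAdjDepth (a.map (Ideal.Quotient.mk c)) (b.map (Ideal.Quotient.mk c)) M := by
  have key : ∀ q : PrimeSpectrum (R ⧸ c),
      LocCoh.adjDepth a M (PrimeSpectrum.comap (Ideal.Quotient.mk c) q) =
        LocCoh.adjDepth (a.map (Ideal.Quotient.mk c)) M q := by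
    intro q
    unfold LocCoh.adjDepth
    congr 1
    · exact depth_eq c M q.asIdeal _ rfl
    · exact height_eq c q.asIdeal _ rfl a
  have hb : ∀ q : PrimeSpectrum (R ⧸ c),
      (b ≤ (PrimeSpectrum.comap (Ideal.Quotient.mk c) q).asIdeal ↔
        b.map (Ideal.Quotient.mk c) ≤ q.asIdeal) :=
    fun q => Ideal.map_le_iff_le_comap.symm
  unfold LocCoh.minAdjDepth
  apply le_antisymm
  · refine le_iInf₂ fun q hq => ?_
    rw [← key q]
    exact iInf₂_le (PrimeSpectrum.comap (Ideal.Quotient.mk c) q) (fun h => hq ((hb q).mp h))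
  · refine le_iInf₂ fun p hp => ?_
    by_cases hc : c ≤ p.asIdeal
    · have hprime : (p.asIdeal.map (Ideal.Quotient.mk c)).IsPrime :=
        Ideal.isPrime_map_quotientMk_of_isPrime hc
      have hpq : PrimeSpectrum.comap (Ideal.Quotient.mk c)
          (⟨p.asIdeal.map (Ideal.Quotient.mk c), hprime⟩ : PrimeSpectrum (R ⧸ c)) = p :=
        PrimeSpectrum.ext (Ideal.comap_map_mk hc)
      have hk := key ⟨p.asIdeal.map (Ideal.Quotient.mk c), hprime⟩
      rw [hpq] at hk
      rw [hk]
      refine iInf₂_le (⟨p.asIdeal.map (Ideal.Quotient.mk c), hprime⟩ : PrimeSpectrum (R ⧸ c)) ?_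
      intro h
      apply hp
      have := (hb ⟨p.asIdeal.map (Ideal.Quotient.mk c), hprime⟩).mpr h
      rw [hpq] at this
      exact this
    · rw [adjDepth_top c M a p hc]
      exact le_top

end

end Groth.Agent.Helper1.AdjDepthQuot
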