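import Groth.Agent.Helper1.CharSeq
import Groth.Agent.H11.GeomRedSmooth2

/-!
# Injectivity of `Υ_{L/K/k₀} → Υ_{L/K/k}` (EGA 0_IV 21.6.x)
-/

universe v w

namespace Groth.Agent.Helper1.ImperfInj

open TensorProduct KaehlerDifferential Groth.Agent.Helper1.CharSeq

/-- Geometric reducedness transports along a surjection of base fields. -/
theorem isGeometricallyReduced_of_surjective (k k' L : Type*) [Field k] [Field k'] [CommRing L]
    [Algebra k k'] [Algebra k L] [Algebra k' L] [IsScalarTower k k' L]
    (hs : Function.Surjective (algebraMap k k')) [Algebra.IsGeometricallyReduced k L] :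
    Algebra.IsGeometricallyReduced k' L := by
  rw [Algebra.isGeometricallyReduced_field_iff]
  have : Algebra.IsAlgebraic k k' :=
    ⟨fun x => by obtain ⟨y, rfl⟩ := hs x; exact isAlgebraic_algebraMap y⟩
  have : Algebra.IsAlgebraic k (AlgebraicClosure k') :=
    Algebra.IsAlgebraic.trans k k' (AlgebraicClosure k')
  have : IsReduced (AlgebraicClosure k' ⊗[k] L) := inferInstance
  have : TensorProduct.CompatibleSMul k k' (AlgebraicClosure k') L :=
    .of_algebraMap_surjective _ _ hs
  exact isReduced_of_injective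
    (Algebra.TensorProduct.equivOfCompatibleSMul k k' k (AlgebraicClosure k') L)
    (AlgEquiv.injective _)

section Chase

variable {Λ A B C : Type*} [CommRing Λ] [CommRing A] [CommRing B] [CommRing C]
  [Algebra Λ A] [Algebra Λ B] [Algebra A B] [IsScalarTower Λ A B]
  [Algebra Λ C] [Algebra A C] [Algebra B C]
  [IsScalarTower Λ A C] [IsScalarTower Λ B C] [IsScalarTower A B C]

lemma exists_imgB_eq (z : C ⊗[B] Ω[B⁄Λ])
    (h0 : (KaehlerDifferential.map Λ A B B).baseChange C z = 0) :
    ∃ w : C ⊗[A] Ω[A⁄Λ], imgB Λ A B C w = z := by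
  obtain ⟨w, hw⟩ := (exact_imgB_imgA Λ A B C z).mp h0
  refine ⟨AlgebraTensorModule.cancelBaseChange A B C C Ω[A⁄Λ] w, ?_⟩
  rw [imgB, LinearMap.comp_apply, LinearEquiv.coe_coe, LinearEquiv.symm_apply_apply]
  exact hw

/-- If `C ⊗_A Ω_{A/Λ} → Ω_{C/Λ}` is injective then `Υ_{C/B/Λ} → Υ_{C/B/A}` is injective. -/
lemma eq_zero_of_injective (hinj : Function.Injective (mapBaseChange Λ A C))
    (z : C ⊗[B] Ω[B⁄Λ]) (hz : mapBaseChange Λ B C z = 0)
    (h0 : (KaehlerDifferential.map Λ A B B).baseChange C z = 0) : z = 0 := by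
  obtain ⟨w, rfl⟩ := exists_imgB_eq z h0
  rw [mapBaseChange_imgB] at hz
  have : w = 0 := hinj (by rw [hz, map_zero])
  rw [this, map_zero]

/-- If `Ω_{A/Λ} → Ω_{B/Λ}` vanishes then `Υ_{C/B/Λ} → Υ_{C/B/A}` is injective. -/
lemma eq_zero_of_map_eq_zero (hD : ∀ a : A, D Λ B (algebraMap A B a) = 0)
    (z : C ⊗[B] Ω[B⁄Λ])
    (h0 : (KaehlerDifferential.map Λ A B B).baseChange C z = 0) : z = 0 := by
  obtain ⟨w, rfl⟩ := exists_imgB_eq z h0
  have hmap : ∀ ω : Ω[A⁄Λ], KaehlerDifferential.map Λ Λ A B ω = 0 := by
    intro ω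
    have hω : ω ∈ Submodule.span A (Set.range (D Λ A)) := by
      rw [span_range_derivation]; trivial
    refine Submodule.span_induction ?_ ?_ ?_ ?_ hω
    · rintro _ ⟨a, rfl⟩
      rw [map_D]
      exact hD a
    · exact map_zero _
    · intro x y _ _ hx hy
      rw [map_add, hx, hy, add_zero]
    · intro a x _ hx
      rw [map_smul, hx, smul_zero]
  clear h0
  induction w using TensorProduct.induction_on with
  | zero => rw [map_zero]
  | add y y' h h' => rw [map_add, h, h', add_zero]
  | tmul c ω => rw [imgB_tmul, hmap, tmul_zero]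

/-- Injectivity through an intermediate ring formally smooth over `A`. -/
lemma injective_of_tower
    [Algebra.FormallySmooth A B] (hinj : Function.Injective (mapBaseChange Λ B C)) :
    Function.Injective (mapBaseChange Λ A C) := by
  intro a b hab
  have ha := mapBaseChange_imgB (Λ := Λ) (A := A) (B := B) (C := C) a
  have hb := mapBaseChange_imgB (Λ := Λ) (A := A) (B := B) (C := C) b
  have h1 := hinj (ha.trans (hab.trans hb.symm))
  rw [imgB, LinearMap.comp_apply, LinearMap.comp_apply] at h1
  have h2 := baseChange_injective_of_formallySmooth Λ A B C h1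
  exact (AlgebraTensorModule.cancelBaseChange A B C C Ω[A⁄Λ]).symm.injective h2

end Chase

/-- In characteristic `p`, the universal derivation of `K/k₀` kills `k₀[K^p]`. -/
lemma D_eq_zero_of_mem_pPower {k₀ K : Type w} [Field k₀] [Field K] [Algebra k₀ K] (p : ℕ)
    [CharP K p] (y : K) (hy : y ∈ EGA41.pPowerSubalgebra p k₀ K) : D k₀ K y = 0 := by
  unfold EGA41.pPowerSubalgebra at hy
  induction hy using Algebra.adjoin_induction with
  | mem x hx =>
    obtain ⟨b, rfl⟩ := hx
    rw [Derivation.leibniz_pow, ← Nat.cast_smul_eq_nsmul K, CharP.cast_eq_zero, zero_smul]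
  | algebraMap r => exact Derivation.map_algebraMap _ r
  | add x y _ _ hx hy => rw [map_add, hx, hy, add_zero]
  | mul x y _ _ hx hy => rw [Derivation.leibniz, hx, hy, smul_zero, smul_zero, add_zero]

theorem main {k : Type v} {k₀ K L : Type w}
    [Field k₀] [Field k] [Field K] [Field L] [Algebra k₀ k] [Algebra k₀ K] [Algebra k₀ L]
    [Algebra k K]
    [Algebra k L] [Algebra K L] [IsScalarTower k₀ k K] [IsScalarTower k₀ k L]
    [IsScalarTower k₀ K L]
    [IsScalarTower k K L] (p : ℕ) [ExpChar K p]
    (h : Algebra.IsGeometricallyReduced k L ∨ Algebra.IsGeometricallyReduced K L ∨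
      ∀ x : k, algebraMap k K x ∈ EGA41.pPowerSubalgebra p k₀ K) :
    ∀ z : L ⊗[K] Ω[K⁄k₀], z ∈ EGA41.imperfection k₀ K L →
      (KaehlerDifferential.map k₀ k K K).baseChange L z = 0 → z = 0 := by
  intro z hz h0
  have hz' : mapBaseChange k₀ K L z = 0 := hz
  have caseB : Algebra.FormallySmooth K L → z = 0 := by
    intro hfs
    have hinj := Groth.Agent.H11.GeomRedSmooth.injective_mapBaseChange_of_subsingleton k₀ K L
    exact hinj (by rw [hz', map_zero])
  rcases h with hk | hK | hc
  · -- `L` separable over `k`: replace `k` by its image `k'` in `K`.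
    let k' : IntermediateField k K := ⊥
    have : IsScalarTower k₀ k' L :=
      IsScalarTower.of_algebraMap_eq (fun x => IsScalarTower.algebraMap_apply k₀ K L x)
    have hs : Function.Surjective (algebraMap k k') := by
      intro y
      obtain ⟨a, ha⟩ := IntermediateField.mem_bot.mp y.2
      exact ⟨a, Subtype.ext ha⟩
    have : Algebra.IsGeometricallyReduced k' L := isGeometricallyReduced_of_surjective k k' L hs
    have : Algebra.FormallySmooth k' L :=
      Groth.Agent.H27.FieldSmooth.formallySmooth_of_geomReduced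
    have : Algebra.FormallySmooth k k' :=
      Algebra.FormallySmooth.of_equiv (IntermediateField.botEquiv k K).symm
    have hinj1 := Groth.Agent.H11.GeomRedSmooth.injective_mapBaseChange_of_subsingleton k₀ k' L
    have hinj : Function.Injective (mapBaseChange k₀ k L) := injective_of_tower (B := k') hinj1
    exact eq_zero_of_injective hinj z hz' h0
  · exact caseB Groth.Agent.H27.FieldSmooth.formallySmooth_of_geomReduced
  · cases ‹ExpChar K p› with
    | zero => exact caseB (Groth.Agent.H27.FieldSmooth.formallySmooth_of_charZero K L)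
    | prime hp =>
      exact eq_zero_of_map_eq_zero
        (fun a => D_eq_zero_of_mem_pPower p _ (hc a)) z h0

end Groth.Agent.Helper1.ImperfInj
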