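import Groth.Agent.H21.PDesc
import Groth.Agent.Helper1.ImperfInj

/-!
# Admissible subfields (EGA 0_IV 21.8)
-/

set_option autoImplicit false
universe u

open EGA41 Groth.Agent.H21.PBasis H21.PField H21.PDesc TensorProduct KaehlerDifferential

namespace Groth.Agent.Helper1.Admiss

section General

variable {k₀ K L : Type u} [Field k₀] [Field K] [Field L] [Algebra k₀ K] [Algebra K L]
  [Algebra k₀ L] [IsScalarTower k₀ K L]
variable {ι : Type u} (b : Module.Basis ι K Ω[K⁄k₀])

/-- finite support of the imperfection module in a base-changed basis -/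
lemma exists_support [hfin : Module.Finite L (imperfection k₀ K L)] :
    ∃ S : Finset ι, ∀ ω ∈ imperfection k₀ K L, ∀ t, t ∉ S →
      (Algebra.TensorProduct.basis L b).repr ω t = 0 := by
  classical
  obtain ⟨G, hG⟩ := Module.Finite.iff_fg.mp hfin
  refine ⟨G.biUnion (fun g => ((Algebra.TensorProduct.basis L b).repr g).support), ?_⟩
  intro ω hω
  rw [← hG] at hω
  refine Submodule.span_induction ?_ ?_ ?_ ?_ hω
  · intro g hg t ht
    by_contra hne
    exact ht (Finset.mem_biUnion.mpr ⟨g, hg, Finsupp.mem_support_iff.mpr hne⟩)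
  · intro t _
    rw [map_zero]
    rfl
  · intro y z _ _ hy hz t ht
    rw [map_add, Finsupp.add_apply, hy t ht, hz t ht, add_zero]
  · intro a y _ hy t ht
    rw [map_smul, Finsupp.smul_apply, hy t ht, smul_zero]

omit [Algebra k₀ L] [IsScalarTower k₀ K L] in
lemma eq_zero_of_linearIndependent (x : ι → K) (hb : ∀ i, b i = D k₀ K (x i))
    (S : Finset ι) (k : IntermediateField k₀ K)
    (hli : LinearIndependent K (fun t : S => D k K (x t.1)))
    (ω : L ⊗[K] Ω[K⁄k₀])
    (hsupp : ∀ t, t ∉ S → (Algebra.TensorProduct.basis L b).repr ω t = 0)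
    (h0 : ((KaehlerDifferential.map k₀ k K K).restrictScalars K).baseChange L ω = 0) :
    ω = 0 := by
  classical
  have hω : ω = ∑ t ∈ S, ((Algebra.TensorProduct.basis L b).repr ω t) •
      (Algebra.TensorProduct.basis L b) t := by
    conv_lhs => rw [← (Algebra.TensorProduct.basis L b).linearCombination_repr ω]
    rw [Finsupp.linearCombination_apply]
    apply Finsupp.sum_of_support_subset
    · intro t ht
      by_contra hts
      exact (Finsupp.mem_support_iff.mp ht) (hsupp t hts)
    · intro t _
      rw [zero_smul]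
  have hli' := Module.Flat.linearIndependent_one_tmul (S := L) hli
  rw [hω, map_sum] at h0
  have h1 : ∀ t ∈ S, (((KaehlerDifferential.map k₀ k K K).restrictScalars K).baseChange L)
      (((Algebra.TensorProduct.basis L b).repr ω t) • (Algebra.TensorProduct.basis L b) t) =
      ((Algebra.TensorProduct.basis L b).repr ω t) • ((1 : L) ⊗ₜ[K] D k K (x t)) := by
    intro t _
    rw [map_smul, Algebra.TensorProduct.basis_apply, LinearMap.baseChange_tmul, hb,
      LinearMap.restrictScalars_apply, KaehlerDifferential.map_D]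
    rfl
  rw [Finset.sum_congr rfl h1, ← Finset.sum_coe_sort] at h0
  have h2 := Fintype.linearIndependent_iff.mp hli'
    (fun t => (Algebra.TensorProduct.basis L b).repr ω t.1) h0
  rw [hω]
  exact Finset.sum_eq_zero (fun t ht => by rw [h2 ⟨t, ht⟩, zero_smul])

end General

section Field

variable (p : ℕ) [hpf : Fact p.Prime] {k₀ K : Type u} [Field k₀] [Field K] [Algebra k₀ K]
  [CharP K p]

/-- the subfield `k₀(K^p)(T)` -/
noncomputable def kOf (T : Set K) : IntermediateField k₀ K :=
  IntermediateField.adjoin k₀ ((Set.range fun y : K => y ^ p) ∪ T)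

omit hpf [CharP K p] in
lemma pow_mem_kOf (T : Set K) (y : K) : y ^ p ∈ kOf (k₀ := k₀) p T :=
  IntermediateField.subset_adjoin _ _ (Or.inl ⟨y, rfl⟩)

omit hpf in
lemma coord_D_eq_zero {ι : Type u} (b : Module.Basis ι K Ω[K⁄k₀]) (x : ι → K)
    (hb : ∀ i, b i = D k₀ K (x i)) (S : Finset ι) (s : ι) (hs : s ∈ S) (a : K)
    (ha : a ∈ kOf (k₀ := k₀) p (x '' {t | t ∉ S})) :
    b.coord s (D k₀ K a) = 0 := by
  classical
  unfold kOf at ha
  induction ha using IntermediateField.adjoin_induction with
  | mem y hy =>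
    rcases hy with ⟨z, rfl⟩ | ⟨t, ht, rfl⟩
    · rw [Derivation.leibniz_pow, ← Nat.cast_smul_eq_nsmul K, CharP.cast_eq_zero, zero_smul,
        map_zero]
    · rw [← hb, Module.Basis.coord_apply, Module.Basis.repr_self, Finsupp.single_apply, if_neg]
      rintro rfl
      exact ht hs
  | algebraMap r => rw [Derivation.map_algebraMap, map_zero]
  | add y z _ _ hy hz => rw [map_add, map_add, hy, hz, add_zero]
  | inv y _ hy => rw [Derivation.leibniz_inv, map_smul, hy, smul_zero]
  | mul y z _ _ hy hz =>
    rw [Derivation.leibniz, map_add, map_smul, map_smul, hy, hz, smul_zero, smul_zero, add_zero]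

omit hpf [CharP K p] in
/-- a `k₀`-derivation `K → K` vanishing on `k` is a `k`-derivation -/
noncomputable def derOfKill (k : IntermediateField k₀ K) (d : Derivation k₀ K K)
    (hd : ∀ a : k, d a = 0) : Derivation k K K :=
  Derivation.mk'
    { toFun := d
      map_add' := map_add d
      map_smul' := fun a y => by
        rw [RingHom.id_apply, Algebra.smul_def, Derivation.leibniz]
        have : d (algebraMap k K a) = 0 := hd a
        rw [this, smul_zero, add_zero]
        rfl }
    (fun a b => Derivation.leibniz d a b)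

omit hpf [CharP K p] in
lemma derOfKill_apply (k : IntermediateField k₀ K) (d : Derivation k₀ K K)
    (hd : ∀ a : k, d a = 0) (y : K) : derOfKill k d hd y = d y := rfl

omit hpf in
lemma linearIndependent_D_kOf {ι : Type u} (b : Module.Basis ι K Ω[K⁄k₀]) (x : ι → K)
    (hb : ∀ i, b i = D k₀ K (x i)) (S : Finset ι) :
    LinearIndependent K
      (fun t : S => D (kOf (k₀ := k₀) p (x '' {t | t ∉ S})) K (x t.1)) := by
  classical
  rw [Fintype.linearIndependent_iff]
  intro g hg s
  let d₀ : Derivation k₀ K K := (b.coord s.1).compDer (D k₀ K)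
  let d := derOfKill (kOf (k₀ := k₀) p (x '' {t | t ∉ S})) d₀
    (fun a => coord_D_eq_zero p b x hb S s.1 s.2 a.1 a.2)
  have := congrArg d.liftKaehlerDifferential hg
  rw [map_sum, map_zero] at this
  have h2 : ∀ t : S, d.liftKaehlerDifferential
      (g t • D (kOf (k₀ := k₀) p (x '' {t | t ∉ S})) K (x t.1)) =
      if t = s then g t else 0 := by
    intro t
    rw [map_smul, Derivation.liftKaehlerDifferential_comp_D]
    show g t • (b.coord s.1 (D k₀ K (x t.1))) = _
    rw [← hb, Module.Basis.coord_apply, Module.Basis.repr_self, Finsupp.single_apply, smul_eq_mul]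
    by_cases h : t = s
    · subst h
      rw [if_pos rfl, if_pos rfl, mul_one]
    · rw [if_neg (fun h' => h (Subtype.ext h')), if_neg h, mul_zero]
  rw [Finset.sum_congr rfl (fun t _ => h2 t), Finset.sum_ite_eq' Finset.univ s,
    if_pos (Finset.mem_univ _)] at this
  exact this

omit [CharP K p] in
lemma finite_kOf {ι : Type u} (x : ι → K) (S : Finset ι)
    (hgen : ∀ y : K, y ∈ Algebra.adjoin (pPowerSubalgebra p k₀ K) (Set.range x)) :
    Module.Finite (kOf (k₀ := k₀) p (x '' {t | t ∉ S})) K := by
  classical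
  have hfin : (x '' (S : Set ι)).Finite := (Finset.finite_toSet S).image x
  have hint : ∀ y ∈ x '' (S : Set ι), IsIntegral (kOf (k₀ := k₀) p (x '' {t | t ∉ S})) y := by
    intro y _
    refine IsIntegral.of_pow hpf.out.pos ?_
    have : y ^ p = algebraMap (kOf (k₀ := k₀) p (x '' {t | t ∉ S})) K
        ⟨y ^ p, pow_mem_kOf p _ y⟩ := rfl
    rw [this]
    exact isIntegral_algebraMap
  have hfin' := Algebra.finite_adjoin_of_finite_of_isIntegral hfin hint
  have htop : Algebra.adjoin (kOf (k₀ := k₀) p (x '' {t | t ∉ S})) (x '' (S : Set ι)) = ⊤ := by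
    rw [eq_top_iff]
    rintro y -
    have hy := hgen y
    induction hy using Algebra.adjoin_induction with
    | mem z hz =>
      obtain ⟨t, rfl⟩ := hz
      by_cases ht : t ∈ S
      · exact Algebra.subset_adjoin ⟨t, ht, rfl⟩
      · exact Subalgebra.algebraMap_mem _
          (⟨x t, IntermediateField.subset_adjoin _ _ (Or.inr ⟨t, ht, rfl⟩)⟩ :
            kOf (k₀ := k₀) p (x '' {t | t ∉ S}))
    | algebraMap c =>
      have hc : (c : K) ∈ kOf (k₀ := k₀) p (x '' {t | t ∉ S}) := by
        have hle : pPowerSubalgebra p k₀ K ≤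
            (kOf (k₀ := k₀) p (x '' {t | t ∉ S})).toSubalgebra := by
          unfold pPowerSubalgebra
          apply Algebra.adjoin_le
          rintro _ ⟨z, rfl⟩
          exact pow_mem_kOf p _ z
        exact hle c.2
      exact Subalgebra.algebraMap_mem _
        (⟨c, hc⟩ : kOf (k₀ := k₀) p (x '' {t | t ∉ S}))
    | add a b _ _ ha hb => exact add_mem ha hb
    | mul a b _ _ ha hb => exact mul_mem ha hb
  rw [htop] at hfin'
  exact Module.Finite.equiv (Subalgebra.topEquiv
    (R := kOf (k₀ := k₀) p (x '' {t | t ∉ S})) (A := K)).toLinearEquiv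

theorem main_S4549 {L : Type u} [Field L] [Algebra K L] [Algebra k₀ L] [IsScalarTower k₀ K L]
    [Module.Finite L (imperfection k₀ K L)] :
    ∃ k : IntermediateField k₀ K, (∀ y : K, y ^ p ∈ k) ∧ Module.Finite k K ∧
      ∀ ω ∈ imperfection k₀ K L,
        ((KaehlerDifferential.map k₀ k K K).restrictScalars K).baseChange L ω = 0 → ω = 0 := by
  obtain ⟨B, -, -, hB, hgen⟩ := exists_maximal (p := p) (k := k₀) (∅ : Set K) Set.univ
    (Set.empty_subset _) PI_empty
  have hbasis := isPBasis_of_PI_of_gen B hB hgen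
  obtain ⟨b, hb⟩ := exists_basis_D hbasis
  obtain ⟨S, hS⟩ := exists_support (L := L) b
  refine ⟨kOf p (Subtype.val '' {t : B | t ∉ S}), pow_mem_kOf p _, finite_kOf p _ S ?_, ?_⟩
  · intro y
    rw [Subtype.range_coe]
    exact hgen (Set.mem_univ y)
  · intro ω hω h0
    exact eq_zero_of_linearIndependent b Subtype.val hb S _
      (linearIndependent_D_kOf p b _ hb S) ω (hS ω hω) h0

end Field

end Groth.Agent.Helper1.Admiss
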