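import Groth.Agent.Helper1.Admiss

/-!
# Admissible families of subfields (EGA 0_IV 21.8.3, (a) ⇔ (b))
-/

set_option autoImplicit false
universe u

open EGA41 Groth.Agent.H21.PBasis H21.PField H21.PDesc TensorProduct KaehlerDifferential

namespace Groth.Agent.Helper1.Admiss

variable (p : ℕ) [hpf : Fact p.Prime] {k₀ K : Type u} [Field k₀] [Field K] [Algebra k₀ K]
  [CharP K p]

section Forward

variable {ι : Type u} [Preorder ι] [IsDirected ι (· ≤ ·)] [Nonempty ι]
  (k : ι → IntermediateField k₀ K)

theorem forward_S4545 (hk : Antitone k)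
    (h : (⨅ i, k i ⊔ IntermediateField.adjoin k₀ (Set.range fun y : K => y ^ p)) =
      IntermediateField.adjoin k₀ (Set.range fun y : K => y ^ p))
    (L : Type u) [Field L] [Algebra K L] [Algebra k₀ L] [IsScalarTower k₀ K L]
    (hfin : Module.Finite L (imperfection k₀ K L)) :
    ∃ i, ∀ ω ∈ imperfection k₀ K L,
      ((KaehlerDifferential.map k₀ (k i) K K).restrictScalars K).baseChange L ω = 0 → ω = 0 := by
  classical
  have h' : ∀ x, (∀ i, x ∈ pPowerSubalgebra p ↥(k i) K) → x ∈ pPowerSubalgebra p k₀ K := by
    intro x hx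
    rw [← mem_adjoin_iff, ← h]
    have : x ∈ ((⨅ i, k i ⊔ IntermediateField.adjoin k₀ (Set.range fun y : K => y ^ p) :
        IntermediateField k₀ K) : Set K) := by
      rw [IntermediateField.coe_iInf]
      exact Set.mem_iInter.mpr (fun i => (mem_sup_adjoin_iff p (k i) x).mpr (hx i))
    exact this
  obtain ⟨B, -, -, hB, hgen⟩ := exists_maximal (p := p) (k := k₀) (∅ : Set K) Set.univ
    (Set.empty_subset _) PI_empty
  have hbasis := isPBasis_of_PI_of_gen B hB hgen
  obtain ⟨b, hb⟩ := exists_basis_D hbasis
  obtain ⟨S, hS⟩ := exists_support (L := L) b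
  obtain ⟨x, hx⟩ : ∃ x : S → K, x = fun s => s.1.1 := ⟨_, rfl⟩
  have hxinj : Function.Injective x := by
    intro s t hst
    rw [hx] at hst
    exact Subtype.ext (Subtype.ext hst)
  have hT : (Set.range x).Finite := Set.finite_range x
  have hPI₀ : PI p k₀ (Set.range x) := hB.mono (by
    rintro _ ⟨s, rfl⟩
    rw [hx]
    exact s.1.2)
  obtain ⟨i, hi⟩ := PI_descend p k hk h' (Set.range x) hT hPI₀
  have h1 : IsPIndependent p ↥(k i) x := (isPIndependent_iff_PI_range x hxinj).mpr hi
  have h2 := linIndep_D_of_isPIndependent x h1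
  rw [hx] at h2
  exact ⟨i, fun ω hω h0 =>
    eq_zero_of_linearIndependent b Subtype.val hb S (k i) h2 ω (hS ω hω) h0⟩

end Forward

section Backward

variable {ι : Type u} (k : ι → IntermediateField k₀ K)

theorem backward_S4545
    (H : ∀ (L : Type u) [Field L] [Algebra K L] [Algebra k₀ L] [IsScalarTower k₀ K L],
        Module.Finite L (imperfection k₀ K L) →
          ∃ i, ∀ ω ∈ imperfection k₀ K L,
            ((KaehlerDifferential.map k₀ (k i) K K).restrictScalars K).baseChange L ω = 0 →
              ω = 0) :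
    (⨅ i, k i ⊔ IntermediateField.adjoin k₀ (Set.range fun y : K => y ^ p)) =
      IntermediateField.adjoin k₀ (Set.range fun y : K => y ^ p) := by
  apply le_antisymm
  · intro x hx
    have hx' : ∀ i, x ∈ k i ⊔ IntermediateField.adjoin k₀ (Set.range fun y : K => y ^ p) := by
      have : x ∈ ((⨅ i, k i ⊔ IntermediateField.adjoin k₀ (Set.range fun y : K => y ^ p) :
          IntermediateField k₀ K) : Set K) := hx
      rw [IntermediateField.coe_iInf] at this
      exact fun i => Set.mem_iInter.mp this i
    rw [mem_adjoin_iff]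
    apply mem_of_D_eq_zero p k₀ x
    -- construct the field `L = K(x^{1/p})`
    obtain ⟨ξ, hξ⟩ : ∃ ξ : AlgebraicClosure K, ξ ^ p = algebraMap K (AlgebraicClosure K) x :=
      IsAlgClosed.exists_pow_nat_eq _ hpf.out.pos
    let L : IntermediateField K (AlgebraicClosure K) := IntermediateField.adjoin K {ξ}
    have hξint : IsIntegral K ξ := Algebra.IsIntegral.isIntegral ξ
    have : FiniteDimensional K L := IntermediateField.adjoin.finiteDimensional hξint
    have : Algebra.FinitePresentation K L :=
      Algebra.FinitePresentation.of_finiteType.mp inferInstance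
    have : CharP L p := charP_of_injective_algebraMap (algebraMap K L).injective p
    have hfin : Module.Finite L (imperfection k₀ K L) := by
      have hex := Algebra.H1Cotangent.exact_δ_mapBaseChange k₀ K L
      have : imperfection k₀ K L = LinearMap.range (Algebra.H1Cotangent.δ k₀ K L) :=
        LinearMap.exact_iff.mp hex
      rw [this]
      infer_instance
    obtain ⟨i, hi⟩ := H L hfin
    let ξ' : L := ⟨ξ, IntermediateField.mem_adjoin_simple_self K ξ⟩
    have hξ' : algebraMap K L x = ξ' ^ p := by
      apply Subtype.ext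
      exact hξ.symm
    have hmem : (1 : L) ⊗ₜ[K] D k₀ K x ∈ imperfection k₀ K L := by
      show mapBaseChange k₀ K L ((1 : L) ⊗ₜ[K] D k₀ K x) = 0
      rw [mapBaseChange_tmul, one_smul, map_D, hξ']
      exact Groth.Agent.Helper1.ImperfInj.D_eq_zero_of_mem_pPower p _
        (Algebra.subset_adjoin ⟨ξ', rfl⟩)
    have himg : ((KaehlerDifferential.map k₀ (k i) K K).restrictScalars K).baseChange L
        ((1 : L) ⊗ₜ[K] D k₀ K x) = 0 := by
      rw [LinearMap.baseChange_tmul, LinearMap.restrictScalars_apply, map_D]
      have : D (k i) K x = 0 :=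
        Groth.Agent.Helper1.ImperfInj.D_eq_zero_of_mem_pPower p x
          ((mem_sup_adjoin_iff p (k i) x).mp (hx' i))
      show (1 : L) ⊗ₜ[K] D (k i) K ((algebraMap K K) x) = 0
      rw [Algebra.algebraMap_self_apply, this, tmul_zero]
    have h0 := hi _ hmem himg
    have hinj := Module.Flat.tensorProduct_mk_injective K Ω[K⁄k₀] L
    apply hinj
    rw [map_zero]
    exact h0
  · exact le_iInf (fun i => le_sup_right)

end Backward

end Groth.Agent.Helper1.Admiss
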