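import Groth.Agent.Helper1.Admiss2

/-!
# Admissible families of subfields pass to extensions with finite imperfection (EGA 0_IV 21.8.4)
-/

set_option autoImplicit false
universe u

open EGA41 Groth.Agent.H21.PBasis H21.PField H21.PDesc TensorProduct KaehlerDifferential

namespace Groth.Agent.Helper1.Admiss

section KeyA

variable {k₀ K L : Type u} [Field k₀] [Field K] [Field L] [Algebra k₀ K] [Algebra K L]
  [Algebra k₀ L] [IsScalarTower k₀ K L]

lemma keyA_aux (k : IntermediateField k₀ K) (k' : IntermediateField k₀ L)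
    (hkk' : ∀ a' ∈ k', ∃ a ∈ k, algebraMap K L a = a') (w : L ⊗[k'] Ω[k'⁄k₀]) :
    ∃ η : L ⊗[K] Ω[K⁄k₀], mapBaseChange k₀ K L η = mapBaseChange k₀ k' L w ∧
      ((KaehlerDifferential.map k₀ k K K).restrictScalars K).baseChange L η = 0 := by
  induction w using TensorProduct.induction_on with
  | zero => exact ⟨0, by rw [map_zero, map_zero], map_zero _⟩
  | add y z hy hz =>
    obtain ⟨η₁, h1, h1'⟩ := hy
    obtain ⟨η₂, h2, h2'⟩ := hz
    exact ⟨η₁ + η₂, by rw [map_add, map_add, h1, h2], by rw [map_add, h1', h2', add_zero]⟩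
  | tmul l ω' =>
    have hω : ω' ∈ Submodule.span k' (Set.range (D k₀ k')) := by
      rw [span_range_derivation]; trivial
    revert l
    refine Submodule.span_induction (p := fun ω' _ => ∀ l : L,
      ∃ η : L ⊗[K] Ω[K⁄k₀], mapBaseChange k₀ K L η = mapBaseChange k₀ k' L (l ⊗ₜ[k'] ω') ∧
        ((KaehlerDifferential.map k₀ k K K).restrictScalars K).baseChange L η = 0)
      ?_ ?_ ?_ ?_ hω
    · rintro _ ⟨a', rfl⟩ l
      obtain ⟨a, ha, haa'⟩ := hkk' a'.1 a'.2
      refine ⟨l ⊗ₜ[K] D k₀ K a, ?_, ?_⟩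
      · rw [mapBaseChange_tmul, mapBaseChange_tmul, map_D, map_D, haa']
        rfl
      · rw [LinearMap.baseChange_tmul, LinearMap.restrictScalars_apply, map_D]
        have h0 : D k K (algebraMap K K a) = 0 := by
          have : algebraMap K K a = algebraMap k K ⟨a, ha⟩ := rfl
          rw [this, Derivation.map_algebraMap]
        rw [h0, tmul_zero]
    · intro l
      exact ⟨0, by rw [tmul_zero, map_zero, map_zero], map_zero _⟩
    · intro ω₁ ω₂ _ _ h1 h2 l
      obtain ⟨η₁, e1, e1'⟩ := h1 l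
      obtain ⟨η₂, e2, e2'⟩ := h2 l
      exact ⟨η₁ + η₂, by rw [tmul_add, map_add, map_add, e1, e2],
        by rw [map_add, e1', e2', add_zero]⟩
    · intro c ω₁ _ h1 l
      obtain ⟨η₁, e1, e1'⟩ := h1 (c • l)
      exact ⟨η₁, by rw [e1, smul_tmul], e1'⟩

lemma keyA (k : IntermediateField k₀ K) (k' : IntermediateField k₀ L)
    (hkk' : ∀ a' ∈ k', ∃ a ∈ k, algebraMap K L a = a') (x : L) (hx : D k' L x = 0) :
    ∃ η : L ⊗[K] Ω[K⁄k₀], mapBaseChange k₀ K L η = D k₀ L x ∧
      ((KaehlerDifferential.map k₀ k K K).restrictScalars K).baseChange L η = 0 := by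
  have h1 : KaehlerDifferential.map k₀ k' L L (D k₀ L x) = 0 := by
    rw [map_D]
    exact hx
  obtain ⟨w, hw⟩ := (exact_mapBaseChange_map k₀ k' L (D k₀ L x)).mp h1
  obtain ⟨η, h2, h3⟩ := keyA_aux k k' hkk' w
  exact ⟨η, h2.trans hw, h3⟩

end KeyA

section Main

variable (p : ℕ) [hpf : Fact p.Prime] {k₀ K L : Type u} [Field k₀] [Field K] [Field L]
  [Algebra k₀ K] [Algebra K L] [Algebra k₀ L] [IsScalarTower k₀ K L] [CharP K p] [CharP L p]
  {ι : Type u} [Preorder ι] [IsDirected ι (· ≤ ·)] [Nonempty ι]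
  (k : ι → IntermediateField k₀ K)

theorem main_S4546 (hk : Antitone k)
    (h : (⨅ i, k i ⊔ IntermediateField.adjoin k₀ (Set.range fun y : K => y ^ p)) =
      IntermediateField.adjoin k₀ (Set.range fun y : K => y ^ p))
    [Module.Finite L (imperfection k₀ K L)] :
    (⨅ i, (k i).map (IsScalarTower.toAlgHom k₀ K L) ⊔
        IntermediateField.adjoin k₀ (Set.range fun y : L => y ^ p)) =
      IntermediateField.adjoin k₀ (Set.range fun y : L => y ^ p) := by
  classical
  apply le_antisymm
  · intro x hx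
    have hx' : ∀ i, x ∈ (k i).map (IsScalarTower.toAlgHom k₀ K L) ⊔
        IntermediateField.adjoin k₀ (Set.range fun y : L => y ^ p) := by
      have : x ∈ ((⨅ i, (k i).map (IsScalarTower.toAlgHom k₀ K L) ⊔
          IntermediateField.adjoin k₀ (Set.range fun y : L => y ^ p) :
          IntermediateField k₀ L) : Set L) := hx
      rw [IntermediateField.coe_iInf] at this
      exact fun i => Set.mem_iInter.mp this i
    rw [mem_adjoin_iff]
    apply mem_of_D_eq_zero p k₀ x
    have hD : ∀ i, D ((k i).map (IsScalarTower.toAlgHom k₀ K L)) L x = 0 := fun i =>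
      Groth.Agent.Helper1.ImperfInj.D_eq_zero_of_mem_pPower p x
        ((mem_sup_adjoin_iff p _ x).mp (hx' i))
    have hkk' : ∀ i, ∀ a' ∈ (k i).map (IsScalarTower.toAlgHom k₀ K L),
        ∃ a ∈ k i, algebraMap K L a = a' := by
      intro i a' ha'
      obtain ⟨a, ha, h⟩ := (IntermediateField.mem_map (S := k i)).mp ha'
      exact ⟨a, ha, h⟩
    have h' : ∀ x, (∀ i, x ∈ pPowerSubalgebra p ↥(k i) K) → x ∈ pPowerSubalgebra p k₀ K := by
      intro x hx
      rw [← mem_adjoin_iff, ← h]
      have : x ∈ ((⨅ i, k i ⊔ IntermediateField.adjoin k₀ (Set.range fun y : K => y ^ p) :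
          IntermediateField k₀ K) : Set K) := by
        rw [IntermediateField.coe_iInf]
        exact Set.mem_iInter.mpr (fun i => (mem_sup_adjoin_iff p (k i) x).mpr (hx i))
      exact this
    obtain ⟨B, -, -, hB, hgen⟩ := exists_maximal (p := p) (k := k₀) (∅ : Set K) Set.univ
      (Set.empty_subset _) PI_empty
    have hbasis := isPBasis_of_PI_of_gen B hB hgen
    obtain ⟨b, hb⟩ := exists_basis_D hbasis
    obtain ⟨S, hS⟩ := exists_support (L := L) b
    obtain ⟨i₀⟩ := ‹Nonempty ι›
    obtain ⟨η₀, hη₀, -⟩ := keyA (k i₀) _ (hkk' i₀) x (hD i₀)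
    obtain ⟨S', hS'⟩ : ∃ S' : Finset B,
        S' = S ∪ ((Algebra.TensorProduct.basis L b).repr η₀).support := ⟨_, rfl⟩
    obtain ⟨x', hx'⟩ : ∃ x' : S' → K, x' = fun s => s.1.1 := ⟨_, rfl⟩
    have hxinj : Function.Injective x' := by
      intro s t hst
      rw [hx'] at hst
      exact Subtype.ext (Subtype.ext hst)
    have hT : (Set.range x').Finite := Set.finite_range x'
    have hPI₀ : PI p k₀ (Set.range x') := hB.mono (by
      rintro _ ⟨s, rfl⟩
      rw [hx']
      exact s.1.2)
    obtain ⟨j, hj⟩ := PI_descend p k hk h' (Set.range x') hT hPI₀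
    have h1 : IsPIndependent p ↥(k j) x' := (isPIndependent_iff_PI_range x' hxinj).mpr hj
    have h2 := linIndep_D_of_isPIndependent x' h1
    rw [hx'] at h2
    obtain ⟨η, hη, hη0⟩ := keyA (k j) _ (hkk' j) x (hD j)
    have hsupp : ∀ t, t ∉ S' → (Algebra.TensorProduct.basis L b).repr η t = 0 := by
      intro t ht
      rw [hS'] at ht
      have hdiff : η - η₀ ∈ imperfection k₀ K L := by
        show mapBaseChange k₀ K L (η - η₀) = 0
        rw [map_sub, hη, hη₀, sub_self]
      have h3 := hS _ hdiff t (fun h => ht (Finset.mem_union_left _ h))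
      rw [map_sub, Finsupp.sub_apply] at h3
      have h4 : (Algebra.TensorProduct.basis L b).repr η₀ t = 0 := by
        by_contra hne
        exact ht (Finset.mem_union_right _ (Finsupp.mem_support_iff.mpr hne))
      rw [h4, sub_zero] at h3
      exact h3
    have h5 := eq_zero_of_linearIndependent b Subtype.val hb S' (k j) h2 η hsupp hη0
    rw [← hη, h5, map_zero]
  · exact le_iInf (fun i => le_sup_right)

end Main

end Groth.Agent.Helper1.Admiss
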