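import Mathlib
import Groth.Agent.Helper1.FlatReg
import Groth.Agent.H29.RegLocal3

namespace Groth.Agent.Helper1.CotFlat

open IsLocalRing RingTheory.Sequence

universe u

theorem exists_fin_gen {R : Type u} [CommRing R] (I : Ideal R) (hI : I.FG) (r : ℕ)
    (hr : I.spanFinrank = r) : ∃ a : Fin r → R, Ideal.span (Set.range a) = I := by
  obtain ⟨s, hcard, hspan⟩ := Submodule.FG.exists_span_finset_card_eq_spanFinrank (p := I) hI
  rw [hr] at hcard
  subst hcard
  refine ⟨fun i => (s.equivFin.symm i : R), ?_⟩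
  have : Set.range (fun i => (s.equivFin.symm i : R)) = (s : Set R) := by
    ext z; constructor
    · rintro ⟨i, rfl⟩; exact (s.equivFin.symm i).2
    · intro hz; exact ⟨s.equivFin ⟨z, hz⟩, by simp⟩
  rw [this]; exact hspan

/-- Minimal generators of the maximal ideal are independent modulo `m²`. -/
theorem mem_of_sum_mem_sq {R : Type u} [CommRing R] [IsLocalRing R] [IsNoetherianRing R] (d : ℕ)
    (g : Fin d → R) (hg : Ideal.span (Set.range g) = maximalIdeal R)
    (hd : (maximalIdeal R).spanFinrank = d) (e : Fin d → R)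
    (he : ∑ j, e j * g j ∈ maximalIdeal R ^ 2) : ∀ j, e j ∈ maximalIdeal R := by
  classical
  intro b
  by_contra hb
  have hu : IsUnit (e b) := IsLocalRing.notMem_maximalIdeal.mp hb
  obtain ⟨u, hu⟩ := hu.exists_left_inv
  obtain ⟨I₀, hI₀⟩ : ∃ I₀ : Ideal R,
      I₀ = Ideal.span (((Finset.univ.erase b).image g : Finset R) : Set R) := ⟨_, rfl⟩
  have hgm : ∀ j, g j ∈ maximalIdeal R := fun j => by
    rw [← hg]; exact Ideal.subset_span ⟨j, rfl⟩
  have hg_mem : ∀ j, j ≠ b → g j ∈ I₀ := by
    intro j hj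
    rw [hI₀]
    refine Ideal.subset_span ?_
    rw [Finset.coe_image]
    exact ⟨j, by simp [hj], rfl⟩
  have hgb : g b ∈ I₀ ⊔ maximalIdeal R * maximalIdeal R := by
    have h1 : g b = u * (∑ j, e j * g j) - ∑ j ∈ Finset.univ.erase b, (u * e j) * g j := by
      rw [← Finset.add_sum_erase Finset.univ (fun j => e j * g j) (Finset.mem_univ b), mul_add,
        ← mul_assoc, hu, one_mul, Finset.mul_sum]
      simp only [mul_assoc]
      ring
    rw [h1]
    refine sub_mem (Submodule.mem_sup_right ?_) (Submodule.mem_sup_left ?_)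
    · rw [← sq]; exact Ideal.mul_mem_left _ _ he
    · exact sum_mem fun j hj => Ideal.mul_mem_left _ _ (hg_mem j (Finset.ne_of_mem_erase hj))
  have hle : maximalIdeal R ≤ I₀ ⊔ maximalIdeal R * maximalIdeal R := by
    have h2 : Ideal.span (Set.range g) ≤ I₀ ⊔ maximalIdeal R * maximalIdeal R := by
      rw [Ideal.span_le]
      rintro _ ⟨j, rfl⟩
      by_cases hj : j = b
      · rw [hj]; exact hgb
      · exact Submodule.mem_sup_left (hg_mem j hj)
    intro z hz
    rw [← hg] at hz
    exact h2 hz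
  have hle' : maximalIdeal R ≤ I₀ :=
    Submodule.le_of_le_smul_of_le_jacobson_bot (IsNoetherian.noetherian _)
      (IsLocalRing.maximalIdeal_le_jacobson ⊥) (by rwa [smul_eq_mul])
  have hI₀le : I₀ ≤ maximalIdeal R := by
    rw [hI₀, Ideal.span_le]
    intro z hz
    rw [Finset.coe_image] at hz
    obtain ⟨j, _, rfl⟩ := hz
    exact hgm j
  have heq : I₀ = maximalIdeal R := le_antisymm hI₀le hle'
  have h1 : (maximalIdeal R).spanFinrank ≤ ((Finset.univ.erase b).image g).card := by
    rw [← heq, hI₀]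
    have := Submodule.spanFinrank_span_le_ncard_of_finite (R := R)
      (Finset.finite_toSet ((Finset.univ.erase b).image g))
    rwa [Set.ncard_coe_finset] at this
  have h2 : ((Finset.univ.erase b).image g).card < d := by
    calc ((Finset.univ.erase b).image g).card ≤ (Finset.univ.erase b).card := Finset.card_image_le
      _ = d - 1 := by
        rw [Finset.card_erase_of_mem (Finset.mem_univ b), Finset.card_univ, Fintype.card_fin]
      _ < d := Nat.sub_lt (Fin.pos b) one_pos
  omega

theorem card_le_finrank_cot {R : Type u} [CommRing R] [IsLocalRing R] [IsNoetherianRing R]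
    {ι : Type} [Fintype ι] (G : ι → R) (hG : ∀ i, G i ∈ maximalIdeal R)
    (hind : ∀ c : ι → R, ∑ i, c i * G i ∈ maximalIdeal R ^ 2 → ∀ i, c i ∈ maximalIdeal R) :
    Fintype.card ι ≤ (maximalIdeal R).spanFinrank := by
  rw [IsLocalRing.spanFinrank_maximalIdeal_eq_finrank_cotangentSpace]
  have hli : LinearIndependent (ResidueField R)
      (fun i => (maximalIdeal R).toCotangent ⟨G i, hG i⟩) := by
    rw [Fintype.linearIndependent_iff]
    intro c hc i
    choose c' hc' using fun i => IsLocalRing.residue_surjective (c i)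
    have e1 : ∑ i, c i • (maximalIdeal R).toCotangent ⟨G i, hG i⟩ =
        (maximalIdeal R).toCotangent (∑ i, c' i • (⟨G i, hG i⟩ : maximalIdeal R)) := by
      rw [map_sum]
      refine Finset.sum_congr rfl fun i _ => ?_
      rw [map_smul, ← hc' i]
      rfl
    rw [e1, Ideal.toCotangent_eq_zero] at hc
    have e2 : ((∑ i, c' i • (⟨G i, hG i⟩ : maximalIdeal R) : maximalIdeal R) : R) =
        ∑ i, c' i * G i := by
      rw [AddSubmonoidClass.coe_finsetSum]
      rfl
    rw [e2] at hc
    have := hind c' hc i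
    rw [← hc' i]
    exact (IsLocalRing.residue_eq_zero_iff _).mpr this
  exact hli.fintype_card_le_finrank

theorem mem_smul_of_sum_mem_sq {A : Type u} [CommRing A] [IsLocalRing A] [IsNoetherianRing A]
    {N : Type u} [AddCommGroup N] [Module A N] [Module.Flat A N] (r : ℕ) (a : Fin r → A)
    (ha : Ideal.span (Set.range a) = maximalIdeal A) (hr : (maximalIdeal A).spanFinrank = r)
    (n : Fin r → N) (hn : ∑ i, a i • n i ∈ (maximalIdeal A ^ 2) • (⊤ : Submodule A N)) :
    ∀ i, n i ∈ maximalIdeal A • (⊤ : Submodule A N) := by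
  obtain ⟨J, hJ⟩ : ∃ J : Ideal A, J = maximalIdeal A ^ 2 := ⟨_, rfl⟩
  rw [← hJ] at hn
  have hJm : J ≤ maximalIdeal A := hJ ▸ Ideal.pow_le_self two_ne_zero
  have : Module.Flat (A ⧸ J) (N ⧸ (J • ⊤ : Submodule A N)) :=
    Module.Flat.of_linearEquiv (FlatReg.quotEquiv J N).symm
  have hrel : ∑ i, (Ideal.Quotient.mk J (a i)) •
      (Submodule.Quotient.mk (n i) : N ⧸ (J • ⊤ : Submodule A N)) = 0 := by
    have h1 : ∑ i, (Ideal.Quotient.mk J (a i)) •
        (Submodule.Quotient.mk (n i) : N ⧸ (J • ⊤ : Submodule A N)) =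
        (Submodule.mkQ (J • ⊤ : Submodule A N)) (∑ i, a i • n i) := by
      rw [map_sum]
      refine Finset.sum_congr rfl fun i _ => ?_
      rw [FlatReg.quot_mk_smul, Submodule.mkQ_apply, Submodule.Quotient.mk_smul]
    rw [h1, Submodule.mkQ_apply, Submodule.Quotient.mk_eq_zero]; exact hn
  obtain ⟨κ, b, y, hy, hb⟩ := Module.Flat.isTrivialRelation_of_sum_smul_eq_zero hrel
  choose b' hb' using fun i j => Ideal.Quotient.mk_surjective (b i j)
  choose y' hy' using fun j => Submodule.Quotient.mk_surjective _ (y j)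
  have hbm : ∀ i j, b' i j ∈ maximalIdeal A := by
    intro i j
    have h1 : ∑ i, b' i j * a i ∈ maximalIdeal A ^ 2 := by
      rw [← hJ, ← Ideal.Quotient.eq_zero_iff_mem, map_sum, ← hb j]
      refine Finset.sum_congr rfl fun i _ => ?_
      rw [map_mul, hb' i j, mul_comm]
    exact mem_of_sum_mem_sq r a ha hr (fun i => b' i j) h1 i
  intro i
  have h2 : n i - ∑ j, b' i j • y' j ∈ (J • ⊤ : Submodule A N) := by
    apply (Submodule.Quotient.eq _).mp
    have hyi : (Submodule.Quotient.mk (n i) : N ⧸ (J • ⊤ : Submodule A N)) = ∑ j, b i j • y j :=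
      hy i
    rw [hyi]
    change _ = (Submodule.mkQ (J • ⊤ : Submodule A N)) (∑ j, b' i j • y' j)
    rw [map_sum]
    refine Finset.sum_congr rfl fun j _ => ?_
    rw [← hb' i j, ← hy' j, FlatReg.quot_mk_smul, Submodule.mkQ_apply, Submodule.Quotient.mk_smul]
  have h3 : ∑ j, b' i j • y' j ∈ maximalIdeal A • (⊤ : Submodule A N) :=
    sum_mem fun j _ => Submodule.smul_mem_smul (hbm i j) Submodule.mem_top
  have h4 : n i = (n i - ∑ j, b' i j • y' j) + ∑ j, b' i j • y' j := by abel
  rw [h4]
  exact add_mem (Submodule.smul_mono hJm le_rfl h2) h3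

section CD

variable {A B : Type u} [CommRing A] [CommRing B] [Algebra A B] {N : Type u} [AddCommGroup N]
  [Module A N] [Module B N] [IsScalarTower A B N]

theorem smul_mem_of_mem (J : Ideal A) (z : N) (hz : z ∈ (J • ⊤ : Submodule A N)) (b : B) :
    b • z ∈ (J • ⊤ : Submodule A N) := by
  refine Submodule.smul_induction_on hz ?_ ?_
  · intro α hα n _
    rw [smul_comm]
    exact Submodule.smul_mem_smul hα Submodule.mem_top
  · intro x y hx hy; rw [smul_add]; exact add_mem hx hy

theorem map_smul_mem (J : Ideal A) (t : B) (ht : t ∈ J.map (algebraMap A B)) (n : N) :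
    t • n ∈ (J • ⊤ : Submodule A N) := by
  refine Submodule.span_induction (p := fun t _ => t • n ∈ (J • ⊤ : Submodule A N))
    ?_ ?_ ?_ ?_ ht
  · rintro _ ⟨α, hα, rfl⟩
    rw [algebraMap_smul]
    exact Submodule.smul_mem_smul hα Submodule.mem_top
  · rw [zero_smul]; exact zero_mem _
  · intro x y _ _ hx hy; rw [add_smul]; exact add_mem hx hy
  · intro c x _ hx; rw [smul_eq_mul, mul_smul]; exact smul_mem_of_mem J _ hx c

end CD

theorem main' (A B : Type u) [CommRing A] [CommRing B] [IsLocalRing A] [IsNoetherianRing A]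
    [IsLocalRing B] [IsNoetherianRing B] [Algebra A B] [IsLocalHom (algebraMap A B)]
    [Module.Flat A B] (𝔞 : Ideal B) (h𝔞 : 𝔞 = Ideal.map (algebraMap A B) (maximalIdeal A))
    [IsRegularLocalRing (B ⧸ 𝔞)] :
    (maximalIdeal B).spanFinrank =
      (maximalIdeal (B ⧸ 𝔞)).spanFinrank + (maximalIdeal A).spanFinrank := by
  classical
  obtain ⟨r, hr⟩ : ∃ r, (maximalIdeal A).spanFinrank = r := ⟨_, rfl⟩
  obtain ⟨d, hd⟩ : ∃ d, (maximalIdeal (B ⧸ 𝔞)).spanFinrank = d := ⟨_, rfl⟩
  obtain ⟨a, ha⟩ := exists_fin_gen (maximalIdeal A) (IsNoetherian.noetherian _) r hr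
  obtain ⟨xb, hxb⟩ := exists_fin_gen (maximalIdeal (B ⧸ 𝔞)) (IsNoetherian.noetherian _) d hd
  choose x hx using fun j => Ideal.Quotient.mk_surjective (xb j)
  have ham : ∀ i, a i ∈ maximalIdeal A := fun i => by
    rw [← ha]; exact Ideal.subset_span ⟨i, rfl⟩
  have hxbm : ∀ j, xb j ∈ maximalIdeal (B ⧸ 𝔞) := fun j => by
    rw [← hxb]; exact Ideal.subset_span ⟨j, rfl⟩
  have hφm : ∀ α ∈ maximalIdeal A, algebraMap A B α ∈ maximalIdeal B :=
    fun α hα => map_nonunit (algebraMap A B) α hα
  have h𝔞le : 𝔞 ≤ maximalIdeal B := by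
    rw [h𝔞]; exact IsLocalRing.map_maximalIdeal_le (algebraMap A B)
  have : IsLocalHom (Ideal.Quotient.mk 𝔞) :=
    isLocalHom_of_le_jacobson_bot 𝔞 (h𝔞le.trans (maximalIdeal_le_jacobson ⊥))
  have hxm : ∀ j, x j ∈ maximalIdeal B := by
    intro j
    by_contra h
    have hu : IsUnit (x j) := notMem_maximalIdeal.mp h
    have hu' : IsUnit (xb j) := hx j ▸ hu.map (Ideal.Quotient.mk 𝔞)
    exact (mem_maximalIdeal _).mp (hxbm j) hu'
  obtain ⟨X, hX⟩ : ∃ X : Ideal B, X = Ideal.span (Set.range x) := ⟨_, rfl⟩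
  have hxX : ∀ j, x j ∈ X := fun j => by rw [hX]; exact Ideal.subset_span ⟨j, rfl⟩
  have hXle : X ≤ maximalIdeal B := by
    rw [hX, Ideal.span_le]; rintro _ ⟨j, rfl⟩; exact hxm j
  have hmB : maximalIdeal B = 𝔞 ⊔ X := by
    apply le_antisymm
    · intro b hb
      have h1 : Ideal.Quotient.mk 𝔞 b ∈ Ideal.span (Set.range xb) := by
        rw [hxb]; exact map_nonunit _ _ hb
      obtain ⟨e, he⟩ := Ideal.mem_span_range_iff_exists_fun.mp h1
      choose e' he' using fun j => Ideal.Quotient.mk_surjective (e j)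
      have h2 : b - ∑ j, e' j * x j ∈ 𝔞 := by
        rw [← Ideal.Quotient.eq_zero_iff_mem, map_sub, map_sum, ← he, sub_eq_zero]
        refine Finset.sum_congr rfl fun j _ => ?_
        rw [map_mul, he' j, hx j]
      have h3 : b = (b - ∑ j, e' j * x j) + ∑ j, e' j * x j := by ring
      rw [h3]
      exact add_mem (Submodule.mem_sup_left h2)
        (Submodule.mem_sup_right (sum_mem fun j _ => Ideal.mul_mem_left _ _ (hxX j)))
    · exact sup_le h𝔞le hXle
  -- upper bound
  have hle : (maximalIdeal B).spanFinrank ≤ d + r := by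
    have h1 : maximalIdeal B = Ideal.span (Set.range (algebraMap A B ∘ a) ∪ Set.range x) := by
      rw [hmB, Ideal.span_union, ← hX, Set.range_comp, ← Ideal.map_span, ha, h𝔞]
    rw [h1]
    refine (Submodule.spanFinrank_span_le_ncard_of_finite (R := B)
      ((Set.finite_range _).union (Set.finite_range _))).trans ?_
    refine (Set.ncard_union_le _ _).trans ?_
    have e1 : (Set.range (algebraMap A B ∘ a)).ncard ≤ r := by
      rw [← Set.image_univ]
      refine (Set.ncard_image_le Set.finite_univ).trans ?_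
      rw [Set.ncard_univ, Nat.card_fin]
    have e2 : (Set.range x).ncard ≤ d := by
      rw [← Set.image_univ]
      refine (Set.ncard_image_le Set.finite_univ).trans ?_
      rw [Set.ncard_univ, Nat.card_fin]
    omega
  -- regular sequence on the fibre and flatness of B/(x)
  obtain ⟨xs, hxs⟩ : ∃ xs : List B, xs = List.ofFn x := ⟨_, rfl⟩
  have hofX : Ideal.ofList xs = X := by
    rw [hX, hxs, Ideal.ofList]; congr 1; ext z; simp [List.mem_ofFn]
  have hdim : ringKrullDim (B ⧸ 𝔞) = d := by
    rw [← hd]; exact (IsRegularLocalRing.spanFinrank_maximalIdeal).symm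
  have hreg1 : IsRegular (B ⧸ 𝔞) (List.ofFn xb) :=
    Groth.Agent.H29.isRegular_ofFn_of_span_eq_maximalIdeal (B ⧸ 𝔞) d hdim xb hxb
  have hreg2 : IsWeaklyRegular (B ⧸ 𝔞) xs := by
    rw [← isWeaklyRegular_map_algebraMap_iff (S := B ⧸ 𝔞)]
    have h1 : xs.map (algebraMap B (B ⧸ 𝔞)) = List.ofFn xb := by
      rw [hxs, List.map_ofFn]; congr 1; funext j; exact hx j
    rw [h1]; exact hreg1.toIsWeaklyRegular
  have hsm : (𝔞 • (⊤ : Submodule B B)) = 𝔞 := by rw [smul_eq_mul, Ideal.mul_top]
  have hreg3 : IsWeaklyRegular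
      (B ⧸ ((maximalIdeal A).map (algebraMap A B) • (⊤ : Submodule B B))) xs := by
    rw [← h𝔞]
    exact ((Submodule.quotEquivOfEq _ _ hsm).isWeaklyRegular_congr xs).mpr hreg2
  obtain ⟨_, hflat⟩ := FlatReg.main74 A B xs B hreg3
  have hflatN : Module.Flat A (B ⧸ (X • (⊤ : Submodule B B))) := by
    have h1 := hflat xs.length le_rfl
    rwa [List.take_length, hofX] at h1
  have hXtop : (X • (⊤ : Submodule B B)) = X := by rw [smul_eq_mul, Ideal.mul_top]
  have hsq : maximalIdeal B ^ 2 ≤ (maximalIdeal A ^ 2).map (algebraMap A B) ⊔ X := by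
    rw [hmB, Ideal.map_pow, ← h𝔞, sq, sq, Ideal.sup_mul, Ideal.mul_sup]
    have h1 : 𝔞 * X ≤ X := Ideal.mul_le_right
    have h2 : X * (𝔞 ⊔ X) ≤ X := Ideal.mul_le_left
    exact sup_le (sup_le le_sup_left (h1.trans le_sup_right)) (h2.trans le_sup_right)
  have hE : (maximalIdeal A • (⊤ : Submodule A (B ⧸ (X • (⊤ : Submodule B B))))) ≤
      (Submodule.map (Submodule.mkQ (X • (⊤ : Submodule B B)))
        (maximalIdeal B : Submodule B B)).restrictScalars A := by
    rw [Submodule.smul_le]
    intro α hα n _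
    obtain ⟨b, rfl⟩ := Submodule.Quotient.mk_surjective _ n
    refine ⟨algebraMap A B α * b, Ideal.mul_mem_right _ _ (hφm α hα), ?_⟩
    rw [Submodule.mkQ_apply, ← Algebra.smul_def, Submodule.Quotient.mk_smul]
  -- lower bound
  have hge : r + d ≤ (maximalIdeal B).spanFinrank := by
    have key := card_le_finrank_cot (R := B) (ι := Fin r ⊕ Fin d)
      (Sum.elim (algebraMap A B ∘ a) x) ?_ ?_
    · simpa using key
    · rintro (i | j)
      · exact hφm _ (ham i)
      · exact hxm j
    · intro c hc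
      rw [Fintype.sum_sum_type] at hc
      simp only [Sum.elim_inl, Sum.elim_inr, Function.comp_apply] at hc
      have hi : ∀ j, c (Sum.inr j) ∈ maximalIdeal B := by
        have h1 : ∑ j, Ideal.Quotient.mk 𝔞 (c (Sum.inr j)) * xb j ∈
            maximalIdeal (B ⧸ 𝔞) ^ 2 := by
          have h3 : (maximalIdeal B ^ 2).map (Ideal.Quotient.mk 𝔞) ≤
              maximalIdeal (B ⧸ 𝔞) ^ 2 := by
            rw [Ideal.map_pow]
            exact Ideal.pow_right_mono
              (Ideal.map_le_iff_le_comap.mpr (fun b hb => map_nonunit _ _ hb)) 2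
          have h2 := h3 (Ideal.mem_map_of_mem _ hc)
          have h4 : Ideal.Quotient.mk 𝔞 (∑ i, c (Sum.inl i) * algebraMap A B (a i) +
              ∑ j, c (Sum.inr j) * x j) =
              ∑ j, Ideal.Quotient.mk 𝔞 (c (Sum.inr j)) * xb j := by
            rw [map_add, map_sum, map_sum]
            have h5 : ∑ i, Ideal.Quotient.mk 𝔞 (c (Sum.inl i) * algebraMap A B (a i)) = 0 := by
              refine Finset.sum_eq_zero fun i _ => ?_
              rw [Ideal.Quotient.eq_zero_iff_mem, h𝔞]
              exact Ideal.mul_mem_left _ _ (Ideal.mem_map_of_mem _ (ham i))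
            rw [h5, zero_add]
            refine Finset.sum_congr rfl fun j _ => ?_
            rw [map_mul, hx j]
          rwa [h4] at h2
        have h5 := mem_of_sum_mem_sq d xb hxb hd
          (fun j => Ideal.Quotient.mk 𝔞 (c (Sum.inr j))) h1
        intro j
        by_contra h
        have hu : IsUnit (c (Sum.inr j)) := notMem_maximalIdeal.mp h
        exact (mem_maximalIdeal _).mp (h5 j) (hu.map _)
      have hS : ∑ i, c (Sum.inl i) * algebraMap A B (a i) ∈ maximalIdeal B ^ 2 := by
        have h1 : ∑ j, c (Sum.inr j) * x j ∈ maximalIdeal B ^ 2 :=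
          sum_mem fun j _ => by rw [sq]; exact Ideal.mul_mem_mul (hi j) (hxm j)
        have h2 := sub_mem hc h1
        rwa [add_sub_cancel_right] at h2
      have hN : ∑ i, a i • (Submodule.Quotient.mk (c (Sum.inl i)) :
          B ⧸ (X • (⊤ : Submodule B B))) ∈
          (maximalIdeal A ^ 2) • (⊤ : Submodule A (B ⧸ (X • (⊤ : Submodule B B)))) := by
        have e1 : ∑ i, a i • (Submodule.Quotient.mk (c (Sum.inl i)) :
            B ⧸ (X • (⊤ : Submodule B B))) =
            Submodule.Quotient.mk (∑ i, c (Sum.inl i) * algebraMap A B (a i)) := by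
          change _ = (Submodule.mkQ (X • (⊤ : Submodule B B))) _
          rw [map_sum]
          refine Finset.sum_congr rfl fun i _ => ?_
          rw [Submodule.mkQ_apply, mul_comm, ← Algebra.smul_def, Submodule.Quotient.mk_smul]
        rw [e1]
        obtain ⟨s₁, hs₁, s₂, hs₂, hs⟩ := Submodule.mem_sup.mp (hsq hS)
        rw [← hs, Submodule.Quotient.mk_add]
        have h1 : (Submodule.Quotient.mk s₂ : B ⧸ (X • (⊤ : Submodule B B))) = 0 :=
          (Submodule.Quotient.mk_eq_zero _).mpr (by rw [hXtop]; exact hs₂)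
        rw [h1, add_zero]
        have h2 : (Submodule.Quotient.mk s₁ : B ⧸ (X • (⊤ : Submodule B B))) =
            s₁ • Submodule.Quotient.mk 1 := by
          rw [← Submodule.Quotient.mk_smul]; congr 1; simp
        rw [h2]
        exact map_smul_mem (maximalIdeal A ^ 2) s₁ hs₁ _
      have := hflatN
      have hmem := mem_smul_of_sum_mem_sq r a ha hr
        (fun i => (Submodule.Quotient.mk (c (Sum.inl i)) : B ⧸ (X • (⊤ : Submodule B B)))) hN
      rintro (i | j)
      · obtain ⟨b', hb'm, hb'⟩ := hE (hmem i)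
        have h1 : b' - c (Sum.inl i) ∈ (X • (⊤ : Submodule B B)) :=
          (Submodule.Quotient.eq _).mp hb'
        rw [hXtop] at h1
        have h2 : c (Sum.inl i) = b' - (b' - c (Sum.inl i)) := by ring
        rw [h2]
        exact sub_mem hb'm (hXle h1)
      · exact hi j
  omega

theorem main (A B : Type u) [CommRing A]
    [CommRing B] [IsLocalRing A] [IsNoetherianRing A] [IsLocalRing B] [IsNoetherianRing B]
    [Algebra A B] [IsLocalHom (algebraMap A B)] [Module.Flat A B]
    [IsRegularLocalRing (B ⧸ Ideal.map (algebraMap A B) (IsLocalRing.maximalIdeal A))] :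
    Module.finrank (IsLocalRing.ResidueField B) (IsLocalRing.CotangentSpace B) =
      Module.finrank (IsLocalRing.ResidueField
          (B ⧸ Ideal.map (algebraMap A B) (IsLocalRing.maximalIdeal A)))
          (IsLocalRing.CotangentSpace
            (B ⧸ Ideal.map (algebraMap A B) (IsLocalRing.maximalIdeal A))) +
        Module.finrank (IsLocalRing.ResidueField A) (IsLocalRing.CotangentSpace A) := by
  rw [← spanFinrank_maximalIdeal_eq_finrank_cotangentSpace,
    ← spanFinrank_maximalIdeal_eq_finrank_cotangentSpace,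
    ← spanFinrank_maximalIdeal_eq_finrank_cotangentSpace]
  exact main' A B _ rfl

end Groth.Agent.Helper1.CotFlat
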