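import Mathlib
import Groth.Prelude.Def_Found
import Groth.Agent.Helper1.CotFlat

namespace Groth.Agent.Helper1.RegAscent

open IsLocalRing

universe u

set_option linter.style.haveILetI false

/-- flat local hom, regular base, regular closed fibre ⇒ regular. -/
theorem isRegularLocalRing_of_flat (A B : Type u) [CommRing A] [CommRing B]
    [IsRegularLocalRing A]
    [IsLocalRing B] [IsNoetherianRing B] [Algebra A B] [IsLocalHom (algebraMap A B)]
    [Module.Flat A B] (𝔞 : Ideal B) (h𝔞 : 𝔞 = Ideal.map (algebraMap A B) (maximalIdeal A))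
    [IsRegularLocalRing (B ⧸ 𝔞)] : IsRegularLocalRing B := by
  apply IsRegularLocalRing.of_spanFinrank_maximalIdeal_le
  rw [CotFlat.main' A B 𝔞 h𝔞]
  have hht := Ideal.height_eq_height_add_of_liesOver_of_hasGoingDown (maximalIdeal A)
    (maximalIdeal B)
  subst h𝔞
  rw [Groth.Agent.H29.map_mk_maximalIdeal] at hht
  have hA : ((maximalIdeal A).spanFinrank : WithBot ℕ∞) = ringKrullDim A :=
    IsRegularLocalRing.spanFinrank_maximalIdeal
  have hC : ((maximalIdeal (B ⧸ Ideal.map (algebraMap A B) (maximalIdeal A))).spanFinrank :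
      WithBot ℕ∞) = ringKrullDim (B ⧸ Ideal.map (algebraMap A B) (maximalIdeal A)) :=
    IsRegularLocalRing.spanFinrank_maximalIdeal
  rw [← maximalIdeal_height_eq_ringKrullDim (R := B), hht, Nat.cast_add, hA, hC,
    ← maximalIdeal_height_eq_ringKrullDim, ← maximalIdeal_height_eq_ringKrullDim,
    WithBot.coe_add, add_comm]

theorem transport {S : Type u} [CommRing S] (I Q : Ideal S) [I.IsPrime] [hQ : Q.IsPrime]
    (h : I = Q) (hreg : IsRegularLocalRing (Localization.AtPrime I)) :
    IsRegularLocalRing (Localization.AtPrime Q) := by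
  subst h; exact hreg

open Algebra.TensorProduct in
theorem key (R S : Type u) [CommRing R] [CommRing S] [Algebra R S]
    [IsRegularRing R] [IsNoetherianRing S] [Module.Flat R S] (p : Ideal R) [p.IsPrime]
    [IsRegularRing (p.Fiber S)] (q : Ideal (p.Fiber S)) [q.IsPrime] :
    IsRegularLocalRing (Localization.AtPrime (q.comap (includeRight (R := R) (A := p.ResidueField) (B := S)))) := by
  letI := Localization.AtPrime.algebraOfLiesOver p (q.comap (includeRight (R := R) (A := p.ResidueField) (B := S)))
  have e := Ideal.Fiber.localizationAlgEquivQuotient p q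
  haveI hloc : IsLocalHom (algebraMap (Localization.AtPrime p)
      (Localization.AtPrime (q.comap (includeRight (R := R) (A := p.ResidueField) (B := S))))) :=
    Localization.isLocalHom_localRingHom _ _ _ Ideal.LiesOver.over
  haveI : IsRegularLocalRing (Localization.AtPrime q) :=
    IsRegularRing.isRegularLocalRing_localization q
  haveI : IsRegularLocalRing (Localization.AtPrime (q.comap (includeRight (R := R) (A := p.ResidueField) (B := S))) ⧸
      p.map (algebraMap R (Localization.AtPrime (q.comap (includeRight (R := R) (A := p.ResidueField) (B := S)))))) :=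
    IsRegularLocalRing.of_ringEquiv (R := Localization.AtPrime q) e.toRingEquiv
  refine isRegularLocalRing_of_flat (Localization.AtPrime p) _
    (p.map (algebraMap R (Localization.AtPrime (q.comap (includeRight (R := R) (A := p.ResidueField) (B := S)))))) ?_
  rw [← Localization.AtPrime.map_eq_maximalIdeal, Ideal.map_map, ← IsScalarTower.algebraMap_eq]

theorem main (R S : Type u) [CommRing R] [CommRing S] [Algebra R S]
    [IsRegularRing R] [IsNoetherianRing S] (h : CAlg.IsRegularHom R S) : IsRegularRing S := by
  obtain ⟨hflat, hfib⟩ := h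
  rw [isRegularRing_iff]
  intro Q hQ
  obtain ⟨p, hp⟩ : ∃ p : Ideal R, p = Q.under R := ⟨_, rfl⟩
  haveI : p.IsPrime := by rw [hp]; infer_instance
  haveI : Q.LiesOver p := ⟨hp⟩
  obtain ⟨hN, hG⟩ := hfib p
  haveI hF : IsRegularRing (p.Fiber S) := by
    have h1 := hG p.ResidueField (Module.Finite.self _)
    exact IsRegularRing.of_ringEquiv (R := TensorProduct p.ResidueField p.ResidueField (p.Fiber S))
      (Algebra.TensorProduct.lid p.ResidueField (p.Fiber S)).toRingEquiv
  obtain ⟨q, hq⟩ : ∃ q : PrimeSpectrum (p.Fiber S),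
      q.asIdeal.comap Algebra.TensorProduct.includeRight = Q := by
    refine ⟨PrimeSpectrum.primesOverOrderIsoFiber R S p ⟨Q, hQ, inferInstance⟩, ?_⟩
    have := PrimeSpectrum.coe_primesOverOrderIsoFiber_symm_apply (R := R) (S := S) (p := p)
      (PrimeSpectrum.primesOverOrderIsoFiber R S p ⟨Q, hQ, inferInstance⟩)
    rw [OrderIso.symm_apply_apply] at this
    exact this.symm
  exact transport _ Q hq (key R S p q.asIdeal)

end Groth.Agent.Helper1.RegAscent
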