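import Mathlib
import Groth.Agent.S19474
import Groth.Agent.Helper1.RegAscent
import Groth.Agent.Helper1.DepthTensor
import Groth.Agent.H29.RegLocal2

namespace Groth.Agent.Helper1.AnUnram

open IsLocalRing TensorProduct

universe u

set_option linter.style.haveILetI false

section Ass

variable {R S : Type u} [CommRing R] [CommRing S] [Algebra R S]

theorem le_of_mem_associatedPrimes [IsNoetherianRing S] (I : Ideal S)
    (q : Ideal S) (hq : q ∈ associatedPrimes S (S ⧸ I)) : I ≤ q := by
  obtain ⟨hqp, y, hy⟩ := isAssociatedPrime_iff.mp hq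
  obtain ⟨y₀, rfl⟩ := Ideal.Quotient.mk_surjective y
  intro s hs
  rw [hy, Submodule.mem_colon_singleton, Submodule.mem_bot]
  show Ideal.Quotient.mk I (s * y₀) = 0
  exact Ideal.Quotient.eq_zero_iff_mem.mpr (I.mul_mem_right _ hs)

/-- For `S` flat over `R`, an associated prime of `S/pS` lies over `p`. -/
theorem comap_eq_of_mem_associatedPrimes [IsNoetherianRing S] [Module.Flat R S]
    (p : Ideal R) [p.IsPrime] (q : Ideal S)
    (hq : q ∈ associatedPrimes S (S ⧸ p.map (algebraMap R S))) :
    q.comap (algebraMap R S) = p := by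
  have hle := le_of_mem_associatedPrimes _ q hq
  obtain ⟨hqp, y, hy⟩ := isAssociatedPrime_iff.mp hq
  have hyne : y ≠ 0 := by
    rintro rfl
    apply hqp.ne_top
    rw [hy, Ideal.eq_top_iff_one, Submodule.mem_colon_singleton]
    simp
  refine le_antisymm ?_ (Ideal.map_le_iff_le_comap.mp hle)
  intro a ha
  by_contra hap
  apply hyne
  have hane : Ideal.Quotient.mk p a ≠ 0 := by rwa [Ne, Ideal.Quotient.eq_zero_iff_mem]
  have hreg : IsSMulRegular (R ⧸ p) a := by
    intro x₁ x₂ h
    change a • x₁ = a • x₂ at h
    simp only [Algebra.smul_def, Ideal.Quotient.algebraMap_eq] at h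
    exact mul_left_cancel₀ hane h
  have h1 := DepthTensor.isSMulRegular_right (S := S) (R ⧸ p) S a hreg
  have h2 : IsSMulRegular (S ⧸ p.map (algebraMap R S)) (algebraMap R S a) :=
    ((Algebra.TensorProduct.quotIdealMapEquivTensorQuot S p).toLinearEquiv.isSMulRegular_congr
      _).mpr h1
  have h3 : algebraMap R S a • y = 0 := by
    have := ha
    rw [Ideal.mem_comap, hy, Submodule.mem_colon_singleton, Submodule.mem_bot] at this
    exact this
  exact h2 (show _ • y = _ • (0 : S ⧸ p.map (algebraMap R S)) by rw [h3, smul_zero])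

theorem mem_minimalPrimes_of_isReduced [IsNoetherianRing S] (I : Ideal S) [IsReduced (S ⧸ I)]
    (q : Ideal S) (hq : q ∈ associatedPrimes S (S ⧸ I)) : q ∈ I.minimalPrimes := by
  have hIq := le_of_mem_associatedPrimes I q hq
  obtain ⟨hqp, y, hy⟩ := isAssociatedPrime_iff.mp hq
  obtain ⟨y₀, rfl⟩ := Ideal.Quotient.mk_surjective y
  have hy₀ : y₀ ∉ I := by
    intro h
    apply hqp.ne_top
    rw [hy, Ideal.eq_top_iff_one, Submodule.mem_colon_singleton, Submodule.mem_bot, one_smul]
    exact Ideal.Quotient.eq_zero_iff_mem.mpr h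
  have hrad : I.IsRadical := (Ideal.isRadical_iff_quotient_reduced I).mpr inferInstance
  have : ∃ P ∈ I.minimalPrimes, y₀ ∉ P := by
    by_contra hcon
    push Not at hcon
    apply hy₀
    rw [← hrad.radical, ← Ideal.sInf_minimalPrimes, Ideal.mem_sInf]
    intro P hP
    exact hcon P hP
  obtain ⟨P, hP, hyP⟩ := this
  have hqP : q ≤ P := by
    intro s hs
    rw [hy, Submodule.mem_colon_singleton, Submodule.mem_bot] at hs
    have hs' : s * y₀ ∈ I := Ideal.Quotient.eq_zero_iff_mem.mp hs
    exact (hP.1.1.mem_or_mem (hP.1.2 hs')).resolve_right hyP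
  have hPq : P ≤ q := hP.2 ⟨hqp, hIq⟩ hqP
  rwa [le_antisymm hqP hPq]

theorem map_eq_maximalIdeal_of_mem_minimalPrimes (I : Ideal S) (hI : I.IsRadical) (q : Ideal S)
    [q.IsPrime] (hq : q ∈ I.minimalPrimes) :
    I.map (algebraMap S (Localization.AtPrime q)) = maximalIdeal (Localization.AtPrime q) := by
  have h1 := IsLocalization.AtPrime.radical_map_of_mem_minimalPrimes
    (A := Localization.AtPrime q) q I hq
  rw [← IsLocalization.map_radical q.primeCompl (Localization.AtPrime q) I, hI.radical,
    Localization.AtPrime.map_eq_maximalIdeal] at h1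
  exact h1

end Ass

theorem main_general {R S : Type u} [CommRing R] [CommRing S] [Algebra R S] [IsNoetherianRing R]
    [IsNoetherianRing S] [Module.Flat R S] (p : Ideal R) [p.IsPrime]
    [IsDomain (Localization.AtPrime p)] [IsDiscreteValuationRing (Localization.AtPrime p)]
    (hp : IsReduced (S ⧸ p.map (algebraMap R S))) (q : Ideal S) [q.IsPrime]
    (hq : q ∈ associatedPrimes S (S ⧸ p.map (algebraMap R S))) :
    ∃ _ : IsDomain (Localization.AtPrime q), IsDiscreteValuationRing (Localization.AtPrime q) := by
  have hcomap := comap_eq_of_mem_associatedPrimes p q hq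
  have hmin := mem_minimalPrimes_of_isReduced (p.map (algebraMap R S)) q hq
  have hrad : (p.map (algebraMap R S)).IsRadical :=
    (Ideal.isRadical_iff_quotient_reduced _).mpr hp
  have hmax := map_eq_maximalIdeal_of_mem_minimalPrimes _ hrad q hmin
  haveI : q.LiesOver p := ⟨hcomap.symm⟩
  letI := Localization.AtPrime.algebraOfLiesOver p q
  haveI hloc : IsLocalHom (algebraMap (Localization.AtPrime p) (Localization.AtPrime q)) :=
    Localization.isLocalHom_localRingHom _ _ _ Ideal.LiesOver.over
  have h𝔞 : p.map (algebraMap R (Localization.AtPrime q)) =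
      Ideal.map (algebraMap (Localization.AtPrime p) (Localization.AtPrime q))
        (maximalIdeal (Localization.AtPrime p)) := by
    rw [← Localization.AtPrime.map_eq_maximalIdeal, Ideal.map_map, ← IsScalarTower.algebraMap_eq]
  have hmax' : maximalIdeal (Localization.AtPrime q) =
      Ideal.map (algebraMap (Localization.AtPrime p) (Localization.AtPrime q))
        (maximalIdeal (Localization.AtPrime p)) := by
    rw [← h𝔞, ← hmax, Ideal.map_map, ← IsScalarTower.algebraMap_eq]
  haveI : IsRegularLocalRing (Localization.AtPrime q ⧸ maximalIdeal (Localization.AtPrime q)) :=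
    (inferInstance : IsRegularLocalRing (ResidueField (Localization.AtPrime q)))
  haveI hreg : IsRegularLocalRing (Localization.AtPrime q) :=
    RegAscent.isRegularLocalRing_of_flat (Localization.AtPrime p) (Localization.AtPrime q) _ hmax'
  haveI hdom : IsDomain (Localization.AtPrime q) := H29.isDomain_of_isRegularLocalRing _
  refine ⟨hdom, ?_⟩
  have hprin : (maximalIdeal (Localization.AtPrime q)).IsPrincipal := by
    rw [hmax']
    exact Submodule.IsPrincipal.map_ringHom _ (IsPrincipalIdealRing.principal _)
  have hnf : ¬ IsField (Localization.AtPrime q) := by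
    rw [IsLocalRing.isField_iff_maximalIdeal_eq, hmax']
    intro hbot
    haveI : Module.FaithfullyFlat (Localization.AtPrime p) (Localization.AtPrime q) :=
      Module.FaithfullyFlat.of_flat_of_isLocalHom
    have hinj := FaithfulSMul.algebraMap_injective (Localization.AtPrime p)
      (Localization.AtPrime q)
    apply IsDiscreteValuationRing.not_a_field (Localization.AtPrime p)
    rw [eq_bot_iff]
    intro t ht
    have h0 : algebraMap _ (Localization.AtPrime q) t ∈ (⊥ : Ideal (Localization.AtPrime q)) :=
      hbot ▸ Ideal.mem_map_of_mem _ ht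
    rw [Ideal.mem_bot] at h0 ⊢
    exact hinj (h0.trans (map_zero _).symm)
  exact ((IsDiscreteValuationRing.TFAE (Localization.AtPrime q) hnf).out 0 4).mpr hprin

theorem s9439 (R : Type u) [CommRing R] [IsLocalRing R] [IsNoetherianRing R] (p : Ideal R)
    [p.IsPrime]
    [IsDomain (Localization.AtPrime p)] [IsDiscreteValuationRing (Localization.AtPrime p)]
    (hp : IsReduced (AdicCompletion (IsLocalRing.maximalIdeal R) R ⧸
      p.map (algebraMap R (AdicCompletion (IsLocalRing.maximalIdeal R) R))))
    (q : Ideal (AdicCompletion (IsLocalRing.maximalIdeal R) R)) [q.IsPrime]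
    (hq : q ∈ associatedPrimes (AdicCompletion (IsLocalRing.maximalIdeal R) R)
      (AdicCompletion (IsLocalRing.maximalIdeal R) R ⧸
        p.map (algebraMap R (AdicCompletion (IsLocalRing.maximalIdeal R) R)))) :
    ∃ _ : IsDomain (Localization.AtPrime q), IsDiscreteValuationRing (Localization.AtPrime q) := by
  haveI : IsNoetherianRing (AdicCompletion (maximalIdeal R) R) :=
    Groth.Agent.S19474.isNoetherianRing_adicCompletion R (maximalIdeal R)
  exact main_general p hp q hq

end Groth.Agent.Helper1.AnUnram
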