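import Mathlib
import Groth.Agent.Helper1.KoszulH1b

/-!
# `T¹` of a complete intersection (helper1)

For `f₁, …, fₙ` in a polynomial ring `P` with vanishing first Koszul homology (e.g. a regular
sequence), `J = (f)`, `B = P/J`: `Hom_P(J, B) ≃ Bⁿ` by evaluation at the `f_i`, and derivations
correspond to the span of the Jacobian columns.
-/

open MvPolynomial

namespace Groth.Agent.Helper1.CIT1

universe u

section General

variable {P : Type u} [CommRing P] {n : ℕ} (f : Fin n → P)

/-- the generator `f i` as an element of the ideal -/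
abbrev fJ (i : Fin n) : ↥(Ideal.span (Set.range f)) :=
  ⟨f i, Ideal.subset_span (Set.mem_range_self i)⟩

lemma smul_quot_eq_zero {a : P} (ha : a ∈ Ideal.span (Set.range f))
    (b : P ⧸ Ideal.span (Set.range f)) : a • b = 0 := by
  rw [Algebra.smul_def, Ideal.Quotient.algebraMap_eq, Ideal.Quotient.eq_zero_iff_mem.2 ha,
    zero_mul]

/-- evaluation at the generators -/
def ev : (↥(Ideal.span (Set.range f)) →ₗ[P] (P ⧸ Ideal.span (Set.range f))) →ₗ[P]
    (Fin n → P ⧸ Ideal.span (Set.range f)) where
  toFun φ i := φ (fJ f i)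
  map_add' _ _ := rfl
  map_smul' _ _ := rfl

/-- the presentation `Pⁿ → J` -/
noncomputable def pi_ : (Fin n → P) →ₗ[P] ↥(Ideal.span (Set.range f)) :=
  Fintype.linearCombination P (fJ f)

lemma coe_pi_ (c : Fin n → P) : ((pi_ f c : ↥(Ideal.span (Set.range f))) : P) = ∑ i, c i * f i := by
  rw [pi_, Fintype.linearCombination_apply, Submodule.coe_sum]
  rfl

lemma pi_surjective : Function.Surjective (pi_ f) := by
  rintro ⟨a, ha⟩
  obtain ⟨c, hc⟩ := Ideal.mem_span_range_iff_exists_fun.1 ha
  refine ⟨c, Subtype.ext ?_⟩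
  rw [coe_pi_]
  exact hc

lemma ev_injective : Function.Injective (ev f) := by
  intro φ ψ h
  apply LinearMap.ext
  intro a
  obtain ⟨c, rfl⟩ := pi_surjective f a
  rw [pi_, Fintype.linearCombination_apply, map_sum, map_sum]
  refine Finset.sum_congr rfl fun i _ => ?_
  rw [map_smul, map_smul]
  congr 1
  exact congrFun h i

lemma ev_surjective (hK : CInt.KoszulH1Zero f P) : Function.Surjective (ev f) := by
  classical
  intro b
  let φ₀ : (Fin n → P) →ₗ[P] (P ⧸ Ideal.span (Set.range f)) := Fintype.linearCombination P b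
  have hle : ∀ c, pi_ f c = 0 → φ₀ c = 0 := by
    intro c hc
    have hc' : ∑ i, f i • c i = 0 := by
      have h0 : ∑ i, c i * f i = 0 := by
        rw [← coe_pi_, hc]
        rfl
      rw [← h0]
      exact Finset.sum_congr rfl fun i _ => by rw [smul_eq_mul, mul_comm]
    have hmem := hK c hc'
    have hspan : Submodule.span P {v : Fin n → P | ∃ (i j : Fin n) (x : P),
        v = f j • (Pi.single i x : Fin n → P) - f i • (Pi.single j x : Fin n → P)} ≤
        LinearMap.ker φ₀ := by
      rw [Submodule.span_le]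
      rintro _ ⟨i, j, x, rfl⟩
      rw [SetLike.mem_coe, LinearMap.mem_ker, map_sub, map_smul, map_smul,
        smul_quot_eq_zero f (Ideal.subset_span (Set.mem_range_self j)),
        smul_quot_eq_zero f (Ideal.subset_span (Set.mem_range_self i)), sub_zero]
    exact hspan hmem
  let s := Function.surjInv (pi_surjective f)
  have hs : ∀ a, pi_ f (s a) = a := Function.surjInv_eq (pi_surjective f)
  have hwd : ∀ c c', pi_ f c = pi_ f c' → φ₀ c = φ₀ c' := by
    intro c c' h
    have := hle (c - c') (by rw [map_sub, h, sub_self])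
    rw [map_sub, sub_eq_zero] at this
    exact this
  let φ : ↥(Ideal.span (Set.range f)) →ₗ[P] (P ⧸ Ideal.span (Set.range f)) :=
    { toFun := fun a => φ₀ (s a)
      map_add' := fun a a' => by
        rw [← map_add]
        exact hwd _ _ (by rw [map_add, hs, hs, hs])
      map_smul' := fun r a => by
        rw [RingHom.id_apply, ← map_smul]
        exact hwd _ _ (by rw [map_smul, hs, hs]) }
  refine ⟨φ, funext fun i => ?_⟩
  show φ₀ (s (fJ f i)) = b i
  have h1 : pi_ f (Pi.single i 1) = fJ f i := by
    rw [pi_, Fintype.linearCombination_apply_single, one_smul]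
  rw [hwd (s (fJ f i)) (Pi.single i 1) (by rw [hs, h1])]
  show Fintype.linearCombination P b (Pi.single i 1) = b i
  rw [Fintype.linearCombination_apply_single, one_smul]

end General

section Poly

variable {k : Type u} [CommRing k] {d n : ℕ}

lemma der_formula {M : Type*} [AddCommGroup M] [Module k M] [Module (MvPolynomial (Fin d) k) M]
    [IsScalarTower k (MvPolynomial (Fin d) k) M]
    (D : Derivation k (MvPolynomial (Fin d) k) M) (p : MvPolynomial (Fin d) k) :
    D p = ∑ j, pderiv j p • D (X j) := by
  classical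
  let E : Derivation k (MvPolynomial (Fin d) k) M :=
    ∑ j, (LinearMap.toSpanSingleton (MvPolynomial (Fin d) k) M (D (X j))).compDer (pderiv j)
  have hE : ∀ q, E q = ∑ j, pderiv j q • D (X j) := by
    intro q
    have h1 : (⇑E : MvPolynomial (Fin d) k → M) =
        ∑ j, ⇑((LinearMap.toSpanSingleton (MvPolynomial (Fin d) k) M (D (X j))).compDer
          (pderiv j)) :=
      map_sum (Derivation.coeFnAddMonoidHom (R := k) (A := MvPolynomial (Fin d) k) (M := M)) _ _
    rw [h1, Finset.sum_apply]
    rfl
  have hDE : D = E := by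
    apply MvPolynomial.derivation_ext
    intro i
    rw [hE]
    simp only [pderiv_X, Pi.single_apply]
    simp
  exact (DFunLike.congr_fun hDE p).trans (hE p)

variable (f : Fin n → MvPolynomial (Fin d) k)

/-- restriction of a derivation `P → B` to `J` is `P`-linear -/
noncomputable def resJ (D : Derivation k (MvPolynomial (Fin d) k)
      (MvPolynomial (Fin d) k ⧸ Ideal.span (Set.range f))) :
    ↥(Ideal.span (Set.range f)) →ₗ[MvPolynomial (Fin d) k]
      (MvPolynomial (Fin d) k ⧸ Ideal.span (Set.range f)) where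
  toFun a := D (a : MvPolynomial (Fin d) k)
  map_add' a b := by rw [Submodule.coe_add, map_add]
  map_smul' r a := by
    rw [RingHom.id_apply, Submodule.coe_smul, smul_eq_mul, Derivation.leibniz,
      smul_quot_eq_zero f a.2, add_zero]

theorem T1_ci (hK : CInt.KoszulH1Zero f (MvPolynomial (Fin d) k)) :
    ∃ e : ((↥(Ideal.span (Set.range f)) →ₗ[MvPolynomial (Fin d) k] (MvPolynomial (Fin d) k ⧸ Ideal.span (Set.range f))) ⧸
            Submodule.span (MvPolynomial (Fin d) k)
              {ψ : ↥(Ideal.span (Set.range f)) →ₗ[MvPolynomial (Fin d) k] (MvPolynomial (Fin d) k ⧸ Ideal.span (Set.range f)) |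
                ∃ D : Derivation k (MvPolynomial (Fin d) k) (MvPolynomial (Fin d) k ⧸ Ideal.span (Set.range f)), ∀ a : ↥(Ideal.span (Set.range f)), ψ a = D (a : MvPolynomial (Fin d) k)}) ≃ₗ[MvPolynomial (Fin d) k]
          ((Fin n → MvPolynomial (Fin d) k ⧸ Ideal.span (Set.range f)) ⧸
            Submodule.span (MvPolynomial (Fin d) k ⧸ Ideal.span (Set.range f))
              (Set.range fun j : Fin d => fun i : Fin n => Ideal.Quotient.mk (Ideal.span (Set.range f)) (pderiv j (f i)))),
      ∀ φ : ↥(Ideal.span (Set.range f)) →ₗ[MvPolynomial (Fin d) k] (MvPolynomial (Fin d) k ⧸ Ideal.span (Set.range f)),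
        e (Submodule.Quotient.mk φ) =
          Submodule.Quotient.mk (fun i : Fin n => φ ⟨f i, Ideal.subset_span (Set.mem_range_self i)⟩) := by
  classical
  let q : Submodule (MvPolynomial (Fin d) k ⧸ Ideal.span (Set.range f))
      (Fin n → MvPolynomial (Fin d) k ⧸ Ideal.span (Set.range f)) :=
    Submodule.span (MvPolynomial (Fin d) k ⧸ Ideal.span (Set.range f))
      (Set.range fun j : Fin d => fun i : Fin n =>
        Ideal.Quotient.mk (Ideal.span (Set.range f)) (pderiv j (f i)))
  let Der : Submodule (MvPolynomial (Fin d) k)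
      (↥(Ideal.span (Set.range f)) →ₗ[MvPolynomial (Fin d) k]
        (MvPolynomial (Fin d) k ⧸ Ideal.span (Set.range f))) :=
    Submodule.span (MvPolynomial (Fin d) k)
      {ψ | ∃ D : Derivation k (MvPolynomial (Fin d) k)
          (MvPolynomial (Fin d) k ⧸ Ideal.span (Set.range f)),
        ∀ a : ↥(Ideal.span (Set.range f)), ψ a = D (a : MvPolynomial (Fin d) k)}
  let mkq : (Fin n → MvPolynomial (Fin d) k ⧸ Ideal.span (Set.range f)) →ₗ[MvPolynomial (Fin d) k]
      ((Fin n → MvPolynomial (Fin d) k ⧸ Ideal.span (Set.range f)) ⧸ q) :=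
    { toFun := Submodule.Quotient.mk
      map_add' := fun _ _ => rfl
      map_smul' := fun _ _ => rfl }
  let g := mkq ∘ₗ ev f
  have hcol : ∀ D : Derivation k (MvPolynomial (Fin d) k)
      (MvPolynomial (Fin d) k ⧸ Ideal.span (Set.range f)),
      (fun i => D (f i)) = ∑ j, D (X j) • (fun i : Fin n =>
        Ideal.Quotient.mk (Ideal.span (Set.range f)) (pderiv j (f i))) := by
    intro D
    funext i
    rw [der_formula D (f i), Finset.sum_apply]
    refine Finset.sum_congr rfl fun j _ => ?_
    rw [Pi.smul_apply, smul_eq_mul]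
    have hsm : ∀ (p : MvPolynomial (Fin d) k)
        (x : MvPolynomial (Fin d) k ⧸ Ideal.span (Set.range f)),
        p • x = Ideal.Quotient.mk (Ideal.span (Set.range f)) p * x := by
      intro p x
      obtain ⟨y, rfl⟩ := Ideal.Quotient.mk_surjective x
      rfl
    exact (hsm _ _).trans (mul_comm _ _)
  have hDq : ∀ D : Derivation k (MvPolynomial (Fin d) k)
      (MvPolynomial (Fin d) k ⧸ Ideal.span (Set.range f)), (fun i => D (f i)) ∈ q := by
    intro D
    rw [hcol D]
    exact Submodule.sum_mem _ fun j _ =>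
      Submodule.smul_mem _ _ (Submodule.subset_span ⟨j, rfl⟩)
  have hDer : Der ≤ LinearMap.ker g := by
    rw [Submodule.span_le]
    rintro ψ ⟨D, hD⟩
    rw [SetLike.mem_coe, LinearMap.mem_ker]
    show Submodule.Quotient.mk (ev f ψ) = 0
    rw [Submodule.Quotient.mk_eq_zero]
    have : ev f ψ = fun i => D (f i) := funext fun i => hD _
    rw [this]
    exact hDq D
  have hker : LinearMap.ker g ≤ Der := by
    intro φ hφ
    rw [LinearMap.mem_ker] at hφ
    have hφ' : ev f φ ∈ q := (Submodule.Quotient.mk_eq_zero q).1 hφ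
    obtain ⟨β, hβ⟩ := (Submodule.mem_span_range_iff_exists_fun _).1 hφ'
    let D := mkDerivation k β
    have h1 : ev f (resJ f D) = ev f φ := by
      rw [← hβ]
      have := hcol D
      simp only [D, mkDerivation_X] at this
      exact this
    rw [← ev_injective f h1]
    exact Submodule.subset_span ⟨D, fun a => rfl⟩
  let ebar := Submodule.liftQ Der g hDer
  have hinj : Function.Injective ebar := by
    rw [← LinearMap.ker_eq_bot]
    exact Submodule.ker_liftQ_eq_bot _ _ _ hker
  have hsurj : Function.Surjective ebar := by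
    intro y
    obtain ⟨b, rfl⟩ := Submodule.mkQ_surjective q y
    obtain ⟨φ, rfl⟩ := ev_surjective f hK b
    exact ⟨Submodule.Quotient.mk φ, rfl⟩
  exact ⟨LinearEquiv.ofBijective ebar ⟨hinj, hsurj⟩, fun φ => rfl⟩

end Poly

end Groth.Agent.Helper1.CIT1
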