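import Mathlib
import Groth.Prelude.Def_CAlg
import Groth.Agent.Helper1.FlatLocalCM
import Groth.Agent.H29.ReducedR0S1
import Groth.Agent.H29.DepthLocal

namespace Groth.Agent.Helper1.SkFlat

open TensorProduct IsLocalRing
open scoped Pointwise

universe u

set_option linter.style.haveILetI false

/-- Fibre rings of a Noetherian algebra are Noetherian. -/
theorem isNoetherianRing_fiber (R S : Type u) [CommRing R] [CommRing S] [Algebra R S]
    [IsNoetherianRing S] (p : Ideal R) [p.IsPrime] : IsNoetherianRing (p.Fiber S) := by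
  haveI : IsNoetherianRing (S ⊗[R] p.ResidueField) :=
    Algebra.EssFiniteType.isNoetherianRing S _
  exact isNoetherianRing_of_ringEquiv _
    (Algebra.TensorProduct.comm R S p.ResidueField).toRingEquiv

theorem arith {K A C D E : WithBot ℕ∞} (h1 : min K A ≤ D) (h2 : min K C ≤ E) (hD : 0 ≤ D)
    (hE : 0 ≤ E) : min K (A + C) ≤ D + E := by
  rcases le_total K A with h | h
  · rw [min_eq_left h] at h1
    exact (min_le_left _ _).trans (h1.trans (le_add_of_nonneg_right hE))
  · rcases le_total K C with h' | h'
    · rw [min_eq_left h'] at h2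
      exact (min_le_left _ _).trans (h2.trans (le_add_of_nonneg_left hD))
    · rw [min_eq_right h] at h1; rw [min_eq_right h'] at h2
      exact (min_le_right _ _).trans (add_le_add h1 h2)

theorem coe_nonneg' (d : ℕ∞) : (0 : WithBot ℕ∞) ≤ ((d : ℕ∞) : WithBot ℕ∞) := by
  rw [← WithBot.coe_zero]
  exact WithBot.coe_le_coe.mpr zero_le

/-- Serre's condition `(S_k)` ascends along flat maps with `(S_k)` fibres. -/
theorem hasSk_of_flat (R S : Type u) [CommRing R] [CommRing S] [Algebra R S]
    [IsNoetherianRing R] [IsNoetherianRing S] [Module.Flat R S] (k : ℕ)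
    (hR : LocCoh.HasSk k R R)
    (hfib : ∀ (p : Ideal R) [p.IsPrime], LocCoh.HasSk k (p.Fiber S) (p.Fiber S)) :
    LocCoh.HasSk k S S := by
  intro Q hQ
  obtain ⟨p, hp, q, hq, hQeq⟩ := FlatLocalCM.exists_fiber_prime R S Q
  subst hQeq
  haveI := isNoetherianRing_fiber R S p
  obtain ⟨h1, h2⟩ := FlatLocalCM.local_formulas R S p q
  have hA := hR p
  have hF := hfib p q
  rw [Groth.Agent.H29.depth_localizedModule_self,
    Groth.Agent.H29.supportDim_localizedModule_self] at hA hF ⊢
  rw [h1, h2, WithBot.coe_add]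
  exact arith hA hF (coe_nonneg' _) (coe_nonneg' _)

end Groth.Agent.Helper1.SkFlat
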