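import Mathlib

/-!
# Number of zeros of a form of degree `n+1` in `n+1` variables modulo `p` (helper for S13065)
-/

namespace Groth.Agent.Helper1.CWcoeff

open MvPolynomial

universe u

theorem main {k : Type u} [Field k] [Finite k] (p : ℕ) [CharP k p] (n : ℕ)
    (f : MvPolynomial (Fin (n + 1)) k) (hf : f.IsHomogeneous (n + 1)) :
    p ∣ Nat.card {a : Fin (n + 1) → k // MvPolynomial.eval a f = 0} ↔
      MvPolynomial.coeff (Finsupp.equivFunOnFinite.symm fun _ : Fin (n + 1) => Nat.card k - 1)
        (f ^ (Nat.card k - 1)) = 0 := by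
  classical
  haveI : Fintype k := Fintype.ofFinite k
  rw [Nat.card_eq_fintype_card (α := k)]
  set q := Fintype.card k with hq
  have hq1 : 0 < q - 1 := by rw [← Fintype.card_units, Fintype.card_pos_iff]; exact ⟨1⟩
  set e : Fin (n + 1) →₀ ℕ := Finsupp.equivFunOnFinite.symm fun _ => q - 1 with he
  have hei : ∀ i, e i = q - 1 := fun i => rfl
  set g := f ^ (q - 1) with hg
  have hghom : g.IsHomogeneous ((n + 1) * (q - 1)) := hf.pow (q - 1)
  have hqk : ((q : ℕ) : k) = 0 := FiniteField.cast_card_eq_zero k
  have hs_lt : ∀ j, j < q - 1 → ∑ a : k, a ^ j = 0 :=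
    fun j hj => FiniteField.sum_pow_lt_card_sub_one k j hj
  have hs_top : ∑ a : k, a ^ (q - 1) = -1 := by
    have h1 : ∀ a : k, a ^ (q - 1) = 1 - (if a = 0 then 1 else 0) := by
      intro a
      split_ifs with h
      · rw [h, zero_pow hq1.ne', sub_self]
      · rw [FiniteField.pow_card_sub_one_eq_one a h, sub_zero]
    simp only [h1, Finset.sum_sub_distrib, Finset.sum_const, Finset.card_univ, nsmul_eq_mul,
      mul_one, Finset.sum_ite_eq', Finset.mem_univ, if_true]
    rw [← hq, hqk, zero_sub]
  have hS : ∀ d : Fin (n + 1) →₀ ℕ,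
      ∑ x : Fin (n + 1) → k, ∏ i, x i ^ d i = ∏ i, ∑ a : k, a ^ d i := by
    intro d
    rw [Finset.prod_univ_sum, Fintype.piFinset_univ]
  have hsum : ∑ x : Fin (n + 1) → k, eval x g = coeff e g * (-1) ^ (n + 1) := by
    calc ∑ x : Fin (n + 1) → k, eval x g
        = ∑ x : Fin (n + 1) → k, ∑ d ∈ g.support, g.coeff d * ∏ i, x i ^ d i := by
          simp only [eval_eq']
      _ = ∑ d ∈ g.support, ∑ x : Fin (n + 1) → k, g.coeff d * ∏ i, x i ^ d i := Finset.sum_comm
      _ = ∑ d ∈ g.support, g.coeff d * ∏ i, ∑ a : k, a ^ d i := by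
          refine Finset.sum_congr rfl fun d _ => ?_
          rw [← Finset.mul_sum, hS]
      _ = g.coeff e * ∏ i, ∑ a : k, a ^ e i := by
          apply Finset.sum_eq_single e
          · intro d hd hde
            obtain ⟨i, hi⟩ : ∃ i, d i < q - 1 := by
              by_contra hcon
              push Not at hcon
              apply hde
              have hdeg : ∑ i, d i = (n + 1) * (q - 1) := by
                rw [← Finsupp.degree_eq_sum]
                by_contra hne
                exact (mem_support_iff.1 hd) (hghom.coeff_eq_zero hne)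
              ext i
              rw [hei]
              by_contra hne
              have hlt : q - 1 < d i := lt_of_le_of_ne (hcon i) (Ne.symm hne)
              have h2 : ∑ _j : Fin (n + 1), (q - 1) < ∑ j, d j :=
                Finset.sum_lt_sum (fun j _ => hcon j) ⟨i, Finset.mem_univ i, hlt⟩
              rw [hdeg, Finset.sum_const, Finset.card_univ, Fintype.card_fin, smul_eq_mul] at h2
              exact lt_irrefl _ h2
            rw [Finset.prod_eq_zero (Finset.mem_univ i) (hs_lt _ hi), mul_zero]
          · intro he'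
            rw [notMem_support_iff.1 he', zero_mul]
      _ = g.coeff e * (-1) ^ (n + 1) := by
          congr 1
          rw [Finset.prod_congr rfl (fun i _ => by rw [hei i, hs_top])]
          simp
  let S : Finset (Fin (n + 1) → k) := Finset.univ.filter (fun x => eval x f = 0)
  have hSmem (x : Fin (n + 1) → k) : x ∈ S ↔ eval x f = 0 := by simp [S]
  have hF : ∀ x, eval x (1 - g) = if x ∈ S then 1 else 0 := by
    intro x
    simp only [map_sub, map_one, hg, map_pow]
    split_ifs with hx
    · rw [(hSmem x).1 hx, zero_pow hq1.ne', sub_zero]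
    · rw [FiniteField.pow_card_sub_one_eq_one _ (fun h => hx ((hSmem x).2 h)), sub_self]
  have key : ∑ x, eval x (1 - g) =
      (Fintype.card {x : Fin (n + 1) → k // eval x f = 0} : k) := by
    rw [Fintype.card_of_subtype S hSmem, Finset.card_eq_sum_ones, Nat.cast_sum, Nat.cast_one,
      ← Fintype.sum_extend_by_zero S, Finset.sum_congr rfl fun x _ => hF x]
  have hone : ∑ _x : Fin (n + 1) → k, (1 : k) = 0 := by
    rw [Finset.sum_const, Finset.card_univ, Fintype.card_fun, Fintype.card_fin, nsmul_eq_mul,
      mul_one, Nat.cast_pow, ← hq, hqk, zero_pow (Nat.succ_ne_zero n)]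
  have hZ : (Fintype.card {x : Fin (n + 1) → k // eval x f = 0} : k) =
      -(coeff e g * (-1) ^ (n + 1)) := by
    rw [← key]
    simp only [map_sub, map_one, Finset.sum_sub_distrib]
    rw [hone, hsum, zero_sub]
  rw [Nat.card_eq_fintype_card, ← CharP.cast_eq_zero_iff k p, hZ, neg_eq_zero, mul_eq_zero]
  constructor
  · rintro (h | h)
    · exact h
    · exact absurd h (pow_ne_zero _ (neg_ne_zero.2 one_ne_zero))
  · intro h; exact Or.inl h

end Groth.Agent.Helper1.CWcoeff
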