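import Mathlib

/-!
# Coefficient of `(x_0 ⋯ x_n)^{q-1}` in `f^{q-1}` versus `(x_0 ⋯ x_n)^{p-1}` in `f^{p-1}` (S13066)
-/

namespace Groth.Agent.Helper1.CWcoeff2

open MvPolynomial

universe u

/-- The constant exponent vector. -/
noncomputable abbrev E (N m : ℕ) : Fin N →₀ ℕ := Finsupp.equivFunOnFinite.symm fun _ : Fin N => m

theorem E_apply (N m : ℕ) (i : Fin N) : E N m i = m := rfl

theorem step {k : Type u} [Field k] (p : ℕ) [hp : Fact p.Prime] [CharP k p] (N : ℕ)
    (f : MvPolynomial (Fin N) k) (hf : f.IsHomogeneous N) (P : ℕ) (hP : 1 ≤ P) :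
    coeff (E N (p * P - 1)) (f ^ (p * P - 1)) =
      coeff (E N (p - 1)) (f ^ (p - 1)) * (coeff (E N (P - 1)) (f ^ (P - 1))) ^ p := by
  classical
  have : ExpChar k p := ExpChar.prime hp.out
  have hp1 : 1 ≤ p := hp.out.one_lt.le
  have hp0 : p ≠ 0 := hp.out.ne_zero
  have e1 : p * P = p * (P - 1) + p := by
    obtain ⟨P', rfl⟩ : ∃ P', P = P' + 1 := ⟨P - 1, by omega⟩
    simp [Nat.mul_succ]
  have e2 : (P - 1) * p = p * (P - 1) := Nat.mul_comm _ _
  have hpow : f ^ (p * P - 1) = f ^ (p - 1) * (f ^ (P - 1)) ^ p := by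
    rw [← pow_mul, ← pow_add]
    congr 1
    omega
  set h := f ^ (p - 1) with hh_def
  set g := f ^ (P - 1) with hg_def
  have hh : h.IsHomogeneous (N * (p - 1)) := hf.pow (p - 1)
  have hgp : g ^ p = (g.expand p).map (frobenius k p) := (map_frobenius_expand p).symm
  rw [hpow, hgp, coeff_mul]
  have hmem : (E N (p - 1), p • E N (P - 1)) ∈ Finset.HasAntidiagonal.antidiagonal (E N (p * P - 1)) := by
    rw [Finset.HasAntidiagonal.mem_antidiagonal]
    ext i
    simp only [Finsupp.coe_add, Pi.add_apply, E_apply, Finsupp.coe_smul, Pi.smul_apply,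
      smul_eq_mul]
    omega
  rw [Finset.sum_eq_single_of_mem _ hmem]
  · rw [coeff_map, coeff_expand_smul p hp0, frobenius_def]
  · rintro ⟨a, b⟩ hab hne
    rw [Finset.HasAntidiagonal.mem_antidiagonal] at hab
    by_contra hcon
    have ha : coeff a h ≠ 0 := left_ne_zero_of_mul hcon
    have hb : coeff b ((g.expand p).map (frobenius k p)) ≠ 0 := right_ne_zero_of_mul hcon
    have hb' : coeff b (g.expand p) ≠ 0 := by
      intro h0
      apply hb
      rw [coeff_map, h0, map_zero]
    have hdvd : ∀ i, p ∣ b i := by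
      intro i
      by_contra hnd
      exact hb' (coeff_expand_of_not_dvd g hnd)
    have hsum : ∀ i, a i + b i = p * P - 1 := by
      intro i
      have := DFunLike.congr_fun hab i
      simpa using this
    have hPpos : 1 ≤ p * P := Nat.mul_pos (by omega) (by omega)
    have hge : ∀ i, p - 1 ≤ a i := by
      intro i
      have h1 : a i + 1 = p * P - b i := by have := hsum i; omega
      have h2 : p ∣ a i + 1 := by
        rw [h1]
        exact Nat.dvd_sub (dvd_mul_right p P) (hdvd i)
      have h3 : p ≤ a i + 1 := Nat.le_of_dvd (Nat.succ_pos _) h2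
      omega
    have hdeg : ∑ i, a i = N * (p - 1) := by
      rw [← Finsupp.degree_eq_sum]
      by_contra hne'
      exact ha (hh.coeff_eq_zero hne')
    have haeq : ∀ i, a i = p - 1 := by
      intro i
      by_contra hne'
      have hlt : p - 1 < a i := lt_of_le_of_ne (hge i) (Ne.symm hne')
      have h2 : ∑ _j : Fin N, (p - 1) < ∑ j, a j :=
        Finset.sum_lt_sum (fun j _ => hge j) ⟨i, Finset.mem_univ i, hlt⟩
      rw [hdeg, Finset.sum_const, Finset.card_univ, Fintype.card_fin, smul_eq_mul] at h2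
      exact lt_irrefl _ h2
    apply hne
    refine Prod.ext ?_ ?_
    · ext i
      simp only [E_apply]
      exact haeq i
    · ext i
      simp only [Finsupp.coe_smul, Pi.smul_apply, smul_eq_mul, E_apply]
      have h1 := hsum i
      have h2 := haeq i
      omega

theorem main {k : Type u} [Field k] [Finite k] (p : ℕ) [CharP k p] (n : ℕ)
    (f : MvPolynomial (Fin (n + 1)) k) (hf : f.IsHomogeneous (n + 1)) :
    MvPolynomial.coeff (Finsupp.equivFunOnFinite.symm fun _ : Fin (n + 1) => Nat.card k - 1)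
        (f ^ (Nat.card k - 1)) ≠ 0 ↔
      MvPolynomial.coeff (Finsupp.equivFunOnFinite.symm fun _ : Fin (n + 1) => p - 1)
        (f ^ (p - 1)) ≠ 0 := by
  classical
  have : Fintype k := Fintype.ofFinite k
  obtain ⟨e, hp, hcard⟩ := FiniteField.card k p
  have : Fact p.Prime := ⟨hp⟩
  rw [Nat.card_eq_fintype_card (α := k), hcard]
  have key : ∀ m : ℕ, 1 ≤ m →
      (coeff (E (n + 1) (p ^ m - 1)) (f ^ (p ^ m - 1)) ≠ 0 ↔
        coeff (E (n + 1) (p - 1)) (f ^ (p - 1)) ≠ 0) := by
    intro m hm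
    induction m, hm using Nat.le_induction with
    | base => rw [pow_one]
    | succ m hm ih =>
      rw [pow_succ', step p (n + 1) f hf (p ^ m) (Nat.one_le_pow _ _ hp.pos), mul_ne_zero_iff,
        pow_ne_zero_iff hp.ne_zero]
      exact ⟨fun h => h.1, fun h => ⟨h, ih.2 h⟩⟩
  exact key e e.pos

end Groth.Agent.Helper1.CWcoeff2
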