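import Mathlib
import Groth.Prelude

/-!
# The characteristic homomorphism of an `A`-trivial extension (helper1)
-/

set_option autoImplicit false
set_option linter.style.haveILetI false

namespace Groth.Agent.Helper1.CharHom

open TensorProduct KaehlerDifferential

universe u v

variable (A : Type u) {B C L : Type v} [CommRing A] [CommRing B] [CommRing C]
  [Algebra A B] [Algebra B C] [Algebra A C] [IsScalarTower A B C] [AddCommGroup L] [Module C L]
  (X : Exal.Ext B C L)

lemma proj_incl (l : L) : X.proj (X.incl l) = 0 := (X.isExtension.exact _).2 ⟨l, rfl⟩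

lemma incl_mul_incl (l l' : L) : X.incl l * X.incl l' = 0 := by
  rw [X.isExtension.mul_incl, proj_incl, zero_smul, map_zero]

lemma incl_mem_ker (l : L) :
    (X.incl l : X.CharCarrier A) ∈ RingHom.ker (algebraMap (X.CharCarrier A) C) :=
  proj_incl X l

lemma exists_incl_of_mem_ker (x : X.CharCarrier A)
    (hx : x ∈ RingHom.ker (algebraMap (X.CharCarrier A) C)) : ∃ l : L, X.incl l = x :=
  (X.isExtension.exact x).1 hx

lemma ker_sq : (RingHom.ker (algebraMap (X.CharCarrier A) C)) ^ 2 = ⊥ := by
  rw [eq_bot_iff, pow_two, Ideal.mul_le]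
  intro x hx y hy
  obtain ⟨l, rfl⟩ := exists_incl_of_mem_ker A X x hx
  obtain ⟨l', rfl⟩ := exists_incl_of_mem_ker A X y hy
  exact Ideal.mem_bot.mpr (incl_mul_incl X l l')

lemma surj : Function.Surjective (algebraMap (X.CharCarrier A) C) :=
  X.isExtension.proj_surjective

lemma deltaL_eq (l : L) :
    X.deltaL A l = kerToTensor A (X.CharCarrier A) C ⟨X.incl l, incl_mem_ker A X l⟩ := rfl

/-- `deltaL` is `C`-semilinear. -/
lemma deltaL_smul (c : C) (l : L) : X.deltaL A (c • l) = c • X.deltaL A l := by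
  obtain ⟨e, rfl⟩ := surj A X c
  have h1 : X.inclC A (algebraMap (X.CharCarrier A) C e • l) = e * X.inclC A l :=
    (X.isExtension.mul_incl e l).symm
  show (1 : C) ⊗ₜ[X.CharCarrier A]
      D A (X.CharCarrier A) (X.inclC A (algebraMap (X.CharCarrier A) C e • l)) =
    algebraMap (X.CharCarrier A) C e •
      ((1 : C) ⊗ₜ[X.CharCarrier A] D A (X.CharCarrier A) (X.inclC A l))
  rw [h1, Derivation.leibniz, TensorProduct.tmul_add, ← TensorProduct.smul_tmul,
    ← TensorProduct.smul_tmul, Algebra.smul_def, Algebra.smul_def, mul_one, mul_one,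
    TensorProduct.smul_tmul', smul_eq_mul, mul_one]
  have h3 : algebraMap (X.CharCarrier A) C (X.inclC A l) = 0 := proj_incl X l
  rw [h3, TensorProduct.zero_tmul, add_zero]

lemma bc_tmul (c : C) (ω : Ω[B⁄A]) :
    X.baseChangeToMiddle A (c ⊗ₜ[B] ω) =
      c ⊗ₜ[X.CharCarrier A] KaehlerDifferential.map A A B (X.CharCarrier A) ω := rfl

/-- `baseChangeToMiddle` is `C`-linear. -/
lemma bc_smul (c : C) (y : C ⊗[B] Ω[B⁄A]) :
    X.baseChangeToMiddle A (c • y) = c • X.baseChangeToMiddle A y := by
  induction y using TensorProduct.induction_on with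
  | zero => simp
  | tmul c' ω =>
    rw [TensorProduct.smul_tmul', bc_tmul, bc_tmul, TensorProduct.smul_tmul']
  | add y y' h h' => rw [smul_add, map_add, map_add, h, h', smul_add]

/-- Compatibility of `baseChangeToMiddle` with the maps to `Ω[C⁄A]`. -/
lemma mapBaseChange_bc (y : C ⊗[B] Ω[B⁄A]) :
    mapBaseChange A (X.CharCarrier A) C (X.baseChangeToMiddle A y) = mapBaseChange A B C y := by
  induction y using TensorProduct.induction_on with
  | zero => simp
  | add y y' h h' => rw [map_add, map_add, map_add, h, h']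
  | tmul c ω =>
    have hω : ω ∈ Submodule.span B (Set.range (D A B)) := by
      rw [span_range_derivation]; trivial
    revert c
    refine Submodule.span_induction (p := fun ω _ => ∀ c : C,
      mapBaseChange A (X.CharCarrier A) C (X.baseChangeToMiddle A (c ⊗ₜ[B] ω)) =
        mapBaseChange A B C (c ⊗ₜ[B] ω)) ?_ ?_ ?_ ?_ hω
    · rintro _ ⟨b, rfl⟩ c
      rw [bc_tmul, mapBaseChange_tmul, mapBaseChange_tmul, map_D, map_D, map_D,
        ← IsScalarTower.algebraMap_apply]
    · intro c
      rw [TensorProduct.tmul_zero, map_zero, map_zero, map_zero]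
    · intro ω ω' _ _ h h' c
      rw [TensorProduct.tmul_add, map_add, map_add, map_add, h, h']
    · intro b ω _ h c
      rw [← TensorProduct.smul_tmul]
      exact h (b • c)

variable {A}

theorem deltaL_injective (hX : X.IsTrivialOver A) : Function.Injective (X.deltaL A) := by
  obtain ⟨s, hs⟩ := hX
  let g : C →ₐ[A] X.CharCarrier A :=
    { toFun := fun c => s c
      map_one' := map_one s
      map_mul' := map_mul s
      map_zero' := map_zero s
      map_add' := map_add s
      commutes' := fun a => s.commutes a }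
  have hg : (IsScalarTower.toAlgHom A (X.CharCarrier A) C).comp g = AlgHom.id A C :=
    AlgHom.ext fun c => hs c
  have hr := retractionOfSectionOfKerSqZero_comp_kerToTensor g (ker_sq A X) hg
  intro l l' h
  rw [deltaL_eq, deltaL_eq] at h
  have h2 := congrArg (retractionOfSectionOfKerSqZero g (ker_sq A X) hg) h
  have e1 := LinearMap.congr_fun hr ⟨X.incl l, incl_mem_ker A X l⟩
  have e2 := LinearMap.congr_fun hr ⟨X.incl l', incl_mem_ker A X l'⟩
  rw [LinearMap.comp_apply, LinearMap.id_apply] at e1 e2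
  rw [e1, e2] at h2
  exact X.isExtension.incl_injective (Subtype.ext_iff.mp h2)

theorem main (hX : X.IsTrivialOver A) :
    ∃! χ : ↥(EGA41.imperfection A B C) →ₗ[C] L, X.IsCharHom A χ := by
  obtain ⟨s, hs⟩ := hX
  let g : C →ₐ[A] X.CharCarrier A :=
    { toFun := fun c => s c
      map_one' := map_one s
      map_mul' := map_mul s
      map_zero' := map_zero s
      map_add' := map_add s
      commutes' := fun a => s.commutes a }
  have hg : (IsScalarTower.toAlgHom A (X.CharCarrier A) C).comp g = AlgHom.id A C :=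
    AlgHom.ext fun c => hs c
  have hr := retractionOfSectionOfKerSqZero_comp_kerToTensor g (ker_sq A X) hg
  have hinj : Function.Injective (X.deltaL A) := by
    intro l l' h
    rw [deltaL_eq, deltaL_eq] at h
    have h2 := congrArg (retractionOfSectionOfKerSqZero g (ker_sq A X) hg) h
    have e1 := LinearMap.congr_fun hr ⟨X.incl l, incl_mem_ker A X l⟩
    have e2 := LinearMap.congr_fun hr ⟨X.incl l', incl_mem_ker A X l'⟩
    rw [LinearMap.comp_apply, LinearMap.id_apply] at e1 e2
    rw [e1, e2] at h2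
    exact X.isExtension.incl_injective (Subtype.ext_iff.mp h2)
  have hex : ∀ z : ↥(EGA41.imperfection A B C),
      ∃ l : L, X.deltaL A l = X.baseChangeToMiddle A (z : C ⊗[B] Ω[B⁄A]) := by
    intro z
    have hz : mapBaseChange A B C (z : C ⊗[B] Ω[B⁄A]) = 0 := LinearMap.mem_ker.mp z.2
    have h0 : mapBaseChange A (X.CharCarrier A) C
        (X.baseChangeToMiddle A (z : C ⊗[B] Ω[B⁄A])) = 0 := by
      rw [mapBaseChange_bc, hz]
    obtain ⟨w, hw⟩ := (exact_kerCotangentToTensor_mapBaseChange A (X.CharCarrier A) C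
      (surj A X) _).mp h0
    obtain ⟨x, rfl⟩ := Ideal.toCotangent_surjective _ w
    rw [kerCotangentToTensor_toCotangent] at hw
    obtain ⟨l, hl⟩ := exists_incl_of_mem_ker A X x.1 x.2
    refine ⟨l, ?_⟩
    rw [← hw]
    show (1 : C) ⊗ₜ[X.CharCarrier A] D A (X.CharCarrier A) (X.incl l) = _
    rw [hl]
  choose f hf using hex
  refine ⟨{ toFun := f
            map_add' := fun z z' => hinj (by
              rw [hf, map_add, hf, hf, Submodule.coe_add, map_add])
            map_smul' := fun c z => hinj (by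
              rw [hf, RingHom.id_apply, deltaL_smul, hf, Submodule.coe_smul, bc_smul]) },
    hf, fun χ' hχ' => LinearMap.ext fun z => hinj ?_⟩
  rw [hχ' z]
  exact (hf z).symm

section Infinitesimal

variable {A : Type u} {B : Type v} [CommRing A] [CommRing B] [Algebra A B] (K : Ideal B)

theorem infinitesimal_bijective (hK : (Exal.Ext.infinitesimal K).IsTrivialOver A)
    (χ : ↥(EGA41.imperfection A B (B ⧸ K)) →ₗ[B ⧸ K] K.Cotangent)
    (hχ : (Exal.Ext.infinitesimal K).IsCharHom A χ) :
    Function.Bijective χ := by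
  have hinj := deltaL_injective (Exal.Ext.infinitesimal K) hK
  have hker : RingHom.ker (algebraMap B (B ⧸ K)) = K := by
    rw [Ideal.Quotient.algebraMap_eq]; exact Ideal.mk_ker
  have hsurjBC : Function.Surjective (algebraMap B (B ⧸ K)) := by
    rw [Ideal.Quotient.algebraMap_eq]; exact Ideal.Quotient.mk_surjective
  -- the key computation
  have key : ∀ (k : K) (z : ↥(EGA41.imperfection A B (B ⧸ K))),
      (z : (B ⧸ K) ⊗[B] Ω[B⁄A]) = (1 : B ⧸ K) ⊗ₜ[B] D A B (k : B) → χ z = K.toCotangent k := by
    intro k z hz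
    apply hinj
    rw [hχ z, hz, bc_tmul, map_D]
    show _ = (1 : B ⧸ K) ⊗ₜ[(Exal.Ext.infinitesimal K).CharCarrier A]
      D A ((Exal.Ext.infinitesimal K).CharCarrier A)
        ((Exal.Ext.infinitesimal K).inclC A (K.toCotangent k))
    congr 2
  -- every element of the imperfection module is `1 ⊗ d k`
  have hform : ∀ z : ↥(EGA41.imperfection A B (B ⧸ K)),
      ∃ x : RingHom.ker (algebraMap B (B ⧸ K)),
        (z : (B ⧸ K) ⊗[B] Ω[B⁄A]) = kerCotangentToTensor A B (B ⧸ K) (Ideal.toCotangent _ x) := by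
    intro z
    have hz : mapBaseChange A B (B ⧸ K) (z : (B ⧸ K) ⊗[B] Ω[B⁄A]) = 0 := LinearMap.mem_ker.mp z.2
    obtain ⟨w, hw⟩ := (exact_kerCotangentToTensor_mapBaseChange A B (B ⧸ K) hsurjBC _).mp hz
    obtain ⟨x, rfl⟩ := Ideal.toCotangent_surjective _ w
    exact ⟨x, hw.symm⟩
  constructor
  · rw [injective_iff_map_eq_zero]
    intro z hz0
    obtain ⟨x, hx⟩ := hform z
    have hxK : (x : B) ∈ K := hker.le x.2
    have h1 := key ⟨x, hxK⟩ z (by rw [hx, kerCotangentToTensor_toCotangent])
    rw [hz0] at h1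
    have h2 : (x : B) ∈ K ^ 2 := (Ideal.toCotangent_eq_zero K ⟨x, hxK⟩).mp h1.symm
    have h3 : Ideal.toCotangent (RingHom.ker (algebraMap B (B ⧸ K))) x = 0 := by
      rw [Ideal.toCotangent_eq_zero]
      exact Ideal.pow_right_mono hker.ge 2 h2
    apply Subtype.ext
    rw [hx, h3, map_zero]; rfl
  · intro c
    obtain ⟨k, rfl⟩ := K.toCotangent_surjective c
    have hmem : (1 : B ⧸ K) ⊗ₜ[B] D A B (k : B) ∈ EGA41.imperfection A B (B ⧸ K) := by
      show _ ∈ LinearMap.ker _
      rw [LinearMap.mem_ker, mapBaseChange_tmul, map_D, one_smul, Ideal.Quotient.algebraMap_eq,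
        Ideal.Quotient.eq_zero_iff_mem.mpr k.2, map_zero]
    exact ⟨⟨_, hmem⟩, key k ⟨_, hmem⟩ rfl⟩

end Infinitesimal

end Groth.Agent.Helper1.CharHom
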