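import Mathlib
import Groth.Prelude
import Groth.Agent.Helper1.CharHom

/-!
# The characteristic homomorphism of `B ⧸ K ^ 2`: kernel and image (helper1)
-/

set_option autoImplicit false
set_option linter.style.haveILetI false
set_option linter.unusedSectionVars false

namespace Groth.Agent.Helper1.CharSeq

open TensorProduct KaehlerDifferential

section QuotSq

variable {R P E S : Type*} [CommRing R] [CommRing P] [CommRing E] [CommRing S]
  [Algebra R P] [Algebra R E] [Algebra R S] [Algebra P E] [Algebra E S] [Algebra P S]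
  [IsScalarTower R P E] [IsScalarTower R P S] [IsScalarTower R E S] [IsScalarTower P E S]

lemma one_tmul_D_eq_zero (x : P) (hx : x ∈ RingHom.ker (algebraMap P S) ^ 2) :
    (1 : S) ⊗ₜ[P] D R P x = 0 := by
  rw [pow_two] at hx
  refine Submodule.mul_induction_on hx ?_ ?_
  · intro m hm n hn
    rw [Derivation.leibniz, tmul_add, ← smul_tmul, ← smul_tmul, Algebra.smul_def,
      Algebra.smul_def, RingHom.mem_ker.mp hm, RingHom.mem_ker.mp hn, zero_mul, zero_tmul,
      zero_tmul, add_zero]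
  · intro x y hx hy
    rw [map_add, tmul_add, hx, hy, add_zero]

variable (hsurj : Function.Surjective (algebraMap P E))
  (hker : RingHom.ker (algebraMap P E) ≤ RingHom.ker (algebraMap P S) ^ 2)

include hker in
lemma one_tmul_D_congr {p p' : P} (h : algebraMap P E p = algebraMap P E p') :
    (1 : S) ⊗ₜ[P] D R P p = (1 : S) ⊗ₜ[P] D R P p' := by
  have h1 : p - p' ∈ RingHom.ker (algebraMap P E) := by
    rw [RingHom.mem_ker, map_sub, h, sub_self]
  have h2 := one_tmul_D_eq_zero (R := R) (S := S) _ (hker h1)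
  rw [map_sub, tmul_sub, sub_eq_zero] at h2
  exact h2

variable (R S) in
/-- The function `E → S ⊗[P] Ω[P⁄R]`, `[p] ↦ 1 ⊗ d p`. -/
noncomputable def dfun (e : E) : S ⊗[P] Ω[P⁄R] :=
  (1 : S) ⊗ₜ[P] D R P (Function.surjInv hsurj e)

include hker in
lemma dfun_mk (p : P) :
    dfun R S hsurj (algebraMap P E p) = (1 : S) ⊗ₜ[P] D R P p :=
  one_tmul_D_congr hker (Function.surjInv_eq hsurj _)

variable (R S) in
/-- The derivation `E → S ⊗[P] Ω[P⁄R]`, `[p] ↦ 1 ⊗ d p`. -/
noncomputable def delta : Derivation R E (S ⊗[P] Ω[P⁄R]) where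
  toFun := dfun R S hsurj
  map_add' e e' := by
    obtain ⟨p, rfl⟩ := hsurj e
    obtain ⟨q, rfl⟩ := hsurj e'
    rw [← map_add, dfun_mk hsurj hker, dfun_mk hsurj hker, dfun_mk hsurj hker, map_add,
      tmul_add]
  map_smul' r e := by
    obtain ⟨p, rfl⟩ := hsurj e
    have h1 : r • algebraMap P E p = algebraMap P E (r • p) := by
      rw [Algebra.smul_def r p, map_mul, ← IsScalarTower.algebraMap_apply, ← Algebra.smul_def]
    rw [h1, dfun_mk hsurj hker, dfun_mk hsurj hker, Derivation.map_smul, tmul_smul,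
      RingHom.id_apply]
  map_one_eq_zero' := by
    show dfun R S hsurj 1 = 0
    rw [← map_one (algebraMap P E), dfun_mk hsurj hker, Derivation.map_one_eq_zero, tmul_zero]
  leibniz' a b := by
    obtain ⟨p, rfl⟩ := hsurj a
    obtain ⟨q, rfl⟩ := hsurj b
    show dfun R S hsurj (_ * _) = _ • dfun R S hsurj _ + _ • dfun R S hsurj _
    rw [← map_mul, dfun_mk hsurj hker, dfun_mk hsurj hker, dfun_mk hsurj hker,
      Derivation.leibniz, tmul_add, tmul_smul, tmul_smul, IsScalarTower.algebraMap_smul,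
      IsScalarTower.algebraMap_smul]

variable (R S) in
/-- The map `S ⊗[E] Ω[E⁄R] → S ⊗[P] Ω[P⁄R]`. -/
noncomputable def phi : S ⊗[E] Ω[E⁄R] →ₗ[S] S ⊗[P] Ω[P⁄R] :=
  LinearMap.liftBaseChange S (delta R S hsurj hker).liftKaehlerDifferential

lemma phi_tmul_D (s : S) (p : P) :
    phi R S hsurj hker (s ⊗ₜ[E] D R E (algebraMap P E p)) = s ⊗ₜ[P] D R P p := by
  rw [phi, LinearMap.liftBaseChange_tmul, Derivation.liftKaehlerDifferential_comp_D]
  show s • dfun R S hsurj (algebraMap P E p) = _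
  rw [dfun_mk hsurj hker, smul_tmul', smul_eq_mul, mul_one]

variable (R S) in
/-- The map `S ⊗[P] Ω[P⁄R] → S ⊗[E] Ω[E⁄R]`. -/
noncomputable def psi : S ⊗[P] Ω[P⁄R] →ₗ[S] S ⊗[E] Ω[E⁄R] :=
  LinearMap.liftBaseChange S
    (((TensorProduct.mk E S Ω[E⁄R] 1).restrictScalars P).comp (KaehlerDifferential.map R R P E))

lemma psi_tmul (s : S) (ω : Ω[P⁄R]) :
    psi R S (s ⊗ₜ[P] ω) = s ⊗ₜ[E] KaehlerDifferential.map R R P E ω := by
  rw [psi, LinearMap.liftBaseChange_tmul, LinearMap.comp_apply, LinearMap.restrictScalars_apply,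
    TensorProduct.mk_apply, smul_tmul', smul_eq_mul, mul_one]

lemma phi_psi (y : S ⊗[P] Ω[P⁄R]) : phi R S hsurj hker (psi R S y) = y := by
  induction y using TensorProduct.induction_on with
  | zero => rw [map_zero, map_zero]
  | add y y' h h' => rw [map_add, map_add, h, h']
  | tmul s ω =>
    have hω : ω ∈ Submodule.span P (Set.range (D R P)) := by
      rw [span_range_derivation]; trivial
    revert s
    refine Submodule.span_induction (p := fun ω _ => ∀ s : S,
      phi R S hsurj hker (psi R S (s ⊗ₜ[P] ω)) = s ⊗ₜ[P] ω) ?_ ?_ ?_ ?_ hω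
    · rintro _ ⟨p, rfl⟩ s
      rw [psi_tmul, map_D, phi_tmul_D]
    · intro s
      rw [tmul_zero, map_zero, map_zero]
    · intro ω ω' _ _ h h' s
      rw [tmul_add, map_add, map_add, h, h']
    · intro p ω _ h s
      rw [← smul_tmul]
      exact h (p • s)

include hsurj hker in
lemma psi_injective : Function.Injective (psi R S : S ⊗[P] Ω[P⁄R] →ₗ[S] S ⊗[E] Ω[E⁄R]) :=
  Function.LeftInverse.injective (phi_psi hsurj hker)

end QuotSq

section Five

variable {Λ A B E C : Type*} [CommRing Λ] [CommRing A] [CommRing B] [CommRing E] [CommRing C]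
  [Algebra Λ A] [Algebra Λ B] [Algebra A B] [IsScalarTower Λ A B]
  [Algebra Λ E] [Algebra A E] [Algebra B E] [IsScalarTower Λ A E] [IsScalarTower Λ B E]
  [IsScalarTower A B E]
  [Algebra Λ C] [Algebra A C] [Algebra B C] [Algebra E C]
  [IsScalarTower Λ A C] [IsScalarTower Λ B C] [IsScalarTower Λ E C]
  [IsScalarTower A B C] [IsScalarTower A E C] [IsScalarTower B E C]

variable (Λ A B C) in
/-- The map `C ⊗[A] Ω[A⁄Λ] → C ⊗[B] Ω[B⁄Λ]`. -/
noncomputable def imgB : C ⊗[A] Ω[A⁄Λ] →ₗ[C] C ⊗[B] Ω[B⁄Λ] :=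
  ((mapBaseChange Λ A B).baseChange C).comp
    (AlgebraTensorModule.cancelBaseChange A B C C Ω[A⁄Λ]).symm.toLinearMap

lemma imgB_tmul (c : C) (ω : Ω[A⁄Λ]) :
    imgB Λ A B C (c ⊗ₜ[A] ω) = c ⊗ₜ[B] KaehlerDifferential.map Λ Λ A B ω := by
  rw [imgB, LinearMap.comp_apply, LinearEquiv.coe_coe,
    AlgebraTensorModule.cancelBaseChange_symm_tmul, LinearMap.baseChange_tmul,
    mapBaseChange_tmul, one_smul]

lemma psi_imgB (bc : C ⊗[A] Ω[A⁄Λ] →+ C ⊗[E] Ω[E⁄Λ])
    (hbc : ∀ (c : C) (ω : Ω[A⁄Λ]),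
      bc (c ⊗ₜ[A] ω) = c ⊗ₜ[E] KaehlerDifferential.map Λ Λ A E ω)
    (z : C ⊗[A] Ω[A⁄Λ]) : psi Λ C (imgB Λ A B C z) = bc z := by
  induction z using TensorProduct.induction_on with
  | zero => rw [map_zero, map_zero, map_zero]
  | add y y' h h' => rw [map_add, map_add, map_add, h, h']
  | tmul c ω =>
    have hω : ω ∈ Submodule.span A (Set.range (D Λ A)) := by
      rw [span_range_derivation]; trivial
    revert c
    refine Submodule.span_induction (p := fun ω _ => ∀ c : C,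
      psi Λ C (imgB Λ A B C (c ⊗ₜ[A] ω)) = bc (c ⊗ₜ[A] ω)) ?_ ?_ ?_ ?_ hω
    · rintro _ ⟨a, rfl⟩ c
      rw [imgB_tmul, psi_tmul, hbc, map_D, map_D, map_D, ← IsScalarTower.algebraMap_apply]
    · intro c
      rw [tmul_zero, map_zero, map_zero, map_zero]
    · intro ω ω' _ _ h h' c
      rw [tmul_add, map_add, map_add, map_add, h, h']
    · intro a ω _ h c
      rw [← smul_tmul]
      exact h (a • c)

lemma mapBaseChange_imgB (z : C ⊗[A] Ω[A⁄Λ]) :
    mapBaseChange Λ B C (imgB Λ A B C z) = mapBaseChange Λ A C z := by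
  induction z using TensorProduct.induction_on with
  | zero => rw [map_zero, map_zero, map_zero]
  | add y y' h h' => rw [map_add, map_add, map_add, h, h']
  | tmul c ω =>
    have hω : ω ∈ Submodule.span A (Set.range (D Λ A)) := by
      rw [span_range_derivation]; trivial
    revert c
    refine Submodule.span_induction (p := fun ω _ => ∀ c : C,
      mapBaseChange Λ B C (imgB Λ A B C (c ⊗ₜ[A] ω)) = mapBaseChange Λ A C (c ⊗ₜ[A] ω))
      ?_ ?_ ?_ ?_ hω
    · rintro _ ⟨a, rfl⟩ c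
      rw [imgB_tmul, mapBaseChange_tmul, mapBaseChange_tmul, map_D, map_D, map_D,
        ← IsScalarTower.algebraMap_apply]
    · intro c
      rw [tmul_zero, map_zero, map_zero, map_zero]
    · intro ω ω' _ _ h h' c
      rw [tmul_add, map_add, map_add, map_add, h, h']
    · intro a ω _ h c
      rw [← smul_tmul]
      exact h (a • c)

variable (Λ A B C) in
/-- The map `C ⊗[B] Ω[B⁄Λ] → C ⊗[B] Ω[B⁄A]`. -/
noncomputable def imgA : C ⊗[B] Ω[B⁄Λ] →ₗ[C] C ⊗[B] Ω[B⁄A] :=
  (KaehlerDifferential.map Λ A B B).baseChange C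

lemma imgA_tmul_D (c : C) (b : B) :
    imgA Λ A B C (c ⊗ₜ[B] D Λ B b) = c ⊗ₜ[B] D A B b := by
  rw [imgA, LinearMap.baseChange_tmul, map_D]
  rfl

variable (Λ A B C) in
lemma exact_imgB_imgA :
    Function.Exact ((mapBaseChange Λ A B).baseChange C) (imgA Λ A B C) := by
  have h := lTensor_exact C (exact_mapBaseChange_map Λ A B)
    (KaehlerDifferential.map_surjective Λ A B)
  exact h

variable (Λ A B C) in
lemma baseChange_injective_of_formallySmooth [Algebra.FormallySmooth A B] :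
    Function.Injective ((mapBaseChange Λ A B).baseChange C) := by
  have hex := exact_mapBaseChange_map Λ A B
  have hinj : Function.Injective (mapBaseChange Λ A B) := by
    rw [injective_iff_map_eq_zero]
    intro x hx
    obtain ⟨x, rfl⟩ := (Algebra.H1Cotangent.exact_δ_mapBaseChange Λ A B x).mp hx
    rw [Subsingleton.elim x 0, map_zero]
  obtain ⟨s, hs⟩ := Module.projective_lifting_property (KaehlerDifferential.map Λ A B B)
    LinearMap.id (KaehlerDifferential.map_surjective Λ A B)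
  have h01 := hex.split_tfae'.out 0 1
  obtain ⟨-, r, hr⟩ := h01.mp ⟨hinj, s, hs⟩
  apply Function.LeftInverse.injective (g := r.baseChange C)
  intro y
  rw [← LinearMap.comp_apply, ← LinearMap.baseChange_comp, hr, LinearMap.baseChange_id,
    LinearMap.id_apply]

end Five

section Main

universe u v

variable {Λ : Type u} {A B : Type v} [CommRing Λ] [CommRing A] [CommRing B] [Algebra Λ A]
  [Algebra Λ B] [Algebra A B] [IsScalarTower Λ A B] (K : Ideal B)

theorem main
    (htriv : ((Exal.Ext.infinitesimal K).restrictBase A).IsTrivialOver Λ)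
    (χ : ↥(EGA41.imperfection Λ A (B ⧸ K)) →ₗ[B ⧸ K] K.Cotangent)
    (hχ : ((Exal.Ext.infinitesimal K).restrictBase A).IsCharHom Λ χ) :
    (∀ z : ↥(EGA41.imperfection Λ A (B ⧸ K)),
        χ z = 0 ↔ imgB Λ A B (B ⧸ K) (z : (B ⧸ K) ⊗[A] Ω[A⁄Λ]) = 0) ∧
      ∀ (x : B) (hx : x ∈ K),
        K.toCotangent ⟨x, hx⟩ ∈ LinearMap.range χ ↔
          (1 : B ⧸ K) ⊗ₜ[B] KaehlerDifferential.D A B x = (0 : (B ⧸ K) ⊗[B] Ω[B⁄A]) := by
  have hinj := CharHom.deltaL_injective ((Exal.Ext.infinitesimal K).restrictBase A) htriv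
  letI iBE : Algebra B (((Exal.Ext.infinitesimal K).restrictBase A).CharCarrier Λ) :=
    inferInstanceAs (Algebra B (B ⧸ K ^ 2))
  haveI t1 : IsScalarTower A B (((Exal.Ext.infinitesimal K).restrictBase A).CharCarrier Λ) :=
    IsScalarTower.of_algebraMap_eq (fun _ => rfl)
  haveI t2 : IsScalarTower Λ B (((Exal.Ext.infinitesimal K).restrictBase A).CharCarrier Λ) :=
    IsScalarTower.of_algebraMap_eq (fun l => by
      show algebraMap B (B ⧸ K ^ 2) (algebraMap A B (algebraMap Λ A l)) =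
        algebraMap B (B ⧸ K ^ 2) (algebraMap Λ B l)
      rw [← IsScalarTower.algebraMap_apply Λ A B])
  haveI t3 : IsScalarTower B (((Exal.Ext.infinitesimal K).restrictBase A).CharCarrier Λ)
      (B ⧸ K) := IsScalarTower.of_algebraMap_eq (fun b => rfl)
  have hsurj : Function.Surjective
      (algebraMap B (((Exal.Ext.infinitesimal K).restrictBase A).CharCarrier Λ)) :=
    Ideal.Quotient.mk_surjective
  have hkE : RingHom.ker
      (algebraMap B (((Exal.Ext.infinitesimal K).restrictBase A).CharCarrier Λ)) = K ^ 2 :=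
    Ideal.mk_ker
  have hkC : RingHom.ker (algebraMap B (B ⧸ K)) = K := by
    rw [Ideal.Quotient.algebraMap_eq]; exact Ideal.mk_ker
  have hker : RingHom.ker
      (algebraMap B (((Exal.Ext.infinitesimal K).restrictBase A).CharCarrier Λ)) ≤
      RingHom.ker (algebraMap B (B ⧸ K)) ^ 2 := by rw [hkE, hkC]
  have hpsi := psi_injective (R := Λ) (S := B ⧸ K) hsurj hker
  have hbc : ∀ z : (B ⧸ K) ⊗[A] Ω[A⁄Λ],
      psi Λ (B ⧸ K) (imgB Λ A B (B ⧸ K) z) =
        ((Exal.Ext.infinitesimal K).restrictBase A).baseChangeToMiddle Λ z :=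
    fun z => psi_imgB
      (((Exal.Ext.infinitesimal K).restrictBase A).baseChangeToMiddle Λ).toAddMonoidHom
      (fun _ _ => rfl) z
  have hdx : ∀ (x : B) (hx : x ∈ K),
      ((Exal.Ext.infinitesimal K).restrictBase A).deltaL Λ (K.toCotangent ⟨x, hx⟩) =
        psi Λ (B ⧸ K) ((1 : B ⧸ K) ⊗ₜ[B] D Λ B x) := by
    intro x hx
    rw [psi_tmul, map_D]
    show (1 : B ⧸ K) ⊗ₜ[((Exal.Ext.infinitesimal K).restrictBase A).CharCarrier Λ]
      D Λ (((Exal.Ext.infinitesimal K).restrictBase A).CharCarrier Λ)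
        (((Exal.Ext.infinitesimal K).restrictBase A).inclC Λ (K.toCotangent ⟨x, hx⟩)) = _
    congr 2
  refine ⟨?_, ?_⟩
  · intro z
    constructor
    · intro h
      apply hpsi
      rw [hbc, ← hχ z, h, map_zero, map_zero]
    · intro h
      apply hinj
      rw [hχ z, ← hbc, h, map_zero, map_zero]
  · intro x hx
    constructor
    · rintro ⟨z, hz⟩
      have h1 : psi (E := ((Exal.Ext.infinitesimal K).restrictBase A).CharCarrier Λ)
          Λ (B ⧸ K) ((1 : B ⧸ K) ⊗ₜ[B] D Λ B x) =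
          psi Λ (B ⧸ K) (imgB Λ A B (B ⧸ K) (z : (B ⧸ K) ⊗[A] Ω[A⁄Λ])) := by
        rw [← hdx x hx, ← hz, hχ z, hbc]
      have h2 := hpsi h1
      have h3 := congrArg (imgA Λ A B (B ⧸ K)) h2
      rw [imgA_tmul_D] at h3
      rw [h3]
      exact (exact_imgB_imgA Λ A B (B ⧸ K)).apply_apply_eq_zero _
    · intro h0
      have h1 : imgA Λ A B (B ⧸ K) ((1 : B ⧸ K) ⊗ₜ[B] D Λ B x) = 0 := by
        rw [imgA_tmul_D]; exact h0
      obtain ⟨w, hw⟩ := (exact_imgB_imgA Λ A B (B ⧸ K) _).mp h1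
      have hz0' : imgB Λ A B (B ⧸ K)
          (AlgebraTensorModule.cancelBaseChange A B (B ⧸ K) (B ⧸ K) Ω[A⁄Λ] w) =
            (1 : B ⧸ K) ⊗ₜ[B] D Λ B x := by
        rw [imgB, LinearMap.comp_apply, LinearEquiv.coe_coe, LinearEquiv.symm_apply_apply, hw]
      have hmem : AlgebraTensorModule.cancelBaseChange A B (B ⧸ K) (B ⧸ K) Ω[A⁄Λ] w ∈
          EGA41.imperfection Λ A (B ⧸ K) := by
        show _ ∈ LinearMap.ker _
        rw [LinearMap.mem_ker, ← mapBaseChange_imgB (B := B), hz0', mapBaseChange_tmul, map_D,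
          one_smul, Ideal.Quotient.algebraMap_eq, Ideal.Quotient.eq_zero_iff_mem.mpr hx,
          map_zero]
      refine ⟨⟨_, hmem⟩, hinj ?_⟩
      rw [hχ, ← hbc, hdx x hx]
      show psi Λ (B ⧸ K) (imgB Λ A B (B ⧸ K)
        (AlgebraTensorModule.cancelBaseChange A B (B ⧸ K) (B ⧸ K) Ω[A⁄Λ] w)) = _
      rw [hz0']

theorem injective_of_formallySmooth [Algebra.FormallySmooth A B]
    (htriv : ((Exal.Ext.infinitesimal K).restrictBase A).IsTrivialOver Λ)
    (χ : ↥(EGA41.imperfection Λ A (B ⧸ K)) →ₗ[B ⧸ K] K.Cotangent)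
    (hχ : ((Exal.Ext.infinitesimal K).restrictBase A).IsCharHom Λ χ) :
    Function.Injective χ := by
  rw [injective_iff_map_eq_zero]
  intro z hz
  have h := ((main K htriv χ hχ).1 z).mp hz
  have h2 : (AlgebraTensorModule.cancelBaseChange A B (B ⧸ K) (B ⧸ K) Ω[A⁄Λ]).symm
      (z : (B ⧸ K) ⊗[A] Ω[A⁄Λ]) = 0 :=
    baseChange_injective_of_formallySmooth Λ A B (B ⧸ K) (by rw [map_zero]; exact h)
  have h3 : (z : (B ⧸ K) ⊗[A] Ω[A⁄Λ]) = 0 := (LinearEquiv.map_eq_zero_iff _).mp h2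
  exact Subtype.ext h3

end Main

end Groth.Agent.Helper1.CharSeq
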