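import Mathlib
import Groth.Prelude
import Groth.Agent.Helper1.CharSeq

/-!
# The exact sequence of the modules `Δ(L/K, a/b)` (helper1)
-/

set_option autoImplicit false
set_option linter.style.haveILetI false
set_option linter.unusedSectionVars false

namespace Groth.Agent.Helper1.DeltaSeq

open TensorProduct KaehlerDifferential Groth.Agent.Helper1.CharSeq

universe u u' u'' w

lemma tensor_kaehler_induction {R S T : Type*} [CommRing R] [CommRing S] [CommRing T]
    [Algebra R S] [Algebra S T]
    {motive : T ⊗[S] Ω[S⁄R] → Prop} (h0 : motive 0)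
    (hadd : ∀ x y, motive x → motive y → motive (x + y))
    (hD : ∀ (t : T) (s : S), motive (t ⊗ₜ[S] D R S s)) (z : T ⊗[S] Ω[S⁄R]) : motive z := by
  induction z using TensorProduct.induction_on with
  | zero => exact h0
  | add y y' h h' => exact hadd _ _ h h'
  | tmul t ω =>
    have hω : ω ∈ Submodule.span S (Set.range (D R S)) := by
      rw [span_range_derivation]; trivial
    revert t
    refine Submodule.span_induction (p := fun ω _ => ∀ t : T, motive (t ⊗ₜ[S] ω)) ?_ ?_ ?_ ?_ hω
    · rintro _ ⟨s, rfl⟩ t
      exact hD t s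
    · intro t
      rw [tmul_zero]; exact h0
    · intro ω ω' _ _ h h' t
      rw [tmul_add]; exact hadd _ _ (h t) (h' t)
    · intro a ω _ h t
      rw [← smul_tmul]; exact h (a • t)

section General

variable {k : Type u} {k' : Type u'} {k'' : Type u''} {K L : Type w}
    [CommRing k] [CommRing k'] [CommRing k''] [CommRing K] [CommRing L]
    [Algebra k k'] [Algebra k k''] [Algebra k' k''] [IsScalarTower k k' k'']
    [Algebra k K] [Algebra k' K] [Algebra k'' K] [IsScalarTower k k' K] [IsScalarTower k' k'' K]
    [IsScalarTower k k'' K] [Algebra K L] [Algebra k L] [Algebra k' L] [Algebra k'' L]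
    [IsScalarTower k K L] [IsScalarTower k' K L] [IsScalarTower k'' K L]
    [IsScalarTower k k' L]

lemma gg (z : L ⊗[K] Ω[K⁄k]) :
    (KaehlerDifferential.map k' k'' K K).baseChange L
        ((KaehlerDifferential.map k k' K K).baseChange L z) =
      (KaehlerDifferential.map k k'' K K).baseChange L z := by
  refine tensor_kaehler_induction (motive := fun z =>
    (KaehlerDifferential.map k' k'' K K).baseChange L
        ((KaehlerDifferential.map k k' K K).baseChange L z) =
      (KaehlerDifferential.map k k'' K K).baseChange L z) ?_ ?_ ?_ z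
  · rw [map_zero, map_zero, map_zero]
  · intro x y hx hy
    rw [map_add, map_add, map_add, hx, hy]
  · intro l x
    rw [LinearMap.baseChange_tmul, map_D, LinearMap.baseChange_tmul, map_D,
      LinearMap.baseChange_tmul, map_D]
    rfl

lemma sq (z : L ⊗[K] Ω[K⁄k]) :
    mapBaseChange k' K L ((KaehlerDifferential.map k k' K K).baseChange L z) =
      KaehlerDifferential.map k k' L L (mapBaseChange k K L z) := by
  refine tensor_kaehler_induction (motive := fun z =>
    mapBaseChange k' K L ((KaehlerDifferential.map k k' K K).baseChange L z) =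
      KaehlerDifferential.map k k' L L (mapBaseChange k K L z)) ?_ ?_ ?_ z
  · rw [map_zero, map_zero, map_zero, map_zero]
  · intro x y hx hy
    rw [map_add, map_add, map_add, map_add, hx, hy]
  · intro l x
    rw [LinearMap.baseChange_tmul, map_D, mapBaseChange_tmul, mapBaseChange_tmul, map_D, map_D,
      map_smul, map_D]
    rfl

lemma mb_tau (t : L ⊗[k'] Ω[k'⁄k]) :
    mapBaseChange k K L (psi k L t) = mapBaseChange k k' L t := by
  refine tensor_kaehler_induction (motive := fun t =>
    mapBaseChange k K L (psi k L t) = mapBaseChange k k' L t) ?_ ?_ ?_ t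
  · rw [map_zero, map_zero, map_zero]
  · intro x y hx hy
    rw [map_add, map_add, map_add, hx, hy]
  · intro l x
    rw [psi_tmul, map_D, mapBaseChange_tmul, mapBaseChange_tmul, map_D, map_D,
      ← IsScalarTower.algebraMap_apply]

lemma f_tau (t : L ⊗[k'] Ω[k'⁄k]) :
    (KaehlerDifferential.map k k' K K).baseChange L (psi k L t) = 0 := by
  refine tensor_kaehler_induction (motive := fun t =>
    (KaehlerDifferential.map k k' K K).baseChange L (psi k L t) = 0) ?_ ?_ ?_ t
  · rw [map_zero, map_zero]
  · intro x y hx hy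
    rw [map_add, map_add, hx, hy, add_zero]
  · intro l x
    rw [psi_tmul, map_D, LinearMap.baseChange_tmul, map_D]
    show l ⊗ₜ[K] D k' K (algebraMap k' K x) = 0
    rw [Derivation.map_algebraMap, tmul_zero]

lemma exists_lift (w : L ⊗[K] Ω[K⁄k']) (hw1 : w ∈ EGA41.imperfection k' K L)
    (hw2 : (KaehlerDifferential.map k' k'' K K).baseChange L w = 0) :
    ∃ z : L ⊗[K] Ω[K⁄k], z ∈ EGA41.imperfection k K L ∧
      (KaehlerDifferential.map k k'' K K).baseChange L z = 0 ∧
        (KaehlerDifferential.map k k' K K).baseChange L z = w := by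
  have hfs : Function.Surjective ((KaehlerDifferential.map k k' K K).baseChange L) :=
    LinearMap.lTensor_surjective L (KaehlerDifferential.map_surjective k k' K)
  obtain ⟨z1, hz1⟩ := hfs w
  have hw1' : mapBaseChange k' K L w = 0 := LinearMap.mem_ker.mp hw1
  have h1 : KaehlerDifferential.map k k' L L (mapBaseChange k K L z1) = 0 := by
    rw [← sq, hz1, hw1']
  obtain ⟨t, ht⟩ := (exact_mapBaseChange_map k k' L _).mp h1
  refine ⟨z1 - psi k L t, ?_, ?_, ?_⟩
  · show _ ∈ LinearMap.ker _
    rw [LinearMap.mem_ker, map_sub, mb_tau (k' := k'), ht, sub_self]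
  · rw [← gg (k' := k'), map_sub, f_tau, sub_zero, hz1, hw2]
  · rw [map_sub, f_tau, sub_zero, hz1]

end General

section Fields

lemma rank_of_restrict {L V V' : Type w} [Field L] [AddCommGroup V] [Module L V]
    [AddCommGroup V'] [Module L V'] (f : V →ₗ[L] V') (D1 D3 : Submodule L V)
    (D2 : Submodule L V') (hmaps : ∀ z ∈ D1, f z ∈ D2)
    (hsurj : ∀ w ∈ D2, ∃ z ∈ D1, f z = w) (hD3 : D3 = D1 ⊓ LinearMap.ker f) :
    Module.rank L ↥D1 = Module.rank L ↥D2 + Module.rank L ↥D3 := by
  subst hD3
  let fr := f.restrict hmaps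
  have hs : Function.Surjective fr := by
    rintro ⟨w, hw⟩
    obtain ⟨z, hz, hzw⟩ := hsurj w hw
    exact ⟨⟨z, hz⟩, Subtype.ext hzw⟩
  have h1 := LinearMap.rank_range_add_rank_ker fr
  rw [rank_range_of_surjective fr hs] at h1
  rw [← h1]
  congr 1
  have hk : ∀ x : LinearMap.ker fr, (x.1.1 : V) ∈ D1 ⊓ LinearMap.ker f := by
    intro x
    refine Submodule.mem_inf.mpr ⟨x.1.2, ?_⟩
    rw [LinearMap.mem_ker]
    exact congrArg Subtype.val (LinearMap.mem_ker.mp x.2)
  let e : LinearMap.ker fr ≃ₗ[L] ↥(D1 ⊓ LinearMap.ker f) :=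
    { toFun := fun x => ⟨x.1.1, hk x⟩
      map_add' := fun x y => rfl
      map_smul' := fun c x => rfl
      invFun := fun y => ⟨⟨y.1, (Submodule.mem_inf.mp y.2).1⟩, by
        rw [LinearMap.mem_ker]
        apply Subtype.ext
        exact LinearMap.mem_ker.mp (Submodule.mem_inf.mp y.2).2⟩
      left_inv := fun x => rfl
      right_inv := fun y => rfl }
  exact LinearEquiv.rank_eq e

variable {k : Type u} {k' : Type u'} {k'' : Type u''} {K L : Type w}
    [Field k] [Field k'] [Field k''] [Field K] [Field L]
    [Algebra k k'] [Algebra k k''] [Algebra k' k''] [IsScalarTower k k' k'']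
    [Algebra k K] [Algebra k' K] [Algebra k'' K] [IsScalarTower k k' K] [IsScalarTower k' k'' K]
    [IsScalarTower k k'' K] [Algebra K L] [Algebra k L] [Algebra k' L] [Algebra k'' L]
    [IsScalarTower k K L] [IsScalarTower k' K L] [IsScalarTower k'' K L]
    [IsScalarTower k k' L]

lemma rank_eq :
    Module.rank L ↥(EGA41.imperfection k K L ⊓
          LinearMap.ker ((KaehlerDifferential.map k k'' K K).baseChange L)) =
      Module.rank L ↥(EGA41.imperfection k' K L ⊓
            LinearMap.ker ((KaehlerDifferential.map k' k'' K K).baseChange L)) +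
        Module.rank L ↥(EGA41.imperfection k K L ⊓
            LinearMap.ker ((KaehlerDifferential.map k k' K K).baseChange L)) := by
  refine rank_of_restrict ((KaehlerDifferential.map k k' K K).baseChange L) _ _ _ ?_ ?_ ?_
  · intro z hz
    rw [Submodule.mem_inf] at hz ⊢
    refine ⟨?_, ?_⟩
    · show _ ∈ LinearMap.ker _
      have h1 : mapBaseChange k K L z = 0 := LinearMap.mem_ker.mp hz.1
      rw [LinearMap.mem_ker, sq, h1, map_zero]
    · rw [LinearMap.mem_ker, gg]
      exact LinearMap.mem_ker.mp hz.2
  · intro w hw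
    rw [Submodule.mem_inf] at hw
    obtain ⟨z, hz1, hz2, hz3⟩ :=
      exists_lift (k := k) (k'' := k'') w hw.1 (LinearMap.mem_ker.mp hw.2)
    exact ⟨z, Submodule.mem_inf.mpr ⟨hz1, LinearMap.mem_ker.mpr hz2⟩, hz3⟩
  · apply le_antisymm
    · intro y hy
      have hy1 := Submodule.mem_inf.mp hy
      refine Submodule.mem_inf.mpr ⟨Submodule.mem_inf.mpr ⟨hy1.1, ?_⟩, hy1.2⟩
      rw [LinearMap.mem_ker, ← gg (k' := k'), LinearMap.mem_ker.mp hy1.2, map_zero]
    · intro y hy
      have hy1 := Submodule.mem_inf.mp hy
      exact Submodule.mem_inf.mpr ⟨(Submodule.mem_inf.mp hy1.1).1, hy1.2⟩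

end Fields

theorem main {k : Type u} {k' : Type u'} {k'' : Type u''} {K L : Type w}
    [Field k] [Field k'] [Field k''] [Field K] [Field L]
    [Algebra k k'] [Algebra k k''] [Algebra k' k''] [IsScalarTower k k' k'']
    [Algebra k K] [Algebra k' K] [Algebra k'' K] [IsScalarTower k k' K] [IsScalarTower k' k'' K]
    [IsScalarTower k k'' K] [Algebra K L] [Algebra k L] [Algebra k' L] [Algebra k'' L]
    [IsScalarTower k K L] [IsScalarTower k' K L] [IsScalarTower k'' K L] :
    (∀ w : L ⊗[K] Ω[K⁄k'], w ∈ EGA41.imperfection k' K L →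
        (KaehlerDifferential.map k' k'' K K).baseChange L w = 0 →
          ∃ z : L ⊗[K] Ω[K⁄k], z ∈ EGA41.imperfection k K L ∧
            (KaehlerDifferential.map k k'' K K).baseChange L z = 0 ∧
              (KaehlerDifferential.map k k' K K).baseChange L z = w) ∧
      Module.rank L ↥(EGA41.imperfection k K L ⊓
            LinearMap.ker ((KaehlerDifferential.map k k'' K K).baseChange L)) =
        Module.rank L ↥(EGA41.imperfection k' K L ⊓
              LinearMap.ker ((KaehlerDifferential.map k' k'' K K).baseChange L)) +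
          Module.rank L ↥(EGA41.imperfection k K L ⊓
              LinearMap.ker ((KaehlerDifferential.map k k' K K).baseChange L)) := by
  haveI : IsScalarTower k k' L := IsScalarTower.of_algebraMap_eq (fun x => by
    rw [IsScalarTower.algebraMap_apply k K L, IsScalarTower.algebraMap_apply k k' K,
      ← IsScalarTower.algebraMap_apply k' K L])
  exact ⟨fun w hw1 hw2 => exists_lift w hw1 hw2, rank_eq⟩

end Groth.Agent.Helper1.DeltaSeq
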