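import Mathlib
import Groth.Prelude
import Groth.Agent.Helper1.CharHom
import Groth.Agent.Helper1.DeltaSeq

/-!
# Every homomorphism `Υ → L` is a characteristic homomorphism (helper1)
-/

set_option autoImplicit false
set_option linter.style.haveILetI false
set_option linter.unusedSectionVars false

namespace Groth.Agent.Helper1.CharSurj

open TensorProduct KaehlerDifferential

universe u v

attribute [local instance] Exal.opModule Exal.isCentralScalar_opModule

section Exists

variable (A : Type u) {B C L : Type v} [CommRing A] [CommRing B] [CommRing C]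
  [Algebra A B] [Algebra B C] [Algebra A C] [IsScalarTower A B C] [AddCommGroup L] [Module C L]
  (X : Exal.Ext B C L)

lemma exists_deltaL_eq (z : ↥(EGA41.imperfection A B C)) :
    ∃ l : L, X.deltaL A l = X.baseChangeToMiddle A (z : C ⊗[B] Ω[B⁄A]) := by
  have hz : mapBaseChange A B C (z : C ⊗[B] Ω[B⁄A]) = 0 := LinearMap.mem_ker.mp z.2
  have h0 : mapBaseChange A (X.CharCarrier A) C
      (X.baseChangeToMiddle A (z : C ⊗[B] Ω[B⁄A])) = 0 := by
    rw [CharHom.mapBaseChange_bc, hz]
  obtain ⟨w, hw⟩ := (exact_kerCotangentToTensor_mapBaseChange A (X.CharCarrier A) C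
    (CharHom.surj A X) _).mp h0
  obtain ⟨x, rfl⟩ := Ideal.toCotangent_surjective _ w
  rw [kerCotangentToTensor_toCotangent] at hw
  obtain ⟨l, hl⟩ := CharHom.exists_incl_of_mem_ker A X x.1 x.2
  refine ⟨l, ?_⟩
  rw [← hw]
  show (1 : C) ⊗ₜ[X.CharCarrier A] D A (X.CharCarrier A) (X.incl l) = _
  rw [hl]

end Exists

section Build

variable {A : Type u} {B C L : Type v} [CommRing A] [CommRing B] [CommRing C]
  [Algebra A B] [Algebra B C] [Algebra A C] [IsScalarTower A B C] [AddCommGroup L] [Module C L]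
  [Module B L] [IsScalarTower B C L] [Module A L] [IsScalarTower A B L]
  (ψ : C ⊗[B] Ω[B⁄A] →ₗ[C] L)

/-- The `A`-derivation `B → L`, `b ↦ ψ (1 ⊗ d b)`. -/
noncomputable def der : Derivation A B L :=
  ((ψ.restrictScalars B).comp (TensorProduct.mk B C Ω[B⁄A] 1)).compDer (D A B)

lemma der_apply (b : B) : der ψ b = ψ ((1 : C) ⊗ₜ[B] D A B b) := rfl

/-- The section `C → C ⊕ L`. -/
noncomputable def sec : C →ₐ[A] (Exal.Ext.ofDerivation (C := C) (der ψ)).CharCarrier A where
  toFun c := (TrivSqZeroExt.inl c : TrivSqZeroExt C L)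
  map_one' := TrivSqZeroExt.inl_one L
  map_mul' c c' := TrivSqZeroExt.inl_mul L c c'
  map_zero' := TrivSqZeroExt.inl_zero L
  map_add' c c' := TrivSqZeroExt.inl_add L c c'
  commutes' a := by
    show (TrivSqZeroExt.inl (algebraMap A C a) : TrivSqZeroExt C L) =
      TrivSqZeroExt.inl (algebraMap B C (algebraMap A B a)) +
        TrivSqZeroExt.inr (der ψ (algebraMap A B a))
    rw [Derivation.map_algebraMap, TrivSqZeroExt.inr_zero, add_zero,
      ← IsScalarTower.algebraMap_apply]

lemma isTrivialOver : (Exal.Ext.ofDerivation (C := C) (der ψ)).IsTrivialOver A := by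
  refine ⟨{ toFun := fun c => sec ψ c
            map_one' := map_one (sec ψ)
            map_mul' := map_mul (sec ψ)
            map_zero' := map_zero (sec ψ)
            map_add' := map_add (sec ψ)
            commutes' := fun a => (sec ψ).commutes a }, fun c => rfl⟩

lemma sec_comp : (IsScalarTower.toAlgHom A
    ((Exal.Ext.ofDerivation (C := C) (der ψ)).CharCarrier A) C).comp (sec ψ) = AlgHom.id A C :=
  AlgHom.ext fun _ => rfl

lemma key (y : C ⊗[B] Ω[B⁄A]) :
    ((retractionOfSectionOfKerSqZero (sec ψ)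
        (CharHom.ker_sq A (Exal.Ext.ofDerivation (C := C) (der ψ))) (sec_comp ψ)
        ((Exal.Ext.ofDerivation (C := C) (der ψ)).baseChangeToMiddle A y) :
          RingHom.ker (algebraMap ((Exal.Ext.ofDerivation (C := C) (der ψ)).CharCarrier A) C)) :
        (Exal.Ext.ofDerivation (C := C) (der ψ)).CharCarrier A) =
      (Exal.Ext.ofDerivation (C := C) (der ψ)).inclC A (ψ y) := by
  refine DeltaSeq.tensor_kaehler_induction (motive := fun y =>
    ((retractionOfSectionOfKerSqZero (sec ψ)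
        (CharHom.ker_sq A (Exal.Ext.ofDerivation (C := C) (der ψ))) (sec_comp ψ)
        ((Exal.Ext.ofDerivation (C := C) (der ψ)).baseChangeToMiddle A y) :
          RingHom.ker (algebraMap ((Exal.Ext.ofDerivation (C := C) (der ψ)).CharCarrier A) C)) :
        (Exal.Ext.ofDerivation (C := C) (der ψ)).CharCarrier A) =
      (Exal.Ext.ofDerivation (C := C) (der ψ)).inclC A (ψ y)) ?_ ?_ ?_ y
  · rw [map_zero, map_zero, map_zero, map_zero]
    rfl
  · intro x y hx hy
    rw [map_add, map_add, map_add, map_add, Submodule.coe_add, hx, hy]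
  · intro c b
    rw [CharHom.bc_tmul, map_D, retractionOfSectionOfKerSqZero_tmul_D]
    show (TrivSqZeroExt.inl c : TrivSqZeroExt C L) *
        (TrivSqZeroExt.inl (algebraMap B C b) + TrivSqZeroExt.inr (der ψ b)) -
        TrivSqZeroExt.inl c * TrivSqZeroExt.inl (TrivSqZeroExt.fst
          ((TrivSqZeroExt.inl (algebraMap B C b) + TrivSqZeroExt.inr (der ψ b) :
            TrivSqZeroExt C L))) =
      TrivSqZeroExt.inr (ψ (c ⊗ₜ[B] D A B b))
    rw [TrivSqZeroExt.fst_add, TrivSqZeroExt.fst_inl, TrivSqZeroExt.fst_inr, add_zero, mul_add,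
      add_sub_cancel_left, TrivSqZeroExt.inl_mul_inr, der_apply, ← map_smul, smul_tmul',
      smul_eq_mul, mul_one]

lemma isCharHom (χ : ↥(EGA41.imperfection A B C) →ₗ[C] L)
    (hψ : ∀ z : ↥(EGA41.imperfection A B C), ψ (z : C ⊗[B] Ω[B⁄A]) = χ z) :
    (Exal.Ext.ofDerivation (C := C) (der ψ)).IsCharHom A χ := by
  intro z
  obtain ⟨l, hl⟩ := exists_deltaL_eq A (Exal.Ext.ofDerivation (C := C) (der ψ)) z
  have hr := retractionOfSectionOfKerSqZero_comp_kerToTensor (sec ψ)
    (CharHom.ker_sq A (Exal.Ext.ofDerivation (C := C) (der ψ))) (sec_comp ψ)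
  have e1 := LinearMap.congr_fun hr
    ⟨(Exal.Ext.ofDerivation (C := C) (der ψ)).incl l,
      CharHom.incl_mem_ker A (Exal.Ext.ofDerivation (C := C) (der ψ)) l⟩
  rw [LinearMap.comp_apply, LinearMap.id_apply, ← CharHom.deltaL_eq, hl] at e1
  have e2 := congrArg Subtype.val e1
  rw [key] at e2
  have e3 : ψ (z : C ⊗[B] Ω[B⁄A]) = l :=
    (Exal.Ext.ofDerivation (C := C) (der ψ)).isExtension.incl_injective e2
  rw [← hψ z, e3, hl]

end Build

theorem main {A : Type u} {B C L : Type v} [CommRing A] [CommRing B] [CommRing C]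
    [Algebra A B] [Algebra B C] [Algebra A C] [IsScalarTower A B C] [AddCommGroup L] [Module C L]
    (h : Module.Injective C L ∨
      ((∃ r : C ⊗[B] Ω[B⁄A] →ₗ[C] ↥(EGA41.imperfection A B C),
          ∀ z : ↥(EGA41.imperfection A B C), r z = z) ∧
        ∃ s : Ω[C⁄B] →ₗ[C] Ω[C⁄A], ∀ ω : Ω[C⁄B], KaehlerDifferential.map A B C C (s ω) = ω))
    (χ : ↥(EGA41.imperfection A B C) →ₗ[C] L) :
    ∃ X : Exal.Ext B C L, X.IsTrivialOver A ∧ X.IsCharHom A χ := by
  obtain ⟨ψ, hψ⟩ : ∃ ψ : C ⊗[B] Ω[B⁄A] →ₗ[C] L,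
      ∀ z : ↥(EGA41.imperfection A B C), ψ (z : C ⊗[B] Ω[B⁄A]) = χ z := by
    rcases h with hinj | ⟨⟨r, hr⟩, -⟩
    · exact hinj.out (X := ↥(EGA41.imperfection A B C)) (Y := C ⊗[B] Ω[B⁄A])
        (EGA41.imperfection A B C).subtype Subtype.val_injective χ
    · exact ⟨χ.comp r, fun z => by rw [LinearMap.comp_apply, hr]⟩
  letI : Module B L := Module.compHom L (algebraMap B C)
  letI : Module A L := Module.compHom L (algebraMap A C)
  haveI : IsScalarTower B C L := ⟨fun b c l => by
    show (b • c) • l = algebraMap B C b • (c • l)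
    rw [Algebra.smul_def, mul_smul]⟩
  haveI : IsScalarTower A B L := ⟨fun a b l => by
    show algebraMap B C (a • b) • l = algebraMap A C a • (algebraMap B C b • l)
    rw [Algebra.smul_def, map_mul, ← IsScalarTower.algebraMap_apply, mul_smul]⟩
  exact ⟨Exal.Ext.ofDerivation (C := C) (der ψ), isTrivialOver ψ, isCharHom ψ χ hψ⟩

end Groth.Agent.Helper1.CharSurj
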