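import Mathlib
import Groth.Prelude
import Groth.Agent.Helper1.CharHom
import Groth.Agent.Helper1.DeltaSeq
import Groth.Agent.Helper1.CharSurj

/-!
# Extensions with the same characteristic homomorphism are equivalent (helper1)
-/

set_option autoImplicit false
set_option linter.style.haveILetI false
set_option linter.unusedSectionVars false

namespace Groth.Agent.Helper1.CharInj

open TensorProduct KaehlerDifferential

universe u v

section Lam

variable {B C L : Type v} [CommRing B] [CommRing C] [Algebra B C] [AddCommGroup L] [Module C L]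
  (X : Exal.Ext B C L) (s : C →+* X.E) (hs : ∀ c, X.proj (s c) = c)

include hs in
lemma proj_sub (x : X.E) : X.proj (x - s (X.proj x)) = 0 := by
  rw [map_sub, hs, sub_self]

/-- The `L`-component of an element of the middle ring with respect to a section. -/
noncomputable def lam (x : X.E) : L := X.kerLift (x - s (X.proj x)) (proj_sub X s hs x)

lemma incl_lam (x : X.E) : X.incl (lam X s hs x) = x - s (X.proj x) := X.incl_kerLift _ _

lemma eq_add (x : X.E) : x = s (X.proj x) + X.incl (lam X s hs x) := by
  rw [incl_lam]; ring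

lemma lam_add (x y : X.E) : lam X s hs (x + y) = lam X s hs x + lam X s hs y := by
  apply X.isExtension.incl_injective
  rw [map_add, incl_lam, incl_lam, incl_lam, map_add, map_add]; ring

lemma lam_incl (l : L) : lam X s hs (X.incl l) = l := by
  apply X.isExtension.incl_injective
  rw [incl_lam, CharHom.proj_incl, map_zero, sub_zero]

lemma lam_s (c : C) : lam X s hs (s c) = 0 := by
  apply X.isExtension.incl_injective
  rw [incl_lam, hs, sub_self, map_zero]

include hs in
lemma s_mul_incl (c : C) (l : L) : s c * X.incl l = X.incl (c • l) := by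
  have h := X.isExtension.mul_incl (s c) l
  rwa [hs] at h

lemma lam_mul (x y : X.E) :
    lam X s hs (x * y) = X.proj x • lam X s hs y + X.proj y • lam X s hs x := by
  apply X.isExtension.incl_injective
  have h0 : (x - s (X.proj x)) * (y - s (X.proj y)) = 0 := by
    rw [← incl_lam X s hs, ← incl_lam X s hs, CharHom.incl_mul_incl]
  rw [incl_lam, map_add, ← X.isExtension.mul_incl, ← X.isExtension.mul_incl, incl_lam, incl_lam,
    map_mul, map_mul]
  linear_combination (-1 : X.E) * h0

end Lam

section Der

variable {A : Type u} {B C L : Type v} [CommRing A] [CommRing B] [CommRing C]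
  [Algebra A B] [Algebra B C] [Algebra A C] [IsScalarTower A B C] [AddCommGroup L] [Module C L]
  [Module B L] [IsScalarTower B C L] [Module A L] [IsScalarTower A B L] [IsScalarTower A C L]
  (X : Exal.Ext B C L) (s : C →+* X.E) (hs : ∀ c, X.proj (s c) = c)
  (hsA : ∀ a : A, s (algebraMap A C a) = algebraMap B X.E (algebraMap A B a))

/-- The `A`-derivation `B → L` attached to a section. -/
noncomputable def delta : Derivation A B L where
  toFun b := lam X s hs (algebraMap B X.E b)
  map_add' b b' := by rw [map_add, lam_add]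
  map_smul' a b := by
    rw [RingHom.id_apply, Algebra.smul_def, map_mul, lam_mul, ← hsA a, lam_s, smul_zero, add_zero,
      hs, algebraMap_smul]
  map_one_eq_zero' := by
    show lam X s hs (algebraMap B X.E 1) = 0
    rw [map_one, ← map_one s, lam_s]
  leibniz' b b' := by
    show lam X s hs (algebraMap B X.E (b * b')) =
      b • lam X s hs (algebraMap B X.E b') + b' • lam X s hs (algebraMap B X.E b)
    rw [map_mul, lam_mul, X.proj.commutes, X.proj.commutes, algebraMap_smul, algebraMap_smul]

/-- The linearisation `C ⊗[B] Ω[B⁄A] → L` of `delta`. -/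
noncomputable def deltaT : C ⊗[B] Ω[B⁄A] →ₗ[C] L :=
  LinearMap.liftBaseChange C (delta X s hs hsA).liftKaehlerDifferential

lemma deltaT_tmul_D (c : C) (b : B) :
    deltaT X s hs hsA (c ⊗ₜ[B] D A B b) = c • lam X s hs (algebraMap B X.E b) := by
  rw [deltaT, LinearMap.liftBaseChange_tmul, Derivation.liftKaehlerDifferential_comp_D]
  rfl

/-- The section as an `A`-algebra map into the characteristic carrier. -/
noncomputable def secA : C →ₐ[A] X.CharCarrier A where
  toFun c := s c
  map_one' := map_one s
  map_mul' := map_mul s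
  map_zero' := map_zero s
  map_add' := map_add s
  commutes' a := hsA a

include hs in
lemma secA_comp :
    (IsScalarTower.toAlgHom A (X.CharCarrier A) C).comp (secA X s hsA) = AlgHom.id A C :=
  AlgHom.ext fun c => hs c

lemma key (y : C ⊗[B] Ω[B⁄A]) :
    ((retractionOfSectionOfKerSqZero (secA X s hsA) (CharHom.ker_sq A X) (secA_comp X s hs hsA)
        (X.baseChangeToMiddle A y) : RingHom.ker (algebraMap (X.CharCarrier A) C)) :
        X.CharCarrier A) = X.inclC A (deltaT X s hs hsA y) := by
  refine DeltaSeq.tensor_kaehler_induction (motive := fun y =>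
    ((retractionOfSectionOfKerSqZero (secA X s hsA) (CharHom.ker_sq A X) (secA_comp X s hs hsA)
        (X.baseChangeToMiddle A y) : RingHom.ker (algebraMap (X.CharCarrier A) C)) :
        X.CharCarrier A) = X.inclC A (deltaT X s hs hsA y)) ?_ ?_ ?_ y
  · rw [map_zero, map_zero, map_zero, map_zero]
    rfl
  · intro x y hx hy
    rw [map_add, map_add, map_add, map_add, Submodule.coe_add, hx, hy]
  · intro c b
    rw [CharHom.bc_tmul, map_D, retractionOfSectionOfKerSqZero_tmul_D, deltaT_tmul_D]
    show s c * algebraMap B X.E b - s c * s (X.proj (algebraMap B X.E b)) =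
      X.incl (c • lam X s hs (algebraMap B X.E b))
    rw [← s_mul_incl X s hs, incl_lam, mul_sub]

lemma char_eq (χ : ↥(EGA41.imperfection A B C) →ₗ[C] L) (hχ : X.IsCharHom A χ)
    (z : ↥(EGA41.imperfection A B C)) :
    χ z = deltaT X s hs hsA (z : C ⊗[B] Ω[B⁄A]) := by
  have hr := retractionOfSectionOfKerSqZero_comp_kerToTensor (secA X s hsA)
    (CharHom.ker_sq A X) (secA_comp X s hs hsA)
  have e1 := LinearMap.congr_fun hr ⟨X.incl (χ z), CharHom.incl_mem_ker A X (χ z)⟩
  rw [LinearMap.comp_apply, LinearMap.id_apply, ← CharHom.deltaL_eq, hχ z] at e1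
  have e2 := congrArg Subtype.val e1
  rw [key] at e2
  exact (X.isExtension.incl_injective e2).symm

end Der

section Extend

variable {A : Type u} {B C L : Type v} [CommRing A] [CommRing B] [CommRing C]
  [Algebra A B] [Algebra B C] [Algebra A C] [IsScalarTower A B C] [AddCommGroup L] [Module C L]

lemma exists_extend
    (h : Module.Injective C L ∨ ∃ s : Ω[C⁄B] →ₗ[C] Ω[C⁄A],
      ∀ ω : Ω[C⁄B], KaehlerDifferential.map A B C C (s ω) = ω)
    (θ : C ⊗[B] Ω[B⁄A] →ₗ[C] L)
    (hθ : ∀ z : ↥(EGA41.imperfection A B C), θ (z : C ⊗[B] Ω[B⁄A]) = 0) :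
    ∃ dT : Ω[C⁄A] →ₗ[C] L, ∀ y : C ⊗[B] Ω[B⁄A], dT (mapBaseChange A B C y) = θ y := by
  have hle : LinearMap.ker (mapBaseChange A B C) ≤ LinearMap.ker θ :=
    fun y hy => LinearMap.mem_ker.mpr (hθ ⟨y, hy⟩)
  let ι := (LinearMap.ker (mapBaseChange A B C)).liftQ (mapBaseChange A B C) le_rfl
  let θ' := (LinearMap.ker (mapBaseChange A B C)).liftQ θ hle
  have hι : Function.Injective ι :=
    LinearMap.ker_eq_bot.mp (Submodule.ker_liftQ_eq_bot _ _ _ le_rfl)
  rcases h with hinj | ⟨s', hs'⟩
  · obtain ⟨dT, hdT⟩ := hinj.out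
      (X := (C ⊗[B] Ω[B⁄A]) ⧸ LinearMap.ker (mapBaseChange A B C)) (Y := Ω[C⁄A]) ι hι θ'
    exact ⟨dT, fun y => hdT (Submodule.Quotient.mk y)⟩
  · have hex := exact_mapBaseChange_map A B C
    let p : Ω[C⁄A] →ₗ[C] Ω[C⁄A] := LinearMap.id - s'.comp (KaehlerDifferential.map A B C C)
    have hp : ∀ ω, p ω ∈ LinearMap.range ι := by
      intro ω
      have h1 : KaehlerDifferential.map A B C C (p ω) = 0 := by
        show KaehlerDifferential.map A B C C (ω - s' (KaehlerDifferential.map A B C C ω)) = 0
        rw [map_sub, hs', sub_self]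
      obtain ⟨y, hy⟩ := (hex (p ω)).mp h1
      exact ⟨Submodule.Quotient.mk y, hy⟩
    let e := LinearEquiv.ofInjective ι hι
    refine ⟨θ'.comp (e.symm.toLinearMap.comp (p.codRestrict (LinearMap.range ι) hp)),
      fun y => ?_⟩
    have h2 : p (mapBaseChange A B C y) = mapBaseChange A B C y := by
      show mapBaseChange A B C y -
        s' (KaehlerDifferential.map A B C C (mapBaseChange A B C y)) = mapBaseChange A B C y
      rw [hex.apply_apply_eq_zero, map_zero, sub_zero]
    have h3 : e.symm (p.codRestrict (LinearMap.range ι) hp (mapBaseChange A B C y)) =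
        Submodule.Quotient.mk y := by
      rw [LinearEquiv.symm_apply_eq]
      apply Subtype.ext
      rw [LinearMap.codRestrict_apply, h2]
      rfl
    show θ' (e.symm (p.codRestrict (LinearMap.range ι) hp (mapBaseChange A B C y))) = θ y
    rw [h3]
    rfl

end Extend

section Equiv

variable {B C L : Type v} [CommRing B] [CommRing C] [Algebra B C] [AddCommGroup L] [Module C L]
  (X Y : Exal.Ext B C L) (sX : C →+* X.E) (hsX : ∀ c, X.proj (sX c) = c)
  (sY : C →+* Y.E) (hsY : ∀ c, Y.proj (sY c) = c)
  (d : C →+ L) (hd : ∀ c c', d (c * c') = c • d c' + c' • d c)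
  (hB : ∀ b : B, lam X sX hsX (algebraMap B X.E b) + d (algebraMap B C b) =
    lam Y sY hsY (algebraMap B Y.E b))

/-- The map of middle rings. -/
noncomputable def phi (x : X.E) : Y.E :=
  sY (X.proj x) + Y.incl (lam X sX hsX x + d (X.proj x))

include hsY in
lemma proj_phi (x : X.E) : Y.proj (phi X Y sX hsX sY d x) = X.proj x := by
  rw [phi, map_add, hsY, CharHom.proj_incl, add_zero]

lemma phi_incl (l : L) : phi X Y sX hsX sY d (X.incl l) = Y.incl l := by
  rw [phi, CharHom.proj_incl, map_zero, map_zero, zero_add, add_zero, lam_incl]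

lemma phi_s (c : C) : phi X Y sX hsX sY d (sX c) = sY c + Y.incl (d c) := by
  rw [phi, hsX, lam_s, zero_add]

lemma phi_add (x y : X.E) :
    phi X Y sX hsX sY d (x + y) = phi X Y sX hsX sY d x + phi X Y sX hsX sY d y := by
  simp only [phi, map_add, lam_add]
  abel

include hsY hd in
lemma phi_mul (x y : X.E) :
    phi X Y sX hsX sY d (x * y) = phi X Y sX hsX sY d x * phi X Y sX hsX sY d y := by
  have e1 : ∀ (c : C) (l : L), sY c * Y.incl l = Y.incl (c • l) := s_mul_incl Y sY hsY
  simp only [phi]
  rw [map_mul, map_mul, lam_mul, hd, add_mul, mul_add, mul_add, CharHom.incl_mul_incl, add_zero,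
    e1, mul_comm (Y.incl _) (sY _), e1]
  simp only [map_add, smul_add]
  abel

include hB in
lemma phi_commutes (b : B) :
    phi X Y sX hsX sY d (algebraMap B X.E b) = algebraMap B Y.E b := by
  rw [phi, X.proj.commutes, hB b]
  have h := eq_add Y sY hsY (algebraMap B Y.E b)
  rw [Y.proj.commutes] at h
  exact h.symm

/-- The algebra map of middle rings. -/
noncomputable def phiHom : X.E →ₐ[B] Y.E where
  toFun := phi X Y sX hsX sY d
  map_one' := by
    have h := phi_commutes X Y sX hsX sY hsY d hB 1
    rwa [map_one, map_one] at h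
  map_mul' := phi_mul X Y sX hsX sY hsY d hd
  map_zero' := by
    have h := phi_incl X Y sX hsX sY d 0
    rwa [map_zero, map_zero] at h
  map_add' := phi_add X Y sX hsX sY d
  commutes' := phi_commutes X Y sX hsX sY hsY d hB

include hd hB in
theorem equiv : Nonempty (X.Equiv Y) := by
  have hinj : Function.Injective (phiHom X Y sX hsX sY hsY d hd hB) := by
    rw [injective_iff_map_eq_zero]
    intro x hx
    have hx' : phi X Y sX hsX sY d x = 0 := hx
    have h1 : X.proj x = 0 := by
      rw [← proj_phi X Y sX hsX sY hsY d x, hx', map_zero]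
    obtain ⟨l, rfl⟩ := (X.isExtension.exact x).1 h1
    rw [phi_incl] at hx'
    have hl : l = 0 := Y.isExtension.incl_injective (by rw [hx', map_zero])
    rw [hl, map_zero]
  have hsurj : Function.Surjective (phiHom X Y sX hsX sY hsY d hd hB) := by
    intro y
    refine ⟨sX (Y.proj y) + X.incl (lam Y sY hsY y - d (Y.proj y)), ?_⟩
    show phi X Y sX hsX sY d _ = y
    rw [phi_add, phi_s, phi_incl, add_assoc, ← map_add, add_sub_cancel]
    exact (eq_add Y sY hsY y).symm
  exact ⟨{ toAlgEquiv := AlgEquiv.ofBijective (phiHom X Y sX hsX sY hsY d hd hB) ⟨hinj, hsurj⟩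
           proj_apply := fun x => proj_phi X Y sX hsX sY hsY d x
           apply_incl := fun l => phi_incl X Y sX hsX sY d l }⟩

end Equiv

theorem main {A : Type u} {B C L : Type v} [CommRing A] [CommRing B] [CommRing C]
    [Algebra A B] [Algebra B C] [Algebra A C] [IsScalarTower A B C] [AddCommGroup L] [Module C L]
    (h : Module.Injective C L ∨ ∃ s : Ω[C⁄B] →ₗ[C] Ω[C⁄A],
        ∀ ω : Ω[C⁄B], KaehlerDifferential.map A B C C (s ω) = ω)
    (X Y : Exal.Ext B C L) (hX : X.IsTrivialOver A) (hY : Y.IsTrivialOver A)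
    (χ : ↥(EGA41.imperfection A B C) →ₗ[C] L) (hXχ : X.IsCharHom A χ) (hYχ : Y.IsCharHom A χ) :
    Nonempty (X.Equiv Y) := by
  obtain ⟨sX, hsX⟩ := hX
  obtain ⟨sY, hsY⟩ := hY
  letI : Module B L := Module.compHom L (algebraMap B C)
  letI : Module A L := Module.compHom L (algebraMap A C)
  haveI : IsScalarTower B C L := ⟨fun b c l => by
    show (b • c) • l = algebraMap B C b • (c • l)
    rw [Algebra.smul_def, mul_smul]⟩
  haveI : IsScalarTower A B L := ⟨fun a b l => by
    show algebraMap B C (a • b) • l = algebraMap A C a • (algebraMap B C b • l)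
    rw [Algebra.smul_def, map_mul, ← IsScalarTower.algebraMap_apply, mul_smul]⟩
  haveI : IsScalarTower A C L := ⟨fun a c l => by
    show (a • c) • l = algebraMap A C a • (c • l)
    rw [Algebra.smul_def, mul_smul]⟩
  let sX' : C →+* X.E := sX.toRingHom
  let sY' : C →+* Y.E := sY.toRingHom
  have hsX' : ∀ c, X.proj (sX' c) = c := hsX
  have hsY' : ∀ c, Y.proj (sY' c) = c := hsY
  have hsXA : ∀ a : A, sX' (algebraMap A C a) = algebraMap B X.E (algebraMap A B a) :=
    fun a => sX.commutes a
  have hsYA : ∀ a : A, sY' (algebraMap A C a) = algebraMap B Y.E (algebraMap A B a) :=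
    fun a => sY.commutes a
  have hθ : ∀ z : ↥(EGA41.imperfection A B C),
      (deltaT Y sY' hsY' hsYA - deltaT X sX' hsX' hsXA) (z : C ⊗[B] Ω[B⁄A]) = 0 := by
    intro z
    rw [LinearMap.sub_apply, ← char_eq Y sY' hsY' hsYA χ hYχ z, ← char_eq X sX' hsX' hsXA χ hXχ z,
      sub_self]
  obtain ⟨dT, hdT⟩ := exists_extend h (deltaT Y sY' hsY' hsYA - deltaT X sX' hsX' hsXA) hθ
  let d : C →+ L :=
    { toFun := fun c => dT (D A C c)
      map_zero' := by rw [map_zero, map_zero]
      map_add' := fun c c' => by rw [map_add, map_add] }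
  have hd : ∀ c c', d (c * c') = c • d c' + c' • d c := fun c c' => by
    show dT (D A C (c * c')) = c • dT (D A C c') + c' • dT (D A C c)
    rw [Derivation.leibniz, map_add, map_smul, map_smul]
  have hB : ∀ b : B, lam X sX' hsX' (algebraMap B X.E b) + d (algebraMap B C b) =
      lam Y sY' hsY' (algebraMap B Y.E b) := by
    intro b
    have h1 : mapBaseChange A B C ((1 : C) ⊗ₜ[B] D A B b) = D A C (algebraMap B C b) := by
      rw [mapBaseChange_tmul, map_D, one_smul]
    have h2 := hdT ((1 : C) ⊗ₜ[B] D A B b)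
    rw [h1, LinearMap.sub_apply, deltaT_tmul_D, deltaT_tmul_D, one_smul, one_smul] at h2
    show _ + dT (D A C (algebraMap B C b)) = _
    rw [h2]
    abel
  exact equiv X Y sX' hsX' sY' hsY' d hd hB

end Groth.Agent.Helper1.CharInj
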