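import Mathlib
import Groth.Prelude
import Groth.Agent.Helper1.CharHom
import Groth.Agent.Helper1.CharSurj
import Groth.Agent.Helper1.CharInj

/-!
# The characteristic homomorphism is bijective in the formally smooth case (helper1)
-/

set_option autoImplicit false
set_option linter.style.haveILetI false
set_option linter.unusedSectionVars false

namespace Groth.Agent.Helper1.CharBij

open TensorProduct KaehlerDifferential

universe u v

variable {A : Type u} {B C L : Type v} [CommRing A] [CommRing B] [CommRing C]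
    [Algebra A B] [Algebra B C] [Algebra A C] [IsScalarTower A B C] [AddCommGroup L] [Module C L]

lemma isTrivialOver_of_formallySmooth [Algebra.FormallySmooth A C] (X : Exal.Ext B C L) :
    X.IsTrivialOver A := by
  have hker : IsNilpotent
      (RingHom.ker ((X.restrictBase A).proj : (X.restrictBase A).E →+* C)) := by
    refine ⟨2, ?_⟩
    rw [Ideal.zero_eq_bot, eq_bot_iff, pow_two, Ideal.mul_le]
    intro x hx y hy
    obtain ⟨l, rfl⟩ := ((X.restrictBase A).isExtension.exact x).1 (RingHom.mem_ker.mp hx)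
    obtain ⟨l', rfl⟩ := ((X.restrictBase A).isExtension.exact y).1 (RingHom.mem_ker.mp hy)
    refine Ideal.mem_bot.mpr ?_
    rw [(X.restrictBase A).isExtension.mul_incl,
      ((X.restrictBase A).isExtension.exact _).2 ⟨l, rfl⟩, zero_smul, map_zero]
  refine ⟨Algebra.FormallySmooth.liftOfSurjective (AlgHom.id A C) (X.restrictBase A).proj
    (X.restrictBase A).isExtension.proj_surjective hker, fun c => ?_⟩
  exact AlgHom.congr_fun (Algebra.FormallySmooth.comp_liftOfSurjective (AlgHom.id A C)
    (X.restrictBase A).proj (X.restrictBase A).isExtension.proj_surjective hker) c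

variable (A B C) in
lemma exists_s [Module.Projective C Ω[C⁄B]] :
    ∃ s : Ω[C⁄B] →ₗ[C] Ω[C⁄A], ∀ ω : Ω[C⁄B], KaehlerDifferential.map A B C C (s ω) = ω := by
  obtain ⟨s, hs⟩ := Module.projective_lifting_property (KaehlerDifferential.map A B C C)
    LinearMap.id (KaehlerDifferential.map_surjective A B C)
  exact ⟨s, fun ω => LinearMap.congr_fun hs ω⟩

lemma exists_r [Algebra.FormallySmooth A C] (s : Ω[C⁄B] →ₗ[C] Ω[C⁄A])
    (hs : ∀ ω : Ω[C⁄B], KaehlerDifferential.map A B C C (s ω) = ω) :
    ∃ r : C ⊗[B] Ω[B⁄A] →ₗ[C] ↥(EGA41.imperfection A B C),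
      ∀ z : ↥(EGA41.imperfection A B C), r z = z := by
  have hex := exact_mapBaseChange_map A B C
  let q : Ω[C⁄A] →ₗ[C] LinearMap.ker (KaehlerDifferential.map A B C C) :=
    (LinearMap.id - s.comp (KaehlerDifferential.map A B C C)).codRestrict
      (LinearMap.ker (KaehlerDifferential.map A B C C)) (fun ω => by
        rw [LinearMap.mem_ker]
        show KaehlerDifferential.map A B C C (ω - s (KaehlerDifferential.map A B C C ω)) = 0
        rw [map_sub, hs, sub_self])
  have hq : q.comp (LinearMap.ker (KaehlerDifferential.map A B C C)).subtype = LinearMap.id := by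
    ext x
    show (x : Ω[C⁄A]) - s (KaehlerDifferential.map A B C C x) = x
    rw [LinearMap.mem_ker.mp x.2, map_zero, sub_zero]
  haveI : Module.Projective C (LinearMap.ker (KaehlerDifferential.map A B C C)) :=
    Module.Projective.of_split (LinearMap.ker (KaehlerDifferential.map A B C C)).subtype q hq
  let m' : C ⊗[B] Ω[B⁄A] →ₗ[C] LinearMap.ker (KaehlerDifferential.map A B C C) :=
    (mapBaseChange A B C).codRestrict (LinearMap.ker (KaehlerDifferential.map A B C C))
      (fun y => LinearMap.mem_ker.mpr (hex.apply_apply_eq_zero y))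
  have hm' : Function.Surjective m' := by
    rintro ⟨ω, hω⟩
    obtain ⟨y, hy⟩ := (hex ω).mp (LinearMap.mem_ker.mp hω)
    exact ⟨y, Subtype.ext hy⟩
  obtain ⟨t, ht⟩ := Module.projective_lifting_property m' LinearMap.id hm'
  refine ⟨((LinearMap.id - t.comp m' : C ⊗[B] Ω[B⁄A] →ₗ[C] C ⊗[B] Ω[B⁄A])).codRestrict
    (EGA41.imperfection A B C) (fun y => ?_), fun z => ?_⟩
  · show _ ∈ LinearMap.ker _
    rw [LinearMap.mem_ker]
    show mapBaseChange A B C (y - t (m' y)) = 0
    rw [map_sub, sub_eq_zero]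
    have h1 := LinearMap.congr_fun ht (m' y)
    exact (congrArg Subtype.val h1).symm
  · apply Subtype.ext
    show (z : C ⊗[B] Ω[B⁄A]) - t (m' z) = z
    have h1 : m' z = 0 := Subtype.ext (LinearMap.mem_ker.mp z.2)
    rw [h1, map_zero, sub_zero]

theorem main [Algebra.FormallySmooth A C] [Module.Projective C Ω[C⁄B]] :
    (∀ (X Y : Exal.Ext B C L) (χ : ↥(EGA41.imperfection A B C) →ₗ[C] L),
        X.IsCharHom A χ → Y.IsCharHom A χ → Nonempty (X.Equiv Y)) ∧
      ∀ χ : ↥(EGA41.imperfection A B C) →ₗ[C] L, ∃ X : Exal.Ext B C L, X.IsCharHom A χ := by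
  obtain ⟨s, hs⟩ := exists_s A B C
  obtain ⟨r, hr⟩ := exists_r s hs
  refine ⟨fun X Y χ hX hY => CharInj.main (Or.inr ⟨s, hs⟩) X Y
    (isTrivialOver_of_formallySmooth X) (isTrivialOver_of_formallySmooth Y) χ hX hY,
    fun χ => ?_⟩
  obtain ⟨X, -, hX⟩ := CharSurj.main (Or.inr ⟨⟨r, hr⟩, ⟨s, hs⟩⟩) χ
  exact ⟨X, hX⟩

end Groth.Agent.Helper1.CharBij
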