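import Mathlib
import Groth.Agent.Lib.Helper12.CohenStruct
import Groth.Agent.H27.SqZero
import Groth.Agent.H27.CoeffSection
import Groth.Agent.H3.MvPSDim

/-!
# Complete Noetherian local rings containing a field are quotients of `K[[T]]` (S4511)
-/

set_option autoImplicit false
universe u
open IsLocalRing

namespace Groth.Agent.Helper1.CohenField

open Groth.Agent.H27.CohenLift

theorem lp_of_subsingleton (W E : Type*) [CommRing W] [CommRing E] [Subsingleton E] : LP W E := by
  intro I hI g
  refine ⟨⟨⟨⟨fun _ => 0, Subsingleton.elim _ _⟩, fun _ _ => Subsingleton.elim _ _⟩,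
    Subsingleton.elim _ _, fun _ _ => Subsingleton.elim _ _⟩, ?_⟩
  ext w
  obtain ⟨c, hc⟩ := Ideal.Quotient.mk_surjective (g w)
  rw [← hc, RingHom.comp_apply]
  exact congrArg _ (Subsingleton.elim _ _)

theorem exists_sec (A : Type u) [CommRing A] [IsLocalRing A] [IsAdicComplete (maximalIdeal A) A]
    (p : ℕ) [CharP (ResidueField A) p] (hp : (p : A) = 0) :
    ∃ σ : ResidueField A →+* A, ∀ a, residue A (σ a) = a := by
  have H : ∀ n, LP (ResidueField A) (A ⧸ maximalIdeal A ^ n) := by
    intro n
    rcases CharP.char_is_prime_or_zero (ResidueField A) p with hpp | hp0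
    · haveI : Fact p.Prime := ⟨hpp⟩
      rcases Nat.eq_zero_or_pos n with rfl | hn
      · haveI : Subsingleton (A ⧸ maximalIdeal A ^ 0) := by
          rw [pow_zero, Ideal.one_eq_top]
          exact Ideal.Quotient.subsingleton_iff.mpr rfl
        exact lp_of_subsingleton _ _
      · haveI : Nontrivial (A ⧸ maximalIdeal A ^ n) := by
          apply Ideal.Quotient.nontrivial_iff.mpr
          intro h
          have h1 : maximalIdeal A ^ n ≤ maximalIdeal A := Ideal.pow_le_self hn.ne'
          rw [h] at h1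
          exact (maximalIdeal.isMaximal A).ne_top (top_le_iff.mp h1)
        haveI : CharP (A ⧸ maximalIdeal A ^ n) p := by
          rw [CharP.charP_iff_prime_eq_zero hpp]
          rw [← map_natCast (Ideal.Quotient.mk (maximalIdeal A ^ n)), hp, map_zero]
        exact Groth.Agent.H27.SqZero.lp_of_field_charP p _ _
    · subst hp0
      haveI : CharZero (ResidueField A) := CharP.charP_to_charZero _
      exact lp_of_field _ _
  obtain ⟨v, hv⟩ := Groth.Agent.Helper12.CohenStruct.lift_residue (W := ResidueField A) (C := A)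
    (RingHom.id _) H
  exact ⟨v, fun a => RingHom.congr_fun hv a⟩

theorem span_succAbove {R : Type*} [CommRing R] (m : Ideal R) {n : ℕ} (x : Fin (n + 1) → R)
    (hx : Ideal.span (Set.range x) = m) (a : Fin (n + 1) → R) (j : Fin (n + 1))
    (hj : IsUnit (a j)) (h0 : ∑ i, a i * x i = 0) :
    Ideal.span (Set.range (x ∘ j.succAbove)) = m := by
  apply le_antisymm
  · rw [← hx]
    apply Ideal.span_mono
    rintro _ ⟨i, rfl⟩
    exact ⟨_, rfl⟩
  · rw [← hx, Ideal.span_le]
    rintro _ ⟨i, rfl⟩
    rcases eq_or_ne i j with rfl | hij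
    · obtain ⟨v, hv⟩ := hj
      rw [Fin.sum_univ_succAbove _ i] at h0
      have h1 : a i * x i = - ∑ k, a (i.succAbove k) * x (i.succAbove k) :=
        eq_neg_of_add_eq_zero_left h0
      rw [← hv] at h1
      have h2 : x i = -(↑v⁻¹ : R) * ∑ k, a (i.succAbove k) * x (i.succAbove k) := by
        calc x i = ↑v⁻¹ * (↑v * x i) := by rw [← mul_assoc, Units.inv_mul, one_mul]
          _ = _ := by rw [h1]; ring
      rw [SetLike.mem_coe, h2]
      apply Ideal.mul_mem_left
      apply Ideal.sum_mem
      intro k _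
      apply Ideal.mul_mem_left
      exact Ideal.subset_span ⟨k, rfl⟩
    · obtain ⟨k, hk⟩ := Fin.exists_succAbove_eq hij
      exact Ideal.subset_span ⟨k, by rw [Function.comp_apply, hk]⟩

theorem main (A : Type u) [CommRing A] [IsLocalRing A] [IsNoetherianRing A]
    [IsAdicComplete (maximalIdeal A) A] (p : ℕ) [CharP (ResidueField A) p] (hp : (p : A) = 0) :
    ∃ (K : Type u) (_ : Field K) (n : ℕ) (f : MvPowerSeries (Fin n) K →+* A),
      Function.Surjective f ∧ RingHom.ker f ≤ maximalIdeal (MvPowerSeries (Fin n) K) ^ 2 := by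
  classical
  obtain ⟨σ, hσ⟩ := exists_sec A p hp
  have hfg : (maximalIdeal A).FG := IsNoetherian.noetherian _
  have hex : ∃ n, ∃ x : Fin n → A, Ideal.span (Set.range x) = maximalIdeal A := by
    obtain ⟨n, x, hx⟩ := Submodule.fg_iff_exists_fin_generating_family.1 hfg
    exact ⟨n, x, hx⟩
  obtain ⟨n, ⟨x, hx⟩, hmin⟩ : ∃ n, (∃ x : Fin n → A, Ideal.span (Set.range x) = maximalIdeal A) ∧
      ∀ m < n, ¬ ∃ x : Fin m → A, Ideal.span (Set.range x) = maximalIdeal A :=
    ⟨Nat.find hex, Nat.find_spec hex, fun m hm => Nat.find_min hex hm⟩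
  obtain ⟨u, huC, huX, husurj⟩ := Groth.Agent.H27.CoeffSection.exists_ps_surjection σ hσ x hx
  refine ⟨ResidueField A, inferInstance, n, u, husurj, ?_⟩
  intro g hg
  rw [RingHom.mem_ker] at hg
  have hxm : ∀ i, x i ∈ maximalIdeal A := fun i => hx ▸ Ideal.subset_span ⟨i, rfl⟩
  obtain ⟨c, hc⟩ : ∃ c, c = MvPowerSeries.constantCoeff g := ⟨_, rfl⟩
  have h1 : g - MvPowerSeries.C c ∈ Ideal.span (Set.range
      (MvPowerSeries.X : Fin n → MvPowerSeries (Fin n) (ResidueField A))) := by
    apply Groth.Agent.H3.MvPSDim.mem_span_X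
    rw [map_sub, MvPowerSeries.constantCoeff_C, hc, sub_self]
  obtain ⟨G, hG⟩ := (Ideal.mem_span_range_iff_exists_fun).mp h1
  have hg2 : g = MvPowerSeries.C c + ∑ i, G i * MvPowerSeries.X i := by rw [hG]; ring
  have h3 : σ c + ∑ i, u (G i) * x i = u g := by
    conv_rhs => rw [hg2]
    rw [map_add, huC, map_sum]
    congr 1
    apply Finset.sum_congr rfl
    intro i _
    rw [map_mul, huX]
  rw [hg] at h3
  have hsum_mem : ∑ i, u (G i) * x i ∈ maximalIdeal A :=
    Ideal.sum_mem _ (fun i _ => Ideal.mul_mem_left _ _ (hxm i))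
  have hc0 : c = 0 := by
    have h4 : σ c ∈ maximalIdeal A := by
      have h5 : σ c = - ∑ i, u (G i) * x i := eq_neg_of_add_eq_zero_left h3
      rw [h5]
      exact neg_mem hsum_mem
    rw [← hσ c]
    exact (residue_eq_zero_iff _).mpr h4
  rw [hc0, map_zero, zero_add] at h3
  have hGi : ∀ j, G j ∈ maximalIdeal (MvPowerSeries (Fin n) (ResidueField A)) := by
    intro j
    by_contra hcon
    rw [mem_maximalIdeal, mem_nonunits_iff, not_not] at hcon
    have hunit : IsUnit (u (G j)) := hcon.map u
    cases n with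
    | zero => exact j.elim0
    | succ n' =>
      have h6 := span_succAbove (maximalIdeal A) x hx (fun i => u (G i)) j hunit h3
      exact hmin n' (Nat.lt_succ_self n') ⟨_, h6⟩
  have hg3 : g = ∑ i, G i * MvPowerSeries.X i := by
    calc g = MvPowerSeries.C c + ∑ i, G i * MvPowerSeries.X i := hg2
      _ = _ := by rw [hc0, map_zero, zero_add]
  rw [hg3, pow_two]
  apply Ideal.sum_mem
  intro i _
  apply Ideal.mul_mem_mul (hGi i)
  rw [mem_maximalIdeal, mem_nonunits_iff, MvPowerSeries.isUnit_iff_constantCoeff,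
    MvPowerSeries.constantCoeff_X]
  exact not_isUnit_zero

end Groth.Agent.Helper1.CohenField
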