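import Mathlib

/-!
Helper lemmas on completions of linearly topologized modules and quotients (helper1).
-/

set_option autoImplicit false

namespace Groth.Agent.Helper1.ComplQuot

open Topology Filter UniformSpace

universe u v

variable {R : Type u} [Ring R] {M : Type v} [AddCommGroup M] [Module R M] [UniformSpace M]
  [IsUniformAddGroup M] [IsLinearTopology R M]

/-- closure in the completion of the image of an open submodule, as an additive subgroup -/
noncomputable def hat (U : Submodule R M) : AddSubgroup (Completion M) :=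
  (U.toAddSubgroup.map (Completion.toCompl : M →+ Completion M)).topologicalClosure

theorem coe_mem_hat {U : Submodule R M} {u : M} (hu : u ∈ U) : (u : Completion M) ∈ hat U :=
  AddSubgroup.le_topologicalClosure _ ⟨u, hu, rfl⟩

theorem hat_mem_nhds {U : Submodule R M} (hU : IsOpen (U : Set M)) :
    ((hat U : AddSubgroup (Completion M)) : Set (Completion M)) ∈ 𝓝 (0 : Completion M) := by
  have h0 : (U : Set M) ∈ 𝓝 (0 : M) := hU.mem_nhds U.zero_mem
  have := (Completion.isDenseInducing_coe (α := M)).closure_image_mem_nhds h0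
  rw [Completion.coe_zero] at this
  refine Filter.mem_of_superset this ?_
  apply closure_mono
  rintro _ ⟨u, hu, rfl⟩
  exact ⟨u, hu, rfl⟩

/-- closures of images of open submodules form a basis of neighbourhoods of `0` in the completion -/
theorem exists_hat_subset {W : Set (Completion M)} (hW : W ∈ 𝓝 (0 : Completion M)) :
    ∃ U : Submodule R M, IsOpen (U : Set M) ∧
      ((hat U : AddSubgroup (Completion M)) : Set (Completion M)) ⊆ W := by
  obtain ⟨W', hW', hW'closed, hW'W⟩ := exists_mem_nhds_isClosed_subset hW
  have hpre : ((↑) : M → Completion M) ⁻¹' W' ∈ 𝓝 (0 : M) := by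
    apply (Completion.continuous_coe M).continuousAt
    rw [Completion.coe_zero]; exact hW'
  obtain ⟨U, hUopen, hU⟩ := (IsLinearTopology.hasBasis_open_submodule (R := R) (M := M)).mem_iff.mp hpre
  refine ⟨U, hUopen, ?_⟩
  refine (closure_minimal ?_ hW'closed).trans hW'W
  rintro _ ⟨u, hu, rfl⟩
  exact hU hu


section Quot

variable (N : Submodule R M)

/-- the uniform structure on the quotient -/
@[reducible] noncomputable def quotUnif : UniformSpace (M ⧸ N.toAddSubgroup) :=
  IsTopologicalAddGroup.rightUniformSpace (M ⧸ N.toAddSubgroup)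

attribute [local instance] quotUnif

theorem quot_isUniformAddGroup : IsUniformAddGroup (M ⧸ N.toAddSubgroup) :=
  isUniformAddGroup_of_addCommGroup

attribute [local instance] quot_isUniformAddGroup

/-- the quotient map -/
noncomputable abbrev q : M →+ M ⧸ N.toAddSubgroup := QuotientAddGroup.mk' N.toAddSubgroup

theorem q_continuous : Continuous (q N) := QuotientAddGroup.continuous_mk

theorem q_uniformContinuous : UniformContinuous (q N) :=
  uniformContinuous_addMonoidHom_of_continuous (q_continuous N)

/-- the induced map on completions -/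
noncomputable abbrev qh : Completion M → Completion (M ⧸ N.toAddSubgroup) := Completion.map (q N)

theorem qh_coe (m : M) : qh N (m : Completion M) = ((q N m : M ⧸ N.toAddSubgroup) : Completion _) :=
  Completion.map_coe (q_uniformContinuous N) m

theorem qh_continuous : Continuous (qh N) := Completion.continuous_map

theorem qh_sub (x y : Completion M) : qh N (x - y) = qh N x - qh N y :=
  (AddMonoidHom.completion (q N) (q_continuous N)).map_sub x y

theorem qh_add (x y : Completion M) : qh N (x + y) = qh N x + qh N y :=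
  (AddMonoidHom.completion (q N) (q_continuous N)).map_add x y

theorem qh_zero : qh N 0 = 0 :=
  (AddMonoidHom.completion (q N) (q_continuous N)).map_zero

/-- if `↑(q m)` is in the closure of `↑(q U)` for an open submodule `U` then `m ∈ U + N` -/
theorem mem_sup_of_coe_mem_closure {U : Submodule R M} (hU : IsOpen (U : Set M)) {m : M}
    (hm : ((q N m : M ⧸ N.toAddSubgroup) : Completion (M ⧸ N.toAddSubgroup)) ∈
      closure (((↑) : M ⧸ N.toAddSubgroup → Completion _) '' (q N '' (U : Set M)))) :
    ∃ u ∈ U, m - u ∈ N := by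
  have hind : IsInducing ((↑) : M ⧸ N.toAddSubgroup → Completion (M ⧸ N.toAddSubgroup)) :=
    (Completion.isUniformInducing_coe _).isInducing
  have h1 : q N m ∈ closure (q N '' (U : Set M)) := by
    rw [hind.closure_eq_preimage_closure_image]
    exact hm
  -- q '' U is an open subgroup hence closed
  have hopen : IsOpen (q N '' (U : Set M)) := QuotientAddGroup.isOpenMap_coe _ hU
  have hclosed : IsClosed (q N '' (U : Set M)) := by
    have : (q N '' (U : Set M)) = ((U.toAddSubgroup.map (q N) : AddSubgroup _) : Set _) := rfl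
    rw [this] at hopen ⊢
    exact AddSubgroup.isClosed_of_isOpen _ hopen
  rw [hclosed.closure_eq] at h1
  obtain ⟨u, hu, hum⟩ := h1
  refine ⟨u, hu, ?_⟩
  have : q N (m - u) = 0 := by rw [map_sub, hum, sub_self]
  exact (QuotientAddGroup.eq_zero_iff _).mp this

/-- the kernel of `M^ → (M/N)^` is the closure of the image of `N` -/
theorem ker_eq : (qh N) ⁻¹' {0} =
    closure (Set.range (fun n : N => ((n : M) : Completion M))) := by
  apply Set.Subset.antisymm
  · intro x hx
    have hx0 : qh N x = 0 := hx
    rw [mem_closure_iff_nhds]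
    intro t ht
    have hW₀ : {z : Completion M | x + z ∈ t} ∈ 𝓝 (0 : Completion M) := by
      have hc : Continuous (fun z : Completion M => x + z) := continuous_const.add continuous_id
      have : Tendsto (fun z : Completion M => x + z) (𝓝 0) (𝓝 (x + 0)) := hc.tendsto 0
      rw [add_zero] at this
      exact this ht
    obtain ⟨U, hUopen, hU⟩ := exists_hat_subset (R := R) hW₀
    -- approximate x by an element of M
    have hnhds : {z : Completion M | z - x ∈ hat U} ∈ 𝓝 x := by
      have hc : Continuous (fun z : Completion M => z - x) := continuous_id.sub continuous_const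
      have : Tendsto (fun z : Completion M => z - x) (𝓝 x) (𝓝 (x - x)) := hc.tendsto x
      rw [sub_self] at this
      exact this (hat_mem_nhds hUopen)
    obtain ⟨_, hm1, ⟨m, rfl⟩⟩ := mem_closure_iff_nhds.mp (Completion.denseRange_coe x) _ hnhds
    -- image under qh
    have h2 : qh N ((m : Completion M) - x) ∈
        closure (((↑) : M ⧸ N.toAddSubgroup → Completion _) '' (q N '' (U : Set M))) := by
      have h3 : qh N ((m : Completion M) - x) ∈ qh N '' closure
          (((↑) : M → Completion M) '' (U : Set M)) := by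
        refine ⟨_, ?_, rfl⟩
        have : ((m : Completion M) - x) ∈ hat U := hm1
        refine closure_mono ?_ this
        rintro _ ⟨u, hu, rfl⟩
        exact ⟨u, hu, rfl⟩
      have h4 := image_closure_subset_closure_image (qh_continuous N) h3
      refine closure_mono ?_ h4
      rintro _ ⟨_, ⟨u, hu, rfl⟩, rfl⟩
      exact ⟨q N u, ⟨u, hu, rfl⟩, (qh_coe N u).symm⟩
    rw [qh_sub, hx0, sub_zero, qh_coe] at h2
    obtain ⟨u, hu, hmu⟩ := mem_sup_of_coe_mem_closure N hUopen h2
    refine ⟨((m - u : M) : Completion M), ?_, ⟨⟨m - u, hmu⟩, rfl⟩⟩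
    have h5 : ((m - u : M) : Completion M) - x ∈ hat U := by
      have : ((m - u : M) : Completion M) - x = ((m : Completion M) - x) - (u : Completion M) := by
        rw [Completion.coe_sub]; abel
      rw [this]
      exact (hat U).sub_mem hm1 (coe_mem_hat hu)
    have h6 := hU h5
    simpa using h6
  · apply closure_minimal
    · rintro _ ⟨n, rfl⟩
      show qh N ((n : M) : Completion M) = 0
      rw [qh_coe]
      have : q N (n : M) = 0 := (QuotientAddGroup.eq_zero_iff _).mpr n.2
      rw [this, Completion.coe_zero]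
    · exact isClosed_singleton.preimage (qh_continuous N)

/-- closure in the completion of the quotient of the image of a submodule -/
noncomputable def hatQ (U : Submodule R M) : AddSubgroup (Completion (M ⧸ N.toAddSubgroup)) :=
  (U.toAddSubgroup.map ((Completion.toCompl : M ⧸ N.toAddSubgroup →+ Completion _).comp
    (q N))).topologicalClosure

theorem hatQ_mem_nhds {U : Submodule R M} (hU : IsOpen (U : Set M)) :
    ((hatQ N U : AddSubgroup _) : Set (Completion (M ⧸ N.toAddSubgroup))) ∈
      𝓝 (0 : Completion (M ⧸ N.toAddSubgroup)) := by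
  have hopen : IsOpen (q N '' (U : Set M)) := QuotientAddGroup.isOpenMap_coe _ hU
  have h0 : (q N '' (U : Set M)) ∈ 𝓝 (0 : M ⧸ N.toAddSubgroup) :=
    hopen.mem_nhds ⟨0, U.zero_mem, map_zero _⟩
  have := (Completion.isDenseInducing_coe (α := M ⧸ N.toAddSubgroup)).closure_image_mem_nhds h0
  rw [Completion.coe_zero] at this
  refine Filter.mem_of_superset this ?_
  apply closure_mono
  rintro _ ⟨_, ⟨u, hu, rfl⟩, rfl⟩
  exact ⟨u, hu, rfl⟩

theorem hatQ_mono {U U' : Submodule R M} (h : U ≤ U') : hatQ N U ≤ hatQ N U' :=
  AddSubgroup.topologicalClosure_mono (AddSubgroup.map_mono h)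

theorem hat_mono {U U' : Submodule R M} (h : U ≤ U') :
    (hat U : AddSubgroup (Completion M)) ≤ hat U' :=
  AddSubgroup.topologicalClosure_mono (AddSubgroup.map_mono h)

include R in
theorem completion_nonarchimedean : NonarchimedeanAddGroup (Completion M) where
  is_nonarchimedean W hW := by
    obtain ⟨U, hUopen, hU⟩ := exists_hat_subset (R := R) hW
    exact ⟨⟨hat U, AddSubgroup.isOpen_of_mem_nhds _ (hat_mem_nhds hUopen)⟩, hU⟩

/-- basis of neighbourhoods of zero in the completion of the quotient -/
theorem exists_hatQ_subset {W : Set (Completion (M ⧸ N.toAddSubgroup))}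
    (hW : W ∈ 𝓝 (0 : Completion (M ⧸ N.toAddSubgroup))) :
    ∃ U : Submodule R M, IsOpen (U : Set M) ∧
      ((hatQ N U : AddSubgroup _) : Set (Completion (M ⧸ N.toAddSubgroup))) ⊆ W := by
  obtain ⟨W', hW', hW'closed, hW'W⟩ := exists_mem_nhds_isClosed_subset hW
  have hc : Continuous (fun m : M => ((q N m : M ⧸ N.toAddSubgroup) :
      Completion (M ⧸ N.toAddSubgroup))) :=
    (Completion.continuous_coe (M ⧸ N.toAddSubgroup)).comp (q_continuous N)
  have hpre : (fun m : M => ((q N m : M ⧸ N.toAddSubgroup) :
      Completion (M ⧸ N.toAddSubgroup))) ⁻¹' W' ∈ 𝓝 (0 : M) := by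
    apply hc.continuousAt
    show W' ∈ 𝓝 (((q N 0 : M ⧸ N.toAddSubgroup) : Completion (M ⧸ N.toAddSubgroup)))
    rw [map_zero, Completion.coe_zero]; exact hW'
  obtain ⟨U, hUopen, hU⟩ := (IsLinearTopology.hasBasis_open_submodule (R := R) (M := M)).mem_iff.mp hpre
  refine ⟨U, hUopen, ?_⟩
  refine (closure_minimal ?_ hW'closed).trans hW'W
  rintro _ ⟨u, hu, rfl⟩
  exact hU hu

theorem surjective_open (hc : (𝓝 (0 : M)).IsCountablyGenerated) :
    Function.Surjective (qh N) ∧ IsOpenMap (qh N) := by
  classical
  obtain ⟨U, hUopen, hUbasis⟩ :=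
    (IsLinearTopology.hasBasis_open_submodule (R := R) (M := M)).exists_antitone_subbasis
  have hUanti : ∀ {m n : ℕ}, m ≤ n → U n ≤ U m := fun h x hx => hUbasis.antitone h hx
  have hUsmall : ∀ S : Submodule R M, IsOpen (S : Set M) → ∃ n, U n ≤ S := by
    intro S hS
    obtain ⟨n, -, hn⟩ := hUbasis.toHasBasis.mem_iff.mp (hS.mem_nhds S.zero_mem)
    exact ⟨n, hn⟩
  have hna : NonarchimedeanAddGroup (Completion M) := completion_nonarchimedean (R := R)
  -- approximation step
  have step : ∀ (n : ℕ) (y : Completion (M ⧸ N.toAddSubgroup)), y ∈ hatQ N (U n) →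
      ∃ u ∈ U n, y - ((q N u : M ⧸ N.toAddSubgroup) : Completion _) ∈ hatQ N (U (n + 1)) := by
    intro n y hy
    have hnhds : {z : Completion (M ⧸ N.toAddSubgroup) | y - z ∈ hatQ N (U (n + 1))} ∈ 𝓝 y := by
      have hc : Continuous (fun z : Completion (M ⧸ N.toAddSubgroup) => y - z) :=
        continuous_const.sub continuous_id
      have : Tendsto (fun z : Completion (M ⧸ N.toAddSubgroup) => y - z) (𝓝 y) (𝓝 (y - y)) :=
        hc.tendsto y
      rw [sub_self] at this
      exact this (hatQ_mem_nhds N (hUopen (n + 1)))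
    obtain ⟨_, hz1, ⟨u, hu, rfl⟩⟩ := mem_closure_iff_nhds.mp hy _ hnhds
    exact ⟨u, hu, hz1⟩
  -- lifting
  have lift : ∀ (n : ℕ) (y : Completion (M ⧸ N.toAddSubgroup)), y ∈ hatQ N (U n) →
      ∃ x ∈ hat (U n), qh N x = y := by
    intro n y hy
    let seq : ∀ k : ℕ, {z : Completion (M ⧸ N.toAddSubgroup) // z ∈ hatQ N (U (n + k))} := fun k =>
      Nat.rec (motive := fun k => {z : Completion (M ⧸ N.toAddSubgroup) // z ∈ hatQ N (U (n + k))})
        ⟨y, hy⟩
        (fun k z => ⟨z.1 - ((q N (Classical.choose (step (n + k) z.1 z.2)) : M ⧸ N.toAddSubgroup) :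
            Completion _),
          (Classical.choose_spec (step (n + k) z.1 z.2)).2⟩) k
    let xs : ℕ → M := fun k => Classical.choose (step (n + k) (seq k).1 (seq k).2)
    have hxs : ∀ k, xs k ∈ U (n + k) := fun k =>
      (Classical.choose_spec (step (n + k) (seq k).1 (seq k).2)).1
    have hseq0 : (seq 0).1 = y := rfl
    have hseqS : ∀ k, (seq (k + 1)).1 =
        (seq k).1 - ((q N (xs k) : M ⧸ N.toAddSubgroup) : Completion _) := fun k => rfl
    have hqsum : ∀ K : ℕ, qh N (∑ k ∈ Finset.range K, ((xs k : M) : Completion M)) =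
        y - (seq K).1 := by
      intro K
      induction K with
      | zero => simp [hseq0, qh_zero]
      | succ K ih => rw [Finset.sum_range_succ, qh_add, ih, hseqS, qh_coe]; abel
    have hxs0 : Tendsto (fun k => ((xs k : M) : Completion M)) atTop (𝓝 0) := by
      rw [tendsto_atTop']
      intro W hW
      obtain ⟨S, hSopen, hS⟩ := exists_hat_subset (R := R) hW
      obtain ⟨n₀, hn₀⟩ := hUsmall S hSopen
      exact ⟨n₀, fun k hk => hS (coe_mem_hat (hn₀ (hUanti (by omega : n₀ ≤ n + k) (hxs k))))⟩
    have hsum : Summable (fun k => ((xs k : M) : Completion M)) :=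
      NonarchimedeanAddGroup.summable_of_tendsto_cofinite_zero (by rwa [Nat.cofinite_eq_atTop])
    have h2 := hsum.hasSum.tendsto_sum_nat
    refine ⟨∑' k, ((xs k : M) : Completion M), ?_, ?_⟩
    · have hclosed : IsClosed ((hat (U n) : AddSubgroup (Completion M)) : Set (Completion M)) :=
        AddSubgroup.isClosed_topologicalClosure _
      apply hclosed.mem_of_tendsto h2
      exact Filter.Eventually.of_forall (fun K => (hat (U n)).sum_mem
        (fun k _ => coe_mem_hat (hUanti (Nat.le_add_right n k) (hxs k))))
    · have h3 : Tendsto (fun K => qh N (∑ k ∈ Finset.range K, ((xs k : M) : Completion M))) atTop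
          (𝓝 (qh N (∑' k, ((xs k : M) : Completion M)))) :=
        ((qh_continuous N).tendsto _).comp h2
      have h4 : Tendsto (fun K => qh N (∑ k ∈ Finset.range K, ((xs k : M) : Completion M))) atTop
          (𝓝 y) := by
        have hy0 : Tendsto (fun K => (seq K).1) atTop (𝓝 0) := by
          rw [tendsto_atTop']
          intro W hW
          obtain ⟨S, hSopen, hS⟩ := exists_hatQ_subset N hW
          obtain ⟨n₀, hn₀⟩ := hUsmall S hSopen
          exact ⟨n₀, fun k hk => hS (hatQ_mono N (hn₀.trans' (hUanti (by omega : n₀ ≤ n + k)))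
            (seq k).2)⟩
        have : Tendsto (fun K => y - (seq K).1) atTop (𝓝 (y - 0)) := tendsto_const_nhds.sub hy0
        rw [sub_zero] at this
        exact this.congr (fun K => (hqsum K).symm)
      exact tendsto_nhds_unique h3 h4
  constructor
  · intro y
    -- approximate y by an element of the image of M
    have hnhds : {z : Completion (M ⧸ N.toAddSubgroup) | y - z ∈ hatQ N (U 0)} ∈ 𝓝 y := by
      have hc : Continuous (fun z : Completion (M ⧸ N.toAddSubgroup) => y - z) :=
        continuous_const.sub continuous_id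
      have : Tendsto (fun z : Completion (M ⧸ N.toAddSubgroup) => y - z) (𝓝 y) (𝓝 (y - y)) :=
        hc.tendsto y
      rw [sub_self] at this
      exact this (hatQ_mem_nhds N (hUopen 0))
    obtain ⟨_, hz1, ⟨z, rfl⟩⟩ := mem_closure_iff_nhds.mp (Completion.denseRange_coe y) _ hnhds
    obtain ⟨m, rfl⟩ := QuotientAddGroup.mk'_surjective N.toAddSubgroup z
    obtain ⟨x, -, hx⟩ := lift 0 _ hz1
    refine ⟨x + (m : Completion M), ?_⟩
    rw [qh_add, hx, qh_coe]
    abel
  · show IsOpenMap ⇑(AddMonoidHom.completion (q N) (q_continuous N))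
    rw [IsTopologicalAddGroup.isOpenMap_iff_nhds_zero]
    intro S hS
    rw [Filter.mem_map] at hS
    obtain ⟨S', hS'open, hS'⟩ := exists_hat_subset (R := R) hS
    obtain ⟨n, hn⟩ := hUsmall S' hS'open
    refine Filter.mem_of_superset (hatQ_mem_nhds N (hUopen n)) ?_
    intro y hy
    obtain ⟨x, hx, rfl⟩ := lift n y hy
    exact hS' (hat_mono hn hx)

end Quot

end Groth.Agent.Helper1.ComplQuot
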