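import Mathlib
import Groth.Agent.Helper1.FlatReg
import Groth.Agent.Lib.Helper8.FlatLocal

namespace Groth.Agent.Helper1.Content

open TensorProduct IsLocalRing

universe u

theorem indep_abs {R : Type u} [CommRing R] [IsLocalRing R] {P : Type u} [AddCommGroup P]
    [Module R P] [Module.Flat R P] {ι : Type u} [Fintype ι] (v : ι → P)
    (h : ∀ c : ι → R, ∑ i, c i • v i ∈ maximalIdeal R • (⊤ : Submodule R P) →
      ∀ i, c i ∈ maximalIdeal R) :
    ∀ a : ι → R, ∑ i, a i • v i = 0 → ∀ i, a i = 0 := by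
  have hli : LinearIndependent R v := by
    apply Module.IsLocalRing.linearIndependent_of_flat
    rw [Fintype.linearIndependent_iff]
    intro g hg i
    choose c hc using fun i => IsLocalRing.residue_surjective (g i)
    have e1 : ∑ i, g i • (TensorProduct.mk R (ResidueField R) P 1 ∘ v) i
        = (1 : ResidueField R) ⊗ₜ[R] (∑ i, c i • v i) := by
      rw [TensorProduct.tmul_sum]
      refine Finset.sum_congr rfl fun i _ => ?_
      simp only [Function.comp_apply, TensorProduct.mk_apply]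
      have e2 : g i • ((1 : ResidueField R) ⊗ₜ[R] v i) = (g i) ⊗ₜ[R] v i := by
        rw [TensorProduct.smul_tmul', smul_eq_mul, mul_one]
      have e3 : (1 : ResidueField R) ⊗ₜ[R] (c i • v i) = (g i) ⊗ₜ[R] v i := by
        rw [← TensorProduct.smul_tmul, ← hc i, Algebra.smul_def, mul_one,
          IsLocalRing.ResidueField.algebraMap_eq]
      rw [e2, e3]
    rw [e1] at hg
    have hg' : (1 : R ⧸ maximalIdeal R) ⊗ₜ[R] (∑ i, c i • v i) = 0 := hg
    rw [Groth.Agent.Helper8.FlatLocal.one_tmul_eq_zero_iff] at hg'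
    replace hg := hg'
    have := h c hg i
    rw [← hc i]
    exact (IsLocalRing.residue_eq_zero_iff _).mpr this
  exact fun a ha => Fintype.linearIndependent_iff.mp hli a ha

theorem pullback_mem {A : Type u} [CommRing A] [IsLocalRing A] {N : Type u} [AddCommGroup N]
    [Module A N] (J : Ideal A) (hJm : J ≤ maximalIdeal A) [IsLocalRing (A ⧸ J)] (z : N)
    (hz : (Submodule.Quotient.mk z : N ⧸ (J • ⊤ : Submodule A N)) ∈
      maximalIdeal (A ⧸ J) • (⊤ : Submodule (A ⧸ J) (N ⧸ (J • ⊤ : Submodule A N)))) :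
    z ∈ maximalIdeal A • (⊤ : Submodule A N) := by
  have key : ∀ w ∈ maximalIdeal (A ⧸ J) •
      (⊤ : Submodule (A ⧸ J) (N ⧸ (J • ⊤ : Submodule A N))),
      ∃ z₀ ∈ maximalIdeal A • (⊤ : Submodule A N),
        (Submodule.Quotient.mk z₀ : N ⧸ (J • ⊤ : Submodule A N)) = w := by
    intro w hw
    refine Submodule.smul_induction_on hw ?_ ?_
    · intro r hr n _
      obtain ⟨r', rfl⟩ := Ideal.Quotient.mk_surjective r
      obtain ⟨n', rfl⟩ := Submodule.Quotient.mk_surjective _ n
      refine ⟨r' • n', Submodule.smul_mem_smul ?_ trivial, ?_⟩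
      · by_contra hr'
        have hu : IsUnit r' := IsLocalRing.notMem_maximalIdeal.mp hr'
        exact (IsLocalRing.mem_maximalIdeal _).mp hr (hu.map _)
      · rw [FlatReg.quot_mk_smul, Submodule.Quotient.mk_smul]
    · rintro _ _ ⟨z₁, h₁, rfl⟩ ⟨z₂, h₂, rfl⟩
      exact ⟨z₁ + z₂, add_mem h₁ h₂, Submodule.Quotient.mk_add _⟩
  obtain ⟨z₀, hz₀, he⟩ := key _ hz
  have h1 : z₀ - z ∈ (J • ⊤ : Submodule A N) := (Submodule.Quotient.eq _).mp he
  have h2 : z₀ - z ∈ maximalIdeal A • (⊤ : Submodule A N) := Submodule.smul_mono hJm le_rfl h1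
  have h3 : z = z₀ - (z₀ - z) := by abel
  rw [h3]; exact sub_mem hz₀ h2

theorem indep_rel {A : Type u} [CommRing A] [IsLocalRing A] {N : Type u} [AddCommGroup N]
    [Module A N] [Module.Flat A N] (J : Ideal A) (hJ : J ≠ ⊤) {ι : Type u} [Fintype ι]
    (y : ι → N)
    (h : ∀ c : ι → A, ∑ i, c i • y i ∈ maximalIdeal A • (⊤ : Submodule A N) →
      ∀ i, c i ∈ maximalIdeal A) :
    ∀ a : ι → A, ∑ i, a i • y i ∈ J • (⊤ : Submodule A N) → ∀ i, a i ∈ J := by
  intro a ha
  have hJm : J ≤ maximalIdeal A := IsLocalRing.le_maximalIdeal hJ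
  have : Nontrivial (A ⧸ J) := Ideal.Quotient.nontrivial_iff.mpr hJ
  have : IsLocalRing (A ⧸ J) :=
    IsLocalRing.of_surjective' (Ideal.Quotient.mk J) Ideal.Quotient.mk_surjective
  have : IsLocalHom (Ideal.Quotient.mk J) :=
    isLocalHom_of_le_jacobson_bot J (hJm.trans (IsLocalRing.maximalIdeal_le_jacobson ⊥))
  have : Module.Flat (A ⧸ J) (N ⧸ (J • ⊤ : Submodule A N)) :=
    Module.Flat.of_linearEquiv (FlatReg.quotEquiv J N).symm
  have esum : ∀ c' : ι → A, ∑ i, (Ideal.Quotient.mk J (c' i)) •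
      (Submodule.Quotient.mk (y i) : N ⧸ (J • ⊤ : Submodule A N))
        = Submodule.Quotient.mk (∑ i, c' i • y i) := by
    intro c'
    change _ = (Submodule.mkQ (J • ⊤ : Submodule A N)) (∑ i, c' i • y i)
    rw [map_sum]
    refine Finset.sum_congr rfl fun i _ => ?_
    rw [Submodule.mkQ_apply]
    rw [FlatReg.quot_mk_smul, Submodule.Quotient.mk_smul]
  have key := indep_abs (R := A ⧸ J) (P := N ⧸ (J • ⊤ : Submodule A N))
    (fun i => Submodule.Quotient.mk (y i)) ?_ (fun i => Ideal.Quotient.mk J (a i)) ?_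
  · intro i; exact Ideal.Quotient.eq_zero_iff_mem.mp (key i)
  · intro c hc i
    choose c' hc' using fun i => Ideal.Quotient.mk_surjective (c i)
    have e1 : ∑ i, c i • (Submodule.Quotient.mk (y i) : N ⧸ (J • ⊤ : Submodule A N))
        = Submodule.Quotient.mk (∑ i, c' i • y i) := by
      rw [← esum c']
      refine Finset.sum_congr rfl fun i _ => ?_
      rw [hc' i]
    rw [e1] at hc
    have hz : ∑ i, c' i • y i ∈ maximalIdeal A • (⊤ : Submodule A N) :=
      pullback_mem J hJm _ hc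
    have := h c' hz i
    rw [← hc' i]
    exact map_nonunit (Ideal.Quotient.mk J) _ this
  · rw [esum a]; exact (Submodule.Quotient.mk_eq_zero _).mpr ha

theorem exists_indep_repr {A : Type u} [CommRing A] [IsLocalRing A] {M : Type u} [AddCommGroup M]
    [Module A M] (x : M) (I : Ideal A)
    (hx : IsLeast {J : Ideal A | x ∈ J • (⊤ : Submodule A M)} I) :
    ∃ (s : Finset A) (y : s → M), Ideal.span (s : Set A) = I ∧ x = ∑ a : s, (a : A) • y a ∧
      ∀ c : s → A, ∑ a, c a • y a ∈ maximalIdeal A • (⊤ : Submodule A M) →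
        ∀ a, c a ∈ maximalIdeal A := by
  classical
  have hfg : I.FG := by
    have key : ∀ z ∈ I • (⊤ : Submodule A M), ∃ t : Finset A, (t : Set A) ⊆ (I : Set A) ∧
        z ∈ Ideal.span (t : Set A) • (⊤ : Submodule A M) := by
      intro z hz
      refine Submodule.smul_induction_on hz ?_ ?_
      · intro r hr m _
        refine ⟨{r}, by simpa using hr,
          Submodule.smul_mem_smul (Ideal.subset_span (by simp)) trivial⟩
      · rintro z₁ z₂ ⟨t₁, h₁, h₁'⟩ ⟨t₂, h₂, h₂'⟩
        refine ⟨t₁ ∪ t₂, by simpa [Finset.coe_union] using ⟨h₁, h₂⟩, add_mem ?_ ?_⟩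
        · exact Submodule.smul_mono (Ideal.span_mono (by simp)) le_rfl h₁'
        · exact Submodule.smul_mono (Ideal.span_mono (by simp)) le_rfl h₂'
    obtain ⟨t, ht, hxt⟩ := key x hx.1
    exact ⟨t, le_antisymm (Ideal.span_le.mpr ht) (hx.2 hxt)⟩
  obtain ⟨s, hcard, hspan0⟩ := Submodule.FG.exists_span_finset_card_eq_spanFinrank (p := I) hfg
  have hspan : Ideal.span (s : Set A) = I := hspan0
  have hrep : ∀ z ∈ Ideal.span (s : Set A) • (⊤ : Submodule A M),
      ∃ y : s → M, z = ∑ a : s, (a : A) • y a := by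
    intro z hz
    refine Submodule.smul_induction_on hz ?_ ?_
    · intro r hr m _
      have hrange : Set.range (fun a : s => (a : A)) = (s : Set A) := by ext; simp
      rw [← hrange, Ideal.mem_span_range_iff_exists_fun] at hr
      obtain ⟨f, rfl⟩ := hr
      refine ⟨fun a => f a • m, ?_⟩
      rw [Finset.sum_smul]
      refine Finset.sum_congr rfl fun a _ => ?_
      rw [smul_smul, mul_comm]
    · rintro z₁ z₂ ⟨y₁, rfl⟩ ⟨y₂, rfl⟩
      exact ⟨y₁ + y₂, by simp [smul_add, Finset.sum_add_distrib]⟩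
  obtain ⟨y, hy⟩ := hrep x (by rw [hspan]; exact hx.1)
  refine ⟨s, y, hspan, hy, ?_⟩
  intro c hc b
  by_contra hb
  have hu : IsUnit (c b) := IsLocalRing.notMem_maximalIdeal.mp hb
  obtain ⟨e, he⟩ := hu.exists_left_inv
  obtain ⟨w, hw⟩ : ∃ w, w = ∑ a, c a • y a := ⟨_, rfl⟩
  rw [← hw] at hc
  obtain ⟨g, hg⟩ : ∃ g : s → A, g = fun a : s => (a : A) - (b : A) * e * c a := ⟨_, rfl⟩
  have hgb : g b = 0 := by rw [hg]; simp only; rw [mul_assoc, he, mul_one, sub_self]
  have hxg : x = ((b : A) * e) • w + ∑ a, g a • y a := by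
    rw [hw, hy, Finset.smul_sum, ← Finset.sum_add_distrib]
    refine Finset.sum_congr rfl fun a _ => ?_
    rw [hg]; simp only; rw [smul_smul, ← add_smul]; congr 1; ring
  obtain ⟨I₀, hI₀def⟩ : ∃ I₀ : Ideal A,
      I₀ = Ideal.span (((Finset.univ.erase b).image g : Finset A) : Set A) := ⟨_, rfl⟩
  have hg_mem : ∀ a, g a ∈ I₀ := by
    intro a
    by_cases hab : a = b
    · rw [hab, hgb]; exact zero_mem _
    · rw [hI₀def]
      refine Ideal.subset_span ?_
      rw [Finset.coe_image]
      exact ⟨a, by simp [hab], rfl⟩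
  have hsI : ∀ a : s, (a : A) ∈ I := fun a => hspan ▸ Ideal.subset_span a.2
  have hI₀ : I₀ ≤ I := by
    rw [hI₀def, Ideal.span_le]
    intro r hr
    rw [Finset.coe_image] at hr
    obtain ⟨a, _, rfl⟩ := hr
    rw [hg]
    exact sub_mem (hsI a) (I.mul_mem_right _ (I.mul_mem_right _ (hsI b)))
  have hxmem : x ∈ (I₀ ⊔ maximalIdeal A * I) • (⊤ : Submodule A M) := by
    rw [hxg, Submodule.sup_smul]
    refine add_mem (Submodule.mem_sup_right ?_) (Submodule.mem_sup_left ?_)
    · rw [mul_comm (maximalIdeal A) I, Submodule.mul_smul]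
      exact Submodule.smul_mem_smul (I.mul_mem_right _ (hsI b)) hc
    · exact sum_mem fun a _ => Submodule.smul_mem_smul (hg_mem a) trivial
  have hle : I ≤ I₀ ⊔ maximalIdeal A * I := hx.2 hxmem
  have hle' : I ≤ I₀ :=
    Submodule.le_of_le_smul_of_le_jacobson_bot hfg (IsLocalRing.maximalIdeal_le_jacobson ⊥)
      (by rwa [smul_eq_mul])
  have heq : I₀ = I := le_antisymm hI₀ hle'
  have h1 : I.spanFinrank ≤ ((Finset.univ.erase b).image g).card := by
    rw [← heq, hI₀def]
    have := Submodule.spanFinrank_span_le_ncard_of_finite (R := A)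
      (Finset.finite_toSet ((Finset.univ.erase b).image g))
    rwa [Set.ncard_coe_finset] at this
  have h2 : ((Finset.univ.erase b).image g).card < s.card := by
    calc ((Finset.univ.erase b).image g).card ≤ (Finset.univ.erase b).card := Finset.card_image_le
      _ = Fintype.card s - 1 := by
        rw [Finset.card_erase_of_mem (Finset.mem_univ b), Finset.card_univ]
      _ < s.card := by
        rw [Fintype.card_coe]; exact Nat.sub_lt (Finset.card_pos.mpr ⟨b, b.2⟩) one_pos
  omega

theorem main {A : Type u} [CommRing A] [IsLocalRing A] {M N : Type u}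
    [AddCommGroup M] [Module A M] [AddCommGroup N] [Module A N]
    [Module.Flat A N] (u : M →ₗ[A] N)
    (hu : Function.Injective (u.baseChange (IsLocalRing.ResidueField A))) (x : M) (I : Ideal A)
    (hx : IsLeast {J : Ideal A | x ∈ J • (⊤ : Submodule A M)} I) :
    IsLeast {J : Ideal A | u x ∈ J • (⊤ : Submodule A N)} I := by
  refine ⟨Groth.Agent.Helper8.FlatLocal.map_smul_top_mem u I hx.1, ?_⟩
  intro J hJ
  by_cases hJt : J = ⊤
  · rw [hJt]; exact le_top
  obtain ⟨s, y, hspan, hxy, hind⟩ := exists_indep_repr x I hx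
  have hH : ∀ z : M, u z ∈ maximalIdeal A • (⊤ : Submodule A N) →
      z ∈ maximalIdeal A • (⊤ : Submodule A M) := by
    intro z hz
    rw [← Groth.Agent.Helper8.FlatLocal.one_tmul_eq_zero_iff] at hz ⊢
    have h1 : u.baseChange (IsLocalRing.ResidueField A) ((1 : A ⧸ maximalIdeal A) ⊗ₜ[A] z) = 0 := by
      rw [LinearMap.baseChange_tmul]; exact hz
    exact hu (h1.trans (map_zero _).symm)
  have key := indep_rel J hJt (fun a : s => u (y a)) ?_ (fun a => (a : A)) ?_
  · rw [← hspan, Ideal.span_le]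
    intro a ha
    exact key ⟨a, ha⟩
  · intro c hc
    apply hind c
    apply hH
    rw [map_sum]
    simpa only [map_smul] using hc
  · have : u x = ∑ a : s, (a : A) • u (y a) := by
      rw [hxy, map_sum]; simp only [map_smul]
    rw [← this]; exact hJ

end Groth.Agent.Helper1.Content
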