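import Mathlib
import Groth.Prelude.Def_CotT2

/-!
# The nine-term exact sequence of `Tⁱ(B/A, -)` (S12284)
-/

set_option autoImplicit false
universe u w m
open scoped TensorProduct

namespace Groth.Agent.Helper1.CotTLES

open CotT Function

section Gen

variable {B : Type*} [CommRing B] {K L M' M M'' : Type*} [AddCommGroup K] [Module B K]
  [AddCommGroup L] [Module B L]
  [AddCommGroup M'] [Module B M'] [AddCommGroup M] [Module B M] [AddCommGroup M''] [Module B M'']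
  (f : M' →ₗ[B] M) (g : M →ₗ[B] M'')

theorem exists_factor (hf : Injective f) (hfg : Function.Exact f g) (φ : L →ₗ[B] M)
    (h : g ∘ₗ φ = 0) : ∃ φ' : L →ₗ[B] M', f ∘ₗ φ' = φ := by
  have hmem : ∀ x, φ x ∈ LinearMap.range f := fun x =>
    LinearMap.mem_range.mpr ((hfg (φ x)).mp (LinearMap.congr_fun h x))
  refine ⟨(LinearEquiv.ofInjective f hf).symm.toLinearMap ∘ₗ
    (φ.codRestrict (LinearMap.range f) hmem), ?_⟩
  ext x
  have h1 := (LinearEquiv.ofInjective f hf).apply_symm_apply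
    (φ.codRestrict (LinearMap.range f) hmem x)
  exact congrArg Subtype.val h1

theorem comp_eq_zero (hfg : Function.Exact f g) : g ∘ₗ f = 0 := by
  ext x
  exact hfg.apply_apply_eq_zero x

theorem comp_injective (hf : Injective f) {φ φ' : L →ₗ[B] M'} (h : f ∘ₗ φ = f ∘ₗ φ') :
    φ = φ' := by
  ext x
  exact hf (LinearMap.congr_fun h x)

theorem ker_exact (d : K →ₗ[B] L) (hf : Injective f) (hfg : Function.Exact f g) (φ : L →ₗ[B] M)
    (hφ : φ ∘ₗ d = 0) (h : g ∘ₗ φ = 0) : ∃ φ' : L →ₗ[B] M', φ' ∘ₗ d = 0 ∧ f ∘ₗ φ' = φ := by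
  obtain ⟨φ', hφ'⟩ := exists_factor f g hf hfg φ h
  refine ⟨φ', ?_, hφ'⟩
  apply comp_injective f hf
  rw [← LinearMap.comp_assoc, hφ', hφ, LinearMap.comp_zero]

/-- Post-composition. -/
abbrev post (L : Type*) [AddCommGroup L] [Module B L] {N N' : Type*} [AddCommGroup N] [Module B N]
    [AddCommGroup N'] [Module B N'] (h : N →ₗ[B] N') : (L →ₗ[B] N) →ₗ[B] (L →ₗ[B] N') :=
  LinearMap.llcomp B L N N' h

theorem llcomp_exact (hf : Injective f) (hfg : Function.Exact f g) :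
    Function.Exact (post L f) (post L g) := by
  intro φ
  constructor
  · intro h
    obtain ⟨φ', hφ'⟩ := exists_factor f g hf hfg φ h
    exact ⟨φ', hφ'⟩
  · rintro ⟨φ', rfl⟩
    show g ∘ₗ (f ∘ₗ φ') = 0
    rw [← LinearMap.comp_assoc, comp_eq_zero f g hfg, LinearMap.zero_comp]

theorem llcomp_injective (hf : Injective f) : Injective (post L f) := by
  intro φ φ' h
  exact comp_injective f hf h

end Gen

section Main

variable {A B : Type u} [CommRing A] [CommRing B] [Algebra A B] {ι σ : Type w}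
  (P : Algebra.Presentation A B ι σ)

section Defs

variable (N : Type m) [AddCommGroup N] [Module B N]

/-- `d₁*` with values in the cocycles. -/
noncomputable def iZ : (L0 P →ₗ[B] N) →ₗ[B] cocycles1 P N :=
  (d1Star P N).codRestrict (cocycles1 P N) (fun ψ => by
    rw [LinearMap.mem_ker, ← LinearMap.comp_apply, d2Star_comp_d1Star, LinearMap.zero_apply])

/-- `Hom(L₁, N)` modulo coboundaries. -/
abbrev Q1 : Type _ := (L1 P →ₗ[B] N) ⧸ LinearMap.range (d1Star P N)

/-- `d₂*` on `Hom(L₁, N)` modulo coboundaries. -/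
noncomputable def iQ : Q1 P N →ₗ[B] (L2 P →ₗ[B] N) :=
  Submodule.liftQ _ (d2Star P N) (by
    rw [LinearMap.range_le_ker_iff]; exact d2Star_comp_d1Star P N)

/-- The inclusion `T¹ → Hom(L₁, N)/coboundaries`. -/
noncomputable def jT : T1 P N →ₗ[B] Q1 P N :=
  Submodule.mapQ (coboundaries1 P N) (LinearMap.range (d1Star P N)) (cocycles1 P N).subtype le_rfl

theorem exact_subtype_iZ :
    Function.Exact (LinearMap.ker (d1Star P N)).subtype (iZ P N) := by
  intro ψ
  constructor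
  · intro h
    have h1 : d1Star P N ψ = 0 := congrArg Subtype.val h
    exact ⟨⟨ψ, LinearMap.mem_ker.mpr h1⟩, rfl⟩
  · rintro ⟨x, rfl⟩
    apply Subtype.ext
    exact LinearMap.mem_ker.mp x.2

theorem exact_iZ_mkQ : Function.Exact (iZ P N) (coboundaries1 P N).mkQ := by
  intro z
  constructor
  · intro h
    have h1 : z ∈ coboundaries1 P N := (Submodule.Quotient.mk_eq_zero _).mp h
    obtain ⟨ψ, hψ⟩ := h1
    exact ⟨ψ, Subtype.ext hψ⟩
  · rintro ⟨ψ, rfl⟩
    exact (Submodule.Quotient.mk_eq_zero _).mpr ⟨ψ, rfl⟩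

theorem exact_jT_iQ : Function.Exact (jT P N) (iQ P N) := by
  intro t
  obtain ⟨c, rfl⟩ := Submodule.Quotient.mk_surjective _ t
  constructor
  · intro h
    have h1 : d2Star P N c = 0 := h
    exact ⟨Submodule.Quotient.mk ⟨c, LinearMap.mem_ker.mpr h1⟩, rfl⟩
  · rintro ⟨t', ht'⟩
    obtain ⟨z, rfl⟩ := Submodule.Quotient.mk_surjective _ t'
    rw [← ht']
    show d2Star P N (z : L1 P →ₗ[B] N) = 0
    exact LinearMap.mem_ker.mp z.2

theorem jT_injective : Injective (jT P N) := by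
  rw [injective_iff_map_eq_zero]
  intro t ht
  obtain ⟨z, rfl⟩ := Submodule.Quotient.mk_surjective _ t
  have h1 : (Submodule.Quotient.mk (z : L1 P →ₗ[B] N) : Q1 P N) = 0 := ht
  have h2 : (z : L1 P →ₗ[B] N) ∈ LinearMap.range (d1Star P N) :=
    (Submodule.Quotient.mk_eq_zero _).mp h1
  exact (Submodule.Quotient.mk_eq_zero _).mpr h2

theorem exact_iQ_mkQ : Function.Exact (iQ P N) (LinearMap.range (d2Star P N)).mkQ := by
  intro φ
  constructor
  · intro h
    have h1 : φ ∈ LinearMap.range (d2Star P N) := (Submodule.Quotient.mk_eq_zero _).mp h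
    obtain ⟨c, hc⟩ := h1
    exact ⟨Submodule.Quotient.mk c, hc⟩
  · rintro ⟨t, rfl⟩
    obtain ⟨c, rfl⟩ := Submodule.Quotient.mk_surjective _ t
    exact (Submodule.Quotient.mk_eq_zero _).mpr ⟨c, rfl⟩

end Defs

variable {M' M M'' : Type m} [AddCommGroup M'] [Module B M'] [AddCommGroup M] [Module B M]
  [AddCommGroup M''] [Module B M'']
  (f : M' →ₗ[B] M) (g : M →ₗ[B] M'')

theorem T0map_injective (hf : Injective f) : Injective (T0map P f) := by
  intro x y h
  apply Subtype.ext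
  apply comp_injective f hf
  exact congrArg Subtype.val h

theorem cocycles1Map_injective (hf : Injective f) : Injective (cocycles1Map P f) := by
  intro x y h
  apply Subtype.ext
  apply comp_injective f hf
  exact congrArg Subtype.val h

theorem T0_exact (hf : Injective f) (hfg : Function.Exact f g) :
    Function.Exact (T0map P f) (T0map P g) := by
  intro x
  constructor
  · intro h
    have h1 : g ∘ₗ (x : L0 P →ₗ[B] M) = 0 := congrArg Subtype.val h
    have h2 : (x : L0 P →ₗ[B] M) ∘ₗ d1 P = 0 := by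
      have h3 := x.2
      rwa [LinearMap.mem_ker, d1Star_apply] at h3
    obtain ⟨φ', hφ'1, hφ'2⟩ := ker_exact f g (d1 P) hf hfg _ h2 h1
    exact ⟨⟨φ', by rw [LinearMap.mem_ker, d1Star_apply]; exact hφ'1⟩, Subtype.ext hφ'2⟩
  · rintro ⟨y, rfl⟩
    apply Subtype.ext
    show g ∘ₗ (f ∘ₗ (y : L0 P →ₗ[B] M')) = 0
    rw [← LinearMap.comp_assoc, comp_eq_zero f g hfg, LinearMap.zero_comp]

theorem cocycles_exact (hf : Injective f) (hfg : Function.Exact f g) :
    Function.Exact (cocycles1Map P f) (cocycles1Map P g) := by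
  intro x
  constructor
  · intro h
    have h1 : g ∘ₗ (x : L1 P →ₗ[B] M) = 0 := congrArg Subtype.val h
    have h2 : (x : L1 P →ₗ[B] M) ∘ₗ d2 P = 0 := by
      have h3 := x.2
      rwa [LinearMap.mem_ker, d2Star_apply] at h3
    obtain ⟨φ', hφ'1, hφ'2⟩ := ker_exact f g (d2 P) hf hfg _ h2 h1
    exact ⟨⟨φ', by rw [LinearMap.mem_ker, d2Star_apply]; exact hφ'1⟩, Subtype.ext hφ'2⟩
  · rintro ⟨y, rfl⟩
    apply Subtype.ext
    show g ∘ₗ (f ∘ₗ (y : L1 P →ₗ[B] M')) = 0
    rw [← LinearMap.comp_assoc, comp_eq_zero f g hfg, LinearMap.zero_comp]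

theorem T1_exact (hf : Injective f) (hg : Surjective g) (hfg : Function.Exact f g) :
    Function.Exact (T1map P f) (T1map P g) := by
  intro t
  constructor
  · intro h
    obtain ⟨c, rfl⟩ := Submodule.Quotient.mk_surjective _ t
    have h0 : (Submodule.Quotient.mk (cocycles1Map P g c) : T1 P M'') = 0 := h
    have h1 : cocycles1Map P g c ∈ coboundaries1 P M'' := (Submodule.Quotient.mk_eq_zero _).mp h0
    obtain ⟨ψ'', hψ''⟩ := h1
    have hψ2 : ψ'' ∘ₗ d1 P = g ∘ₗ (c : L1 P →ₗ[B] M) := hψ''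
    obtain ⟨ψ, hψ⟩ := Module.projective_lifting_property g ψ'' hg
    have h2 : cocycles1Map P g (c - iZ P M ψ) = 0 := by
      apply Subtype.ext
      show g ∘ₗ ((c : L1 P →ₗ[B] M) - ψ ∘ₗ d1 P) = 0
      rw [LinearMap.comp_sub, ← LinearMap.comp_assoc, hψ, hψ2, sub_self]
    obtain ⟨c', hc'⟩ := (cocycles_exact P f g hf hfg (c - iZ P M ψ)).mp h2
    refine ⟨Submodule.Quotient.mk c', ?_⟩
    show (Submodule.Quotient.mk (cocycles1Map P f c') : T1 P M) = Submodule.Quotient.mk c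
    rw [hc', Submodule.Quotient.eq]
    refine ⟨-ψ, ?_⟩
    show d1Star P M (-ψ) = ((c - iZ P M ψ - c : cocycles1 P M) : L1 P →ₗ[B] M)
    have h3 : ((c - iZ P M ψ - c : cocycles1 P M) : L1 P →ₗ[B] M) = -(ψ ∘ₗ d1 P) := by
      show (c : L1 P →ₗ[B] M) - ψ ∘ₗ d1 P - (c : L1 P →ₗ[B] M) = _
      abel
    rw [h3, d1Star_apply, LinearMap.neg_comp]
  · rintro ⟨t', rfl⟩
    obtain ⟨c', rfl⟩ := Submodule.Quotient.mk_surjective _ t'
    show (Submodule.Quotient.mk (cocycles1Map P g (cocycles1Map P f c')) : T1 P M'') = 0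
    rw [(cocycles_exact P f g hf hfg).apply_apply_eq_zero c', Submodule.Quotient.mk_zero]

theorem T2_exact (hf : Injective f) (hg : Surjective g) (hfg : Function.Exact f g) :
    Function.Exact (T2map P f) (T2map P g) := by
  haveI : Module.Free B (L1 P) := Module.Free.of_basis (L1basis P)
  intro t
  constructor
  · intro h
    obtain ⟨φ, rfl⟩ := Submodule.Quotient.mk_surjective _ t
    have h0 : (Submodule.Quotient.mk (g ∘ₗ φ) : T2 P M'') = 0 := h
    have h1 : g ∘ₗ φ ∈ LinearMap.range (d2Star P M'') := (Submodule.Quotient.mk_eq_zero _).mp h0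
    obtain ⟨ψ'', hψ''⟩ := h1
    have hψ2 : ψ'' ∘ₗ d2 P = g ∘ₗ φ := hψ''
    obtain ⟨ψ, hψ⟩ := Module.projective_lifting_property g ψ'' hg
    have h2 : g ∘ₗ (φ - ψ ∘ₗ d2 P) = 0 := by
      rw [LinearMap.comp_sub, ← LinearMap.comp_assoc, hψ, hψ2, sub_self]
    obtain ⟨φ', hφ'⟩ := exists_factor f g hf hfg _ h2
    refine ⟨Submodule.Quotient.mk φ', ?_⟩
    show (Submodule.Quotient.mk (f ∘ₗ φ') : T2 P M) = Submodule.Quotient.mk φ
    rw [hφ', Submodule.Quotient.eq]
    refine ⟨-ψ, ?_⟩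
    rw [d2Star_apply, LinearMap.neg_comp]
    abel
  · rintro ⟨t', rfl⟩
    obtain ⟨φ', rfl⟩ := Submodule.Quotient.mk_surjective _ t'
    show (Submodule.Quotient.mk (g ∘ₗ (f ∘ₗ φ')) : T2 P M'') = 0
    rw [← LinearMap.comp_assoc, comp_eq_zero f g hfg, LinearMap.zero_comp,
      Submodule.Quotient.mk_zero]

theorem snake0 (hf : Injective f) (hg : Surjective g) (hfg : Function.Exact f g) :
    ∃ δ₀ : T0 P M'' →ₗ[B] T1 P M',
      Function.Exact (T0map P g) δ₀ ∧ Function.Exact δ₀ (T1map P f) := by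
  let f₁ : (L0 P →ₗ[B] M') →ₗ[B] (L0 P →ₗ[B] M) := post (L0 P) f
  let f₂ : (L0 P →ₗ[B] M) →ₗ[B] (L0 P →ₗ[B] M'') := post (L0 P) g
  have hf12 : Function.Exact f₁ f₂ := llcomp_exact f g hf hfg
  have hg12 : Function.Exact (cocycles1Map P f) (cocycles1Map P g) := cocycles_exact P f g hf hfg
  have h₁ : (cocycles1Map P f).comp (iZ P M') = (iZ P M).comp f₁ := by
    refine LinearMap.ext fun ψ => Subtype.ext ?_
    show f ∘ₗ (ψ ∘ₗ d1 P) = (f ∘ₗ ψ) ∘ₗ d1 P
    rw [LinearMap.comp_assoc]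
  have h₂ : (cocycles1Map P g).comp (iZ P M) = (iZ P M'').comp f₂ := by
    refine LinearMap.ext fun ψ => Subtype.ext ?_
    show g ∘ₗ (ψ ∘ₗ d1 P) = (g ∘ₗ ψ) ∘ₗ d1 P
    rw [LinearMap.comp_assoc]
  have hf₂ : Surjective f₂ := fun ψ'' => Module.projective_lifting_property g ψ'' hg
  have hg₁ : Injective (cocycles1Map P f) := cocycles1Map_injective P f hf
  refine ⟨SnakeLemma.δ' (iZ P M') (iZ P M) (iZ P M'') f₁ f₂ hf12 (cocycles1Map P f)
    (cocycles1Map P g) hg12 h₁ h₂ (LinearMap.ker (d1Star P M'')).subtype (exact_subtype_iZ P M'')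
    (coboundaries1 P M').mkQ (exact_iZ_mkQ P M') hf₂ hg₁, ?_, ?_⟩
  · exact SnakeLemma.exact_δ'_right (iZ P M') (iZ P M) (iZ P M'') f₁ f₂ hf12 (cocycles1Map P f)
      (cocycles1Map P g) hg12 h₁ h₂ (LinearMap.ker (d1Star P M)).subtype (exact_subtype_iZ P M)
      (LinearMap.ker (d1Star P M'')).subtype (exact_subtype_iZ P M'')
      (coboundaries1 P M').mkQ (exact_iZ_mkQ P M') hf₂ hg₁ (T0map P g)
      (LinearMap.ext fun x => rfl) Subtype.val_injective
  · exact SnakeLemma.exact_δ'_left (iZ P M') (iZ P M) (iZ P M'') f₁ f₂ hf12 (cocycles1Map P f)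
      (cocycles1Map P g) hg12 h₁ h₂
      (LinearMap.ker (d1Star P M'')).subtype (exact_subtype_iZ P M'')
      (coboundaries1 P M').mkQ (exact_iZ_mkQ P M') (coboundaries1 P M).mkQ (exact_iZ_mkQ P M)
      hf₂ hg₁ (T1map P f) (LinearMap.ext fun x => rfl) (Submodule.mkQ_surjective _)

/-- Post-composition on `Hom(L₁, -)` modulo coboundaries. -/
noncomputable def QMap {N N' : Type m} [AddCommGroup N] [Module B N] [AddCommGroup N'] [Module B N']
    (h : N →ₗ[B] N') : Q1 P N →ₗ[B] Q1 P N' :=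
  Submodule.mapQ _ _ (LinearMap.llcomp B (L1 P) N N' h) (by
    rintro _ ⟨ψ, rfl⟩
    exact ⟨h ∘ₗ ψ, by rw [d1Star_apply, LinearMap.comp_assoc]; rfl⟩)

theorem QMap_exact (hf : Injective f) (hg : Surjective g) (hfg : Function.Exact f g) :
    Function.Exact (QMap P f) (QMap P g) := by
  intro t
  constructor
  · intro h
    obtain ⟨c, rfl⟩ := Submodule.Quotient.mk_surjective _ t
    have h0 : (Submodule.Quotient.mk (g ∘ₗ c) : Q1 P M'') = 0 := h
    have h1 : g ∘ₗ c ∈ LinearMap.range (d1Star P M'') := (Submodule.Quotient.mk_eq_zero _).mp h0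
    obtain ⟨ψ'', hψ''⟩ := h1
    have hψ2 : ψ'' ∘ₗ d1 P = g ∘ₗ c := hψ''
    obtain ⟨ψ, hψ⟩ := Module.projective_lifting_property g ψ'' hg
    have h2 : g ∘ₗ (c - ψ ∘ₗ d1 P) = 0 := by
      rw [LinearMap.comp_sub, ← LinearMap.comp_assoc, hψ, hψ2, sub_self]
    obtain ⟨c', hc'⟩ := exists_factor f g hf hfg _ h2
    refine ⟨Submodule.Quotient.mk c', ?_⟩
    show (Submodule.Quotient.mk (f ∘ₗ c') : Q1 P M) = Submodule.Quotient.mk c
    rw [hc', Submodule.Quotient.eq]
    refine ⟨-ψ, ?_⟩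
    rw [d1Star_apply, LinearMap.neg_comp]
    abel
  · rintro ⟨t', rfl⟩
    obtain ⟨c', rfl⟩ := Submodule.Quotient.mk_surjective _ t'
    show (Submodule.Quotient.mk (g ∘ₗ (f ∘ₗ c')) : Q1 P M'') = 0
    rw [← LinearMap.comp_assoc, comp_eq_zero f g hfg, LinearMap.zero_comp,
      Submodule.Quotient.mk_zero]

theorem snake1 (hf : Injective f) (hg : Surjective g) (hfg : Function.Exact f g) :
    ∃ δ₁ : T1 P M'' →ₗ[B] T2 P M',
      Function.Exact (T1map P g) δ₁ ∧ Function.Exact δ₁ (T2map P f) := by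
  haveI : Module.Free B (L1 P) := Module.Free.of_basis (L1basis P)
  let g₁ : (L2 P →ₗ[B] M') →ₗ[B] (L2 P →ₗ[B] M) := post (L2 P) f
  let g₂ : (L2 P →ₗ[B] M) →ₗ[B] (L2 P →ₗ[B] M'') := post (L2 P) g
  have hf12 : Function.Exact (QMap P f) (QMap P g) := QMap_exact P f g hf hg hfg
  have hg12 : Function.Exact g₁ g₂ := llcomp_exact f g hf hfg
  have h₁ : g₁.comp (iQ P M') = (iQ P M).comp (QMap P f) := by
    refine Submodule.linearMap_qext _ (LinearMap.ext fun c => ?_)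
    show f ∘ₗ (c ∘ₗ d2 P) = (f ∘ₗ c) ∘ₗ d2 P
    rw [LinearMap.comp_assoc]
  have h₂ : g₂.comp (iQ P M) = (iQ P M'').comp (QMap P g) := by
    refine Submodule.linearMap_qext _ (LinearMap.ext fun c => ?_)
    show g ∘ₗ (c ∘ₗ d2 P) = (g ∘ₗ c) ∘ₗ d2 P
    rw [LinearMap.comp_assoc]
  have hf₂ : Surjective (QMap P g) := by
    intro t
    obtain ⟨c'', rfl⟩ := Submodule.Quotient.mk_surjective _ t
    obtain ⟨c, hc⟩ := Module.projective_lifting_property g c'' hg
    exact ⟨Submodule.Quotient.mk c, by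
      show (Submodule.Quotient.mk (g ∘ₗ c) : Q1 P M'') = _
      rw [hc]⟩
  have hg₁ : Injective g₁ := llcomp_injective f hf
  refine ⟨SnakeLemma.δ' (iQ P M') (iQ P M) (iQ P M'') (QMap P f) (QMap P g) hf12 g₁ g₂ hg12 h₁ h₂
    (jT P M'') (exact_jT_iQ P M'') (LinearMap.range (d2Star P M')).mkQ (exact_iQ_mkQ P M')
    hf₂ hg₁, ?_, ?_⟩
  · exact SnakeLemma.exact_δ'_right (iQ P M') (iQ P M) (iQ P M'') (QMap P f) (QMap P g) hf12
      g₁ g₂ hg12 h₁ h₂ (jT P M) (exact_jT_iQ P M) (jT P M'') (exact_jT_iQ P M'')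
      (LinearMap.range (d2Star P M')).mkQ (exact_iQ_mkQ P M') hf₂ hg₁ (T1map P g)
      (Submodule.linearMap_qext _ (LinearMap.ext fun z => rfl)) (jT_injective P M'')
  · exact SnakeLemma.exact_δ'_left (iQ P M') (iQ P M) (iQ P M'') (QMap P f) (QMap P g) hf12
      g₁ g₂ hg12 h₁ h₂ (jT P M'') (exact_jT_iQ P M'')
      (LinearMap.range (d2Star P M')).mkQ (exact_iQ_mkQ P M')
      (LinearMap.range (d2Star P M)).mkQ (exact_iQ_mkQ P M) hf₂ hg₁ (T2map P f)
      (LinearMap.ext fun x => rfl) (Submodule.mkQ_surjective _)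

theorem main (hf : Injective f) (hg : Surjective g) (hfg : Function.Exact f g) :
    Function.Injective (CotT.T0map P f) ∧ Function.Exact (CotT.T0map P f) (CotT.T0map P g) ∧
      Function.Exact (CotT.T1map P f) (CotT.T1map P g) ∧
      Function.Exact (CotT.T2map P f) (CotT.T2map P g) ∧
      ∃ (δ₀ : CotT.T0 P M'' →ₗ[B] CotT.T1 P M') (δ₁ : CotT.T1 P M'' →ₗ[B] CotT.T2 P M'),
        Function.Exact (CotT.T0map P g) δ₀ ∧ Function.Exact δ₀ (CotT.T1map P f) ∧
        Function.Exact (CotT.T1map P g) δ₁ ∧ Function.Exact δ₁ (CotT.T2map P f) := by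
  obtain ⟨δ₀, h0a, h0b⟩ := snake0 P f g hf hg hfg
  obtain ⟨δ₁, h1a, h1b⟩ := snake1 P f g hf hg hfg
  exact ⟨T0map_injective P f hf, T0_exact P f g hf hfg, T1_exact P f g hf hg hfg,
    T2_exact P f g hf hg hfg, δ₀, δ₁, h0a, h0b, h1a, h1b⟩

end Main

end Groth.Agent.Helper1.CotTLES
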