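import Mathlib
import Groth.Agent.S19474

/-!
# Completion of a quotient (helper1)

For a Noetherian ring `A`, ideals `𝔪` and `I`, the `𝔪(A/I)`-adic completion of `A/I` is isomorphic
as a ring to `Â / I Â`, where `Â` is the `𝔪`-adic completion of `A`.
-/

set_option autoImplicit false
set_option linter.style.haveILetI false

namespace Groth.Agent.Helper1.CplQuot

open AdicCompletion

universe u

variable {A : Type u} [CommRing A] (𝔪 I : Ideal A)

/-- The image of `𝔪` in `A ⧸ I`. -/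
abbrev nn : Ideal (A ⧸ I) := 𝔪.map (Ideal.Quotient.mk I)

lemma pow_le_comap (n : ℕ) : 𝔪 ^ n ≤ ((nn 𝔪 I) ^ n).comap (Ideal.Quotient.mk I) := by
  rw [← Ideal.map_le_iff_le_comap, Ideal.map_pow]

/-- The transition maps `A ⧸ 𝔪 ^ n → (A ⧸ I) ⧸ (𝔪 (A ⧸ I)) ^ n`. -/
noncomputable def g (n : ℕ) : A ⧸ 𝔪 ^ n →+* (A ⧸ I) ⧸ (nn 𝔪 I) ^ n :=
  Ideal.quotientMap _ (Ideal.Quotient.mk I) (pow_le_comap 𝔪 I n)

@[simp] lemma g_mk (n : ℕ) (a : A) :
    g 𝔪 I n (Ideal.Quotient.mk _ a) = Ideal.Quotient.mk _ (Ideal.Quotient.mk I a) :=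
  Ideal.quotientMap_mk

lemma cauchy_sub_mem {R : Type*} [CommRing R] (J : Ideal R) (f : AdicCauchySequence J R) {m n : ℕ}
    (h : m ≤ n) : f n - f m ∈ J ^ m := by
  have h1 := f.property h
  rw [SModEq.sub_mem] at h1
  have h2 : f m - f n ∈ J ^ m := by simpa [smul_eq_mul, Ideal.mul_top] using h1
  have h3 := (J ^ m).neg_mem h2
  simpa using h3

lemma compat {m n : ℕ} (hle : m ≤ n) :
    (Ideal.Quotient.factorPow (nn 𝔪 I) hle).comp ((g 𝔪 I n).comp (evalₐ 𝔪 n).toRingHom) =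
      (g 𝔪 I m).comp (evalₐ 𝔪 m).toRingHom := by
  ext x
  induction x using AdicCompletion.induction_on with
  | h f =>
    simp only [RingHom.comp_apply, AlgHom.toRingHom_eq_coe, RingHom.coe_coe]
    rw [evalₐ_mk, evalₐ_mk, g_mk, g_mk]
    show Ideal.Quotient.mk _ (Ideal.Quotient.mk I (f n)) = _
    rw [Ideal.Quotient.eq, ← map_sub, ← Ideal.map_pow]
    exact Ideal.mem_map_of_mem _ (cauchy_sub_mem 𝔪 f hle)

/-- The canonical ring map `Â → (A ⧸ I)^`. -/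
noncomputable def φ : AdicCompletion 𝔪 A →+* AdicCompletion (nn 𝔪 I) (A ⧸ I) :=
  AdicCompletion.liftRingHom (nn 𝔪 I) (fun n => (g 𝔪 I n).comp (evalₐ 𝔪 n).toRingHom)
    (fun hle => compat 𝔪 I hle)

@[simp] lemma evalₐ_φ (n : ℕ) (x : AdicCompletion 𝔪 A) :
    evalₐ (nn 𝔪 I) n (φ 𝔪 I x) = g 𝔪 I n (evalₐ 𝔪 n x) :=
  evalₐ_liftRingHom (nn 𝔪 I) _ (fun hle => compat 𝔪 I hle) n x

lemma φ_of (a : A) : φ 𝔪 I (of 𝔪 A a) = of (nn 𝔪 I) (A ⧸ I) (Ideal.Quotient.mk I a) := by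
  apply AdicCompletion.ext_evalₐ
  intro n
  rw [evalₐ_φ, evalₐ_of, evalₐ_of, g_mk]

lemma φ_algebraMap (a : A) : φ 𝔪 I (algebraMap A (AdicCompletion 𝔪 A) a) =
    algebraMap (A ⧸ I) (AdicCompletion (nn 𝔪 I) (A ⧸ I)) (Ideal.Quotient.mk I a) := by
  rw [AdicCompletion.algebraMap_apply, AdicCompletion.algebraMap_apply]
  exact φ_of 𝔪 I a

theorem φ_surjective : Function.Surjective (φ 𝔪 I) := by
  intro y
  obtain ⟨b, rfl⟩ := AdicCompletion.mk_surjective _ _ y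
  have step : ∀ (n : ℕ) (x : A), Ideal.Quotient.mk I x = b n →
      ∃ c : A, c ∈ 𝔪 ^ n ∧ Ideal.Quotient.mk I (x + c) = b (n + 1) := by
    intro n x hx
    have h1 : b (n + 1) - b n ∈ (nn 𝔪 I) ^ n := cauchy_sub_mem (nn 𝔪 I) b (Nat.le_succ n)
    rw [← Ideal.map_pow, Ideal.mem_map_iff_of_surjective _ Ideal.Quotient.mk_surjective] at h1
    obtain ⟨c, hc, hc2⟩ := h1
    exact ⟨c, hc, by rw [map_add, hx, hc2]; ring⟩
  choose! c hc1 hc2 using step
  obtain ⟨a0, ha0⟩ := Ideal.Quotient.mk_surjective (b 0)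
  let a : ℕ → A := fun n => Nat.rec a0 (fun k x => x + c k x) n
  have ha : ∀ n, Ideal.Quotient.mk I (a n) = b n := by
    intro n
    induction n with
    | zero => exact ha0
    | succ k ih => exact hc2 k (a k) ih
  have hcauchy : ∀ n, a n ≡ a (n + 1) [SMOD (𝔪 ^ n • ⊤ : Submodule A A)] := by
    intro n
    rw [SModEq.sub_mem]
    have h1 : a n - a (n + 1) = - c n (a n) := by
      show a n - (a n + c n (a n)) = _
      ring
    rw [h1]
    apply Submodule.neg_mem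
    have := hc1 n (a n) (ha n)
    simpa [smul_eq_mul, Ideal.mul_top] using this
  refine ⟨AdicCompletion.mk 𝔪 A (AdicCauchySequence.mk 𝔪 A a hcauchy), ?_⟩
  apply AdicCompletion.ext_evalₐ
  intro n
  rw [evalₐ_φ, evalₐ_mk, evalₐ_mk]
  show g 𝔪 I n (Ideal.Quotient.mk _ (a n)) = _
  rw [g_mk, ha n]

lemma ker_evalₐ (fg : 𝔪.FG) (n : ℕ) :
    RingHom.ker (evalₐ 𝔪 n).toRingHom = (𝔪 ^ n).map (algebraMap A (AdicCompletion 𝔪 A)) := by
  ext x
  trans x ∈ (AdicCompletion.eval 𝔪 A n).ker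
  · have h : (𝔪 ^ n • ⊤ : Ideal A) = 𝔪 ^ n := by ext x; simp
    rw [RingHom.mem_ker, LinearMap.mem_ker]
    constructor
    · intro hx
      apply (Ideal.quotientEquivAlgOfEq A h).injective
      rw [_root_.map_zero]
      exact hx
    · intro hx
      show (Ideal.quotientEquivAlgOfEq A h) (eval 𝔪 A n x) = 0
      rw [hx, _root_.map_zero]
  · rw [← pow_smul_top_eq_ker_eval fg, Ideal.smul_top_eq_map]
    rfl

/-- In a Noetherian ring, ideals are closed for the `K`-adic topology when `K` lies in the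
Jacobson radical. -/
lemma mem_of_forall_mem_sup_pow {R : Type*} [CommRing R] [IsNoetherianRing R] (J K : Ideal R)
    (hK : K ≤ Ideal.jacobson ⊥) (x : R) (hx : ∀ n : ℕ, x ∈ J ⊔ K ^ n) : x ∈ J := by
  have h1 := Ideal.iInf_pow_smul_eq_bot_of_le_jacobson (M := R ⧸ J) K hK
  have h2 : (Ideal.Quotient.mk J x) ∈ (⨅ i : ℕ, K ^ i • ⊤ : Submodule R (R ⧸ J)) := by
    rw [Submodule.mem_iInf]
    intro n
    obtain ⟨j, hj, k, hk, rfl⟩ := Submodule.mem_sup.mp (hx n)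
    rw [map_add, Ideal.Quotient.eq_zero_iff_mem.mpr hj, zero_add]
    have h3 : Ideal.Quotient.mk J k = k • (1 : R ⧸ J) := by
      rw [Algebra.smul_def, mul_one]
      rfl
    rw [h3]
    exact Submodule.smul_mem_smul hk Submodule.mem_top
  rw [h1, Submodule.mem_bot] at h2
  exact Ideal.Quotient.eq_zero_iff_mem.mp h2

variable [IsNoetherianRing A]

theorem ker_φ : RingHom.ker (φ 𝔪 I) = I.map (algebraMap A (AdicCompletion 𝔪 A)) := by
  have fg : 𝔪.FG := IsNoetherian.noetherian 𝔪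
  haveI : IsNoetherianRing (AdicCompletion 𝔪 A) :=
    Groth.Agent.S19474.isNoetherianRing_adicCompletion A 𝔪
  haveI : IsAdicComplete (𝔪.map (algebraMap A (AdicCompletion 𝔪 A))) (AdicCompletion 𝔪 A) :=
    AdicCompletion.isAdicComplete_self 𝔪 fg
  apply le_antisymm
  · intro x hx
    apply mem_of_forall_mem_sup_pow _ (𝔪.map (algebraMap A (AdicCompletion 𝔪 A)))
      (IsAdicComplete.le_jacobson_bot _) x
    intro n
    obtain ⟨a, ha⟩ := Ideal.Quotient.mk_surjective (evalₐ 𝔪 n x)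
    have h1 : evalₐ (nn 𝔪 I) n (φ 𝔪 I x) = 0 := by
      rw [RingHom.mem_ker.mp hx, _root_.map_zero]
    rw [evalₐ_φ, ← ha, g_mk, Ideal.Quotient.eq_zero_iff_mem, ← Ideal.map_pow,
      Ideal.mem_map_iff_of_surjective _ Ideal.Quotient.mk_surjective] at h1
    obtain ⟨c, hc, hc2⟩ := h1
    have hi : a - c ∈ I := by
      rw [← Ideal.Quotient.eq_zero_iff_mem, map_sub, hc2, sub_self]
    have h2 : x - algebraMap A (AdicCompletion 𝔪 A) (a - c) ∈
        (𝔪 ^ n).map (algebraMap A (AdicCompletion 𝔪 A)) := by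
      rw [← ker_evalₐ 𝔪 fg n, RingHom.mem_ker]
      show evalₐ 𝔪 n (x - algebraMap A (AdicCompletion 𝔪 A) (a - c)) = 0
      rw [map_sub, AdicCompletion.algebraMap_apply, evalₐ_of, ← ha, ← map_sub,
        Ideal.Quotient.eq_zero_iff_mem]
      simpa using hc
    rw [Ideal.map_pow] at h2
    have h3 : x = algebraMap A (AdicCompletion 𝔪 A) (a - c) +
        (x - algebraMap A (AdicCompletion 𝔪 A) (a - c)) := by ring
    rw [h3]
    exact Submodule.add_mem_sup (Ideal.mem_map_of_mem _ hi) h2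
  · rw [Ideal.map_le_iff_le_comap]
    intro a ha
    rw [Ideal.mem_comap, RingHom.mem_ker, φ_algebraMap, Ideal.Quotient.eq_zero_iff_mem.mpr ha,
      _root_.map_zero]

/-- `Â / I Â ≃ (A/I)^`. -/
noncomputable def equiv :
    (AdicCompletion 𝔪 A ⧸ I.map (algebraMap A (AdicCompletion 𝔪 A))) ≃+*
      AdicCompletion (nn 𝔪 I) (A ⧸ I) :=
  (Ideal.quotEquivOfEq (ker_φ 𝔪 I).symm).trans
    (RingHom.quotientKerEquivOfSurjective (φ_surjective 𝔪 I))

lemma equiv_mk (x : AdicCompletion 𝔪 A) : equiv 𝔪 I (Ideal.Quotient.mk _ x) = φ 𝔪 I x := by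
  unfold equiv
  rw [RingEquiv.trans_apply, Ideal.quotEquivOfEq_mk]
  rfl

lemma equiv_mk_algebraMap (a : A) :
    equiv 𝔪 I (Ideal.Quotient.mk _ (algebraMap A (AdicCompletion 𝔪 A) a)) =
      algebraMap (A ⧸ I) (AdicCompletion (nn 𝔪 I) (A ⧸ I)) (Ideal.Quotient.mk I a) := by
  rw [equiv_mk, φ_algebraMap]

end Groth.Agent.Helper1.CplQuot
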