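import Mathlib
import Groth.Prelude
import Groth.Agent.Helper1.CplSurj
import Groth.Agent.Lib.Helper12.ComplIso

/-!
# Completion of `(B ⊗_A Â)_{n'}` (helper1)

For a local homomorphism `A → B` of Noetherian local rings and a prime `n'` of `B' = B ⊗_A Â` lying
over the maximal ideal of `B`, the completions of `B` and of `B'_{n'}` are isomorphic.
-/

set_option autoImplicit false
set_option linter.style.haveILetI false

namespace Groth.Agent.Helper1.CplTensor

open IsLocalRing TensorProduct

universe u

variable (A B : Type u) [CommRing A] [CommRing B] [IsNoetherianRing A]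
  [IsLocalRing A] [IsLocalRing B] [Algebra A B] [IsLocalHom (algebraMap A B)]

local notation "Â" => AdicCompletion (maximalIdeal A) A
local notation "B'" => B ⊗[A] AdicCompletion (maximalIdeal A) A

/-- Every element of `Â` is congruent to an element of `A` modulo `𝔪 Â`. -/
lemma exists_sub_mem (z : Â) : ∃ a : A, z - algebraMap A Â a ∈
    (maximalIdeal A) • (⊤ : Submodule A Â) := by
  have hfg : (maximalIdeal A).FG := IsNoetherian.noetherian _
  obtain ⟨a, ha⟩ := Ideal.Quotient.mk_surjective (AdicCompletion.evalₐ (maximalIdeal A) 1 z)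
  refine ⟨a, ?_⟩
  have h0 : AdicCompletion.evalₐ (maximalIdeal A) 1 (z - algebraMap A Â a) = 0 := by
    rw [map_sub, AlgHom.commutes, ← ha, Ideal.Quotient.algebraMap_eq, sub_self]
  have := Groth.Agent.Helper12.ComplIso.mem_smul_top_of_evalₐ_eq_zero A hfg 1 _ h0
  rwa [pow_one] at this

/-- `b ⊗ z` lies in `𝔪_B B'` for `z ∈ 𝔪_A Â`. -/
lemma tmul_mem (z : Â) (hz : z ∈ (maximalIdeal A) • (⊤ : Submodule A Â)) (b : B) :
    (b ⊗ₜ[A] z : B') ∈ (maximalIdeal B).map (algebraMap B B') := by
  revert b
  refine Submodule.smul_induction_on hz ?_ ?_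
  · intro c hc w _ b
    have h1 : (b ⊗ₜ[A] (c • w) : B') = algebraMap B B' (algebraMap A B c) * (b ⊗ₜ[A] w) := by
      rw [Algebra.TensorProduct.algebraMap_apply, Algebra.TensorProduct.tmul_mul_tmul, one_mul,
        TensorProduct.tmul_smul, TensorProduct.smul_tmul', Algebra.smul_def]
      simp
    rw [h1]
    refine Ideal.mul_mem_right _ _ (Ideal.mem_map_of_mem _ ?_)
    exact map_nonunit (algebraMap A B) c hc
  · intro z1 z2 h1 h2 b
    rw [TensorProduct.tmul_add]
    exact add_mem (h1 b) (h2 b)

/-- Every element of `B'` is congruent to an element of `B` modulo `𝔪_B B'`. -/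
lemma exists_sub_mem' (x : B') : ∃ b : B, x - algebraMap B B' b ∈
    (maximalIdeal B).map (algebraMap B B') := by
  induction x using TensorProduct.induction_on with
  | zero => exact ⟨0, by simp⟩
  | tmul b z =>
    obtain ⟨a, ha⟩ := exists_sub_mem A z
    refine ⟨a • b, ?_⟩
    have h1 : (b ⊗ₜ[A] z : B') - algebraMap B B' (a • b) =
        b ⊗ₜ[A] (z - algebraMap A Â a) := by
      rw [TensorProduct.tmul_sub, Algebra.TensorProduct.algebraMap_apply, Algebra.algebraMap_eq_smul_one a,
        TensorProduct.tmul_smul, TensorProduct.smul_tmul']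
      simp
    rw [h1]
    exact tmul_mem A B _ ha b
  | add x y hx hy =>
    obtain ⟨b1, h1⟩ := hx
    obtain ⟨b2, h2⟩ := hy
    refine ⟨b1 + b2, ?_⟩
    have : x + y - algebraMap B B' (b1 + b2) =
        (x - algebraMap B B' b1) + (y - algebraMap B B' b2) := by
      rw [map_add]; ring
    rw [this]
    exact add_mem h1 h2

variable (n' : Ideal (B ⊗[A] AdicCompletion (maximalIdeal A) A)) [n'.IsPrime]
  (h1 : n'.comap (algebraMap B (B ⊗[A] AdicCompletion (maximalIdeal A) A)) = maximalIdeal B)
include h1

lemma map_le : (maximalIdeal B).map (algebraMap B B') ≤ n' := by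
  rw [Ideal.map_le_iff_le_comap, h1]

lemma map_eq : (maximalIdeal B).map (algebraMap B B') = n' := by
  refine le_antisymm (map_le A B n' h1) ?_
  intro x hx
  obtain ⟨b, hb⟩ := exists_sub_mem' A B x
  have h2 : algebraMap B B' b ∈ n' := by
    have := sub_mem hx (map_le A B n' h1 hb)
    simpa using this
  have h3 : b ∈ maximalIdeal B := by
    rw [← h1]; exact h2
  have : x = (x - algebraMap B B' b) + algebraMap B B' b := by ring
  rw [this]
  exact add_mem hb (Ideal.mem_map_of_mem _ h3)

variable (L : Type u) [CommRing L] [Algebra (B ⊗[A] AdicCompletion (maximalIdeal A) A) L]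
  [IsLocalization.AtPrime L n'] [Algebra B L]
  [IsScalarTower B (B ⊗[A] AdicCompletion (maximalIdeal A) A) L]

lemma isLocalRing : IsLocalRing L := IsLocalization.AtPrime.isLocalRing L n'

lemma isLocalHom [IsLocalRing L] : IsLocalHom (algebraMap B L) := by
  refine ⟨fun b hb => ?_⟩
  by_contra hnu
  have hbm : b ∈ maximalIdeal B := hnu
  have h2 : algebraMap B B' b ∈ n' := by
    rw [← h1] at hbm; exact hbm
  have h3 : algebraMap B' L (algebraMap B B' b) ∈ maximalIdeal L :=
    (IsLocalization.AtPrime.to_map_mem_maximal_iff L n' _).mpr h2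
  rw [← IsScalarTower.algebraMap_apply] at h3
  exact h3 hb

lemma map_eq_maximalIdeal [IsLocalRing L] :
    (maximalIdeal B).map (algebraMap B L) = maximalIdeal L := by
  rw [IsScalarTower.algebraMap_eq B B' L, ← Ideal.map_map, map_eq A B n' h1]
  exact IsLocalization.AtPrime.map_eq_maximalIdeal n' L

lemma residue_bijective [IsLocalRing L] [IsLocalHom (algebraMap B L)] :
    Function.Bijective (ResidueField.map (algebraMap B L)) := by
  refine ⟨RingHom.injective _, ?_⟩
  intro y
  obtain ⟨l, rfl⟩ := residue_surjective y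
  obtain ⟨x, s, rfl⟩ := IsLocalization.exists_mk'_eq n'.primeCompl l
  obtain ⟨b, hb⟩ := exists_sub_mem' A B x
  obtain ⟨c, hc⟩ := exists_sub_mem' A B (s : B')
  have hcu : IsUnit c := by
    by_contra hnu
    have hcm : c ∈ maximalIdeal B := hnu
    have h2 : algebraMap B B' c ∈ n' := by
      rw [← h1] at hcm; exact hcm
    have h3 : (s : B') ∈ n' := by
      have := add_mem (map_le A B n' h1 hc) h2
      simpa using this
    exact s.2 h3
  obtain ⟨u, rfl⟩ := hcu
  refine ⟨residue B (b * ((u⁻¹ : Bˣ) : B)), ?_⟩
  rw [ResidueField.map_residue]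
  -- work in the residue field
  have hx : residue L (algebraMap B' L x) = residue L (algebraMap B L b) := by
    rw [← sub_eq_zero, ← map_sub, residue_eq_zero_iff, IsScalarTower.algebraMap_apply B B' L,
      ← map_sub]
    exact (IsLocalization.AtPrime.to_map_mem_maximal_iff L n' _).mpr (map_le A B n' h1 hb)
  have hs : residue L (algebraMap B' L (s : B')) = residue L (algebraMap B L (u : B)) := by
    rw [← sub_eq_zero, ← map_sub, residue_eq_zero_iff, IsScalarTower.algebraMap_apply B B' L,
      ← map_sub]
    exact (IsLocalization.AtPrime.to_map_mem_maximal_iff L n' _).mpr (map_le A B n' h1 hc)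
  have hne : residue L (algebraMap B L (u : B)) ≠ 0 := by
    rw [Ne, residue_eq_zero_iff]
    intro hmem
    exact hmem ((u.isUnit.map (algebraMap B L)))
  have hmul : residue L (IsLocalization.mk' L x s) * residue L (algebraMap B' L (s : B')) =
      residue L (algebraMap B' L x) := by
    rw [← map_mul, IsLocalization.mk'_spec]
  apply mul_right_cancel₀ hne
  rw [← hs, hmul, hx, hs, ← map_mul, ← map_mul, mul_assoc, Units.inv_mul, mul_one]

omit h1 [IsLocalization.AtPrime L n'] [IsScalarTower B (B ⊗[A] AdicCompletion (maximalIdeal A) A) L] in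
lemma exists_ψ (J : Ideal L) (hJ : (maximalIdeal B).map (algebraMap B L) = J) :
    ∃ ψ : AdicCompletion (maximalIdeal B) B →+* AdicCompletion J L,
      ψ.comp (algebraMap B (AdicCompletion (maximalIdeal B) B)) =
        (algebraMap L (AdicCompletion J L)).comp (algebraMap B L) := by
  subst hJ
  exact ⟨CplSurj.φ _ (algebraMap B L), RingHom.ext fun b => CplSurj.φ_algebraMap _ _ b⟩

theorem main [IsNoetherianRing B] [IsLocalRing L] :
    Nonempty (AdicCompletion (maximalIdeal B) B ≃+* AdicCompletion (maximalIdeal L) L) := by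
  haveI := isLocalHom A B n' h1 L
  have hm := map_eq_maximalIdeal A B n' h1 L
  have hk := residue_bijective A B n' h1 L
  obtain ⟨ψ, hψ⟩ := exists_ψ B L _ hm
  haveI : Module.Flat B B' := inferInstance
  haveI : Module.Flat B' L := IsLocalization.flat L n'.primeCompl
  haveI : Module.Flat B L := Module.Flat.trans B B' L
  exact ⟨RingEquiv.ofBijective ψ (Groth.Agent.Helper12.ComplIso.main B L hm hk ψ hψ)⟩

end Groth.Agent.Helper1.CplTensor
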