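import Mathlib
import Groth.Prelude
import Groth.Agent.Helper1.CharSeq
import Groth.Agent.Helper1.DeltaSeq

/-!
# The rank identity `d(M/K, k/k₀) = d(M/L, k/k₀) + d(L/K, k/k₀)` (helper1)
-/

set_option autoImplicit false
set_option linter.style.haveILetI false
set_option linter.unusedSectionVars false

namespace Groth.Agent.Helper1.DeltaSeq2

open TensorProduct KaehlerDifferential Groth.Agent.Helper1.CharSeq Groth.Agent.Helper1.DeltaSeq

universe u u' w

section General

variable {k₀ : Type u} {k : Type u'} {K L M : Type w}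
    [CommRing k₀] [CommRing k] [CommRing K] [CommRing L] [CommRing M] [Algebra k₀ k]
    [Algebra k₀ K] [Algebra k K] [IsScalarTower k₀ k K] [Algebra k₀ L] [Algebra k L]
    [IsScalarTower k₀ k L]
    [Algebra K L] [Algebra K M] [Algebra L M] [IsScalarTower K L M]
    [Algebra k₀ M] [Algebra k M] [IsScalarTower k₀ K L] [IsScalarTower k K L]
    [IsScalarTower k₀ K M] [IsScalarTower k K M] [IsScalarTower k₀ L M] [IsScalarTower k L M]
    [IsScalarTower k₀ k M]

/-- compatibility of `imgB` with the projections `Ω_{·/k₀} → Ω_{·/k}` -/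
lemma pr_imgB (x : M ⊗[K] Ω[K⁄k₀]) :
    (KaehlerDifferential.map k₀ k L L).baseChange M (imgB k₀ K L M x) =
      imgB k K L M ((KaehlerDifferential.map k₀ k K K).baseChange M x) := by
  refine tensor_kaehler_induction (motive := fun x =>
    (KaehlerDifferential.map k₀ k L L).baseChange M (imgB k₀ K L M x) =
      imgB k K L M ((KaehlerDifferential.map k₀ k K K).baseChange M x)) ?_ ?_ ?_ x
  · rw [map_zero, map_zero, map_zero, map_zero]
  · intro x y hx hy
    rw [map_add, map_add, map_add, map_add, hx, hy]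
  · intro m κ
    rw [imgB_tmul, map_D, LinearMap.baseChange_tmul, map_D, LinearMap.baseChange_tmul, map_D,
      imgB_tmul, map_D]
    rfl

lemma imgB_psi (t : M ⊗[k] Ω[k⁄k₀]) :
    imgB k₀ K L M (psi k₀ M t) = imgB k₀ k L M t := by
  refine tensor_kaehler_induction (motive := fun t =>
    imgB k₀ K L M (psi k₀ M t) = imgB k₀ k L M t) ?_ ?_ ?_ t
  · rw [map_zero, map_zero, map_zero]
  · intro x y hx hy
    rw [map_add, map_add, map_add, hx, hy]
  · intro m κ
    rw [psi_tmul, map_D, imgB_tmul, map_D, imgB_tmul, map_D, ← IsScalarTower.algebraMap_apply]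

lemma hmaps (x : M ⊗[K] Ω[K⁄k₀])
    (hx : x ∈ EGA41.imperfection k₀ K M ⊓
      LinearMap.ker ((KaehlerDifferential.map k₀ k K K).baseChange M)) :
    imgB k₀ K L M x ∈ EGA41.imperfection k₀ L M ⊓
      LinearMap.ker ((KaehlerDifferential.map k₀ k L L).baseChange M) := by
  rw [Submodule.mem_inf] at hx ⊢
  refine ⟨?_, ?_⟩
  · show _ ∈ LinearMap.ker _
    rw [LinearMap.mem_ker, mapBaseChange_imgB]
    exact LinearMap.mem_ker.mp hx.1
  · rw [LinearMap.mem_ker, pr_imgB, LinearMap.mem_ker.mp hx.2, map_zero]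

lemma hsurj (y : M ⊗[L] Ω[L⁄k₀])
    (hy : y ∈ EGA41.imperfection k₀ L M ⊓
      LinearMap.ker ((KaehlerDifferential.map k₀ k L L).baseChange M)) :
    ∃ x ∈ EGA41.imperfection k₀ K M ⊓
      LinearMap.ker ((KaehlerDifferential.map k₀ k K K).baseChange M), imgB k₀ K L M x = y := by
  rw [Submodule.mem_inf] at hy
  have hex : Function.Exact ((mapBaseChange k₀ k L).baseChange M)
      ((KaehlerDifferential.map k₀ k L L).baseChange M) :=
    lTensor_exact M (exact_mapBaseChange_map k₀ k L) (KaehlerDifferential.map_surjective k₀ k L)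
  obtain ⟨t', ht'⟩ := (hex y).mp (LinearMap.mem_ker.mp hy.2)
  have h1 : imgB k₀ k L M (AlgebraTensorModule.cancelBaseChange k L M M Ω[k⁄k₀] t') = y := by
    rw [imgB, LinearMap.comp_apply, LinearEquiv.coe_coe, LinearEquiv.symm_apply_apply, ht']
  refine ⟨psi k₀ M (AlgebraTensorModule.cancelBaseChange k L M M Ω[k⁄k₀] t'), ?_, ?_⟩
  · rw [Submodule.mem_inf]
    refine ⟨?_, ?_⟩
    · show _ ∈ LinearMap.ker _
      rw [LinearMap.mem_ker, ← mapBaseChange_imgB (B := L), imgB_psi, h1]
      exact LinearMap.mem_ker.mp hy.1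
    · rw [LinearMap.mem_ker, f_tau]
  · rw [imgB_psi, h1]

end General

section Fields

variable {k₀ : Type u} {k : Type u'} {K L M : Type w}
    [Field k₀] [Field k] [Field K] [Field L] [Field M] [Algebra k₀ k]
    [Algebra k₀ K] [Algebra k K] [IsScalarTower k₀ k K] [Algebra k₀ L] [Algebra k L]
    [IsScalarTower k₀ k L]
    [Algebra K L] [Algebra K M] [Algebra L M] [IsScalarTower K L M]
    [Algebra k₀ M] [Algebra k M] [IsScalarTower k₀ K L] [IsScalarTower k K L]
    [IsScalarTower k₀ K M] [IsScalarTower k K M] [IsScalarTower k₀ L M] [IsScalarTower k L M]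
    [IsScalarTower k₀ k M]

lemma prod_decomp {R P Q : Type*} [CommRing R] [AddCommGroup P] [Module R P] [AddCommGroup Q]
    [Module R Q] :
    (LinearMap.inl R P Q).comp (LinearMap.fst R P Q) +
      (LinearMap.inr R P Q).comp (LinearMap.snd R P Q) = LinearMap.id := by
  ext x <;> simp

lemma lTensor_prod_eq_zero_iff {R N P Q T : Type*} [CommRing R] [AddCommGroup N] [Module R N]
    [AddCommGroup P] [Module R P] [AddCommGroup Q] [Module R Q] [AddCommGroup T] [Module R T]
    (f : N →ₗ[R] P) (g : N →ₗ[R] Q) (ξ : T ⊗[R] N) :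
    (f.prod g).lTensor T ξ = 0 ↔ f.lTensor T ξ = 0 ∧ g.lTensor T ξ = 0 := by
  constructor
  · intro h
    refine ⟨?_, ?_⟩
    · have h1 := congrArg ((LinearMap.fst R P Q).lTensor T) h
      rwa [← LinearMap.lTensor_comp_apply, LinearMap.fst_prod, map_zero] at h1
    · have h1 := congrArg ((LinearMap.snd R P Q).lTensor T) h
      rwa [← LinearMap.lTensor_comp_apply, LinearMap.snd_prod, map_zero] at h1
  · rintro ⟨h1, h2⟩
    have h3 : (f.prod g).lTensor T ξ =
        (LinearMap.id : P × Q →ₗ[R] P × Q).lTensor T ((f.prod g).lTensor T ξ) := by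
      rw [LinearMap.lTensor_id, LinearMap.id_apply]
    rw [h3, ← prod_decomp, LinearMap.lTensor_add, LinearMap.add_apply,
      ← LinearMap.lTensor_comp_apply, ← LinearMap.lTensor_comp_apply, LinearMap.comp_assoc,
      LinearMap.comp_assoc, LinearMap.fst_prod, LinearMap.snd_prod, LinearMap.lTensor_comp_apply,
      LinearMap.lTensor_comp_apply, h1, h2, map_zero, map_zero, add_zero]

lemma rank_D3 :
    Module.rank M ↥((EGA41.imperfection k₀ K M ⊓
          LinearMap.ker ((KaehlerDifferential.map k₀ k K K).baseChange M)) ⊓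
        LinearMap.ker (imgB k₀ K L M)) =
      Module.rank L ↥(EGA41.imperfection k₀ K L ⊓
          LinearMap.ker ((KaehlerDifferential.map k₀ k K K).baseChange L)) := by
  have hΔ : EGA41.imperfection k₀ K L ⊓
      LinearMap.ker ((KaehlerDifferential.map k₀ k K K).baseChange L) =
      LinearMap.ker ((mapBaseChange k₀ K L).prod
        ((KaehlerDifferential.map k₀ k K K).baseChange L)) :=
    (LinearMap.ker_prod _ _).symm
  rw [hΔ]
  have hmem : ∀ ξ : M ⊗[L] (L ⊗[K] Ω[K⁄k₀]),
      ξ ∈ LinearMap.ker (AlgebraTensorModule.lTensor M M ((mapBaseChange k₀ K L).prod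
        ((KaehlerDifferential.map k₀ k K K).baseChange L))) ↔
      ((mapBaseChange k₀ K L).baseChange M ξ = 0 ∧
        ((KaehlerDifferential.map k₀ k K K).baseChange L).baseChange M ξ = 0) := by
    intro ξ
    rw [LinearMap.mem_ker]
    exact lTensor_prod_eq_zero_iff _ _ ξ
  have ha : ∀ ξ : M ⊗[L] (L ⊗[K] Ω[K⁄k₀]),
      imgB k₀ K L M (AlgebraTensorModule.cancelBaseChange K L M M Ω[K⁄k₀] ξ) =
        (mapBaseChange k₀ K L).baseChange M ξ := by
    intro ξ
    rw [imgB, LinearMap.comp_apply, LinearEquiv.coe_coe, LinearEquiv.symm_apply_apply]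
  have hpr : ∀ ξ : M ⊗[L] (L ⊗[K] Ω[K⁄k₀]),
      (KaehlerDifferential.map k₀ k K K).baseChange M
          (AlgebraTensorModule.cancelBaseChange K L M M Ω[K⁄k₀] ξ) =
        AlgebraTensorModule.cancelBaseChange K L M M Ω[K⁄k]
          (((KaehlerDifferential.map k₀ k K K).baseChange L).baseChange M ξ) := fun ξ =>
    LinearMap.congr_fun (AlgebraTensorModule.lTensor_comp_cancelBaseChange
      (R := K) (A := L) (B := M) (M := M) (KaehlerDifferential.map k₀ k K K)) ξ
  have hφ : ∀ ξ ∈ LinearMap.ker (AlgebraTensorModule.lTensor M M ((mapBaseChange k₀ K L).prod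
        ((KaehlerDifferential.map k₀ k K K).baseChange L))),
      (AlgebraTensorModule.cancelBaseChange K L M M Ω[K⁄k₀]).toLinearMap ξ ∈
        (EGA41.imperfection k₀ K M ⊓
          LinearMap.ker ((KaehlerDifferential.map k₀ k K K).baseChange M)) ⊓
        LinearMap.ker (imgB k₀ K L M) := by
    intro ξ hξ
    obtain ⟨h1, h2⟩ := (hmem ξ).mp hξ
    rw [LinearEquiv.coe_coe]
    refine Submodule.mem_inf.mpr ⟨Submodule.mem_inf.mpr ⟨?_, ?_⟩, ?_⟩
    · show _ ∈ LinearMap.ker _
      rw [LinearMap.mem_ker, ← mapBaseChange_imgB (B := L), ha, h1, map_zero]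
    · rw [LinearMap.mem_ker, hpr, h2, map_zero]
    · rw [LinearMap.mem_ker, ha, h1]
  let φ := (AlgebraTensorModule.cancelBaseChange K L M M Ω[K⁄k₀]).toLinearMap.restrict hφ
  have hφi : Function.Injective φ := by
    intro ξ ξ' h
    apply Subtype.ext
    exact (AlgebraTensorModule.cancelBaseChange K L M M Ω[K⁄k₀]).injective
      (congrArg Subtype.val h)
  have hφs : Function.Surjective φ := by
    rintro ⟨x, hx⟩
    have hx1 := Submodule.mem_inf.mp hx
    have hx2 := Submodule.mem_inf.mp hx1.1
    have hmk : (AlgebraTensorModule.cancelBaseChange K L M M Ω[K⁄k₀]).symm x ∈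
        LinearMap.ker (AlgebraTensorModule.lTensor M M ((mapBaseChange k₀ K L).prod
          ((KaehlerDifferential.map k₀ k K K).baseChange L))) := by
      rw [hmem]
      refine ⟨?_, ?_⟩
      · rw [← ha, LinearEquiv.apply_symm_apply]
        exact LinearMap.mem_ker.mp hx1.2
      · apply (AlgebraTensorModule.cancelBaseChange K L M M Ω[K⁄k]).injective
        rw [← hpr, LinearEquiv.apply_symm_apply, map_zero]
        exact LinearMap.mem_ker.mp hx2.2
    refine ⟨⟨_, hmk⟩, Subtype.ext ?_⟩
    exact (AlgebraTensorModule.cancelBaseChange K L M M Ω[K⁄k₀]).apply_symm_apply x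
  haveI : Module.Free L ↥(LinearMap.ker ((mapBaseChange k₀ K L).prod
      ((KaehlerDifferential.map k₀ k K K).baseChange L))) :=
    Module.Free.of_divisionRing L ↥(LinearMap.ker ((mapBaseChange k₀ K L).prod
      ((KaehlerDifferential.map k₀ k K K).baseChange L)))
  rw [← (LinearEquiv.ofBijective φ ⟨hφi, hφs⟩).rank_eq,
    ← (LinearMap.tensorKerEquiv M M ((mapBaseChange k₀ K L).prod
        ((KaehlerDifferential.map k₀ k K K).baseChange L))).rank_eq,
    Module.rank_baseChange, Cardinal.lift_id]

theorem main' :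
    Module.rank M ↥(EGA41.imperfection k₀ K M ⊓
          LinearMap.ker ((KaehlerDifferential.map k₀ k K K).baseChange M)) =
      Module.rank M ↥(EGA41.imperfection k₀ L M ⊓
            LinearMap.ker ((KaehlerDifferential.map k₀ k L L).baseChange M)) +
        Module.rank L ↥(EGA41.imperfection k₀ K L ⊓
            LinearMap.ker ((KaehlerDifferential.map k₀ k K K).baseChange L)) := by
  rw [← rank_D3 (L := L) (M := M)]
  exact rank_of_restrict (imgB k₀ K L M) _ _ _ (hmaps (k := k)) (hsurj (k := k)) rfl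

end Fields

theorem main {k₀ : Type u} {k : Type u'} {K L M : Type w}
    [Field k₀] [Field k] [Field K] [Field L] [Field M] [Algebra k₀ k]
    [Algebra k₀ K] [Algebra k K] [IsScalarTower k₀ k K] [Algebra k₀ L] [Algebra k L]
    [IsScalarTower k₀ k L]
    [Algebra K L] [Algebra K M] [Algebra L M] [IsScalarTower K L M]
    [Algebra k₀ M] [Algebra k M] [IsScalarTower k₀ K L] [IsScalarTower k K L]
    [IsScalarTower k₀ K M] [IsScalarTower k K M] [IsScalarTower k₀ L M] [IsScalarTower k L M] :
    Module.rank M ↥(EGA41.imperfection k₀ K M ⊓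
          LinearMap.ker ((KaehlerDifferential.map k₀ k K K).baseChange M)) =
      Module.rank M ↥(EGA41.imperfection k₀ L M ⊓
            LinearMap.ker ((KaehlerDifferential.map k₀ k L L).baseChange M)) +
        Module.rank L ↥(EGA41.imperfection k₀ K L ⊓
            LinearMap.ker ((KaehlerDifferential.map k₀ k K K).baseChange L)) := by
  haveI : IsScalarTower k₀ k M := IsScalarTower.of_algebraMap_eq (fun x => by
    rw [IsScalarTower.algebraMap_apply k₀ L M, IsScalarTower.algebraMap_apply k₀ k L,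
      ← IsScalarTower.algebraMap_apply k L M])
  exact main'

end Groth.Agent.Helper1.DeltaSeq2
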