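import Mathlib
import Groth.Prelude.Def_CAlg
import Groth.Agent.H29.DepthLib
import Groth.Agent.H29.DepthLocal

namespace Groth.Agent.Helper1.DepthTwo

open IsLocalRing RingTheory.Sequence
open scoped Pointwise

universe u

theorem local_ass {A : Type u} [CommRing A] [IsLocalRing A] [IsNoetherianRing A]
    {M' N' : Type u} [AddCommGroup M']
    [Module A M'] [AddCommGroup N'] [Module A N'] (φ' : M' →ₗ[A] N')
    (hinj : Function.Injective φ') (a b : A) (ha : IsSMulRegular M' a)
    (hb : ∀ m₁ : M', b • m₁ ∈ (a • (⊤ : Submodule A M')) → m₁ ∈ (a • (⊤ : Submodule A M')))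
    (z' : N') (hz : z' ∉ LinearMap.range φ')
    (hmz : ∀ c ∈ maximalIdeal A, c • z' ∈ LinearMap.range φ')
    (ham : a ∈ maximalIdeal A) (hbm : b ∈ maximalIdeal A) :
    maximalIdeal A ∈ associatedPrimes A N' := by
  obtain ⟨m₁, hm₁⟩ := hmz a ham
  obtain ⟨m₂, hm₂⟩ := hmz b hbm
  have h1 : b • m₁ = a • m₂ := by
    apply hinj
    rw [map_smul, map_smul, hm₁, hm₂, smul_comm]
  have h2 : m₁ ∈ (a • (⊤ : Submodule A M')) :=
    hb m₁ (by rw [h1]; exact Submodule.smul_mem_pointwise_smul _ _ _ Submodule.mem_top)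
  obtain ⟨m', -, hm'⟩ := (Submodule.mem_smul_pointwise_iff_exists _ _ _).mp h2
  obtain ⟨y', hy'⟩ : ∃ y', y' = z' - φ' m' := ⟨_, rfl⟩
  have hay : a • y' = 0 := by rw [hy', smul_sub, ← map_smul, hm', hm₁, sub_self]
  have hyr : y' ∉ LinearMap.range φ' := by
    rintro ⟨w, hw⟩
    exact hz ⟨w + m', by rw [map_add, hw, hy']; abel⟩
  have hy0 : y' ≠ 0 := fun h => hyr (h ▸ zero_mem _)
  have hcy : ∀ c ∈ maximalIdeal A, c • y' = 0 := by
    intro c hc
    obtain ⟨w, hw⟩ := hmz c hc
    have h3 : c • y' = φ' (w - c • m') := by rw [hy', smul_sub, map_sub, hw, map_smul]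
    have h4 : a • (w - c • m') = 0 := by
      apply hinj
      rw [map_smul, ← h3, smul_comm, hay, smul_zero, map_zero]
    have h5 : w - c • m' = 0 := ha (by simp only [h4, smul_zero])
    rw [h3, h5, map_zero]
  change IsAssociatedPrime _ _
  rw [isAssociatedPrime_iff]
  refine ⟨(maximalIdeal.isMaximal A).isPrime, y', ?_⟩
  ext c
  rw [Submodule.mem_colon_singleton, Submodule.mem_bot]
  constructor
  · exact hcy c
  · intro h
    by_contra hc
    have hu : IsUnit c := notMem_maximalIdeal.mp hc
    exact hy0 (hu.smul_eq_zero.mp h)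

theorem exists_reg_pair {A : Type u} [CommRing A] [IsLocalRing A] [IsNoetherianRing A]
    (M' : Type u) [AddCommGroup M'] [Module A M'] [Module.Finite A M']
    (h2 : 2 ≤ LocCoh.depth A M') :
    ∃ a b : A, a ∈ maximalIdeal A ∧ b ∈ maximalIdeal A ∧ IsSMulRegular M' a ∧
      ∀ m₁ : M', b • m₁ ∈ (a • (⊤ : Submodule A M')) → m₁ ∈ (a • (⊤ : Submodule A M')) := by
  by_cases htop : maximalIdeal A • (⊤ : Submodule A M') = ⊤
  · have hsub : Subsingleton M' := by
      have h0 := Submodule.eq_bot_of_le_smul_of_le_jacobson_bot (maximalIdeal A)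
        (⊤ : Submodule A M') Module.Finite.fg_top htop.ge (maximalIdeal_le_jacobson ⊥)
      have : Subsingleton (Submodule A M') := subsingleton_of_bot_eq_top h0.symm
      exact (Submodule.subsingleton_iff A).mp this
    refine ⟨0, 0, zero_mem _, zero_mem _, fun x y _ => Subsingleton.elim x y, fun m₁ _ => ?_⟩
    rw [Subsingleton.elim m₁ 0]; exact zero_mem _
  · have h2' : ((2 : ℕ) : ℕ∞) ≤ LocCoh.idealDepth (maximalIdeal A) M' := by
      unfold LocCoh.depth at h2; exact_mod_cast h2
    obtain ⟨rs, hlen, hreg, hmem⟩ :=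
      (Groth.Agent.H29.le_idealDepth_iff (maximalIdeal A) M' htop 2).mp h2'
    match rs, hlen, hreg, hmem with
    | [a, b], _, hreg, hmem =>
      rw [isWeaklyRegular_cons_iff] at hreg
      obtain ⟨ha, hreg'⟩ := hreg
      rw [isWeaklyRegular_cons_iff] at hreg'
      have hb := hreg'.1
      refine ⟨a, b, hmem a (by simp), hmem b (by simp), ha, fun m₁ hm₁ => ?_⟩
      have h3 : b • (Submodule.Quotient.mk m₁ : QuotSMulTop a M') = b • 0 := by
        rw [smul_zero, ← Submodule.Quotient.mk_smul, Submodule.Quotient.mk_eq_zero]; exact hm₁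
      exact (Submodule.Quotient.mk_eq_zero _).mp (hb h3)

theorem main {R M N : Type u} [CommRing R] [IsNoetherianRing R] [AddCommGroup M]
    [Module R M] [Module.Finite R M] [AddCommGroup N] [Module R N] (φ : M →ₗ[R] N)
    (h : ∀ (p : Ideal R) [p.IsPrime],
      Function.Bijective (LocalizedModule.map p.primeCompl φ) ∨
        (2 ≤ LocCoh.depth (Localization.AtPrime p) (LocalizedModule p.primeCompl M) ∧
          p ∉ associatedPrimes R N)) :
    Function.Bijective φ := by
  have hinj : Function.Injective φ := by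
    rw [injective_iff_map_eq_zero]
    intro x hx
    by_contra hx0
    obtain ⟨P, hP, hle⟩ := exists_le_isAssociatedPrime_of_isNoetherianRing R x hx0
    have hPp := hP.isPrime
    have hdepth :=
      Groth.Agent.H29.depth_localizedModule_eq_zero_of_mem_associatedPrimes R M P hP
    rcases h P with hb | ⟨h2, -⟩
    · have h0 : LocalizedModule.map P.primeCompl φ (LocalizedModule.mk x 1) = 0 := by
        rw [LocalizedModule.map_mk, hx, LocalizedModule.zero_mk]
      have h1 : LocalizedModule.mk x (1 : P.primeCompl) = 0 := hb.1 (h0.trans (map_zero _).symm)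
      rw [← LocalizedModule.zero_mk 1, LocalizedModule.mk_eq] at h1
      obtain ⟨u, hu⟩ := h1
      rw [one_smul, one_smul, smul_zero] at hu
      have hu' : (u : R) • x = 0 := hu
      exact u.2 (hle (Submodule.mem_colon_singleton.mpr (by rw [hu']; exact zero_mem _)))
    · rw [hdepth] at h2; exact absurd h2 (by norm_num)
  refine ⟨hinj, ?_⟩
  intro y
  by_contra hy
  have hy' : (Submodule.Quotient.mk y : N ⧸ LinearMap.range φ) ≠ 0 := by
    rw [Ne, Submodule.Quotient.mk_eq_zero]; exact hy
  obtain ⟨P, hP, -⟩ := exists_le_isAssociatedPrime_of_isNoetherianRing R _ hy'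
  have hPp := hP.isPrime
  obtain ⟨-, zb, hz⟩ := isAssociatedPrime_iff.mp hP
  obtain ⟨z, rfl⟩ := Submodule.Quotient.mk_surjective _ zb
  have hPz : ∀ a : R, a ∈ P ↔ a • z ∈ LinearMap.range φ := by
    intro a
    rw [hz, Submodule.mem_colon_singleton, Submodule.mem_bot, ← Submodule.Quotient.mk_smul,
      Submodule.Quotient.mk_eq_zero]
  obtain ⟨z', hz'⟩ : ∃ z' : LocalizedModule P.primeCompl N, z' = LocalizedModule.mk z 1 :=
    ⟨_, rfl⟩
  have hzr : z' ∉ LinearMap.range (LocalizedModule.map P.primeCompl φ) := by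
    rintro ⟨w, hw⟩
    induction w using LocalizedModule.induction_on with
    | h m s =>
      rw [LocalizedModule.map_mk, hz', LocalizedModule.mk_eq] at hw
      obtain ⟨u, hu⟩ := hw
      rw [one_smul] at hu
      have hu' : ((u : R) * (s : R)) • z = φ ((u : R) • m) := by
        rw [map_smul, mul_smul]; exact hu.symm
      exact (P.primeCompl.mul_mem u.2 s.2) ((hPz _).mpr ⟨_, hu'.symm⟩)
  have hmz : ∀ c ∈ maximalIdeal (Localization.AtPrime P),
      c • z' ∈ LinearMap.range (LocalizedModule.map P.primeCompl φ) := by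
    intro c hc
    obtain ⟨a, s, rfl⟩ := IsLocalization.exists_mk'_eq P.primeCompl c
    rw [IsLocalization.AtPrime.mk'_mem_maximal_iff (Localization.AtPrime P) P] at hc
    obtain ⟨m, hm⟩ := (hPz a).mp hc
    refine ⟨LocalizedModule.mk m s, ?_⟩
    rw [LocalizedModule.map_mk, hm, hz', ← Localization.mk_eq_mk'_apply,
      LocalizedModule.mk_smul_mk, mul_one]
  rcases h P with hb | ⟨h2, hPN⟩
  · exact hzr (LinearMap.range_eq_top.mpr hb.2 ▸ Submodule.mem_top)
  · apply hPN
    obtain ⟨a, b, ham, hbm, ha, hb⟩ := exists_reg_pair _ h2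
    have hass := local_ass (LocalizedModule.map P.primeCompl φ)
      (LocalizedModule.map_injective _ φ hinj) a b ha hb z' hzr hmz ham hbm
    have e := Module.associatedPrimes.preimage_comap_associatedPrimes_eq_associatedPrimes_of_isLocalizedModule
      (S := P.primeCompl) (f := LocalizedModule.mkLinearMap P.primeCompl N)
      (R' := Localization.AtPrime P)
    have h3 : maximalIdeal (Localization.AtPrime P) ∈
        (Ideal.comap (algebraMap R (Localization.AtPrime P))) ⁻¹' (associatedPrimes R N) := by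
      rw [e]; exact hass
    have hcm : Ideal.comap (algebraMap R (Localization.AtPrime P))
        (maximalIdeal (Localization.AtPrime P)) = P :=
      IsLocalization.AtPrime.under_maximalIdeal (Localization.AtPrime P) P
    rwa [Set.mem_preimage, hcm] at h3

end Groth.Agent.Helper1.DepthTwo
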