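import Mathlib
import Groth.Prelude.Def_EGA4b
import Groth.Agent.Helper1.CMTensor
import Groth.Agent.H29.DimLocalHom

namespace Groth.Agent.Helper1.DimFibZero

open TensorProduct IsLocalRing
open scoped Pointwise

universe u

set_option linter.style.haveILetI false

theorem main (A B : Type u) [CommRing A] [CommRing B] [IsNoetherianRing A]
    [IsNoetherianRing B] [IsLocalRing A] [IsLocalRing B] [Algebra A B] [IsLocalHom (algebraMap A B)]
    (h0 : ringKrullDim (EGA4.FibRing A B) = 0) :
    ringKrullDim B ≤ ringKrullDim A ∧
      (∀ (N : Type u) [AddCommGroup N] [Module B N] [Module A N] [IsScalarTower A B N]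
          [Module.Finite B N] [Module.Flat A N],
          Module.support B N = Set.univ → ringKrullDim B = ringKrullDim A) := by
  constructor
  · have h := Groth.Agent.H29.ringKrullDim_le_add_fibre (algebraMap A B)
    rw [show ringKrullDim (B ⧸ (maximalIdeal A).map (algebraMap A B)) = 0 from h0, add_zero] at h
    exact h
  · intro N _ _ _ _ _ _ hsupp
    haveI : Nontrivial N := by
      by_contra h
      rw [not_nontrivial_iff_subsingleton] at h
      have h1 := (Module.support_eq_empty_iff (R := B) (M := N)).mpr h
      rw [hsupp] at h1
      exact Set.univ_nonempty.ne_empty h1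
    have hN : Module.supportDim B N = ringKrullDim B := by
      apply le_antisymm (Module.supportDim_le_ringKrullDim B N)
      unfold Module.supportDim ringKrullDim
      exact Order.krullDim_le_of_strictMono
        (fun a => (⟨a, by rw [hsupp]; exact Set.mem_univ a⟩ : Module.support B N))
        (fun _ _ lt => lt)
    have h1 := DimTensorMod.main A B A N
    rw [Module.supportDim_eq_of_equiv (TensorProduct.AlgebraTensorModule.rid A B N), hN,
      Module.supportDim_self_eq_ringKrullDim] at h1
    have hF0 : Module.supportDim B (EGA4.FibMod A B N) = 0 := by
      apply le_antisymm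
      · rw [CMTensor.supportDim_eq_of_surjective (C := EGA4.FibRing A B)
          Ideal.Quotient.mk_surjective]
        exact (Module.supportDim_le_ringKrullDim _ _).trans h0.le
      · haveI := DepthTensorFL.nontrivial_fib (A := A) (B := B) N
        obtain ⟨d, hd⟩ := Groth.Agent.H29.SemiSOP.exists_natCast_supportDim B (EGA4.FibMod A B N)
        rw [hd]
        exact_mod_cast Nat.zero_le d
    rw [hF0, add_zero] at h1
    exact h1

end Groth.Agent.Helper1.DimFibZero
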