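import Mathlib
import Groth.Agent.H29.DimLocalHom

namespace Groth.Agent.Helper1.DimTensor

open TensorProduct IsLocalRing

universe u

theorem main (A B : Type u) [CommRing A] [CommRing B] [IsLocalRing A]
    [IsLocalRing B] [IsNoetherianRing A] [IsNoetherianRing B] [Algebra A B]
    [IsLocalHom (algebraMap A B)]
    (M : Type u) [AddCommGroup M] [Module A M] [Module.Finite A M] (N : Type u) [AddCommGroup N]
    [Module B N] [Module A N] [IsScalarTower A B N] [Module.Finite B N] :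
    Module.supportDim B (N ⊗[A] M) ≤ Module.supportDim A M +
      Module.supportDim B (N ⧸ ((IsLocalRing.maximalIdeal A).map (algebraMap A B) •
        (⊤ : Submodule B N))) := by
  obtain ⟨I, hI⟩ : ∃ I, I = Module.annihilator A M := ⟨_, rfl⟩
  obtain ⟨J, hJ⟩ : ∃ J, J = Module.annihilator B N := ⟨_, rfl⟩
  obtain ⟨𝔞, h𝔞⟩ : ∃ 𝔞, 𝔞 = (maximalIdeal A).map (algebraMap A B) := ⟨_, rfl⟩
  obtain ⟨K, hK⟩ : ∃ K, K = J ⊔ I.map (algebraMap A B) := ⟨_, rfl⟩
  rw [← h𝔞]
  have hJz : ∀ b₁ ∈ J, ∀ z : N ⊗[A] M, b₁ • z = 0 := by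
    intro b₁ hb₁ z
    induction z using TensorProduct.induction_on with
    | zero => simp
    | tmul n m =>
      rw [TensorProduct.smul_tmul', Module.mem_annihilator.mp (hJ ▸ hb₁) n,
        TensorProduct.zero_tmul]
    | add x y hx hy => rw [smul_add, hx, hy, add_zero]
  have hIz : ∀ a ∈ I, ∀ z : N ⊗[A] M, (algebraMap A B a) • z = 0 := by
    intro a ha z
    induction z using TensorProduct.induction_on with
    | zero => simp
    | tmul n m =>
      rw [TensorProduct.smul_tmul', algebraMap_smul, TensorProduct.smul_tmul,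
        Module.mem_annihilator.mp (hI ▸ ha) m, TensorProduct.tmul_zero]
    | add x y hx hy => rw [smul_add, hx, hy, add_zero]
  have hKann : ∀ b ∈ K, ∀ z : N ⊗[A] M, b • z = 0 := by
    intro b hb z
    rw [hK] at hb
    obtain ⟨b₁, hb₁, b₂, hb₂, rfl⟩ := Submodule.mem_sup.mp hb
    have h1 : b₁ • z = 0 := hJz b₁ hb₁ z
    have h2 : b₂ • z = 0 := by
      refine Submodule.span_induction (p := fun b _ => b • z = 0) ?_ ?_ ?_ ?_ hb₂
      · rintro _ ⟨a, ha, rfl⟩
        exact hIz a ha z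
      · simp
      · intro x y _ _ hx hy; rw [add_smul, hx, hy, add_zero]
      · intro c x _ hx; rw [smul_eq_mul, mul_smul, hx, smul_zero]
    rw [add_smul, h1, h2, add_zero]
  have hsupp : Module.support B (N ⊗[A] M) ⊆ PrimeSpectrum.zeroLocus (K : Set B) := by
    intro q hq b hb
    obtain ⟨z, hz⟩ := Module.mem_support_iff'.mp hq
    by_contra hbq
    exact hz b hbq (hKann b hb z)
  have hdim1 : Module.supportDim B (N ⊗[A] M) ≤ ringKrullDim (B ⧸ K) := by
    rw [ringKrullDim_quotient, Module.supportDim]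
    exact Order.krullDim_le_of_strictMono (Set.inclusion hsupp) (fun _ _ h => h)
  by_cases hKt : K = ⊤
  · have h0 : ringKrullDim (B ⧸ K) = ⊥ := by
      have : Subsingleton (B ⧸ K) := Ideal.Quotient.subsingleton_iff.mpr hKt
      exact ringKrullDim_eq_bot_of_subsingleton
    rw [h0, le_bot_iff] at hdim1
    rw [hdim1]; exact bot_le
  have hIt : I ≠ ⊤ := by
    intro h
    apply hKt
    rw [hK, h, Ideal.map_top]
    exact sup_top_eq _
  have hIK : I ≤ K.comap (algebraMap A B) := by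
    rw [← Ideal.map_le_iff_le_comap, hK]; exact le_sup_right
  have : Nontrivial (A ⧸ I) := Ideal.Quotient.nontrivial_iff.mpr hIt
  have : Nontrivial (B ⧸ K) := Ideal.Quotient.nontrivial_iff.mpr hKt
  have : IsLocalRing (A ⧸ I) :=
    IsLocalRing.of_surjective' (Ideal.Quotient.mk I) Ideal.Quotient.mk_surjective
  have : IsLocalRing (B ⧸ K) :=
    IsLocalRing.of_surjective' (Ideal.Quotient.mk K) Ideal.Quotient.mk_surjective
  have hKm : K ≤ maximalIdeal B := IsLocalRing.le_maximalIdeal hKt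
  have hIm : I ≤ maximalIdeal A := IsLocalRing.le_maximalIdeal hIt
  have : IsLocalHom (Ideal.Quotient.mk K) :=
    isLocalHom_of_le_jacobson_bot K (hKm.trans (IsLocalRing.maximalIdeal_le_jacobson ⊥))
  have : IsLocalHom (Ideal.Quotient.mk I) :=
    isLocalHom_of_le_jacobson_bot I (hIm.trans (IsLocalRing.maximalIdeal_le_jacobson ⊥))
  obtain ⟨f, hf⟩ : ∃ f : A ⧸ I →+* B ⧸ K,
      ∀ a, f (Ideal.Quotient.mk I a) = Ideal.Quotient.mk K (algebraMap A B a) :=
    ⟨Ideal.quotientMap K (algebraMap A B) hIK, fun a => Ideal.quotientMap_mk⟩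
  have : IsLocalHom f := ⟨fun a' h => by
    obtain ⟨a, rfl⟩ := Ideal.Quotient.mk_surjective a'
    rw [hf] at h
    have h1 := isUnit_of_map_unit (Ideal.Quotient.mk K) _ h
    have h2 := isUnit_of_map_unit (algebraMap A B) _ h1
    exact h2.map _⟩
  have hdim2 := Groth.Agent.H29.ringKrullDim_le_add_fibre f
  have hdimA : ringKrullDim (A ⧸ I) = Module.supportDim A M := by
    rw [hI, Module.supportDim_eq_ringKrullDim_quotient_annihilator]
  have hdim3 : ringKrullDim ((B ⧸ K) ⧸ (maximalIdeal (A ⧸ I)).map f) ≤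
      ringKrullDim (B ⧸ (J ⊔ 𝔞)) := by
    obtain ⟨π, hπdef⟩ : ∃ π : B →+* (B ⧸ K) ⧸ (maximalIdeal (A ⧸ I)).map f,
        π = (Ideal.Quotient.mk _).comp (Ideal.Quotient.mk K) := ⟨_, rfl⟩
    have hπsurj : Function.Surjective π := by
      rw [hπdef]
      exact Ideal.Quotient.mk_surjective.comp Ideal.Quotient.mk_surjective
    have hπ : ∀ b ∈ J ⊔ 𝔞, π b = 0 := by
      intro b hb
      obtain ⟨b₁, hb₁, b₂, hb₂, rfl⟩ := Submodule.mem_sup.mp hb
      have h1 : π b₁ = 0 := by
        have h0 : Ideal.Quotient.mk K b₁ = 0 :=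
          Ideal.Quotient.eq_zero_iff_mem.mpr (hK ▸ Ideal.mem_sup_left hb₁)
        rw [hπdef, RingHom.comp_apply, h0, map_zero]
      have h2 : π b₂ = 0 := by
        have hle : (maximalIdeal A).map (algebraMap A B) ≤ RingHom.ker π := by
          rw [Ideal.map_le_iff_le_comap]
          intro a ha
          rw [Ideal.mem_comap, RingHom.mem_ker, hπdef, RingHom.comp_apply, ← hf,
            Ideal.Quotient.eq_zero_iff_mem]
          exact Ideal.mem_map_of_mem _ (map_nonunit (Ideal.Quotient.mk I) _ ha)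
        exact hle (h𝔞 ▸ hb₂)
      rw [map_add, h1, h2, add_zero]
    exact ringKrullDim_le_of_surjective (Ideal.Quotient.lift (J ⊔ 𝔞) π hπ)
      (Ideal.Quotient.lift_surjective_of_surjective _ _ hπsurj)
  have hdim4 : ringKrullDim (B ⧸ (J ⊔ 𝔞)) =
      Module.supportDim B (N ⧸ (𝔞 • (⊤ : Submodule B N))) := by
    rw [ringKrullDim_quotient, Module.supportDim, Module.support_quotient,
      Module.support_eq_zeroLocus, hJ, PrimeSpectrum.zeroLocus_sup]
  calc Module.supportDim B (N ⊗[A] M) ≤ ringKrullDim (B ⧸ K) := hdim1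
    _ ≤ ringKrullDim (A ⧸ I) + ringKrullDim ((B ⧸ K) ⧸ (maximalIdeal (A ⧸ I)).map f) := hdim2
    _ ≤ Module.supportDim A M + Module.supportDim B (N ⧸ (𝔞 • (⊤ : Submodule B N))) := by
      rw [hdimA, ← hdim4]; exact add_le_add le_rfl hdim3

end Groth.Agent.Helper1.DimTensor
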