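import Mathlib

/-!
# Separating non-torsion elements by linear forms; double duals and saturation (helper for S14994)
-/

set_option autoImplicit false

namespace Groth.Agent.Helper1.DualSat

universe u

open nonZeroDivisors

/-- In a finite module over a domain, a non-torsion element is detected by a linear form. -/
theorem exists_dual_ne_zero (A : Type u) [CommRing A] [IsDomain A] (Q : Type u) [AddCommGroup Q]
    [Module A Q] [Module.Finite A Q] (x : Q) (hx : x ∉ Submodule.torsion A Q) :
    ∃ φ : Q →ₗ[A] A, φ x ≠ 0 := by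
  classical
  let K := FractionRing A
  let QK := LocalizedModule A⁰ Q
  let ℓ : Q →ₗ[A] QK := LocalizedModule.mkLinearMap A⁰ Q
  have hℓx : ℓ x ≠ 0 := by
    intro h0
    obtain ⟨c, hc⟩ := (IsLocalizedModule.eq_zero_iff A⁰ ℓ).mp h0
    exact hx ((Submodule.mem_torsion_iff x).mpr ⟨c, hc⟩)
  obtain ⟨lam, hlam⟩ : ∃ lam : Module.Dual K QK, lam (ℓ x) ≠ 0 := by
    by_contra hcon
    push Not at hcon
    exact hℓx ((Module.forall_dual_apply_eq_zero_iff K (ℓ x)).mp hcon)
  let φ' : Q →ₗ[A] K := (lam.restrictScalars A) ∘ₗ ℓ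
  have hφ'x : φ' x ≠ 0 := hlam
  obtain ⟨S, hS⟩ := (Module.Finite.fg_top : (⊤ : Submodule A Q).FG)
  obtain ⟨b, hb⟩ := IsLocalization.exist_integer_multiples_of_finset A⁰ (S.image φ')
  have hb0 : algebraMap A K (b : A) ≠ 0 := by
    intro h
    have := (IsFractionRing.injective A K) (h.trans (map_zero _).symm)
    exact nonZeroDivisors.ne_zero b.2 this
  let ψ : Q →ₗ[A] K := (b : A) • φ'
  have hrange : ∀ q : Q, ψ q ∈ LinearMap.range (Algebra.linearMap A K) := by
    intro q
    have hq : q ∈ Submodule.span A (S : Set Q) := by rw [hS]; exact Submodule.mem_top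
    induction hq using Submodule.span_induction with
    | mem y hy =>
      obtain ⟨r, hr⟩ := hb (φ' y) (Finset.mem_image_of_mem _ hy)
      exact ⟨r, hr⟩
    | zero => rw [map_zero]; exact Submodule.zero_mem _
    | add y z _ _ hy hz => rw [map_add]; exact Submodule.add_mem _ hy hz
    | smul a y _ hy => rw [map_smul]; exact Submodule.smul_mem _ a hy
  have hinj : Function.Injective (Algebra.linearMap A K) := IsFractionRing.injective A K
  let e := LinearEquiv.ofInjective (Algebra.linearMap A K) hinj
  let φ : Q →ₗ[A] A := e.symm.toLinearMap ∘ₗ (ψ.codRestrict _ hrange)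
  refine ⟨φ, ?_⟩
  intro h0
  have h1 : (e (φ x) : K) = ψ x := by
    change (e (e.symm _) : K) = _
    rw [LinearEquiv.apply_symm_apply]
    rfl
  rw [h0, map_zero] at h1
  have h2 : ψ x = algebraMap A K (b : A) * φ' x := by
    change (b : A) • φ' x = _
    rw [Algebra.smul_def]
  rw [h2] at h1
  exact mul_ne_zero hb0 hφ'x h1.symm

theorem main (A : Type u) [CommRing A] [IsDomain A]
    (M : Type u) [AddCommGroup M] [Module A M] [Module.Finite A M]
    (N : Submodule A M) :
    (LinearMap.range N.subtype.dualMap.dualMap).comap (Module.Dual.eval A M) ≤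
      (Submodule.torsion A (M ⧸ N)).comap N.mkQ := by
  intro m hm
  rw [Submodule.mem_comap] at hm ⊢
  by_contra hcon
  obtain ⟨φ, hφ⟩ := exists_dual_ne_zero A (M ⧸ N) (N.mkQ m) hcon
  obtain ⟨ξ, hξ⟩ := hm
  let ψ : Module.Dual A M := φ ∘ₗ N.mkQ
  have h1 : (N.subtype.dualMap.dualMap ξ) ψ = 0 := by
    rw [LinearMap.dualMap_apply]
    have : N.subtype.dualMap ψ = 0 := by
      ext n
      simp only [ψ, LinearMap.dualMap_apply, LinearMap.comp_apply, Submodule.subtype_apply,
        Submodule.mkQ_apply, LinearMap.zero_apply]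
      rw [(Submodule.Quotient.mk_eq_zero N).mpr n.2, map_zero]
    rw [this, map_zero]
  rw [hξ] at h1
  exact hφ h1

end Groth.Agent.Helper1.DualSat
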