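import Groth.Prelude.Def_Exal2
import Mathlib.Tactic.LinearCombination
import Mathlib.Tactic.Ring
import Mathlib.Tactic.Abel

/-!
Helper lemmas on extensions of algebras (helper1).
-/

set_option autoImplicit false

namespace Groth.Agent.Helper1.ExalAux

universe u v

variable {A : Type u} {C L : Type v} [CommRing A] [CommRing C] [Algebra A C]
    [AddCommGroup L] [Module C L] (X : Exal.Ext A C L)

theorem proj_incl (z : L) : X.proj (X.incl z) = 0 := (X.isExtension.exact _).2 ⟨z, rfl⟩

theorem incl_mul_incl (z z' : L) : X.incl z * X.incl z' = 0 := by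
  rw [X.isExtension.mul_incl, proj_incl, zero_smul, map_zero]

theorem smul_incl [Module A L] [IsScalarTower A C L] (a : A) (z : L) :
    a • X.incl z = X.incl (a • z) := by
  rw [Algebra.smul_def, X.isExtension.mul_incl, AlgHom.commutes, algebraMap_smul]

theorem incl_smul (c : C) (x : X.E) (hx : X.proj x = c) (z : L) :
    X.incl (c • z) = x * X.incl z := by
  rw [X.isExtension.mul_incl, hx]

/-- An element is determined by its projection and its "kernel part" relative to a section. -/
theorem exists_incl_eq_sub (x y : X.E) (h : X.proj x = X.proj y) : ∃ z : L, X.incl z = x - y := by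
  apply (X.isExtension.exact _).1
  rw [map_sub, h, sub_self]

end Groth.Agent.Helper1.ExalAux

namespace Groth.Agent.Helper1.ExalAux

universe u v

section OfSurjective

variable {A : Type u} {B E : Type v} [CommRing A] [CommRing B] [Algebra A B] [CommRing E] [Algebra A E]
  (q : E →ₐ[A] B) (hq : Function.Surjective q)
  (hsq : ∀ x y : E, q x = 0 → q y = 0 → x * y = 0)

/-- The kernel of `q`, as a type. -/
abbrev KerType : Type v := ↥(RingHom.ker (q : E →+* B))

include hsq in
theorem mul_eq_of_proj_eq (e e' : E) (h : q e = q e') (z : E) (hz : q z = 0) : e * z = e' * z := by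
  have h0 : q (e - e') = 0 := by rw [map_sub, h, sub_self]
  have := hsq _ _ h0 hz
  linear_combination this

/-- The `B`-module structure on the (square-zero) kernel of a surjection `q : E → B`. -/
noncomputable def kerModule : Module B (KerType q) :=
  let σ : B → E := Function.surjInv hq
  have hσ : ∀ b, q (σ b) = b := Function.surjInv_eq hq
  have hz : ∀ z : KerType q, q (z : E) = 0 := fun z => z.2
  { smul := fun b z => ⟨σ b * z, Ideal.mul_mem_left _ _ z.2⟩
    one_smul := fun z => by
      apply Subtype.ext
      change σ 1 * (z : E) = z
      rw [mul_eq_of_proj_eq q hsq (σ 1) 1 (by rw [hσ, map_one]) z (hz z), one_mul]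
    mul_smul := fun b b' z => by
      apply Subtype.ext
      change σ (b * b') * (z : E) = σ b * (σ b' * z)
      rw [mul_eq_of_proj_eq q hsq (σ (b * b')) (σ b * σ b') (by rw [hσ, map_mul, hσ, hσ]) z (hz z),
        mul_assoc]
    smul_zero := fun b => by
      apply Subtype.ext
      change σ b * ((0 : KerType q) : E) = ((0 : KerType q) : E)
      simp
    smul_add := fun b z z' => by
      apply Subtype.ext
      change σ b * ((z + z' : KerType q) : E) = σ b * z + σ b * z'
      rw [Submodule.coe_add, mul_add]
    add_smul := fun b b' z => by
      apply Subtype.ext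
      change σ (b + b') * (z : E) = σ b * z + σ b' * z
      rw [mul_eq_of_proj_eq q hsq (σ (b + b')) (σ b + σ b') (by rw [hσ, map_add, hσ, hσ]) z (hz z),
        add_mul]
    zero_smul := fun z => by
      apply Subtype.ext
      change σ 0 * (z : E) = ((0 : KerType q) : E)
      rw [mul_eq_of_proj_eq q hsq (σ 0) 0 (by rw [hσ, map_zero]) z (hz z), zero_mul]
      rfl }

theorem kerModule_smul_coe (b : B) (z : KerType q) (e : E) (he : q e = b) :
    ((letI := kerModule q hq hsq; b • z : KerType q) : E) = e * z := by
  change Function.surjInv hq b * (z : E) = e * z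
  exact mul_eq_of_proj_eq q hsq _ _ (by rw [Function.surjInv_eq hq, he]) z z.2

/-- The extension attached to a surjection with square-zero kernel. -/
noncomputable def extOfSurjective :
    letI := kerModule q hq hsq
    Exal.Ext A B (KerType q) :=
  letI := kerModule q hq hsq
  { E := E
    proj := q
    incl := (RingHom.ker (q : E →+* B)).subtype.toAddMonoidHom
    isExtension :=
      { proj_surjective := hq
        incl_injective := Subtype.val_injective
        exact := fun x => ⟨fun hx => ⟨⟨x, hx⟩, rfl⟩, by rintro ⟨z, rfl⟩; exact z.2⟩
        mul_incl := fun x z => (kerModule_smul_coe q hq hsq (q x) z x rfl).symm } }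

end OfSurjective

end Groth.Agent.Helper1.ExalAux
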