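import Groth.Agent.S5817
import Groth.Agent.S5818
import Groth.Agent.S5819
import Groth.Agent.Helper1.Exal

/-!
# The six-term sequence of derivations and extensions: vanishing of `Exal_Λ(R, L)`

Baer difference of two extensions and the criterion
`Exal_Λ(R,L) = 0 ↔ (Der_k(R,L) → Der_k(Λ,L) onto) ∧ (Exal_k(R,L) → Exal_k(Λ,L) injective)`.
-/

set_option autoImplicit false

universe u v w

namespace Groth.Agent.Helper1.SixTerm

open Exal Exal.Ext Groth.Agent.Helper1.ExalAux

attribute [local instance] Exal.opModule Exal.isCentralScalar_opModule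

section Basic

variable {A : Type u} {B L : Type v} [CommRing A] [CommRing B] [Algebra A B] [AddCommGroup L]
  [Module B L]

/-- A homomorphism of extensions is an equivalence. -/
theorem nonempty_equiv_of_algHom (X Y : Ext A B L) (θ : X.E →ₐ[A] Y.E)
    (hp : ∀ x, Y.proj (θ x) = X.proj x) (hi : ∀ z, θ (X.incl z) = Y.incl z) :
    Nonempty (X.Equiv Y) := by
  have hinj : Function.Injective θ := by
    rw [injective_iff_map_eq_zero]
    intro x hx
    have h1 : X.proj x = 0 := by rw [← hp, hx, map_zero]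
    obtain ⟨z, rfl⟩ := (X.isExtension.exact x).1 h1
    rw [hi] at hx
    have hz : z = 0 := Y.isExtension.incl_injective (by rw [hx, map_zero])
    rw [hz, map_zero]
  have hsurj : Function.Surjective θ := by
    intro y
    obtain ⟨x, hx⟩ := X.isExtension.proj_surjective (Y.proj y)
    have h1 : Y.proj (y - θ x) = 0 := by rw [map_sub, hp, hx, sub_self]
    obtain ⟨z, hz⟩ := (Y.isExtension.exact _).1 h1
    refine ⟨x + X.incl z, ?_⟩
    rw [map_add, hi, hz]
    abel
  exact ⟨{ toAlgEquiv := AlgEquiv.ofBijective θ ⟨hinj, hsurj⟩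
           proj_apply := hp
           apply_incl := hi }⟩

theorem isTrivial_of_equiv {X Y : Ext A B L} (e : X.Equiv Y) (h : X.IsTrivial) : Y.IsTrivial := by
  obtain ⟨s, hs⟩ := h
  exact ⟨e.toAlgEquiv.toAlgHom.comp s, fun b => by
    show Y.proj (e.toAlgEquiv (s b)) = b
    rw [e.proj_apply, hs]⟩

variable (A B L) in
/-- The section `b ↦ (b, 0)` of the trivial extension. -/
noncomputable def inlAlg : B →ₐ[A] (Ext.trivial A B L).E :=
  { toRingHom := (TrivSqZeroExt.inlHom B L : B →+* TrivCarrier A B L)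
    commutes' := fun _ => rfl }

variable (A B L) in
theorem trivial_isTrivial : (Ext.trivial A B L).IsTrivial :=
  ⟨inlAlg A B L, fun _ => rfl⟩

/-- A trivial extension is equivalent to the standard trivial one. -/
theorem nonempty_equiv_trivial (X : Ext A B L) (h : X.IsTrivial) :
    Nonempty ((Ext.trivial A B L).Equiv X) := by
  obtain ⟨s, hs⟩ := h
  let θ₀ : TrivSqZeroExt B L →+* X.E :=
    { toFun := fun x => s (TrivSqZeroExt.fst x) + X.incl (TrivSqZeroExt.snd x)
      map_one' := by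
        rw [TrivSqZeroExt.fst_one, TrivSqZeroExt.snd_one, map_one, map_zero, add_zero]
      map_mul' := fun x y => by
        rw [TrivSqZeroExt.fst_mul, TrivSqZeroExt.snd_mul, map_mul, map_add, add_mul, mul_add,
          mul_add, incl_mul_incl, add_zero, op_smul_eq_smul,
          incl_smul X (TrivSqZeroExt.fst x) (s (TrivSqZeroExt.fst x)) (hs _),
          incl_smul X (TrivSqZeroExt.fst y) (s (TrivSqZeroExt.fst y)) (hs _)]
        ring
      map_zero' := by
        rw [TrivSqZeroExt.fst_zero, TrivSqZeroExt.snd_zero, map_zero, map_zero, add_zero]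
      map_add' := fun x y => by
        rw [TrivSqZeroExt.fst_add, TrivSqZeroExt.snd_add, map_add, map_add]
        abel }
  let θ : (Ext.trivial A B L).E →ₐ[A] X.E :=
    { toRingHom := (θ₀ : TrivCarrier A B L →+* X.E)
      commutes' := fun a => by
        show s (TrivSqZeroExt.fst (TrivSqZeroExt.inl (algebraMap A B a) : TrivSqZeroExt B L)) +
          X.incl (TrivSqZeroExt.snd (TrivSqZeroExt.inl (algebraMap A B a) : TrivSqZeroExt B L)) = _
        rw [TrivSqZeroExt.fst_inl, TrivSqZeroExt.snd_inl, map_zero, add_zero, AlgHom.commutes] }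
  refine nonempty_equiv_of_algHom _ X θ ?_ ?_
  · intro x
    show X.proj (s (TrivSqZeroExt.fst x) + X.incl (TrivSqZeroExt.snd x)) = TrivSqZeroExt.fst x
    rw [map_add, hs, proj_incl, add_zero]
  · intro z
    show s (TrivSqZeroExt.fst (TrivSqZeroExt.inr z : TrivSqZeroExt B L)) +
      X.incl (TrivSqZeroExt.snd (TrivSqZeroExt.inr z : TrivSqZeroExt B L)) = X.incl z
    rw [TrivSqZeroExt.fst_inr, TrivSqZeroExt.snd_inr, map_zero, zero_add]

theorem isTrivial_restrictBase (A' : Type w) [CommRing A'] [Algebra A' A] [Algebra A' B]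
    [IsScalarTower A' A B] (X : Ext A B L) (h : X.IsTrivial) : (X.restrictBase A').IsTrivial := by
  obtain ⟨s, hs⟩ := h
  refine ⟨{ toRingHom := (s.toRingHom : B →+* X.RestrictCarrier A'), commutes' := fun a => ?_ }, hs⟩
  show s (algebraMap A' B a) = algebraMap A X.E (algebraMap A' A a)
  rw [IsScalarTower.algebraMap_apply A' A B, s.commutes]

variable (A B L) in
theorem trivial_pullback_isTrivial (B₀ : Type v) [CommRing B₀] [Algebra A B₀] [Algebra B₀ B]
    [IsScalarTower A B₀ B] [Module B₀ L] [IsScalarTower B₀ B L] :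
    ((Ext.trivial A B L).pullback B₀).IsTrivial := by
  refine ⟨(((inlAlg A B L).comp (IsScalarTower.toAlgHom A B₀ B)).prod
    (AlgHom.id A B₀)).codRestrict ((Ext.trivial A B L).fiberProd B₀) ?_, ?_⟩
  · intro a
    rfl
  · intro a
    rfl

end Basic

section Diff

variable {A : Type u} {B L : Type v} [CommRing A] [CommRing B] [Algebra A B] [AddCommGroup L]
  [Module B L]
variable (Y Y' : Ext A B L)

/-- The fibre product of the middle rings over `B`. -/
def PP : Subalgebra A (Y.E × Y'.E) :=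
  AlgHom.equalizer (Y.proj.comp (AlgHom.fst A Y.E Y'.E)) (Y'.proj.comp (AlgHom.snd A Y.E Y'.E))

lemma mem_PP (x : Y.E × Y'.E) : x ∈ PP Y Y' ↔ Y.proj x.1 = Y'.proj x.2 := Iff.rfl

/-- The diagonal copy of `L`. -/
def diag (z : L) : PP Y Y' := ⟨(Y.incl z, Y'.incl z), by
  rw [mem_PP]
  show Y.proj (Y.incl z) = Y'.proj (Y'.incl z)
  rw [proj_incl, proj_incl]⟩

/-- The left copy of `L`. -/
def left : L →+ PP Y Y' where
  toFun z := ⟨(Y.incl z, 0), by
    rw [mem_PP]
    show Y.proj (Y.incl z) = Y'.proj 0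
    rw [proj_incl, map_zero]⟩
  map_zero' := Subtype.ext (Prod.ext (map_zero _) rfl)
  map_add' z w := Subtype.ext (Prod.ext (map_add _ z w) (add_zero (0 : Y'.E)).symm)

/-- The diagonal ideal. -/
def II : Ideal (PP Y Y') where
  carrier := Set.range (diag Y Y')
  add_mem' := by
    rintro _ _ ⟨z, rfl⟩ ⟨t, rfl⟩
    exact ⟨z + t, Subtype.ext (Prod.ext (map_add Y.incl z t) (map_add Y'.incl z t))⟩
  zero_mem' := ⟨0, Subtype.ext (Prod.ext (map_zero Y.incl) (map_zero Y'.incl))⟩
  smul_mem' := by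
    rintro x _ ⟨z, rfl⟩
    refine ⟨Y.proj x.1.1 • z, Subtype.ext (Prod.ext ?_ ?_)⟩
    · show Y.incl (Y.proj x.1.1 • z) = x.1.1 * Y.incl z
      rw [Y.isExtension.mul_incl]
    · show Y'.incl (Y.proj x.1.1 • z) = x.1.2 * Y'.incl z
      rw [Y'.isExtension.mul_incl, ← (mem_PP Y Y' x.1).mp x.2]

lemma mem_II (x : PP Y Y') : x ∈ II Y Y' ↔ ∃ z, diag Y Y' z = x := Iff.rfl

/-- The projection `P → B`. -/
def projP : PP Y Y' →ₐ[A] B := Y.proj.comp ((AlgHom.fst A Y.E Y'.E).comp (PP Y Y').val)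

lemma projP_apply (x : PP Y Y') : projP Y Y' x = Y.proj x.1.1 := rfl

/-- The Baer difference of two extensions. -/
noncomputable def diffExt : Ext A B L where
  E := PP Y Y' ⧸ II Y Y'
  proj := Ideal.Quotient.liftₐ (II Y Y') (projP Y Y') (by
    rintro _ ⟨z, rfl⟩
    show Y.proj (Y.incl z) = 0
    exact proj_incl Y z)
  incl := (Ideal.Quotient.mk (II Y Y')).toAddMonoidHom.comp (left Y Y')
  isExtension :=
    { proj_surjective := fun b => by
        obtain ⟨e, he⟩ := Y.isExtension.proj_surjective b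
        obtain ⟨e', he'⟩ := Y'.isExtension.proj_surjective b
        exact ⟨Ideal.Quotient.mk _ ⟨(e, e'), (mem_PP Y Y' _).mpr (he.trans he'.symm)⟩, he⟩
      incl_injective := fun z t h => by
        have h1 : left Y Y' z - left Y Y' t ∈ II Y Y' := Ideal.Quotient.eq.mp h
        obtain ⟨r, hr⟩ := h1
        have hr1 : Y.incl r = Y.incl z - Y.incl t := congrArg (fun x : PP Y Y' => x.1.1) hr
        have hr2 : Y'.incl r = 0 :=
          (congrArg (fun x : PP Y Y' => x.1.2) hr).trans (sub_zero (0 : Y'.E))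
        have r0 : r = 0 := Y'.isExtension.incl_injective (by rw [hr2, map_zero])
        rw [r0, map_zero] at hr1
        exact Y.isExtension.incl_injective (sub_eq_zero.mp hr1.symm)
      exact := fun x => by
        obtain ⟨⟨⟨e, e'⟩, hx⟩, rfl⟩ := Ideal.Quotient.mk_surjective x
        constructor
        · intro h
          have h0 : Y.proj e = 0 := h
          have h0' : Y'.proj e' = 0 := by rw [← (mem_PP Y Y' _).mp hx]; exact h0
          obtain ⟨z, rfl⟩ := (Y.isExtension.exact e).1 h0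
          obtain ⟨z', rfl⟩ := (Y'.isExtension.exact e').1 h0'
          refine ⟨z - z', ?_⟩
          show Ideal.Quotient.mk (II Y Y') (left Y Y' (z - z')) = _
          rw [Ideal.Quotient.eq]
          refine ⟨-z', Subtype.ext (Prod.ext ?_ ?_)⟩
          · show Y.incl (-z') = Y.incl (z - z') - Y.incl z
            rw [map_sub, map_neg]
            abel
          · show Y'.incl (-z') = 0 - Y'.incl z'
            rw [map_neg, zero_sub]
        · rintro ⟨z, hz⟩
          rw [← hz]
          show Y.proj (Y.incl z) = 0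
          exact proj_incl Y z
      mul_incl := fun x z => by
        obtain ⟨x, rfl⟩ := Ideal.Quotient.mk_surjective x
        show Ideal.Quotient.mk (II Y Y') x * Ideal.Quotient.mk (II Y Y') (left Y Y' z) =
          Ideal.Quotient.mk (II Y Y') (left Y Y' (Y.proj x.1.1 • z))
        rw [← map_mul]
        congr 1
        refine Subtype.ext (Prod.ext ?_ ?_)
        · show x.1.1 * Y.incl z = Y.incl (Y.proj x.1.1 • z)
          rw [Y.isExtension.mul_incl]
        · show x.1.2 * 0 = 0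
          rw [mul_zero] }

lemma diffExt_proj_mk (x : PP Y Y') :
    (diffExt Y Y').proj (Ideal.Quotient.mk (II Y Y') x) = Y.proj x.1.1 := rfl

/-- If the Baer difference is trivial, the two extensions are equivalent. -/
theorem nonempty_equiv_of_diff_trivial (h : (diffExt Y Y').IsTrivial) : Nonempty (Y.Equiv Y') := by
  obtain ⟨s, hs⟩ := h
  let G₀ : Subalgebra A (PP Y Y') :=
    AlgHom.equalizer (Ideal.Quotient.mkₐ A (II Y Y')) (s.comp (projP Y Y'))
  have hG₀ : ∀ g : PP Y Y', g ∈ G₀ ↔ Ideal.Quotient.mk (II Y Y') g = s (Y.proj g.1.1) :=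
    fun g => Iff.rfl
  let f₁ : G₀ →ₐ[A] Y.E := (AlgHom.fst A Y.E Y'.E).comp ((PP Y Y').val.comp G₀.val)
  let f₂ : G₀ →ₐ[A] Y'.E := (AlgHom.snd A Y.E Y'.E).comp ((PP Y Y').val.comp G₀.val)
  have hf₁ : ∀ g : G₀, f₁ g = g.1.1.1 := fun g => rfl
  have hf₂ : ∀ g : G₀, f₂ g = g.1.1.2 := fun g => rfl
  have hf₁inj : Function.Injective f₁ := by
    intro g g' hgg
    have hgg' : g.1.1.1 = g'.1.1.1 := hgg
    have h1 : Ideal.Quotient.mk (II Y Y') g.1 = Ideal.Quotient.mk (II Y Y') g'.1 := by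
      rw [(hG₀ g.1).mp g.2, (hG₀ g'.1).mp g'.2, hgg']
    obtain ⟨t, ht⟩ := Ideal.Quotient.eq.mp h1
    have ht1 : Y.incl t = g.1.1.1 - g'.1.1.1 := congrArg (fun x : PP Y Y' => x.1.1) ht
    have ht2 : Y'.incl t = g.1.1.2 - g'.1.1.2 := congrArg (fun x : PP Y Y' => x.1.2) ht
    rw [hgg', sub_self] at ht1
    have t0 : t = 0 := Y.isExtension.incl_injective (by rw [ht1, map_zero])
    rw [t0, map_zero] at ht2
    exact Subtype.ext (Subtype.ext (Prod.ext hgg' (sub_eq_zero.mp ht2.symm)))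
  have hf₁surj : Function.Surjective f₁ := by
    intro e
    obtain ⟨x, hx⟩ := Ideal.Quotient.mk_surjective (s (Y.proj e))
    have hpx : Y.proj x.1.1 = Y.proj e := by
      have h2 := hs (Y.proj e)
      rw [← hx] at h2
      exact h2
    obtain ⟨z, hz⟩ := exists_incl_eq_sub Y e x.1.1 hpx.symm
    have hg : x + diag Y Y' z ∈ G₀ := by
      rw [hG₀]
      have h1 : Ideal.Quotient.mk (II Y Y') (x + diag Y Y' z) = Ideal.Quotient.mk (II Y Y') x := by
        rw [Ideal.Quotient.eq]
        exact ⟨z, by rw [add_sub_cancel_left]⟩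
      have h2 : Y.proj (x + diag Y Y' z).1.1 = Y.proj e := by
        show Y.proj (x.1.1 + Y.incl z) = Y.proj e
        rw [map_add, proj_incl, add_zero, hpx]
      rw [h1, h2, hx]
    refine ⟨⟨x + diag Y Y' z, hg⟩, ?_⟩
    show x.1.1 + Y.incl z = e
    rw [hz]
    abel
  let e₁ : G₀ ≃ₐ[A] Y.E := AlgEquiv.ofBijective f₁ ⟨hf₁inj, hf₁surj⟩
  have he₁ : ∀ g : G₀, e₁.symm (f₁ g) = g := fun g => e₁.symm_apply_apply g
  let θ : Y.E →ₐ[A] Y'.E := f₂.comp e₁.symm.toAlgHom
  have hθ : ∀ g : G₀, θ (f₁ g) = f₂ g := fun g => by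
    show f₂ (e₁.symm (f₁ g)) = f₂ g
    rw [he₁]
  refine nonempty_equiv_of_algHom Y Y' θ ?_ ?_
  · intro y
    obtain ⟨g, rfl⟩ := hf₁surj y
    rw [hθ, hf₁, hf₂]
    exact ((mem_PP Y Y' g.1.1).mp g.1.2).symm
  · intro z
    have hg : diag Y Y' z ∈ G₀ := by
      rw [hG₀]
      have h0 : Ideal.Quotient.mk (II Y Y') (diag Y Y' z) = 0 :=
        Ideal.Quotient.eq_zero_iff_mem.mpr ⟨z, rfl⟩
      rw [h0]
      show 0 = s (Y.proj (Y.incl z))
      rw [proj_incl, map_zero]
    have h1 : f₁ ⟨diag Y Y' z, hg⟩ = Y.incl z := rfl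
    rw [← h1, hθ]
    rfl

section Pull

variable (B₀ : Type v) [CommRing B₀] [Algebra A B₀] [Algebra B₀ B] [IsScalarTower A B₀ B]
  [Module B₀ L] [IsScalarTower B₀ B L]

/-- If the inverse images of `Y`, `Y'` are equivalent then the inverse image of the Baer
difference is trivial. -/
theorem pullback_diff_isTrivial (φ : (Y.pullback B₀).Equiv (Y'.pullback B₀)) :
    ((diffExt Y Y').pullback B₀).IsTrivial := by
  let q : (Y.pullback B₀).E →ₐ[A] Y.E := (AlgHom.fst A Y.E B₀).comp (Y.fiberProd B₀).val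
  let q' : (Y.pullback B₀).E →ₐ[A] Y'.E :=
    ((AlgHom.fst A Y'.E B₀).comp (Y'.fiberProd B₀).val).comp φ.toAlgEquiv.toAlgHom
  have hmem : ∀ w, (q.prod q') w ∈ PP Y Y' := by
    intro w
    rw [mem_PP]
    show Y.proj w.1.1 = Y'.proj (φ.toAlgEquiv w).1.1
    have h1 : Y.proj w.1.1 = algebraMap B₀ B w.1.2 := w.2
    have h2 : Y'.proj (φ.toAlgEquiv w).1.1 = algebraMap B₀ B (φ.toAlgEquiv w).1.2 :=
      (φ.toAlgEquiv w).2
    have h3 : (φ.toAlgEquiv w).1.2 = w.1.2 := φ.proj_apply w
    rw [h1, h2, h3]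
  let τ : (Y.pullback B₀).E →ₐ[A] (diffExt Y Y').E :=
    (Ideal.Quotient.mkₐ A (II Y Y')).comp ((q.prod q').codRestrict (PP Y Y') hmem)
  have hker : RingHom.ker (Y.pullback B₀).proj.toRingHom ≤ RingHom.ker τ.toRingHom := by
    intro w hw
    rw [RingHom.mem_ker] at hw ⊢
    obtain ⟨z, rfl⟩ := ((Y.pullback B₀).isExtension.exact w).1 hw
    show Ideal.Quotient.mk (II Y Y') _ = 0
    rw [Ideal.Quotient.eq_zero_iff_mem]
    refine ⟨z, Subtype.ext (Prod.ext rfl ?_)⟩
    show Y'.incl z = (φ.toAlgEquiv ((Y.pullback B₀).incl z)).1.1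
    rw [φ.apply_incl]
    rfl
  let σ : B₀ →ₐ[A] (diffExt Y Y').E :=
    AlgHom.liftOfSurjective (Y.pullback B₀).proj (Y.pullback B₀).isExtension.proj_surjective τ hker
  have hσ : ∀ a : B₀, (diffExt Y Y').proj (σ a) = algebraMap B₀ B a := by
    intro a
    obtain ⟨w, rfl⟩ := (Y.pullback B₀).isExtension.proj_surjective a
    rw [AlgHom.liftOfSurjective_apply]
    show Y.proj w.1.1 = algebraMap B₀ B w.1.2
    exact w.2
  refine ⟨(σ.prod (AlgHom.id A B₀)).codRestrict ((diffExt Y Y').fiberProd B₀) ?_, ?_⟩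
  · intro a
    exact hσ a
  · intro a
    rfl

end Pull

end Diff

section Main

theorem main {k Λ R L : Type u} [CommRing k] [CommRing Λ] [CommRing R] [Algebra k Λ]
    [Algebra Λ R] [Algebra k R] [IsScalarTower k Λ R]
    [AddCommGroup L] [Module R L] [Module Λ L] [IsScalarTower Λ R L] [Module k L]
    [IsScalarTower k Λ L] [IsScalarTower k R L] :
    (∀ X : Exal.Ext Λ R L, X.IsTrivial) ↔
    ((∀ D : Derivation k Λ L, ∃ D' : Derivation k R L, ∀ a : Λ, D' (algebraMap Λ R a) = D a) ∧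
     (∀ Y Y' : Exal.Ext k R L,
        Nonempty ((Y.pullback Λ).Equiv (Y'.pullback Λ)) → Nonempty (Y.Equiv Y'))) := by
  constructor
  · intro H
    refine ⟨fun D => ?_, fun Y Y' hφ => ?_⟩
    · obtain ⟨D', hD'⟩ := (Groth.Agent.S5817.result (C := R) D).mp (H _)
      exact ⟨D', fun a => by rw [← hD']; rfl⟩
    · obtain ⟨φ⟩ := hφ
      have h1 := pullback_diff_isTrivial Y Y' Λ φ
      obtain ⟨X, ⟨e⟩⟩ := (Groth.Agent.S5819.result (B := Λ) (diffExt Y Y')).mp h1
      have h2 : (X.restrictBase k).IsTrivial := isTrivial_restrictBase k X (H X)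
      exact nonempty_equiv_of_diff_trivial Y Y' (isTrivial_of_equiv e h2)
  · rintro ⟨Ha, Hb⟩ X
    have h1 : ((X.restrictBase k).pullback Λ).IsTrivial :=
      (Groth.Agent.S5819.result (B := Λ) (X.restrictBase k)).mpr ⟨X, ⟨Ext.Equiv.refl _⟩⟩
    have h2 : ((Ext.trivial k R L).pullback Λ).IsTrivial := trivial_pullback_isTrivial k R L Λ
    obtain ⟨e1⟩ := nonempty_equiv_trivial _ h1
    obtain ⟨e2⟩ := nonempty_equiv_trivial _ h2
    obtain ⟨e⟩ := Hb (X.restrictBase k) (Ext.trivial k R L) ⟨e1.symm.trans e2⟩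
    have h3 : X.IsTrivialOver k := isTrivial_of_equiv e.symm (trivial_isTrivial k R L)
    obtain ⟨D, ⟨eD⟩⟩ := (Groth.Agent.S5818.result X).mp h3
    obtain ⟨D', hD'⟩ := Ha D
    have h4 : (Ext.ofDerivation (C := R) D).IsTrivial :=
      (Groth.Agent.S5817.result (C := R) D).mpr ⟨D', Derivation.ext (fun a => hD' a)⟩
    exact isTrivial_of_equiv eD.symm h4

end Main

end Groth.Agent.Helper1.SixTerm
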