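import Mathlib
import Groth.Prelude.Def_CotT2
import Groth.Prelude.Def_Exal
import Groth.Agent.Helper1.SixTerm

/-!
# `Exalcom_A(B, M) ≃ T¹(B/A, M)` for any presentation (S12292)
-/

set_option autoImplicit false
universe u
open scoped TensorProduct

namespace Groth.Agent.Helper1.ExalT1

open Exal Exal.Ext Groth.Agent.Helper1.ExalAux Groth.Agent.Helper1.SixTerm

section Push

variable {A R B M F : Type u} [CommRing A] [CommRing R] [CommRing B] [Algebra A R] [Algebra A B]
  [Algebra R B] [IsScalarTower A R B] [AddCommGroup M] [Module B M] [Module R M]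
  [IsScalarTower R B M] [AddCommGroup F] [Module R F]

/-- Push-out type construction: from a "cocycle" `c₁ : F → M` on a module of generators of the
kernel of `R → B`, build an `A`-extension of `B` by `M` with a lift `R → E`. -/
theorem exists_ext_of_lin (hsurj : Function.Surjective (algebraMap R B))
    (j : F →ₗ[R] R) (hj : ∀ r, algebraMap R B r = 0 ↔ ∃ f, j f = r)
    (c₁ : F →ₗ[R] M) (hc : ∀ f, j f = 0 → c₁ f = 0) :
    ∃ (X : Ext A B M) (g : R →ₐ[A] X.E), (∀ r, X.proj (g r) = algebraMap R B r) ∧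
      ∀ f, X.incl (c₁ f) = g (j f) := by
  classical
  obtain ⟨T, hT⟩ : ∃ T : Ext A R M, T = Ext.trivial A R M := ⟨_, rfl⟩
  obtain ⟨s₀, hs₀⟩ : T.IsTrivial := hT ▸ trivial_isTrivial A R M
  let κ : F → T.E := fun f => s₀ (j f) - T.incl (c₁ f)
  have hκ_def : ∀ f, κ f = s₀ (j f) - T.incl (c₁ f) := fun f => rfl
  have hκ_add : ∀ f f', κ (f + f') = κ f + κ f' := by
    intro f f'
    rw [hκ_def, hκ_def, hκ_def, map_add, map_add, map_add, map_add]
    abel
  have hκ_zero : κ 0 = 0 := by
    rw [hκ_def, map_zero, map_zero, map_zero, map_zero, sub_zero]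
  have hjm : ∀ (f : F) (m : M), j f • m = 0 := by
    intro f m
    rw [← algebraMap_smul B (j f) m, (hj (j f)).mpr ⟨f, rfl⟩, zero_smul]
  have hκ_mul : ∀ (x : T.E) (f : F), x * κ f = κ (T.proj x • f) := by
    intro x f
    obtain ⟨n, hn⟩ := exists_incl_eq_sub T x (s₀ (T.proj x)) (by rw [hs₀])
    have hx : x = s₀ (T.proj x) + T.incl n := by rw [hn]; abel
    have h1 : T.incl n * s₀ (j f) = 0 := by
      rw [mul_comm, T.isExtension.mul_incl, hs₀, hjm, map_zero]
    have h2 : x * s₀ (j f) = s₀ (j (T.proj x • f)) := by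
      conv_lhs => rw [hx]
      rw [add_mul, h1, add_zero, ← map_mul, map_smul, smul_eq_mul]
    have h3 : x * T.incl (c₁ f) = T.incl (c₁ (T.proj x • f)) := by
      rw [T.isExtension.mul_incl, LinearMap.map_smul c₁]
    rw [hκ_def, hκ_def, mul_sub, h2, h3]
  let K : Ideal T.E :=
    { carrier := Set.range κ
      add_mem' := by
        rintro _ _ ⟨f, rfl⟩ ⟨f', rfl⟩
        exact ⟨f + f', hκ_add f f'⟩
      zero_mem' := ⟨0, hκ_zero⟩
      smul_mem' := by
        rintro x _ ⟨f, rfl⟩
        exact ⟨T.proj x • f, (hκ_mul x f).symm⟩ }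
  have hK : ∀ y : T.E, y ∈ K ↔ ∃ f, κ f = y := fun y => Iff.rfl
  have hprojκ : ∀ f, T.proj (κ f) = j f := by
    intro f
    rw [hκ_def, map_sub, hs₀, proj_incl, sub_zero]
  let pr : T.E →ₐ[A] B := (IsScalarTower.toAlgHom A R B).comp T.proj
  have hpr : ∀ y, pr y = algebraMap R B (T.proj y) := fun y => rfl
  have hprK : ∀ a : T.E, a ∈ K → pr a = 0 := by
    rintro _ ⟨f, rfl⟩
    rw [hpr, hprojκ]
    exact (hj _).mpr ⟨f, rfl⟩
  have hext : IsExtension (Ideal.Quotient.liftₐ K pr hprK)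
      ((Ideal.Quotient.mk K).toAddMonoidHom.comp T.incl) := by
    refine ⟨?_, ?_, ?_, ?_⟩
    · intro b
      obtain ⟨r, rfl⟩ := hsurj b
      refine ⟨Ideal.Quotient.mk K (s₀ r), ?_⟩
      show pr (s₀ r) = _
      rw [hpr, hs₀]
    · intro m m' h
      have h0 : Ideal.Quotient.mk K (T.incl m) = Ideal.Quotient.mk K (T.incl m') := h
      have h1 : T.incl m - T.incl m' ∈ K := Ideal.Quotient.eq.mp h0
      obtain ⟨f, hf⟩ := (hK _).mp h1
      have h2 : j f = 0 := by
        rw [← hprojκ f, hf, map_sub, proj_incl, proj_incl, sub_zero]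
      have h3 : κ f = 0 := by
        rw [hκ_def, h2, map_zero, hc f h2, map_zero, sub_zero]
      rw [h3] at hf
      exact T.isExtension.incl_injective (sub_eq_zero.mp hf.symm)
    · intro x
      obtain ⟨y, rfl⟩ := Ideal.Quotient.mk_surjective x
      constructor
      · intro h
        have h0 : algebraMap R B (T.proj y) = 0 := h
        obtain ⟨f, hf⟩ := (hj _).mp h0
        obtain ⟨n, hn⟩ := exists_incl_eq_sub T y (s₀ (T.proj y)) (by rw [hs₀])
        refine ⟨c₁ f + n, ?_⟩
        show Ideal.Quotient.mk K (T.incl (c₁ f + n)) = Ideal.Quotient.mk K y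
        refine (Ideal.Quotient.eq.mpr ((hK _).mpr ⟨f, ?_⟩)).symm
        rw [hκ_def, hf, map_add, hn]
        abel
      · rintro ⟨m, hm⟩
        rw [← hm]
        show pr (T.incl m) = 0
        rw [hpr, proj_incl, map_zero]
    · intro x z
      obtain ⟨y, rfl⟩ := Ideal.Quotient.mk_surjective x
      show Ideal.Quotient.mk K y * Ideal.Quotient.mk K (T.incl z) =
        Ideal.Quotient.mk K (T.incl (pr y • z))
      rw [← map_mul, T.isExtension.mul_incl, hpr, algebraMap_smul]
  refine ⟨{ E := T.E ⧸ K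
            proj := Ideal.Quotient.liftₐ K pr hprK
            incl := (Ideal.Quotient.mk K).toAddMonoidHom.comp T.incl
            isExtension := hext }, (Ideal.Quotient.mkₐ A K).comp s₀, ?_, ?_⟩
  · intro r
    show pr (s₀ r) = _
    rw [hpr, hs₀]
  · intro f
    show Ideal.Quotient.mk K (T.incl (c₁ f)) = Ideal.Quotient.mk K (s₀ (j f))
    exact (Ideal.Quotient.eq.mpr ((hK _).mpr ⟨f, rfl⟩)).symm

end Push

section Pres

open CotT

variable {A B : Type u} [CommRing A] [CommRing B] [Algebra A B] {ι σ : Type u}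
  (P : Algebra.Presentation A B ι σ) {M : Type u} [AddCommGroup M] [Module B M]

/-- The extension `X` and the map `c : L₁ → M` are related: some lift `g : R → E` of `R → B`
restricts on the kernel to `c`. -/
def Rel (X : Ext A B M) (c : L1 P →ₗ[B] M) : Prop :=
  ∃ g : P.toExtension.Ring →ₐ[A] X.E, (∀ r, X.proj (g r) = algebraMap P.toExtension.Ring B r) ∧
    ∀ f : relMod P, X.incl (c ((1 : B) ⊗ₜ[P.toExtension.Ring] f)) = g (jmap P f)

theorem cocycle_of_rel {X : Ext A B M} {c : L1 P →ₗ[B] M} (h : Rel P X c) :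
    c ∈ cocycles1 P M := by
  obtain ⟨g, hg, hc⟩ := h
  rw [LinearMap.mem_ker, d2Star_apply]
  refine Submodule.linearMap_qext _ ?_
  rw [LinearMap.comp_assoc, d2_comp_mkQ, LinearMap.zero_comp]
  letI : Module P.toExtension.Ring M := Module.compHom M (algebraMap P.toExtension.Ring B)
  haveI : IsScalarTower P.toExtension.Ring B M := IsScalarTower.of_compHom P.toExtension.Ring B M
  refine TensorProduct.AlgebraTensorModule.ext fun b q => ?_
  simp only [LinearMap.coe_comp, Function.comp_apply, LinearMap.baseChange_tmul,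
    Submodule.coe_subtype, LinearMap.zero_apply]
  have hq : jmap P (q : relMod P) = 0 := q.2
  have h1 : c ((1 : B) ⊗ₜ[P.toExtension.Ring] (q : relMod P)) = 0 := by
    apply X.isExtension.incl_injective
    rw [hc, hq, map_zero, map_zero]
  have h2 : (b ⊗ₜ[P.toExtension.Ring] (q : relMod P) : L1 P) =
      b • ((1 : B) ⊗ₜ[P.toExtension.Ring] (q : relMod P)) := by
    rw [TensorProduct.smul_tmul', smul_eq_mul, mul_one]
  rw [h2, map_smul, h1, smul_zero]

theorem exists_rel (X : Ext A B M) : ∃ c : L1 P →ₗ[B] M, Rel P X c := by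
  classical
  choose e he using fun i : ι => X.isExtension.proj_surjective
    (algebraMap P.toExtension.Ring B (MvPolynomial.X i))
  let g : P.toExtension.Ring →ₐ[A] X.E := MvPolynomial.aeval e
  have hg : ∀ r, X.proj (g r) = algebraMap P.toExtension.Ring B r := by
    have h1 : X.proj.comp g = IsScalarTower.toAlgHom A P.toExtension.Ring B := by
      apply MvPolynomial.algHom_ext
      intro i
      show X.proj (MvPolynomial.aeval e (MvPolynomial.X i)) =
        algebraMap P.toExtension.Ring B (MvPolynomial.X i)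
      rw [MvPolynomial.aeval_X, he]
    intro r
    exact AlgHom.congr_fun h1 r
  have hz : ∀ s : σ, X.proj (g (rel P s)) = 0 := fun s => by rw [hg, algebraMap_rel]
  let c : L1 P →ₗ[B] M := (L1basis P).constr B (fun s => X.kerLift (g (rel P s)) (hz s))
  refine ⟨c, g, hg, ?_⟩
  intro f
  induction f using Finsupp.induction_linear with
  | zero => rw [TensorProduct.tmul_zero, map_zero, map_zero, map_zero, map_zero]
  | add f f' hf hf' =>
    rw [TensorProduct.tmul_add, map_add, map_add, hf, hf', map_add, map_add]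
  | single s r =>
    have h1 : ((1 : B) ⊗ₜ[P.toExtension.Ring] (Finsupp.single s r : relMod P) : L1 P) =
        algebraMap P.toExtension.Ring B r • L1basis P s := by
      rw [L1basis_apply, algebraMap_smul, ← TensorProduct.tmul_smul, Finsupp.smul_single,
        smul_eq_mul, mul_one]
    rw [h1, LinearMap.map_smul c, Module.Basis.constr_basis, incl_smul X _ (g r) (hg r),
      X.incl_kerLift, ← map_mul, jmap_single]

theorem rel_of_equiv {X X' : Ext A B M} {c : L1 P →ₗ[B] M} (h : Rel P X c) (θ : X.Equiv X') :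
    Rel P X' c := by
  obtain ⟨g, hg, hc⟩ := h
  refine ⟨θ.toAlgEquiv.toAlgHom.comp g, fun r => ?_, fun f => ?_⟩
  · show X'.proj (θ.toAlgEquiv (g r)) = _
    rw [θ.proj_apply, hg]
  · show X'.incl _ = θ.toAlgEquiv (g (jmap P f))
    rw [← hc, θ.apply_incl]

theorem lemmaD (X : Ext A B M) (g₁ g₂ : P.toExtension.Ring →ₐ[A] X.E)
    (h₁ : ∀ r, X.proj (g₁ r) = algebraMap P.toExtension.Ring B r)
    (h₂ : ∀ r, X.proj (g₂ r) = algebraMap P.toExtension.Ring B r)
    (ψ : L0 P →ₗ[B] M)
    (hψ : ∀ i, X.incl (ψ ((1 : B) ⊗ₜ[P.toExtension.Ring]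
      KaehlerDifferential.D A P.toExtension.Ring (MvPolynomial.X i))) =
        g₁ (MvPolynomial.X i) - g₂ (MvPolynomial.X i))
    (r : P.toExtension.Ring) :
    X.incl (ψ ((1 : B) ⊗ₜ[P.toExtension.Ring] KaehlerDifferential.D A P.toExtension.Ring r)) =
      g₁ r - g₂ r := by
  refine MvPolynomial.induction_on (motive := fun r : P.toExtension.Ring =>
    X.incl (ψ ((1 : B) ⊗ₜ[P.toExtension.Ring] KaehlerDifferential.D A P.toExtension.Ring r)) =
      g₁ r - g₂ r) r ?_ ?_ ?_
  · intro a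
    show X.incl (ψ ((1 : B) ⊗ₜ[P.toExtension.Ring]
      KaehlerDifferential.D A P.toExtension.Ring (algebraMap A P.toExtension.Ring a))) =
        g₁ (algebraMap A P.toExtension.Ring a) - g₂ (algebraMap A P.toExtension.Ring a)
    rw [Derivation.map_algebraMap, TensorProduct.tmul_zero, map_zero, map_zero, AlgHom.commutes,
      AlgHom.commutes, sub_self]
  · intro (p : P.toExtension.Ring) (q : P.toExtension.Ring) hp hq
    show X.incl (ψ ((1 : B) ⊗ₜ[P.toExtension.Ring]
      KaehlerDifferential.D A P.toExtension.Ring (p + q))) = g₁ (p + q) - g₂ (p + q)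
    rw [map_add, TensorProduct.tmul_add, map_add, map_add, hp, hq, map_add, map_add]
    abel
  · intro (p : P.toExtension.Ring) i hp
    let Xi : P.toExtension.Ring := MvPolynomial.X i
    have hψi : X.incl (ψ ((1 : B) ⊗ₜ[P.toExtension.Ring]
        KaehlerDifferential.D A P.toExtension.Ring Xi)) = g₁ Xi - g₂ Xi := hψ i
    show X.incl (ψ ((1 : B) ⊗ₜ[P.toExtension.Ring]
      KaehlerDifferential.D A P.toExtension.Ring (p * Xi))) = g₁ (p * Xi) - g₂ (p * Xi)
    have hL : ((1 : B) ⊗ₜ[P.toExtension.Ring]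
        KaehlerDifferential.D A P.toExtension.Ring (p * Xi) : L0 P) =
        algebraMap P.toExtension.Ring B p • ((1 : B) ⊗ₜ[P.toExtension.Ring]
          KaehlerDifferential.D A P.toExtension.Ring Xi) +
        algebraMap P.toExtension.Ring B Xi • ((1 : B) ⊗ₜ[P.toExtension.Ring]
          KaehlerDifferential.D A P.toExtension.Ring p) := by
      rw [Derivation.leibniz, TensorProduct.tmul_add, TensorProduct.tmul_smul,
        TensorProduct.tmul_smul, algebraMap_smul, algebraMap_smul]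
    rw [hL, map_add, LinearMap.map_smul ψ, LinearMap.map_smul ψ, map_add,
      incl_smul X _ (g₁ p) (h₁ p), incl_smul X _ (g₂ Xi) (h₂ Xi), hψi, hp, map_mul, map_mul]
    ring

theorem coboundary_of_rel {X : Ext A B M} {c c' : L1 P →ₗ[B] M} (h : Rel P X c)
    (h' : Rel P X c') : ∃ ψ : L0 P →ₗ[B] M, ψ ∘ₗ d1 P = c - c' := by
  classical
  obtain ⟨g₁, h₁, hc₁⟩ := h
  obtain ⟨g₂, h₂, hc₂⟩ := h'
  have hz : ∀ i : ι, X.proj (g₁ (MvPolynomial.X i) - g₂ (MvPolynomial.X i)) = 0 := fun i => by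
    rw [map_sub, h₁, h₂, sub_self]
  let ψ : L0 P →ₗ[B] M := P.cotangentSpaceBasis.constr B (fun i => X.kerLift _ (hz i))
  have hψ : ∀ i, X.incl (ψ ((1 : B) ⊗ₜ[P.toExtension.Ring]
      KaehlerDifferential.D A P.toExtension.Ring (MvPolynomial.X i))) =
        g₁ (MvPolynomial.X i) - g₂ (MvPolynomial.X i) := by
    intro i
    have h0 : ((1 : B) ⊗ₜ[P.toExtension.Ring]
        KaehlerDifferential.D A P.toExtension.Ring (MvPolynomial.X i) : L0 P) =
        P.cotangentSpaceBasis i := (Algebra.Generators.cotangentSpaceBasis_apply _ i).symm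
    rw [h0, Module.Basis.constr_basis, X.incl_kerLift]
  refine ⟨ψ, ?_⟩
  refine (L1basis P).ext fun s => ?_
  apply X.isExtension.incl_injective
  rw [LinearMap.comp_apply, L1basis_apply, d1_tmul, one_smul,
    lemmaD P X g₁ g₂ h₁ h₂ ψ hψ, LinearMap.sub_apply, map_sub, hc₁, hc₂]

theorem rel_add_coboundary {X : Ext A B M} {c : L1 P →ₗ[B] M} (h : Rel P X c)
    (ψ : L0 P →ₗ[B] M) : Rel P X (c + ψ ∘ₗ d1 P) := by
  classical
  obtain ⟨g, hg, hc⟩ := h
  let g₂ : P.toExtension.Ring →ₐ[A] X.E := MvPolynomial.aeval (fun i =>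
    g (MvPolynomial.X i) + X.incl (ψ ((1 : B) ⊗ₜ[P.toExtension.Ring]
      KaehlerDifferential.D A P.toExtension.Ring (MvPolynomial.X i))))
  have hg₂X : ∀ i, g₂ (MvPolynomial.X i) = g (MvPolynomial.X i) +
      X.incl (ψ ((1 : B) ⊗ₜ[P.toExtension.Ring]
        KaehlerDifferential.D A P.toExtension.Ring (MvPolynomial.X i))) :=
    fun i => MvPolynomial.aeval_X _ i
  have hg₂ : ∀ r, X.proj (g₂ r) = algebraMap P.toExtension.Ring B r := by
    have h1 : X.proj.comp g₂ = IsScalarTower.toAlgHom A P.toExtension.Ring B := by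
      apply MvPolynomial.algHom_ext
      intro i
      show X.proj (g₂ (MvPolynomial.X i)) = algebraMap P.toExtension.Ring B (MvPolynomial.X i)
      rw [hg₂X, map_add, proj_incl, add_zero, hg]
    intro r
    exact AlgHom.congr_fun h1 r
  have hD := lemmaD P X g₂ g hg₂ hg ψ (fun i => by
    rw [hg₂X]; exact (add_sub_cancel_left _ _).symm)
  refine ⟨g₂, hg₂, fun f => ?_⟩
  rw [LinearMap.add_apply, LinearMap.comp_apply, d1_tmul, one_smul, map_add, hc, hD]
  abel

theorem equiv_of_rel_same {X X' : Ext A B M} {c : L1 P →ₗ[B] M} (h : Rel P X c)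
    (h' : Rel P X' c) : Nonempty (X.Equiv X') := by
  obtain ⟨g, hg, hc⟩ := h
  obtain ⟨g', hg', hc'⟩ := h'
  apply nonempty_equiv_of_diff_trivial
  let G : P.toExtension.Ring →ₐ[A] PP X X' := AlgHom.codRestrict (g.prod g') (PP X X') (fun r => by
    rw [mem_PP]
    show X.proj (g r) = X'.proj (g' r)
    rw [hg, hg'])
  let q : P.toExtension.Ring →ₐ[A] (diffExt X X').E := (Ideal.Quotient.mkₐ A (II X X')).comp G
  have hq : ∀ r, (diffExt X X').proj (q r) = algebraMap P.toExtension.Ring B r := by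
    intro r
    show X.proj (g r) = _
    exact hg r
  have hker : RingHom.ker (IsScalarTower.toAlgHom A P.toExtension.Ring B).toRingHom ≤
      RingHom.ker q.toRingHom := by
    intro x hx
    have hx0 : algebraMap P.toExtension.Ring B x = 0 := RingHom.mem_ker.mp hx
    have hx1 : x ∈ LinearMap.range (jmap P) := by
      rw [range_jmap]; exact RingHom.mem_ker.mpr hx0
    obtain ⟨f, rfl⟩ := hx1
    rw [RingHom.mem_ker]
    show Ideal.Quotient.mk (II X X') (G (jmap P f)) = 0
    rw [Ideal.Quotient.eq_zero_iff_mem, mem_II]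
    refine ⟨c ((1 : B) ⊗ₜ[P.toExtension.Ring] f), Subtype.ext (Prod.ext ?_ ?_)⟩
    · exact hc f
    · exact hc' f
  refine ⟨AlgHom.liftOfSurjective (IsScalarTower.toAlgHom A P.toExtension.Ring B)
    P.toExtension.algebraMap_surjective q hker, fun b => ?_⟩
  obtain ⟨r, rfl⟩ := P.toExtension.algebraMap_surjective b
  have h1 : AlgHom.liftOfSurjective (IsScalarTower.toAlgHom A P.toExtension.Ring B)
      P.toExtension.algebraMap_surjective q hker (algebraMap P.toExtension.Ring B r) = q r :=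
    AlgHom.liftOfSurjective_apply (IsScalarTower.toAlgHom A P.toExtension.Ring B) _ q hker r
  rw [h1, hq]

theorem exists_ext_of_cocycle {c : L1 P →ₗ[B] M} (hc : c ∈ cocycles1 P M) :
    ∃ X : Ext A B M, Rel P X c := by
  letI : Module P.toExtension.Ring M := Module.compHom M (algebraMap P.toExtension.Ring B)
  haveI : IsScalarTower P.toExtension.Ring B M := IsScalarTower.of_compHom P.toExtension.Ring B M
  let c₁ : relMod P →ₗ[P.toExtension.Ring] M :=
    { toFun := fun f => c ((1 : B) ⊗ₜ[P.toExtension.Ring] f)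
      map_add' := fun f f' => by rw [TensorProduct.tmul_add, map_add]
      map_smul' := fun r f => by
        rw [RingHom.id_apply, TensorProduct.tmul_smul,
          ← algebraMap_smul B r ((1 : B) ⊗ₜ[P.toExtension.Ring] f), map_smul, algebraMap_smul] }
  have hc0 : c ∘ₗ d2 P = 0 := by rwa [LinearMap.mem_ker, d2Star_apply] at hc
  have hc₁ : ∀ f, jmap P f = 0 → c₁ f = 0 := by
    intro f hf
    have h1 := LinearMap.congr_fun hc0 (Submodule.Quotient.mk
      ((1 : B) ⊗ₜ[P.toExtension.Ring] (⟨f, LinearMap.mem_ker.mpr hf⟩ : relKer P)))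
    rw [LinearMap.comp_apply, d2_mk_tmul, LinearMap.zero_apply] at h1
    exact h1
  have hj : ∀ r, algebraMap P.toExtension.Ring B r = 0 ↔ ∃ f, jmap P f = r := by
    intro r
    constructor
    · intro h
      have h1 : r ∈ LinearMap.range (jmap P) := by
        rw [range_jmap]; exact RingHom.mem_ker.mpr h
      exact h1
    · rintro ⟨f, rfl⟩
      exact algebraMap_jmap P f
  obtain ⟨X, g, hg, hX⟩ := exists_ext_of_lin (A := A) P.toExtension.algebraMap_surjective
    (jmap P) hj c₁ hc₁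
  exact ⟨X, g, hg, hX⟩

theorem rel_trivial_zero : Rel P (Ext.trivial A B M) (0 : L1 P →ₗ[B] M) := by
  obtain ⟨s, hs⟩ := trivial_isTrivial A B M
  refine ⟨s.comp (IsScalarTower.toAlgHom A P.toExtension.Ring B), fun r => ?_, fun f => ?_⟩
  · show (Ext.trivial A B M).proj (s (algebraMap P.toExtension.Ring B r)) = _
    rw [hs]
  · show (Ext.trivial A B M).incl ((0 : L1 P →ₗ[B] M) _) =
      s (algebraMap P.toExtension.Ring B (jmap P f))
    rw [LinearMap.zero_apply, map_zero, algebraMap_jmap, map_zero]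

theorem mk_eq_iff (c c' : cocycles1 P M) :
    ((Submodule.Quotient.mk c : T1 P M) = Submodule.Quotient.mk c') ↔
      ∃ ψ : L0 P →ₗ[B] M, ψ ∘ₗ d1 P = c.1 - c'.1 := by
  rw [Submodule.Quotient.eq]
  constructor
  · intro h
    obtain ⟨ψ, hψ⟩ := (Submodule.mem_comap.mp h :
      ((cocycles1 P M).subtype (c - c')) ∈ LinearMap.range (d1Star P M))
    exact ⟨ψ, hψ⟩
  · rintro ⟨ψ, hψ⟩
    exact Submodule.mem_comap.mpr ⟨ψ, hψ⟩

theorem key {X X' : Ext A B M} {c c' : L1 P →ₗ[B] M} (h : Rel P X c) (h' : Rel P X' c') :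
    Nonempty (X.Equiv X') ↔ ∃ ψ : L0 P →ₗ[B] M, ψ ∘ₗ d1 P = c - c' := by
  constructor
  · rintro ⟨θ⟩
    exact coboundary_of_rel P (rel_of_equiv P h θ) h'
  · rintro ⟨ψ, hψ⟩
    have h1 : Rel P X' (c' + ψ ∘ₗ d1 P) := rel_add_coboundary P h' ψ
    have h2 : c' + ψ ∘ₗ d1 P = c := by rw [hψ]; abel
    rw [h2] at h1
    exact equiv_of_rel_same P h h1

theorem main : ∃ e : Exalcom A B M ≃ T1 P M, e 0 = 0 := by
  classical
  choose cX hcX using fun X : Ext A B M => exists_rel P X
  have hcoc : ∀ X, cX X ∈ cocycles1 P M := fun X => cocycle_of_rel P (hcX X)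
  let e₀ : Exalcom A B M → T1 P M :=
    Quotient.lift (fun X => (Submodule.Quotient.mk ⟨cX X, hcoc X⟩ : T1 P M))
      (fun X X' h => (mk_eq_iff P _ _).mpr ((key P (hcX X) (hcX X')).mp h))
  have he₀ : ∀ X : Ext A B M, e₀ X.cl = Submodule.Quotient.mk ⟨cX X, hcoc X⟩ := fun X => rfl
  have hinj : Function.Injective e₀ := by
    intro x y hxy
    obtain ⟨X, rfl⟩ := Quotient.exists_rep x
    obtain ⟨Y, rfl⟩ := Quotient.exists_rep y
    apply Quotient.sound
    have h1 : (Submodule.Quotient.mk ⟨cX X, hcoc X⟩ : T1 P M) =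
        Submodule.Quotient.mk ⟨cX Y, hcoc Y⟩ := hxy
    exact (key P (hcX X) (hcX Y)).mpr ((mk_eq_iff P _ _).mp h1)
  have hsurj : Function.Surjective e₀ := by
    intro t
    obtain ⟨⟨c, hc⟩, rfl⟩ := Submodule.Quotient.mk_surjective _ t
    obtain ⟨X, hX⟩ := exists_ext_of_cocycle P hc
    refine ⟨X.cl, ?_⟩
    rw [he₀]
    exact (mk_eq_iff P _ _).mpr ((key P (hcX X) hX).mp ⟨Ext.Equiv.refl X⟩)
  refine ⟨Equiv.ofBijective e₀ ⟨hinj, hsurj⟩, ?_⟩
  rw [Equiv.ofBijective_apply]
  show e₀ (Ext.trivial A B M).cl = 0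
  rw [he₀]
  have h0 : Rel P (Ext.trivial A B M) (0 : L1 P →ₗ[B] M) := rel_trivial_zero P
  have h1 := (key P (hcX _) h0).mp ⟨Ext.Equiv.refl _⟩
  have h2 : (Submodule.Quotient.mk ⟨cX (Ext.trivial A B M), hcoc _⟩ : T1 P M) =
      Submodule.Quotient.mk (0 : cocycles1 P M) := (mk_eq_iff P _ _).mpr h1
  rw [h2, Submodule.Quotient.mk_zero]

end Pres

end Groth.Agent.Helper1.ExalT1
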