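import Mathlib

set_option autoImplicit false
universe u

namespace Groth.Agent.Helper1.FPRel

section La
variable {B B' N : Type*} [CommRing B] [CommRing B'] [Algebra B B'] [AddCommGroup N] [Module B N]
  [Module B' N] [IsScalarTower B B' N]

theorem fp_of_fp_quot (hs : Function.Surjective (algebraMap B B'))
    (hJ : (RingHom.ker (algebraMap B B')).FG) (h : Module.FinitePresentation B' N) :
    Module.FinitePresentation B N := by
  haveI : Module.FinitePresentation B B' := by
    refine Module.finitePresentation_of_surjective (Algebra.linearMap B B') hs ?_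
    have : LinearMap.ker (Algebra.linearMap B B') = RingHom.ker (algebraMap B B') := by
      ext x
      simp [RingHom.mem_ker]
    rw [this]
    exact hJ
  exact Module.FinitePresentation.trans B N B'

theorem fp_quot_of_fp (hs : Function.Surjective (algebraMap B B'))
    (h : Module.FinitePresentation B N) : Module.FinitePresentation B' N := by
  haveI : Module.Finite B' N := Module.Finite.of_restrictScalars_finite B B' N
  obtain ⟨b, p', hp'⟩ := Module.Finite.exists_fin' B' N
  let q : (Fin b → B) →ₗ[B] (Fin b → B') := (Algebra.linearMap B B').compLeft (Fin b)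
  have hq : Function.Surjective q := by
    intro y
    choose x hx using fun i => hs (y i)
    exact ⟨x, funext hx⟩
  let p : (Fin b → B) →ₗ[B] N := (p'.restrictScalars B).comp q
  have hp : Function.Surjective p := hp'.comp hq
  have hk : (LinearMap.ker p).FG := Module.FinitePresentation.fg_ker p hp
  have hk' : ((LinearMap.ker p').restrictScalars B) = (LinearMap.ker p).map q := by
    ext y
    constructor
    · intro hy
      obtain ⟨x, rfl⟩ := hq y
      exact ⟨x, hy, rfl⟩
    · rintro ⟨x, hx, rfl⟩
      exact hx
  refine Module.finitePresentation_of_surjective p' hp' ?_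
  apply Submodule.FG.of_restrictScalars B
  rw [hk']
  exact hk.map q

end La

/-- finitely presented through a ring hom -/
def FPvia {B A : Type*} [CommRing B] [CommRing A] (ρ : B →+* A) (M : Type*) [AddCommGroup M]
    [Module A M] : Prop :=
  @Module.FinitePresentation B M _ _ (Module.compHom M ρ)

theorem FPvia_comp_iff {B B' A : Type*} [CommRing B] [CommRing B'] [CommRing A] (π : B →+* B')
    (hπ : Function.Surjective π) (hJ : (RingHom.ker π).FG) (ρ' : B' →+* A) (M : Type*)
    [AddCommGroup M] [Module A M] : FPvia ρ' M ↔ FPvia (ρ'.comp π) M := by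
  letI : Algebra B B' := π.toAlgebra
  letI : Module B' M := Module.compHom M ρ'
  letI : Module B M := Module.compHom M (ρ'.comp π)
  haveI : IsScalarTower B B' M := IsScalarTower.of_algebraMap_smul fun r x => rfl
  exact ⟨fun h => fp_of_fp_quot hπ hJ h, fun h => fp_quot_of_fp hπ h⟩

theorem FPvia_indep {R A : Type*} [CommRing R] [CommRing A] [Algebra R A] {σ τ : Type*} [Finite σ]
    [Finite τ] (α : MvPolynomial σ R →ₐ[R] A) (hα : Function.Surjective α)
    (β : MvPolynomial τ R →ₐ[R] A) (hβ : Function.Surjective β)
    (M : Type*) [AddCommGroup M] [Module A M] (h : FPvia α.toRingHom M) : FPvia β.toRingHom M := by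
  classical
  choose p hp using fun j : τ => hα (β (MvPolynomial.X j))
  choose p' hp' using fun i : σ => hβ (α (MvPolynomial.X i))
  let π : MvPolynomial (σ ⊕ τ) R →ₐ[R] MvPolynomial σ R :=
    MvPolynomial.aeval (Sum.elim MvPolynomial.X p)
  let π' : MvPolynomial (σ ⊕ τ) R →ₐ[R] MvPolynomial τ R :=
    MvPolynomial.aeval (Sum.elim p' MvPolynomial.X)
  have hπ : Function.Surjective π := fun q =>
    ⟨MvPolynomial.rename Sum.inl q, by
      show MvPolynomial.aeval (Sum.elim MvPolynomial.X p) (MvPolynomial.rename Sum.inl q) = q
      rw [MvPolynomial.aeval_rename, Sum.elim_comp_inl, MvPolynomial.aeval_X_left_apply]⟩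
  have hπ' : Function.Surjective π' := fun q =>
    ⟨MvPolynomial.rename Sum.inr q, by
      show MvPolynomial.aeval (Sum.elim p' MvPolynomial.X) (MvPolynomial.rename Sum.inr q) = q
      rw [MvPolynomial.aeval_rename, Sum.elim_comp_inr, MvPolynomial.aeval_X_left_apply]⟩
  have hc : α.comp π = β.comp π' := by
    apply MvPolynomial.algHom_ext
    rintro (i | j)
    · simp [π, π', hp']
    · simp [π, π', hp]
  have hJ : (RingHom.ker π.toRingHom).FG := Algebra.FinitePresentation.ker_fG_of_surjective π hπ
  have hJ' : (RingHom.ker π'.toRingHom).FG :=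
    Algebra.FinitePresentation.ker_fG_of_surjective π' hπ'
  have h1 : FPvia (α.toRingHom.comp π.toRingHom) M :=
    (FPvia_comp_iff π.toRingHom hπ hJ α.toRingHom M).mp h
  have h2 : FPvia (β.toRingHom.comp π'.toRingHom) M := by
    have : α.toRingHom.comp π.toRingHom = β.toRingHom.comp π'.toRingHom :=
      RingHom.ext fun x => AlgHom.congr_fun hc x
    rwa [this] at h1
  exact (FPvia_comp_iff π'.toRingHom hπ' hJ' β.toRingHom M).mpr h2

section Loc
variable {R A : Type*} [CommRing R] [CommRing A] [Algebra R A] {σ : Type*} [Finite σ]
  (α : MvPolynomial σ R →ₐ[R] A) (M : Type*) [AddCommGroup M] [Module A M] (g : MvPolynomial σ R)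

theorem awayMap_algebraMap (p : MvPolynomial σ R) :
    Localization.awayMapₐ α g (algebraMap _ _ p) =
      algebraMap A (Localization.Away (α g)) (α p) := by
  show IsLocalization.Away.map _ _ α.toRingHom g (algebraMap _ _ p) = _
  exact IsLocalization.map_eq _ _

theorem FPvia_localization (h : FPvia α.toRingHom M) :
    FPvia (Localization.awayMapₐ α g).toRingHom
      (LocalizedModule (Submonoid.powers (α g)) M) := by
  letI : Algebra (MvPolynomial σ R) A := α.toRingHom.toAlgebra
  letI : Module (MvPolynomial σ R) M := Module.compHom M α.toRingHom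
  haveI : IsScalarTower (MvPolynomial σ R) A M :=
    IsScalarTower.of_algebraMap_smul fun r x => rfl
  letI : Module (Localization.Away g) (LocalizedModule (Submonoid.powers (α g)) M) :=
    Module.compHom _ (Localization.awayMapₐ α g).toRingHom
  haveI : IsScalarTower (MvPolynomial σ R) (Localization.Away g)
      (LocalizedModule (Submonoid.powers (α g)) M) := by
    refine IsScalarTower.of_algebraMap_smul fun r x => ?_
    show (Localization.awayMapₐ α g) (algebraMap _ _ r) • x = r • x
    rw [awayMap_algebraMap, algebraMap_smul]
    exact algebraMap_smul A r x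
  haveI : Module.FinitePresentation (MvPolynomial σ R) M := h
  haveI : IsLocalizedModule (Submonoid.powers (algebraMap (MvPolynomial σ R) A g))
      (LocalizedModule.mkLinearMap (Submonoid.powers (α g)) M) :=
    inferInstanceAs (IsLocalizedModule (Submonoid.powers (α g))
      (LocalizedModule.mkLinearMap (Submonoid.powers (α g)) M))
  haveI := IsLocalizedModule.restrictScalars_powers g
    (LocalizedModule.mkLinearMap (Submonoid.powers (α g)) M)
  exact FinitePresentation.of_isBaseChange _
    ((isLocalizedModule_iff_isBaseChange (Submonoid.powers g) (Localization.Away g)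
      ((LocalizedModule.mkLinearMap (Submonoid.powers (α g)) M).restrictScalars
        (MvPolynomial σ R))).mp inferInstance)

theorem FPvia_of_cover (hα : Function.Surjective α) {ι : Type*} (gs : ι → MvPolynomial σ R)
    (hcover : Ideal.span (Set.range fun i => α (gs i)) = ⊤)
    (h : ∀ i, FPvia (Localization.awayMapₐ α (gs i)).toRingHom
      (LocalizedModule (Submonoid.powers (α (gs i))) M)) :
    FPvia α.toRingHom M := by
  letI : Algebra (MvPolynomial σ R) A := α.toRingHom.toAlgebra
  letI : Module (MvPolynomial σ R) M := Module.compHom M α.toRingHom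
  haveI : IsScalarTower (MvPolynomial σ R) A M :=
    IsScalarTower.of_algebraMap_smul fun r x => rfl
  show Module.FinitePresentation (MvPolynomial σ R) M
  have hs : Ideal.span (Set.range gs ∪
      (RingHom.ker α.toRingHom : Set (MvPolynomial σ R))) = ⊤ := by
    rw [Ideal.span_union, Ideal.span_eq]
    have h1 : Ideal.map α.toRingHom (Ideal.span (Set.range gs)) = ⊤ := by
      rw [Ideal.map_span, ← Set.range_comp]
      exact hcover
    have h2 := Ideal.comap_map_of_surjective α.toRingHom hα (Ideal.span (Set.range gs))
    rw [h1, Ideal.comap_top] at h2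
    rw [RingHom.ker_eq_comap_bot]
    exact h2.symm
  refine Module.FinitePresentation.of_localizationSpan _ hs ?_
  rintro ⟨x, hx⟩
  rcases hx with ⟨i, rfl⟩ | hx
  · letI : Module (Localization.Away (gs i))
        (LocalizedModule (Submonoid.powers (α (gs i))) M) :=
      Module.compHom _ (Localization.awayMapₐ α (gs i)).toRingHom
    haveI : IsScalarTower (MvPolynomial σ R) (Localization.Away (gs i))
        (LocalizedModule (Submonoid.powers (α (gs i))) M) := by
      refine IsScalarTower.of_algebraMap_smul fun r x => ?_
      show (Localization.awayMapₐ α (gs i)) (algebraMap _ _ r) • x = r • x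
      rw [awayMap_algebraMap, algebraMap_smul]
      exact algebraMap_smul A r x
    haveI : IsLocalizedModule (Submonoid.powers (algebraMap (MvPolynomial σ R) A (gs i)))
        (LocalizedModule.mkLinearMap (Submonoid.powers (α (gs i))) M) :=
      inferInstanceAs (IsLocalizedModule (Submonoid.powers (α (gs i)))
        (LocalizedModule.mkLinearMap (Submonoid.powers (α (gs i))) M))
    haveI := IsLocalizedModule.restrictScalars_powers (gs i)
      (LocalizedModule.mkLinearMap (Submonoid.powers (α (gs i))) M)
    haveI : Module.FinitePresentation (Localization.Away (gs i))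
        (LocalizedModule (Submonoid.powers (α (gs i))) M) := h i
    let e₀ := IsLocalizedModule.iso (Submonoid.powers (gs i))
      ((LocalizedModule.mkLinearMap (Submonoid.powers (α (gs i))) M).restrictScalars
        (MvPolynomial σ R))
    let e := e₀.extendScalarsOfIsLocalization (Submonoid.powers (gs i))
      (Localization.Away (gs i))
    exact Module.FinitePresentation.of_equiv e.symm
  · haveI : Subsingleton (LocalizedModule (Submonoid.powers x) M) := by
      rw [LocalizedModule.subsingleton_iff]
      intro m
      refine ⟨x, Submonoid.mem_powers x, ?_⟩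
      show α x • m = 0
      have : α x = 0 := RingHom.mem_ker.mp hx
      rw [this, zero_smul]
    infer_instance

theorem FPvia_away_iff (hα : Function.Surjective α) {τ : Type*} [Finite τ]
    (γ : MvPolynomial τ R →ₐ[R] Localization.Away (α g)) (hγ : Function.Surjective γ)
    (N : Type*) [AddCommGroup N] [Module (Localization.Away (α g)) N] :
    FPvia (Localization.awayMapₐ α g).toRingHom N ↔ FPvia γ.toRingHom N := by
  haveI : Algebra.FinitePresentation (MvPolynomial σ R) (Localization.Away g) :=
    IsLocalization.Away.finitePresentation g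
  haveI : Algebra.FinitePresentation R (Localization.Away g) :=
    Algebra.FinitePresentation.trans R (MvPolynomial σ R) (Localization.Away g)
  obtain ⟨n, δ, hδ⟩ := Algebra.FiniteType.iff_quotient_mvPolynomial''.mp
    (inferInstance : Algebra.FiniteType R (Localization.Away g))
  have hJ : (RingHom.ker δ.toRingHom).FG := Algebra.FinitePresentation.ker_fG_of_surjective δ hδ
  have hθ : Function.Surjective (Localization.awayMapₐ α g) :=
    IsLocalization.Away.mapₐ_surjective_of_surjective g hα
  have e1 := FPvia_comp_iff δ.toRingHom hδ hJ (Localization.awayMapₐ α g).toRingHom N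
  have hsurj : Function.Surjective ((Localization.awayMapₐ α g).comp δ) := hθ.comp hδ
  constructor
  · intro h
    have h1 : FPvia ((Localization.awayMapₐ α g).comp δ).toRingHom N := e1.mp h
    exact FPvia_indep _ hsurj γ hγ N h1
  · intro h
    have h1 : FPvia ((Localization.awayMapₐ α g).comp δ).toRingHom N :=
      FPvia_indep γ hγ _ hsurj N h
    exact e1.mpr h1

end Loc

theorem main7007 {R A : Type u} [CommRing R] [CommRing A] [Algebra R A] {n : ℕ}
    (α : MvPolynomial (Fin n) R →ₐ[R] A) (hα : Function.Surjective α) (M : Type u)
    [AddCommGroup M] [Module A M] {r : ℕ} (f : Fin r → A)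
    (hf : Ideal.span (Set.range f) = ⊤) (k : Fin r → ℕ)
    (γ : ∀ i, MvPolynomial (Fin (k i)) R →ₐ[R] Localization.Away (f i))
    (hγ : ∀ i, Function.Surjective (γ i)) :
    FPvia α.toRingHom M ↔
      ∀ i, FPvia (γ i).toRingHom (LocalizedModule (Submonoid.powers (f i)) M) := by
  choose gs hgs using fun i => hα (f i)
  have hfg : f = fun i => α (gs i) := funext fun i => (hgs i).symm
  subst hfg
  constructor
  · intro h i
    exact (FPvia_away_iff α (gs i) hα (γ i) (hγ i) _).mp (FPvia_localization α M (gs i) h)
  · intro h
    exact FPvia_of_cover α M hα gs hf fun i =>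
      (FPvia_away_iff α (gs i) hα (γ i) (hγ i) _).mpr (h i)

theorem main7006 {R A : Type u} [CommRing R] [CommRing A] (f : R) [Algebra R A]
    [Algebra (Localization.Away f) A] [IsScalarTower R (Localization.Away f) A] {n k : ℕ}
    (α : MvPolynomial (Fin n) (Localization.Away f) →ₐ[Localization.Away f] A)
    (hα : Function.Surjective α) (g : A) (M : Type u) [AddCommGroup M] [Module A M]
    (hM : FPvia α.toRingHom M) (γ : MvPolynomial (Fin k) R →ₐ[R] Localization.Away g)
    (hγ : Function.Surjective γ) :
    FPvia γ.toRingHom (LocalizedModule (Submonoid.powers g) M) := by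
  haveI : Algebra.FinitePresentation R (Localization.Away f) :=
    IsLocalization.Away.finitePresentation f
  haveI : Algebra.FinitePresentation R (MvPolynomial (Fin n) (Localization.Away f)) :=
    Algebra.FinitePresentation.trans R (Localization.Away f) _
  obtain ⟨m, δ, hδ⟩ := Algebra.FiniteType.iff_quotient_mvPolynomial''.mp
    (inferInstance : Algebra.FiniteType R (MvPolynomial (Fin n) (Localization.Away f)))
  have hJ : (RingHom.ker δ.toRingHom).FG := Algebra.FinitePresentation.ker_fG_of_surjective δ hδ
  let α₀ : MvPolynomial (Fin m) R →ₐ[R] A := (α.restrictScalars R).comp δ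
  have hα₀ : Function.Surjective α₀ := hα.comp hδ
  have h0 : FPvia α₀.toRingHom M := (FPvia_comp_iff δ.toRingHom hδ hJ α.toRingHom M).mp hM
  obtain ⟨g₀, rfl⟩ := hα₀ g
  exact (FPvia_away_iff α₀ g₀ hα₀ γ hγ _).mp (FPvia_localization α₀ M g₀ h0)

end Groth.Agent.Helper1.FPRel
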