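import Mathlib
import Groth.Agent.Helper1.FPRel

set_option autoImplicit false
universe u

open TensorProduct

namespace Groth.Agent.Helper1.FPBase

open Groth.Agent.Helper1.FPRel

section Abstract
variable {P A A' P' : Type*} [CommRing P] [CommRing A] [CommRing A'] [CommRing P']
  [Algebra P A] [Algebra A A'] [Algebra P A'] [IsScalarTower P A A']
  [Algebra P P'] [Algebra P' A'] [IsScalarTower P P' A']
  {M : Type*} [AddCommGroup M] [Module A M] [Module P M] [IsScalarTower P A M]

theorem fp_general (hα : Function.Surjective (algebraMap P A))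
    (hβ : Function.Surjective (algebraMap P' A'))
    (J₀ : Ideal P') (hJ₀ : J₀.FG) (hJ₀le : J₀ ≤ RingHom.ker (algebraMap P' A'))
    (hker : RingHom.ker (algebraMap P' A') ≤
      J₀ ⊔ (RingHom.ker (algebraMap P A)).map (algebraMap P P'))
    [Module.FinitePresentation P M] :
    Module.FinitePresentation P' (A' ⊗[A] M) := by
  haveI : SMulCommClass A P' A' := ⟨fun a p x => by
    simp only [Algebra.smul_def]; ring⟩
  haveI : SMulCommClass P' A A' := ⟨fun p a x => by
    simp only [Algebra.smul_def]; ring⟩
  haveI hcomp : TensorProduct.CompatibleSMul P A A' M := ⟨fun a a' m => by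
    obtain ⟨p, rfl⟩ := hα a
    rw [algebraMap_smul, algebraMap_smul, TensorProduct.smul_tmul]⟩
  let e : A' ⊗[A] M ≃ₗ[P'] A' ⊗[P] M := TensorProduct.equivOfCompatibleSMul P A P' A' M
  let ψ : P' ⊗[P] M →ₗ[P'] A' ⊗[P] M :=
    TensorProduct.AlgebraTensorModule.map (Algebra.linearMap P' A') (LinearMap.id : M →ₗ[P] M)
  have hψ_tmul : ∀ (q : P') (m : M), ψ (q ⊗ₜ m) = algebraMap P' A' q ⊗ₜ m := fun q m => by
    simp [ψ]
  have hψsurj : Function.Surjective ψ := by
    intro x
    induction x using TensorProduct.induction_on with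
    | zero => exact ⟨0, map_zero _⟩
    | tmul a' m =>
      obtain ⟨q, rfl⟩ := hβ a'
      exact ⟨q ⊗ₜ m, hψ_tmul q m⟩
    | add x y hx hy =>
      obtain ⟨x', rfl⟩ := hx
      obtain ⟨y', rfl⟩ := hy
      exact ⟨x' + y', map_add _ _ _⟩
  have hkill : ∀ (i : P'), i ∈ (RingHom.ker (algebraMap P A)).map (algebraMap P P') →
      ∀ m : M, i ⊗ₜ[P] m = 0 := by
    intro i hi
    let K₀ : Ideal P' :=
      { carrier := {i | ∀ m : M, i ⊗ₜ[P] m = (0 : P' ⊗[P] M)}
        add_mem' := fun ha hb m => by rw [TensorProduct.add_tmul, ha m, hb m, add_zero]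
        zero_mem' := fun m => TensorProduct.zero_tmul _ _
        smul_mem' := fun c x hx m => by
          rw [← TensorProduct.smul_tmul', hx m, smul_zero] }
    have hle : (RingHom.ker (algebraMap P A)).map (algebraMap P P') ≤ K₀ := by
      rw [Ideal.map_le_iff_le_comap]
      intro a ha m
      rw [Algebra.algebraMap_eq_smul_one, TensorProduct.smul_tmul, ← algebraMap_smul A a m,
        (RingHom.mem_ker).mp ha, zero_smul, TensorProduct.tmul_zero]
    exact hle hi
  let J := RingHom.ker (algebraMap P' A')
  let f : J →ₗ[P] P' := (Submodule.subtype J).restrictScalars P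
  let g : P' →ₗ[P] A' := (Algebra.linearMap P' A').restrictScalars P
  have hfg : Function.Exact f g := by
    intro y
    constructor
    · intro hy
      have hy' : algebraMap P' A' y = 0 := hy
      exact ⟨⟨y, (RingHom.mem_ker).mpr hy'⟩, rfl⟩
    · rintro ⟨z, rfl⟩
      show algebraMap P' A' z.1 = 0
      exact (RingHom.mem_ker).mp z.2
  have hg : Function.Surjective g := hβ
  have hex := rTensor_exact M hfg hg
  have hψg : ∀ t, (LinearMap.rTensor M g) t = ψ t := by
    intro t
    induction t using TensorProduct.induction_on with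
    | zero => simp
    | tmul q m => simp [g, hψ_tmul]
    | add a b ha hb => simp only [map_add, ha, hb]
  have hrange : ∀ y : J ⊗[P] M, (LinearMap.rTensor M f) y ∈
      J₀ • (⊤ : Submodule P' (P' ⊗[P] M)) := by
    intro y
    induction y using TensorProduct.induction_on with
    | zero => simp
    | tmul j m =>
      rw [LinearMap.rTensor_tmul]
      show (j : P') ⊗ₜ[P] m ∈ _
      obtain ⟨j₀, hj₀, i, hi, hji⟩ := Submodule.mem_sup.mp (hker j.2)
      rw [← hji, TensorProduct.add_tmul, hkill i hi m, add_zero]
      have h1 : j₀ ⊗ₜ[P] m = j₀ • ((1 : P') ⊗ₜ[P] m) := by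
        rw [TensorProduct.smul_tmul', smul_eq_mul, mul_one]
      rw [h1]
      exact Submodule.smul_mem_smul hj₀ Submodule.mem_top
    | add a b ha hb =>
      rw [map_add]
      exact Submodule.add_mem _ ha hb
  have hkerψ : LinearMap.ker ψ = J₀ • (⊤ : Submodule P' (P' ⊗[P] M)) := by
    apply le_antisymm
    · intro x hx
      have hx' : (LinearMap.rTensor M g) x = 0 := by
        rw [hψg]
        exact hx
      obtain ⟨y, rfl⟩ := (hex x).mp hx'
      exact hrange y
    · rw [Submodule.smul_le]
      intro r hr n _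
      rw [LinearMap.mem_ker, map_smul]
      have hr0 : algebraMap P' A' r = 0 := (RingHom.mem_ker).mp (hJ₀le hr)
      generalize ψ n = z
      induction z using TensorProduct.induction_on with
      | zero => simp
      | tmul a' m =>
        rw [TensorProduct.smul_tmul', Algebra.smul_def, hr0, zero_mul, TensorProduct.zero_tmul]
      | add a b ha hb => rw [smul_add, ha, hb, add_zero]
  have hfgker : (LinearMap.ker ψ).FG := by
    rw [hkerψ]
    exact Submodule.FG.smul hJ₀ (Module.Finite.fg_top)
  haveI : Module.FinitePresentation P' (A' ⊗[P] M) :=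
    Module.finitePresentation_of_surjective ψ hψsurj hfgker
  exact Module.FinitePresentation.of_equiv e.symm

end Abstract

theorem main7005 {R A A' : Type u} [CommRing R] [CommRing A]
    [CommRing A'] [Algebra R A] [Algebra A A'] [Algebra R A'] [IsScalarTower R A A']
    [Algebra.FinitePresentation A A'] (M : Type u) [AddCommGroup M] [Module A M] {n k : ℕ}
    (α : MvPolynomial (Fin n) R →ₐ[R] A) (hα : Function.Surjective α)
    (hM : FPvia α.toRingHom M)
    (γ : MvPolynomial (Fin k) R →ₐ[R] A') (hγ : Function.Surjective γ) :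
    FPvia γ.toRingHom (A' ⊗[A] M) := by
  classical
  obtain ⟨m, f, hf, hkf⟩ := Algebra.FinitePresentation.out (R := A) (A := A')
  let μ : MvPolynomial (Fin m) (MvPolynomial (Fin n) R) →+* MvPolynomial (Fin m) A :=
    MvPolynomial.map α.toRingHom
  have hμ : Function.Surjective μ := MvPolynomial.map_surjective _ hα
  let β : MvPolynomial (Fin m) (MvPolynomial (Fin n) R) →+* A' := f.toRingHom.comp μ
  have hβ : Function.Surjective β := hf.comp hμ
  letI : Algebra (MvPolynomial (Fin n) R) A := α.toRingHom.toAlgebra
  letI : Module (MvPolynomial (Fin n) R) M := Module.compHom M α.toRingHom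
  haveI : IsScalarTower (MvPolynomial (Fin n) R) A M :=
    IsScalarTower.of_algebraMap_smul fun r x => rfl
  letI : Algebra (MvPolynomial (Fin n) R) A' := ((algebraMap A A').comp α.toRingHom).toAlgebra
  haveI : IsScalarTower (MvPolynomial (Fin n) R) A A' :=
    IsScalarTower.of_algebraMap_eq fun _ => rfl
  letI : Algebra (MvPolynomial (Fin m) (MvPolynomial (Fin n) R)) A' := β.toAlgebra
  haveI : IsScalarTower (MvPolynomial (Fin n) R) (MvPolynomial (Fin m) (MvPolynomial (Fin n) R)) A' :=
    IsScalarTower.of_algebraMap_eq fun p => by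
      show (algebraMap A A') (α p) = f (MvPolynomial.map α.toRingHom (MvPolynomial.C p))
      rw [MvPolynomial.map_C]
      exact (f.commutes (α p)).symm
  haveI : Module.FinitePresentation (MvPolynomial (Fin n) R) M := hM
  obtain ⟨s, hs⟩ := hkf
  have hμ' := hμ
  choose g hg using hμ'
  let J₀ : Ideal (MvPolynomial (Fin m) (MvPolynomial (Fin n) R)) :=
    Ideal.span ((s.image g : Finset _) : Set _)
  have hJ₀ : J₀.FG := ⟨s.image g, rfl⟩
  have hmapJ₀ : J₀.map μ = RingHom.ker f.toRingHom := by
    rw [Ideal.map_span, ← hs]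
    congr 1
    ext x
    simp [hg]
  have hkerβ : RingHom.ker β =
      J₀ ⊔ (RingHom.ker α.toRingHom).map (MvPolynomial.C (σ := Fin m)) := by
    have h1 : RingHom.ker β = Ideal.comap μ (RingHom.ker f.toRingHom) := by
      ext x
      simp [β, RingHom.mem_ker]
    rw [h1, ← hmapJ₀, Ideal.comap_map_of_surjective μ hμ]
    congr 1
    exact MvPolynomial.ker_map α.toRingHom
  have key : Module.FinitePresentation (MvPolynomial (Fin m) (MvPolynomial (Fin n) R))
      (A' ⊗[A] M) :=
    fp_general (P := MvPolynomial (Fin n) R) (A := A) (A' := A')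
      (P' := MvPolynomial (Fin m) (MvPolynomial (Fin n) R)) hα hβ J₀ hJ₀
      (by
        show J₀ ≤ RingHom.ker β
        rw [hkerβ]
        exact le_sup_left)
      (by
        show RingHom.ker β ≤ _
        rw [hkerβ]
        exact le_refl _)
  have key2 : FPvia β (A' ⊗[A] M) := by
    unfold FPvia
    have hmod : (TensorProduct.leftModule :
        Module (MvPolynomial (Fin m) (MvPolynomial (Fin n) R)) (A' ⊗[A] M)) =
        Module.compHom (A' ⊗[A] M) β := by
      apply Module.ext'
      intro r x
      exact (algebraMap_smul A' r x).symm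
    rw [← hmod]
    exact key
  let π : MvPolynomial (Fin m ⊕ Fin n) R ≃ₐ[R] MvPolynomial (Fin m) (MvPolynomial (Fin n) R) :=
    MvPolynomial.sumAlgEquiv R (Fin m) (Fin n)
  have hπker : (RingHom.ker π.toAlgHom.toRingHom).FG := by
    have h0 : RingHom.ker π.toAlgHom.toRingHom = ⊥ :=
      (RingHom.injective_iff_ker_eq_bot _).mp π.injective
    rw [h0]
    exact Submodule.fg_bot
  have key3 : FPvia (β.comp π.toAlgHom.toRingHom) (A' ⊗[A] M) :=
    (FPvia_comp_iff π.toAlgHom.toRingHom π.surjective hπker β _).mp key2
  let β' : MvPolynomial (Fin m ⊕ Fin n) R →ₐ[R] A' :=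
    { toRingHom := β.comp π.toAlgHom.toRingHom
      commutes' := fun r => by
        show f (MvPolynomial.map α.toRingHom (π (algebraMap R _ r))) = algebraMap R A' r
        rw [π.commutes, MvPolynomial.algebraMap_apply, MvPolynomial.map_C]
        have h2 : α.toRingHom (algebraMap R (MvPolynomial (Fin n) R) r) = algebraMap R A r :=
          α.commutes r
        rw [h2]
        have h3 := f.commutes (algebraMap R A r)
        rw [MvPolynomial.algebraMap_eq] at h3
        rw [h3, ← IsScalarTower.algebraMap_apply] }
  have key4 : FPvia β'.toRingHom (A' ⊗[A] M) := key3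
  exact FPvia_indep β' (hβ.comp π.surjective) γ hγ _ key4

end Groth.Agent.Helper1.FPBase
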