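import Mathlib
import Groth.Prelude.Def_W4c6instabfans3FanCvx

set_option autoImplicit false
universe u v

namespace Groth.Agent.Helper1.FanMax

open CategoryTheory Opposite Instab Instab.Fan Topology

variable {F : Fan.{u}}

theorem isInducing_val (n : ICone) : IsInducing (fun v : Orth n => v.1) := ⟨rfl⟩

theorem nhds_orth {n : ICone} (v : Orth n) (O : Set (Orth n)) (hO : O ∈ 𝓝 v) :
    ∃ ε > 0, ∀ v' : Orth n, (∀ j, |v'.1 j - v.1 j| < ε) → v' ∈ O := by
  rw [(isInducing_val n).nhds_eq_comap, Filter.mem_comap] at hO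
  obtain ⟨O', hO', hsub⟩ := hO
  obtain ⟨ε, hε, hball⟩ := Metric.mem_nhds_iff.mp hO'
  refine ⟨ε, hε, fun v' h => hsub ?_⟩
  apply hball
  rw [Metric.mem_ball, dist_pi_lt_iff hε]
  intro j
  rw [Real.dist_eq]
  exact h j

theorem continuous_mk {n : ICone} (ξ : F.obj (op n)) : Continuous (P.mk ξ) :=
  continuous_quot_mk.comp
    (continuous_sigmaMk (σ := fun e : (Σ n : ICone, F.obj (op n)) => Orth e.1) (i := ⟨n, ξ⟩))

theorem fin_one_eq (i : Fin one.dim) : i = ⟨0, one.dim.pos⟩ := by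
  apply Fin.ext
  have := i.2
  simp only [one, PNat.one_coe] at this
  simp only
  omega

/-- rational points are dense in each cell -/
theorem exists_rational {n : ICone} (ξ : F.obj (op n)) (v : Orth n) (O : Set (Orth n))
    (hO : O ∈ 𝓝 v) : ∃ v' ∈ O, (P.mk ξ v').IsRational := by
  obtain ⟨ε, hε, hO'⟩ := nhds_orth v O hO
  obtain ⟨N0, hN0⟩ := exists_nat_one_div_lt hε
  set N : ℝ := (N0 : ℝ) + 1 with hN
  have hNpos : 0 < N := by positivity
  let w : Fin n.dim → ℤ := fun j => (⌊N * v.1 j⌋₊ : ℤ) + 1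
  have hwpos : ∀ j, 0 < w j := fun j => by
    have : (0 : ℤ) ≤ (⌊N * v.1 j⌋₊ : ℤ) := Int.natCast_nonneg _
    show 0 < (⌊N * v.1 j⌋₊ : ℤ) + 1
    omega
  have hwposR : ∀ j, (0 : ℝ) < (w j : ℝ) := fun j => by exact_mod_cast hwpos j
  let v'val : Fin n.dim → ℝ := fun j => (1 / N) * (w j : ℝ)
  have hv'pos : ∀ j, 0 < v'val j := fun j => mul_pos (by positivity) (hwposR j)
  have hv'ne : v'val ≠ 0 := fun h => by
    have h1 := congr_fun h ⟨0, n.dim.pos⟩
    have h2 := hv'pos ⟨0, n.dim.pos⟩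
    rw [h1] at h2
    exact lt_irrefl _ h2
  let v' : Orth n := ⟨v'val, fun j => (hv'pos j).le, hv'ne⟩
  refine ⟨v', hO' v' ?_, ?_⟩
  · intro j
    have h1 : N * v.1 j < (w j : ℝ) := by
      have := Nat.lt_floor_add_one (N * v.1 j)
      simp only [w, Int.cast_add, Int.cast_natCast, Int.cast_one]
      exact this
    have h2 : (w j : ℝ) ≤ N * v.1 j + 1 := by
      have := Nat.floor_le (mul_nonneg hNpos.le (v.2.1 j))
      simp only [w, Int.cast_add, Int.cast_natCast, Int.cast_one]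
      linarith
    show |(1 / N) * (w j : ℝ) - v.1 j| < ε
    have h3 : v.1 j < (1 / N) * (w j : ℝ) := by
      rw [one_div, ← div_eq_inv_mul, lt_div_iff₀ hNpos]; linarith
    have h4 : (1 / N) * (w j : ℝ) ≤ v.1 j + 1 / N := by
      rw [one_div, ← div_eq_inv_mul, div_le_iff₀ hNpos, add_mul, inv_mul_cancel₀ hNpos.ne']
      linarith
    rw [abs_lt]
    constructor <;> linarith
  · let i0 : Fin one.dim := ⟨0, one.dim.pos⟩
    let φ : one ⟶ n :=
      { toLin :=
          { toFun := fun c => c i0 • w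
            map_add' := fun a b => by simp only [Pi.add_apply, add_smul]
            map_smul' := fun a b => by
              simp only [Pi.smul_apply, smul_eq_mul, mul_smul, RingHom.id_apply] }
        injective := fun a b hab => by
          funext i
          rw [fin_one_eq i]
          have h1 := congr_fun hab ⟨0, n.dim.pos⟩
          simp only [LinearMap.coe_mk, AddHom.coe_mk, Pi.smul_apply, smul_eq_mul] at h1
          exact mul_right_cancel₀ (hwpos _).ne' h1
        nonneg := fun c hc j => by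
          simp only [LinearMap.coe_mk, AddHom.coe_mk, Pi.smul_apply, smul_eq_mul]
          exact mul_nonneg (hc _) (hwpos j).le }
    refine ⟨F.map φ.op ξ, ?_⟩
    symm
    refine Quot.sound (Rel.glue φ ξ (Orth.ones one) v' (1 / N) (by positivity) ?_)
    funext j
    show (1 / N) * (w j : ℝ) = (1 / N) • ICone.Hom.realMap φ (Orth.ones one).1 j
    congr 1
    unfold ICone.Hom.realMap
    rw [Fintype.sum_eq_single i0 (fun i hi => absurd (fin_one_eq i) hi)]
    have e1 : φ.toLin (Pi.single i0 1) = w := by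
      show (Pi.single i0 (1 : ℤ) : Fin one.dim → ℤ) i0 • w = w
      rw [Pi.single_eq_same, one_smul]
    rw [e1]
    show (w j : ℝ) = (w j : ℝ) * 1
    rw [mul_one]

/-- the point `e₀ + b e₁` of the punctured orthant of `ℝ²` -/
noncomputable def mid (b : ℝ) (hb : 0 < b) : Orth two :=
  ⟨fun j => (Orth.basis two 0).1 j + b * (Orth.basis two 1).1 j,
    fun j => add_nonneg ((Orth.basis two 0).2.1 j) (mul_nonneg hb.le ((Orth.basis two 1).2.1 j)),
    fun h => by
      have h1 := congr_fun h 0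
      simp [Orth.basis] at h1⟩

theorem mid_between (b : ℝ) (hb : 0 < b) : ∃ a b' : ℝ, 0 < a ∧ 0 < b' ∧
    (mid b hb).1 = a • (Orth.basis two 0).1 + b' • (Orth.basis two 1).1 :=
  ⟨1, b, one_pos, hb, by
    funext j
    show _ = (1 : ℝ) * _ + b * _
    rw [one_mul]
    rfl⟩

theorem not_prop : ¬ ∃ c : ℝ, (Orth.basis two 1).1 = c • (Orth.basis two 0).1 := by
  rintro ⟨c, hc⟩
  have h1 : (Orth.basis two 1).1 1 = c * (Orth.basis two 0).1 1 := congr_fun hc 1
  have e1 : (Orth.basis two 1).1 1 = 1 := by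
    show (if (1 : Fin two.dim) = 1 then (1 : ℝ) else 0) = 1
    exact if_pos rfl
  have e0 : (Orth.basis two 0).1 1 = 0 := by
    show (if (1 : Fin two.dim) = 0 then (1 : ℝ) else 0) = 0
    exact if_neg (by decide)
  rw [e1, e0, mul_zero] at h1
  exact one_ne_zero h1

theorem mid_close (b : ℝ) (hb : 0 < b) (j : Fin two.dim) :
    |(mid b hb).1 j - (Orth.basis two 0).1 j| ≤ b := by
  have h1 : (Orth.basis two 1).1 j ≤ 1 := by
    show (if j = 1 then (1 : ℝ) else 0) ≤ 1
    split_ifs <;> norm_num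
  have h0 : 0 ≤ (Orth.basis two 1).1 j := (Orth.basis two 1).2.1 j
  show |(Orth.basis two 0).1 j + b * (Orth.basis two 1).1 j - (Orth.basis two 0).1 j| ≤ b
  rw [add_sub_cancel_left, abs_of_nonneg (mul_nonneg hb.le h0)]
  nlinarith

theorem main (F : Fan.{u}) (U : Set (Fan.P F))
    (hU : Fan.IsConvex U) {Γ : Type v} [LinearOrder Γ] (Φ : U → Γ) (hΦ : Fan.IsQuasiConcaveOn U Φ)
    (hlsc : ∀ c : Γ, IsClosed {x : U | Φ x ≤ c}) :
    (∀ x : U, (x : Fan.P F).IsRational → IsLocalMax Φ x → ∀ y : U, Φ y ≤ Φ x) ∧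
    (Fan.IsStrictQuasiConcaveOn U Φ → ∀ x y : U, (x : Fan.P F).IsRational → (y : Fan.P F).IsRational →
      IsLocalMax Φ x → IsLocalMax Φ y → x = y) := by
  have key : ∀ x y : U, (x : P F).IsRational → (y : P F).IsRational → IsLocalMax Φ x →
      ¬ (Φ x < Φ y) := by
    intro x y hx hy hmax hlt
    have hne : (x : P F) ≠ y := fun h => by
      rw [Subtype.ext h] at hlt; exact lt_irrefl _ hlt
    obtain ⟨τ, hτU, hτ0, hτ1⟩ := hU.2.2 x y x.2 y.2 hx hy hne
    let g : Orth two → U := fun v => ⟨P.mk τ v, hτU ⟨v, rfl⟩⟩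
    have hg : Continuous g := (continuous_mk τ).subtype_mk _
    have hg0 : g (Orth.basis two 0) = x := Subtype.ext hτ0
    have hg1 : g (Orth.basis two 1) = y := Subtype.ext hτ1
    have hnb : g ⁻¹' {z | Φ z ≤ Φ x} ∈ 𝓝 (Orth.basis two 0) := by
      apply hg.continuousAt.preimage_mem_nhds
      rw [hg0]; exact hmax
    obtain ⟨ε, hε, hO⟩ := nhds_orth _ _ hnb
    have hv₁ : Φ (g (mid (ε / 2) (half_pos hε))) ≤ Φ x :=
      hO _ (fun j => lt_of_le_of_lt (mid_close _ _ j) (half_lt_self hε))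
    have hq : min (Φ (g (Orth.basis two 0))) (Φ (g (Orth.basis two 1))) ≤
        Φ (g (mid (ε / 2) (half_pos hε))) ∧
        (Φ (g (mid (ε / 2) (half_pos hε))) =
          min (Φ (g (Orth.basis two 0))) (Φ (g (Orth.basis two 1))) →
          Φ (g (Orth.basis two 0)) = Φ (g (Orth.basis two 1))) :=
      hΦ two τ (Orth.basis two 0) (mid (ε / 2) (half_pos hε)) (Orth.basis two 1)
        (g _).2 (g _).2 (g _).2 not_prop (mid_between _ _)
    rw [hg0, hg1, min_eq_left hlt.le] at hq
    exact hlt.ne (hq.2 (le_antisymm hv₁ hq.1))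
  have claim1 : ∀ x : U, (x : P F).IsRational → IsLocalMax Φ x → ∀ y : U, Φ y ≤ Φ x := by
    intro x hx hmax y
    by_contra hlt
    rw [not_le] at hlt
    obtain ⟨S, hS⟩ := hU.2.1
    have hy : (y : P F) ∈ Set.range (P.map S.ι) := hS ▸ y.2
    obtain ⟨z, hz⟩ := hy
    induction z using Quot.ind with
    | mk p =>
      obtain ⟨⟨n, ξ'⟩, v⟩ := p
      have hmem : ∀ v' : Orth n, P.mk (S.ι.app (op n) ξ') v' ∈ U := fun v' => by
        rw [hS]; exact ⟨P.mk ξ' v', rfl⟩
      let g : Orth n → U := fun v' => ⟨P.mk (S.ι.app (op n) ξ') v', hmem v'⟩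
      have hg : Continuous g := (continuous_mk _).subtype_mk _
      have hgv : g v = y := Subtype.ext hz
      have hopen : IsOpen {z : U | Φ x < Φ z} := by
        have := (hlsc (Φ x)).isOpen_compl
        convert this using 1
        ext z; simp [not_le]
      have hnb : g ⁻¹' {z : U | Φ x < Φ z} ∈ 𝓝 v := by
        apply hg.continuousAt.preimage_mem_nhds
        rw [hgv]; exact hopen.mem_nhds hlt
      obtain ⟨v', hv'O, hv'rat⟩ := exists_rational (S.ι.app (op n) ξ') v _ hnb
      exact key x (g v') hx hv'rat hmax hv'O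
  refine ⟨claim1, fun hstrict x y hx hy hmx hmy => ?_⟩
  by_contra hne
  have hne' : (x : P F) ≠ y := fun h => hne (Subtype.ext h)
  obtain ⟨τ, hτU, hτ0, hτ1⟩ := hU.2.2 x y x.2 y.2 hx hy hne'
  let g : Orth two → U := fun v => ⟨P.mk τ v, hτU ⟨v, rfl⟩⟩
  have hg0 : g (Orth.basis two 0) = x := Subtype.ext hτ0
  have hg1 : g (Orth.basis two 1) = y := Subtype.ext hτ1
  have hq : min (Φ (g (Orth.basis two 0))) (Φ (g (Orth.basis two 1))) <
      Φ (g (mid 1 one_pos)) :=
    hstrict two τ (Orth.basis two 0) (mid 1 one_pos) (Orth.basis two 1)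
      (g _).2 (g _).2 (g _).2 not_prop (mid_between _ _)
  rw [hg0, hg1] at hq
  exact absurd hq (not_lt.mpr (le_min (claim1 x hx hmx _) (claim1 y hy hmy _)))

end Groth.Agent.Helper1.FanMax
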