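import Mathlib
import Groth.Prelude.Def_CycDet
import Groth.Agent.H19.LocLenP

set_option autoImplicit false
universe u

namespace Groth.Agent.Helper1.FiltRq

open CycDet Groth.Agent.H19.LocLenP

variable {R : Type u} [CommRing R] [IsLocalRing R] {M : Type u} [AddCommGroup M] [Module R M]

def Good (q : Ideal R) {l : ℕ} (x : Fin l → M) : Prop :=
  ∀ i : Fin l, Nonempty ((↥(spanBefore R M x (i + 1)) ⧸
    (spanBefore R M x i).submoduleOf (spanBefore R M x (i + 1))) ≃ₗ[R] (R ⧸ q))

theorem spanBefore_mono {l : ℕ} (x : Fin l → M) {i j : ℕ} (h : i ≤ j) :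
    spanBefore R M x i ≤ spanBefore R M x j :=
  Submodule.span_mono (Set.image_mono fun k (hk : (k : ℕ) < i) => lt_of_lt_of_le hk h)

theorem spanBefore_zero {l : ℕ} (x : Fin l → M) : spanBefore R M x 0 = ⊥ := by
  unfold spanBefore
  simp

theorem spanBefore_full {l : ℕ} (x : Fin l → M) :
    spanBefore R M x l = Submodule.span R (Set.range x) := by
  unfold spanBefore
  congr 1
  have : {j : Fin l | (j : ℕ) < l} = Set.univ := by
    ext j
    simp [j.2]
  rw [this, Set.image_univ]

theorem spanBefore_snoc_le {l : ℕ} (x : Fin l → M) (y : M) {i : ℕ} (hi : i ≤ l) :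
    spanBefore R M (Fin.snoc (α := fun _ => M) x y) i = spanBefore R M x i := by
  unfold spanBefore
  congr 1
  ext m
  constructor
  · rintro ⟨j, hj, rfl⟩
    have hjl : (j : ℕ) < l := lt_of_lt_of_le hj hi
    refine ⟨⟨j, hjl⟩, hj, ?_⟩
    have h2 : Fin.snoc (α := fun _ => M) x y (Fin.castSucc ⟨j, hjl⟩) = x ⟨j, hjl⟩ :=
      Fin.snoc_castSucc ..
    have h3 : Fin.castSucc ⟨(j : ℕ), hjl⟩ = j := Fin.ext rfl
    rw [h3] at h2
    exact h2.symm
  · rintro ⟨j, hj, rfl⟩
    exact ⟨Fin.castSucc j, hj, Fin.snoc_castSucc ..⟩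

theorem spanBefore_snoc_succ {l : ℕ} (x : Fin l → M) (y : M) :
    spanBefore R M (Fin.snoc (α := fun _ => M) x y) (l + 1) =
      spanBefore R M x l ⊔ Submodule.span R {y} := by
  rw [spanBefore_full (Fin.snoc (α := fun _ => M) x y), spanBefore_full x, ← Submodule.span_union]
  congr 1
  ext m
  constructor
  · rintro ⟨j, rfl⟩
    refine Fin.lastCases ?_ (fun j' => ?_) j
    · right
      simp
    · left
      exact ⟨j', (Fin.snoc_castSucc (α := fun _ => M) y x j').symm⟩
  · rintro (⟨j, rfl⟩ | hm)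
    · exact ⟨Fin.castSucc j, Fin.snoc_castSucc ..⟩
    · rw [Set.mem_singleton_iff] at hm
      subst hm
      exact ⟨Fin.last l, Fin.snoc_last ..⟩

theorem quot_equiv (q : Ideal R) (N : Submodule R M) (f : R ⧸ q →ₗ[R] M ⧸ N)
    (hf : Function.Injective f) (y : M) (hy : N.mkQ y = f 1) :
    Nonempty ((↥(N ⊔ Submodule.span R {y}) ⧸ N.submoduleOf (N ⊔ Submodule.span R {y})) ≃ₗ[R]
      (R ⧸ q)) := by
  let h : ↥(N ⊔ Submodule.span R {y}) →ₗ[R] M ⧸ N := N.mkQ.comp (Submodule.subtype _)
  have hker : LinearMap.ker h = N.submoduleOf (N ⊔ Submodule.span R {y}) := by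
    ext z
    rw [LinearMap.mem_ker]
    show N.mkQ (z : M) = 0 ↔ (z : M) ∈ N
    rw [Submodule.mkQ_apply, Submodule.Quotient.mk_eq_zero]
  have hrange : LinearMap.range h = LinearMap.range f := by
    apply le_antisymm
    · rintro _ ⟨⟨z, hz⟩, rfl⟩
      obtain ⟨n, hn, w, hw, rfl⟩ := Submodule.mem_sup.mp hz
      obtain ⟨r, rfl⟩ := Submodule.mem_span_singleton.mp hw
      refine ⟨r • (1 : R ⧸ q), ?_⟩
      show f (r • (1 : R ⧸ q)) = N.mkQ (n + r • y)
      rw [map_add, map_smul, map_smul, hy, Submodule.mkQ_apply,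
        (Submodule.Quotient.mk_eq_zero N).mpr hn, zero_add]
    · rintro _ ⟨r, rfl⟩
      obtain ⟨r, rfl⟩ := Ideal.Quotient.mk_surjective r
      refine ⟨⟨r • y, Submodule.mem_sup_right (Submodule.smul_mem _ _
        (Submodule.mem_span_singleton_self y))⟩, ?_⟩
      show N.mkQ (r • y) = f (Ideal.Quotient.mk q r)
      rw [map_smul, hy, ← map_smul]
      congr 1
      rw [Algebra.smul_def, mul_one]
      rfl
  exact ⟨(Submodule.quotEquivOfEq _ _ hker).symm.trans ((LinearMap.quotKerEquivRange h).trans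
    ((LinearEquiv.ofEq _ _ hrange).trans (LinearEquiv.ofInjective f hf).symm))⟩

theorem exists_good [IsNoetherianRing R] [Module.Finite R M] (q : PrimeSpectrum R)
    (hq : Minimal (fun p : PrimeSpectrum R => p ∈ Module.support R M) q) :
    ∀ N : Submodule R M, ∀ (l : ℕ) (x : Fin l → M), Good q.asIdeal x → spanBefore R M x l = N →
      ∃ (l' : ℕ) (x' : Fin l' → M),
        q ∉ Module.support R (M ⧸ Submodule.span R (Set.range x')) ∧ Good q.asIdeal x' := by
  haveI : IsNoetherian R M := inferInstance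
  intro N
  induction N using WellFoundedGT.induction with
  | ind N ih =>
    intro l x hgood hN
    by_cases hsupp : q ∈ Module.support R (M ⧸ N)
    · have hmin : Minimal (fun p : PrimeSpectrum R => p ∈ Module.support R (M ⧸ N)) q :=
        ⟨hsupp, fun p hp hle =>
          hq.2 (Module.support_subset_of_surjective _ N.mkQ_surjective hp) hle⟩
      have hmp : q.asIdeal ∈ (Module.annihilator R (M ⧸ N)).minimalPrimes :=
        ⟨⟨q.isPrime, Module.mem_support_iff_of_finite.mp hsupp⟩, fun p' hp' hle =>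
          hmin.2 (y := ⟨p', hp'.1⟩) (Module.mem_support_iff_of_finite.mpr hp'.2) hle⟩
      have hass : IsAssociatedPrime q.asIdeal (M ⧸ N) :=
        Module.associatedPrimes.minimalPrimes_annihilator_subset_associatedPrimes R (M ⧸ N) hmp
      obtain ⟨_, f, hf⟩ := (isAssociatedPrime_iff_exists_injective_linearMap _ _).mp hass
      obtain ⟨y, hy⟩ := N.mkQ_surjective (f 1)
      have hN' : spanBefore R M (Fin.snoc (α := fun _ => M) x y) (l + 1) =
          N ⊔ Submodule.span R {y} := by
        rw [spanBefore_snoc_succ, hN]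
      have hgood' : Good q.asIdeal (Fin.snoc (α := fun _ => M) x y) := by
        intro i
        refine Fin.lastCases ?_ (fun i' => ?_) i
        · show Nonempty ((↥(spanBefore R M (Fin.snoc (α := fun _ => M) x y) (l + 1)) ⧸
            (spanBefore R M (Fin.snoc (α := fun _ => M) x y) l).submoduleOf
              (spanBefore R M (Fin.snoc (α := fun _ => M) x y) (l + 1))) ≃ₗ[R] _)
          rw [hN', spanBefore_snoc_le x y le_rfl, hN]
          exact quot_equiv q.asIdeal N f hf y hy
        · show Nonempty ((↥(spanBefore R M (Fin.snoc (α := fun _ => M) x y) ((i' : ℕ) + 1)) ⧸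
            (spanBefore R M (Fin.snoc (α := fun _ => M) x y) (i' : ℕ)).submoduleOf
              (spanBefore R M (Fin.snoc (α := fun _ => M) x y) ((i' : ℕ) + 1))) ≃ₗ[R] _)
          rw [spanBefore_snoc_le x y (Nat.succ_le_of_lt i'.2), spanBefore_snoc_le x y i'.2.le]
          exact hgood i'
      have hlt : N < N ⊔ Submodule.span R {y} := by
        refine lt_of_le_of_ne le_sup_left (fun h => ?_)
        have hyN : y ∈ N := by
          rw [h]
          exact Submodule.mem_sup_right (Submodule.mem_span_singleton_self y)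
        have h0 : f 1 = 0 := by
          rw [← hy, Submodule.mkQ_apply, (Submodule.Quotient.mk_eq_zero N).mpr hyN]
        have h1 : (1 : R ⧸ q.asIdeal) = 0 := hf (by rw [h0, map_zero])
        exact one_ne_zero h1
      exact ih (N ⊔ Submodule.span R {y}) hlt (l + 1) _ hgood' hN'
    · exact ⟨l, x, by rw [← spanBefore_full, hN]; exact hsupp, hgood⟩

theorem lam_sub (p : Ideal R) [p.IsPrime] {X Y : Submodule R M} (h : X ≤ Y) :
    lam p ↥Y = lam p ↥X + lam p (↥Y ⧸ X.submoduleOf Y) :=
  lam_add p (Submodule.inclusion h) (X.submoduleOf Y).mkQ (Submodule.inclusion_injective h)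
    (Submodule.mkQ_surjective _) (by
      intro z
      rw [Submodule.mkQ_apply, Submodule.Quotient.mk_eq_zero]
      constructor
      · intro hz
        exact ⟨⟨z.1, hz⟩, Subtype.ext rfl⟩
      · rintro ⟨w, rfl⟩
        exact w.2)

theorem lam_quot (p : Ideal R) [p.IsPrime] (N : Submodule R M) :
    lam p M = lam p ↥N + lam p (M ⧸ N) :=
  lam_add p N.subtype N.mkQ N.subtype_injective N.mkQ_surjective (LinearMap.exact_subtype_mkQ N)

theorem length_eq (q : PrimeSpectrum R) (l : ℕ) (x : Fin l → M)
    (hsupp : q ∉ Module.support R (M ⧸ Submodule.span R (Set.range x)))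
    (hgood : Good q.asIdeal x) :
    (l : ℕ∞) = Module.length (Localization.AtPrime q.asIdeal)
      (LocalizedModule q.asIdeal.primeCompl M) := by
  have hstep : ∀ i : ℕ, i ≤ l → lam q.asIdeal ↥(spanBefore R M x i) = i := by
    intro i
    induction i with
    | zero =>
      intro _
      rw [spanBefore_zero]
      haveI : Subsingleton ↥(⊥ : Submodule R M) := inferInstance
      simpa using lam_of_subsingleton q.asIdeal ↥(⊥ : Submodule R M)
    | succ i ih =>
      intro hi
      rw [lam_sub q.asIdeal (spanBefore_mono x (Nat.le_succ i)), ih (Nat.le_of_succ_le hi)]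
      obtain ⟨e⟩ := hgood ⟨i, hi⟩
      rw [lam_equiv q.asIdeal e, lam_self]
      push_cast
      rfl
  have h1 := lam_quot q.asIdeal (spanBefore R M x l)
  rw [hstep l le_rfl, spanBefore_full] at h1
  have h2 : lam q.asIdeal (M ⧸ Submodule.span R (Set.range x)) = 0 :=
    Module.length_eq_zero_iff.mpr (Module.notMem_support_iff.mp hsupp)
  rw [h2, add_zero] at h1
  exact h1.symm

end Groth.Agent.Helper1.FiltRq
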