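import Mathlib

/-!
# A fibrewise flatness criterion along a nonzerodivisor (helper1)

If `a` is a nonzerodivisor on `A` and on `M`, `M/aM` is flat over `A/a` and `M[1/a]` is flat over
`A[1/a]`, then `M` is flat over `A`.
-/

open TensorProduct

namespace Groth.Agent.Helper1.FlatA

universe u v w

section Quot

variable {A : Type u} [CommRing A] (a : A)

/-- the quotient ring `A/a` -/
abbrev Qr : Type u := A ⧸ Ideal.span {a}

/-- the quotient module `X/aX` -/
abbrev Qm (X : Type v) [AddCommGroup X] [Module A X] : Type v :=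
  X ⧸ (Ideal.span {a} • (⊤ : Submodule A X))

variable {a}

lemma exists_smul_of_mem {X : Type v} [AddCommGroup X] [Module A X] {x : X}
    (hx : x ∈ Ideal.span {a} • (⊤ : Submodule A X)) : ∃ x', x = a • x' := by
  rw [Submodule.ideal_span_singleton_smul, Submodule.mem_smul_pointwise_iff_exists] at hx
  obtain ⟨b, -, hb⟩ := hx
  exact ⟨b, hb.symm⟩

lemma smul_mem' {X : Type v} [AddCommGroup X] [Module A X] (x : X) :
    a • x ∈ Ideal.span {a} • (⊤ : Submodule A X) :=
  Submodule.smul_mem_smul (Ideal.subset_span rfl) Submodule.mem_top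

variable (a) in
/-- kernel of the reduction `M ⊗ X → M/a ⊗ X/a`. -/
lemma exists_smul_of_map_mkQ_eq_zero {M : Type v} [AddCommGroup M] [Module A M]
    {X : Type w} [AddCommGroup X] [Module A X] (w : M ⊗[A] X)
    (hw : TensorProduct.map (Submodule.mkQ (Ideal.span {a} • (⊤ : Submodule A M)))
      (Submodule.mkQ (Ideal.span {a} • (⊤ : Submodule A X))) w = 0) :
    ∃ w', w = a • w' := by
  have hker := TensorProduct.map_ker
    (LinearMap.exact_subtype_mkQ (Ideal.span {a} • (⊤ : Submodule A M)))
    (Submodule.mkQ_surjective _)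
    (LinearMap.exact_subtype_mkQ (Ideal.span {a} • (⊤ : Submodule A X)))
    (Submodule.mkQ_surjective _)
  have hw' : w ∈ LinearMap.ker (TensorProduct.map
      (Submodule.mkQ (Ideal.span {a} • (⊤ : Submodule A M)))
      (Submodule.mkQ (Ideal.span {a} • (⊤ : Submodule A X)))) := hw
  rw [hker, Submodule.mem_sup] at hw'
  obtain ⟨u, ⟨u₀, rfl⟩, v, ⟨v₀, rfl⟩, rfl⟩ := hw'
  have h1 : ∀ u₀ : M ⊗[A] ↥(Ideal.span {a} • (⊤ : Submodule A X)),
      ∃ w', LinearMap.lTensor M (Submodule.subtype _) u₀ = a • w' := by
    intro u₀
    induction u₀ using TensorProduct.induction_on with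
    | zero => exact ⟨0, by rw [map_zero, smul_zero]⟩
    | tmul m x =>
      obtain ⟨x', hx'⟩ := exists_smul_of_mem x.2
      refine ⟨m ⊗ₜ x', ?_⟩
      rw [LinearMap.lTensor_tmul, Submodule.subtype_apply, hx', TensorProduct.tmul_smul]
    | add x y hx hy =>
      obtain ⟨x', hx'⟩ := hx
      obtain ⟨y', hy'⟩ := hy
      exact ⟨x' + y', by rw [map_add, hx', hy', smul_add]⟩
  have h2 : ∀ v₀ : ↥(Ideal.span {a} • (⊤ : Submodule A M)) ⊗[A] X,
      ∃ w', LinearMap.rTensor X (Submodule.subtype _) v₀ = a • w' := by
    intro v₀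
    induction v₀ using TensorProduct.induction_on with
    | zero => exact ⟨0, by rw [map_zero, smul_zero]⟩
    | tmul m x =>
      obtain ⟨m', hm'⟩ := exists_smul_of_mem m.2
      refine ⟨m' ⊗ₜ x, ?_⟩
      rw [LinearMap.rTensor_tmul, Submodule.subtype_apply, hm', TensorProduct.smul_tmul']
    | add x y hx hy =>
      obtain ⟨x', hx'⟩ := hx
      obtain ⟨y', hy'⟩ := hy
      exact ⟨x' + y', by rw [map_add, hx', hy', smul_add]⟩
  obtain ⟨w₁, hw₁⟩ := h1 u₀
  obtain ⟨w₂, hw₂⟩ := h2 v₀
  exact ⟨w₁ + w₂, by rw [hw₁, hw₂, smul_add]⟩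

end Quot

section StepR

variable {A : Type u} [CommRing A] (a : A) {M : Type v} [AddCommGroup M] [Module A M]
  {N : Type w} [AddCommGroup N] [Module A N]

/-- transfer of flatness of `M/a` over `A/a` to `A`-tensor products of `A/a`-modules. -/
lemma lTensor_injective_of_flat_quot [Module.Flat (Qr a) (Qm a M)]
    {K : Type*} {F : Type*} [AddCommGroup K] [Module A K] [AddCommGroup F] [Module A F]
    (j : Qm a K →ₗ[A] Qm a F) (hj : Function.Injective j) :
    Function.Injective (LinearMap.lTensor (Qm a M) j) := by
  have hsurj : Function.Surjective (algebraMap A (Qr a)) := Ideal.Quotient.mk_surjective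
  let j' : Qm a K →ₗ[Qr a] Qm a F := LinearMap.extendScalarsOfSurjective hsurj j
  have hj' : Function.Injective j' := hj
  have h1 : Function.Injective (LinearMap.lTensor (Qm a M) j') :=
    Module.Flat.lTensor_preserves_injective_linearMap j' hj'
  haveI : TensorProduct.CompatibleSMul A (Qr a) (Qm a M) (Qm a K) :=
    TensorProduct.CompatibleSMul.of_algebraMap_surjective (Qm a M) (Qm a K) hsurj
  haveI : TensorProduct.CompatibleSMul A (Qr a) (Qm a M) (Qm a F) :=
    TensorProduct.CompatibleSMul.of_algebraMap_surjective (Qm a M) (Qm a F) hsurj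
  let eK := TensorProduct.equivOfCompatibleSMul A (Qr a) A (Qm a M) (Qm a K)
  let eF := TensorProduct.equivOfCompatibleSMul A (Qr a) A (Qm a M) (Qm a F)
  have hnat : ∀ t, eF (LinearMap.lTensor (Qm a M) j' t) =
      LinearMap.lTensor (Qm a M) j (eK t) := by
    intro t
    induction t using TensorProduct.induction_on with
    | zero => simp
    | tmul m k => rfl
    | add x y hx hy => rw [map_add, map_add, hx, hy, map_add, map_add]
  intro t₁ t₂ h
  obtain ⟨s₁, rfl⟩ := eK.surjective t₁
  obtain ⟨s₂, rfl⟩ := eK.surjective t₂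
  rw [← hnat, ← hnat] at h
  rw [h1 (eF.injective h)]

theorem smul_regular_tensor_aux {F : Type*} [AddCommGroup F] [Module A F] [Module.Flat A F]
    (p : F →ₗ[A] N) (hp : Function.Surjective p)
    (haM : IsSMulRegular M a) (haN : IsSMulRegular N a)
    [Module.Flat (Qr a) (Qm a M)] (z : M ⊗[A] N) (hz : a • z = 0) : z = 0 := by
  classical
  have hex : Function.Exact (LinearMap.ker p).subtype p := LinearMap.exact_subtype_ker_map p
  have hexT : Function.Exact (LinearMap.lTensor M (LinearMap.ker p).subtype)
      (LinearMap.lTensor M p) := lTensor_exact M hex hp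
  have hpT : Function.Surjective (LinearMap.lTensor M p) := LinearMap.lTensor_surjective M hp
  have haF : IsSMulRegular (M ⊗[A] F) a := by
    have h := Module.Flat.rTensor_preserves_injective_linearMap (M := F)
      (LinearMap.lsmul A M a) haM
    have hr : ∀ z : M ⊗[A] F, (LinearMap.lsmul A M a).rTensor F z = a • z := by
      intro z
      induction z using TensorProduct.induction_on with
      | zero => simp
      | tmul m f => rw [LinearMap.rTensor_tmul, LinearMap.lsmul_apply, TensorProduct.smul_tmul']
      | add x y hx hy => rw [map_add, hx, hy, smul_add]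
    intro x y hxy
    apply h
    rw [hr, hr]
    exact hxy
  have hιq : (Ideal.span {a} • (⊤ : Submodule A (LinearMap.ker p))) ≤
      (Ideal.span {a} • (⊤ : Submodule A F)).comap (LinearMap.ker p).subtype := by
    intro k hk
    obtain ⟨k', rfl⟩ := exists_smul_of_mem hk
    rw [Submodule.mem_comap, map_smul]
    exact smul_mem' _
  let j : Qm a (LinearMap.ker p) →ₗ[A] Qm a F := Submodule.mapQ _ _ (LinearMap.ker p).subtype hιq
  have hj : Function.Injective j := by
    rw [injective_iff_map_eq_zero]
    intro kq hkq
    induction kq using Submodule.Quotient.induction_on with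
    | H k =>
      rw [Submodule.mapQ_apply, Submodule.Quotient.mk_eq_zero] at hkq
      obtain ⟨f, hf⟩ := exists_smul_of_mem hkq
      have hpf : p f = 0 := by
        apply haN
        show a • p f = a • 0
        rw [smul_zero, ← map_smul, ← hf]
        exact k.2
      have hk : k = a • (⟨f, hpf⟩ : LinearMap.ker p) := Subtype.ext hf
      rw [Submodule.Quotient.mk_eq_zero, hk]
      exact smul_mem' _
  have hjT := lTensor_injective_of_flat_quot a (M := M) j hj
  obtain ⟨y, rfl⟩ := hpT z
  have h1 : LinearMap.lTensor M p (a • y) = 0 := by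
    rw [map_smul]; exact hz
  obtain ⟨w, hw⟩ := (hexT (a • y)).1 h1
  let θK := TensorProduct.map (Submodule.mkQ (Ideal.span {a} • (⊤ : Submodule A M)))
    (Submodule.mkQ (Ideal.span {a} • (⊤ : Submodule A (LinearMap.ker p))))
  let θF := TensorProduct.map (Submodule.mkQ (Ideal.span {a} • (⊤ : Submodule A M)))
    (Submodule.mkQ (Ideal.span {a} • (⊤ : Submodule A F)))
  have hnat : ∀ t, θF (LinearMap.lTensor M (LinearMap.ker p).subtype t) =
      LinearMap.lTensor (Qm a M) j (θK t) := by
    intro t
    induction t using TensorProduct.induction_on with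
    | zero => simp
    | tmul m k => rfl
    | add x y hx hy => rw [map_add, map_add, hx, hy, map_add, map_add]
  have hkill : ∀ t : Qm a M ⊗[A] Qm a F, a • t = 0 := by
    intro t
    induction t using TensorProduct.induction_on with
    | zero => rw [smul_zero]
    | tmul m f =>
      rw [TensorProduct.smul_tmul']
      have : a • m = 0 := by
        induction m using Submodule.Quotient.induction_on with
        | H m =>
          rw [← Submodule.Quotient.mk_smul, Submodule.Quotient.mk_eq_zero]
          exact smul_mem' _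
      rw [this, TensorProduct.zero_tmul]
    | add x y hx hy => rw [smul_add, hx, hy, add_zero]
  have hθF0 : θF (a • y) = 0 := by
    rw [map_smul]
    exact hkill _
  have hθK0 : θK w = 0 := by
    apply hjT
    rw [← hnat, hw, hθF0, map_zero]
  obtain ⟨w', hw'⟩ := exists_smul_of_map_mkQ_eq_zero a w hθK0
  have hy : y = LinearMap.lTensor M (LinearMap.ker p).subtype w' := by
    apply haF
    show a • y = a • LinearMap.lTensor M (LinearMap.ker p).subtype w'
    rw [← map_smul, ← hw', hw]
  rw [hy]
  exact (hexT _).2 ⟨w', rfl⟩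

/-- `a` is a nonzerodivisor on `M ⊗ N` when it is on `M` and `N` and `M/a` is flat over `A/a`. -/
theorem smul_regular_tensor (haM : IsSMulRegular M a) (haN : IsSMulRegular N a)
    [Module.Flat (Qr a) (Qm a M)] : IsSMulRegular (M ⊗[A] N) a := by
  have key : ∀ z : M ⊗[A] N, a • z = 0 → z = 0 := fun z hz =>
    smul_regular_tensor_aux a (F := N →₀ A) (Finsupp.linearCombination A (fun n => n))
      (Finsupp.linearCombination_surjective _ Function.surjective_id) haM haN z hz
  intro z₁ z₂ hz
  have : z₁ - z₂ = 0 := key _ (by rw [smul_sub]; exact sub_eq_zero.2 hz)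
  exact sub_eq_zero.1 this

end StepR

section StepT

variable {A : Type u} [CommRing A] (a : A) {M : Type v} [AddCommGroup M] [Module A M]

/-- the kernel of `M ⊗ I → M ⊗ A` is `a`-power torsion when `M[1/a]` is flat over `A[1/a]`. -/
lemma exists_pow_smul_eq_zero
    [Module.Flat (Localization.Away a) (LocalizedModule (Submonoid.powers a) M)]
    (I : Ideal A) (x : M ⊗[A] I) (hx : LinearMap.lTensor M I.subtype x = 0) :
    ∃ k : ℕ, a ^ k • x = 0 := by
  haveI : Module.Flat A (Localization.Away a) :=
    IsLocalization.flat (Localization.Away a) (Submonoid.powers a)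
  haveI : Module.Flat A (LocalizedModule (Submonoid.powers a) M) :=
    Module.Flat.trans A (Localization.Away a) (LocalizedModule (Submonoid.powers a) M)
  let g : M →ₗ[A] LocalizedModule (Submonoid.powers a) M :=
    LocalizedModule.mkLinearMap (Submonoid.powers a) M
  let G : M ⊗[A] I →ₗ[A] LocalizedModule (Submonoid.powers a) M ⊗[A] I :=
    TensorProduct.AlgebraTensorModule.rTensor A I g
  let G' : M ⊗[A] A →ₗ[A] LocalizedModule (Submonoid.powers a) M ⊗[A] A :=
    TensorProduct.AlgebraTensorModule.rTensor A A g
  have hnat : ∀ t, LinearMap.lTensor (LocalizedModule (Submonoid.powers a) M) I.subtype (G t) =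
      G' (LinearMap.lTensor M I.subtype t) := by
    intro t
    induction t using TensorProduct.induction_on with
    | zero => simp
    | tmul m i => rfl
    | add x y hx hy => rw [map_add, map_add, hx, hy, map_add, map_add]
  have hinj : Function.Injective
      (LinearMap.lTensor (LocalizedModule (Submonoid.powers a) M) I.subtype) :=
    Module.Flat.lTensor_preserves_injective_linearMap _ Subtype.val_injective
  have hG : G x = G 0 := by
    apply hinj
    rw [hnat, hx, map_zero, map_zero, map_zero]
  haveI : IsLocalizedModule (Submonoid.powers a) G :=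
    inferInstanceAs (IsLocalizedModule (Submonoid.powers a)
      (TensorProduct.AlgebraTensorModule.rTensor A I g))
  obtain ⟨⟨_, k, rfl⟩, hc⟩ := IsLocalizedModule.exists_of_eq (S := Submonoid.powers a) (f := G) hG
  refine ⟨k, ?_⟩
  rw [smul_zero] at hc
  exact hc

/-- **Fibrewise flatness along a nonzerodivisor.** -/
theorem flat_of_regular (haA : IsSMulRegular A a) (haM : IsSMulRegular M a)
    [Module.Flat (Qr a) (Qm a M)]
    [Module.Flat (Localization.Away a) (LocalizedModule (Submonoid.powers a) M)] :
    Module.Flat A M := by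
  rw [Module.Flat.iff_lTensor_injective']
  intro I
  rw [injective_iff_map_eq_zero]
  intro x hx
  obtain ⟨k, hk⟩ := exists_pow_smul_eq_zero a I x hx
  have haI : IsSMulRegular I a := by
    intro i j hij
    apply Subtype.ext
    apply haA
    exact congrArg Subtype.val hij
  have hreg : IsSMulRegular (M ⊗[A] I) a := smul_regular_tensor a haM haI
  have hregk : IsSMulRegular (M ⊗[A] I) (a ^ k) := hreg.pow k
  apply hregk
  show a ^ k • x = a ^ k • 0
  rw [hk, smul_zero]

end StepT

end Groth.Agent.Helper1.FlatA
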