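import Mathlib

/-!
# Flat injective epimorphisms out of a ring of weak dimension ≤ 1 are integrally closed
(helper for S1997)
-/

namespace Groth.Agent.Helper1.FlatEpiIC

open TensorProduct CategoryTheory

universe u

/-- Over a ring all of whose ideals are flat, submodules of flat modules are flat. -/
lemma flat_submodule {A : Type u} [CommRing A] (hA : ∀ I : Ideal A, Module.Flat A I)
    {M : Type u} [AddCommGroup M] [Module A M] [Module.Flat A M] (N : Submodule A M) :
    Module.Flat A N := by
  rw [Module.Flat.iff_rTensor_injective']
  intro I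
  haveI := hA I
  have h1 : Function.Injective (LinearMap.lTensor I N.subtype) :=
    Module.Flat.lTensor_preserves_injective_linearMap _ N.subtype_injective
  have h2 : Function.Injective (LinearMap.rTensor M I.subtype) :=
    (Module.Flat.iff_rTensor_injective'.1 inferInstance) I
  have hcomm : (LinearMap.lTensor A N.subtype) ∘ₗ (LinearMap.rTensor N I.subtype)
      = (LinearMap.rTensor M I.subtype) ∘ₗ (LinearMap.lTensor I N.subtype) := by
    rw [LinearMap.lTensor_comp_rTensor, LinearMap.rTensor_comp_lTensor]
  have h3 : Function.Injective
      ((LinearMap.lTensor A N.subtype) ∘ₗ (LinearMap.rTensor N I.subtype)) := by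
    rw [hcomm]
    exact h2.comp h1
  exact Function.Injective.of_comp (f := LinearMap.lTensor A N.subtype) h3

theorem main (A B : Type u) [CommRing A] [CommRing B] [Algebra A B]
    (hA : ∀ I : Ideal A, Module.Flat A I) [Module.Flat A B]
    (hinj : Function.Injective (algebraMap A B))
    (hepi : Epi (CommRingCat.ofHom (algebraMap A B))) : IsIntegrallyClosedIn A B := by
  rw [isIntegrallyClosedIn_iff]
  refine ⟨hinj, ?_⟩
  intro b hb
  have hepi' : Algebra.IsEpi A B := CommRingCat.epi_iff_epi.1 hepi
  have hB := (Algebra.isEpi_iff_forall_one_tmul_eq A B).1 hepi'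
  set A' : Subalgebra A B := Algebra.adjoin A {b} with hA'
  haveI : Module.Finite A A' := Algebra.finite_adjoin_simple_of_isIntegral hb
  haveI : Module.Flat A A' := flat_submodule hA (Subalgebra.toSubmodule A')
  let ι : A' →ₗ[A] B := A'.val.toLinearMap
  have hι : Function.Injective ι := Subtype.val_injective
  have hmap : Function.Injective (TensorProduct.map ι ι) := by
    have h1 : Function.Injective (LinearMap.lTensor A' ι) :=
      Module.Flat.lTensor_preserves_injective_linearMap _ hι
    have h2 : Function.Injective (LinearMap.rTensor B ι) :=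
      Module.Flat.rTensor_preserves_injective_linearMap _ hι
    have : TensorProduct.map ι ι = (LinearMap.rTensor B ι) ∘ₗ (LinearMap.lTensor A' ι) := by
      rw [LinearMap.rTensor_comp_lTensor]
    rw [this]
    exact h2.comp h1
  have hE : Algebra.IsEpi A A' := by
    rw [Algebra.isEpi_iff_forall_one_tmul_eq]
    intro a
    apply hmap
    simp only [TensorProduct.map_tmul]
    exact hB (ι a)
  obtain ⟨y, hy⟩ := (Algebra.isEpi_iff_surjective_algebraMap_of_finite.1 hE)
    ⟨b, Algebra.subset_adjoin (Set.mem_singleton b)⟩
  exact ⟨y, congrArg Subtype.val hy⟩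

end Groth.Agent.Helper1.FlatEpiIC
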