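import Mathlib
import Groth.Prelude.Def_EGA4b
import Groth.Agent.Helper1.CplQuot
import Groth.Agent.H29.RegLocal2

/-!
# Formal fibres of a quotient (helper1)

`(A/I)^ ≃ (A/I) ⊗_A Â` as `A/I`-algebras, and the resulting identification of the formal fibres of
`A/I` with formal fibres of `A`.
-/

set_option autoImplicit false
set_option linter.style.haveILetI false

namespace Groth.Agent.Helper1.FormalFibreQuot

open TensorProduct IsLocalRing

universe u

section General

variable {A : Type u} [CommRing A] [IsNoetherianRing A] (𝔪 I : Ideal A)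

noncomputable def algEquivQuot : AdicCompletion (CplQuot.nn 𝔪 I) (A ⧸ I) ≃ₐ[A ⧸ I]
    (AdicCompletion 𝔪 A ⧸ I.map (algebraMap A (AdicCompletion 𝔪 A))) :=
  AlgEquiv.ofRingEquiv (f := (CplQuot.equiv 𝔪 I).symm) (by
    intro r
    obtain ⟨a, rfl⟩ := Ideal.Quotient.mk_surjective r
    rw [RingEquiv.symm_apply_eq]
    exact (CplQuot.equiv_mk_algebraMap 𝔪 I a).symm)

noncomputable def algEquivTensor : AdicCompletion (CplQuot.nn 𝔪 I) (A ⧸ I) ≃ₐ[A ⧸ I]
    (A ⧸ I) ⊗[A] AdicCompletion 𝔪 A :=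
  (algEquivQuot 𝔪 I).trans
    (Algebra.TensorProduct.quotIdealMapEquivQuotTensor (AdicCompletion 𝔪 A) I)

theorem nonempty_algEquiv (J : Ideal (A ⧸ I)) (hJ : J = CplQuot.nn 𝔪 I) :
    Nonempty (AdicCompletion J (A ⧸ I) ≃ₐ[A ⧸ I] (A ⧸ I) ⊗[A] AdicCompletion 𝔪 A) := by
  subst hJ
  exact ⟨algEquivTensor 𝔪 I⟩

theorem nonempty_ringEquiv_quot (J : Ideal (A ⧸ I)) (hJ : J = CplQuot.nn 𝔪 I) :
    Nonempty (AdicCompletion J (A ⧸ I) ≃+*
      (AdicCompletion 𝔪 A ⧸ I.map (algebraMap A (AdicCompletion 𝔪 A)))) := by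
  subst hJ
  exact ⟨(CplQuot.equiv 𝔪 I).symm⟩

theorem nonempty_ringEquiv_tensor (J : Ideal (A ⧸ I)) (hJ : J = CplQuot.nn 𝔪 I)
    (K : Type u) [CommRing K] [Algebra (A ⧸ I) K] [Algebra A K] [IsScalarTower A (A ⧸ I) K] :
    Nonempty (K ⊗[A ⧸ I] AdicCompletion J (A ⧸ I) ≃+* K ⊗[A] AdicCompletion 𝔪 A) := by
  obtain ⟨e⟩ := nonempty_algEquiv 𝔪 I J hJ
  exact ⟨(Algebra.TensorProduct.congr (AlgEquiv.refl : K ≃ₐ[A ⧸ I] K) e).toRingEquiv.trans
    (Algebra.TensorProduct.cancelBaseChange A (A ⧸ I) (A ⧸ I) K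
      (AdicCompletion 𝔪 A)).toRingEquiv⟩

end General

section Local

variable (A : Type u) [CommRing A] [IsNoetherianRing A] [IsLocalRing A] (I : Ideal A)
  [Nontrivial (A ⧸ I)]

theorem cpl_quot : Nonempty (EGA4.Cpl (A ⧸ I) ≃+*
    (EGA4.Cpl A ⧸ I.map (algebraMap A (EGA4.Cpl A)))) :=
  nonempty_ringEquiv_quot (maximalIdeal A) I (maximalIdeal (A ⧸ I))
    (Groth.Agent.H29.map_mk_maximalIdeal A I).symm

theorem cpl_tensor (K : Type u) [CommRing K] [Algebra (A ⧸ I) K] [Algebra A K]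
    [IsScalarTower A (A ⧸ I) K] :
    Nonempty (K ⊗[A ⧸ I] EGA4.Cpl (A ⧸ I) ≃+* K ⊗[A] EGA4.Cpl A) :=
  nonempty_ringEquiv_tensor (maximalIdeal A) I (maximalIdeal (A ⧸ I))
    (Groth.Agent.H29.map_mk_maximalIdeal A I).symm K

variable (q : Ideal (A ⧸ I)) [q.IsPrime]

noncomputable def κmap : (q.comap (Ideal.Quotient.mk I)).ResidueField →ₐ[A] q.ResidueField :=
  Ideal.ResidueField.mapₐ _ q (Algebra.ofId A (A ⧸ I)) rfl

theorem κmap_bijective : Function.Bijective (κmap A I q) :=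
  RingHom.SurjectiveOnStalks.residueFieldMap_bijective
    (RingHom.surjectiveOnStalks_of_surjective
      (f := (Algebra.ofId A (A ⧸ I)).toRingHom) Ideal.Quotient.mk_surjective) _ q rfl

theorem fibre_equiv : Nonempty (EGA4.formalFibre (A ⧸ I) q ≃+*
    EGA4.formalFibre A (q.comap (Ideal.Quotient.mk I))) := by
  obtain ⟨e1⟩ := cpl_tensor A I q.ResidueField
  let e2 : (q.comap (Ideal.Quotient.mk I)).ResidueField ≃ₐ[A] q.ResidueField :=
    AlgEquiv.ofBijective (κmap A I q) (κmap_bijective A I q)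
  let e3 : q.ResidueField ⊗[A] EGA4.Cpl A ≃ₐ[A]
      (q.comap (Ideal.Quotient.mk I)).ResidueField ⊗[A] EGA4.Cpl A :=
    Algebra.TensorProduct.congr e2.symm AlgEquiv.refl
  exact ⟨e1.trans e3.toRingEquiv⟩

theorem fibre_equiv_tensor (K : Type u) [Field K] [Algebra q.ResidueField K] :
    ∃ (_ : Algebra (q.comap (Ideal.Quotient.mk I)).ResidueField K),
      (∀ x, algebraMap (q.comap (Ideal.Quotient.mk I)).ResidueField K x =
        algebraMap q.ResidueField K (κmap A I q x)) ∧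
      (Module.Finite q.ResidueField K →
        Module.Finite (q.comap (Ideal.Quotient.mk I)).ResidueField K) ∧
      Nonempty (K ⊗[q.ResidueField] EGA4.formalFibre (A ⧸ I) q ≃+*
        K ⊗[(q.comap (Ideal.Quotient.mk I)).ResidueField]
          EGA4.formalFibre A (q.comap (Ideal.Quotient.mk I))) := by
  letI algBK : Algebra (A ⧸ I) K :=
    ((algebraMap q.ResidueField K).comp (algebraMap (A ⧸ I) q.ResidueField)).toAlgebra
  haveI : IsScalarTower (A ⧸ I) q.ResidueField K := IsScalarTower.of_algebraMap_eq (fun _ => rfl)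
  letI algAK : Algebra A K :=
    ((algebraMap (A ⧸ I) K).comp (algebraMap A (A ⧸ I))).toAlgebra
  haveI : IsScalarTower A (A ⧸ I) K := IsScalarTower.of_algebraMap_eq (fun _ => rfl)
  letI algPK : Algebra (q.comap (Ideal.Quotient.mk I)).ResidueField K :=
    ((algebraMap q.ResidueField K).comp (κmap A I q).toRingHom).toAlgebra
  haveI : IsScalarTower A (q.comap (Ideal.Quotient.mk I)).ResidueField K :=
    IsScalarTower.of_algebraMap_eq (fun a => by
      show algebraMap q.ResidueField K (algebraMap (A ⧸ I) q.ResidueField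
        (algebraMap A (A ⧸ I) a)) = algebraMap q.ResidueField K
          (κmap A I q (algebraMap A (q.comap (Ideal.Quotient.mk I)).ResidueField a))
      rw [AlgHom.commutes, ← IsScalarTower.algebraMap_apply A (A ⧸ I) q.ResidueField])
  refine ⟨algPK, fun _ => rfl, ?_, ?_⟩
  · intro hfin
    letI : Algebra (q.comap (Ideal.Quotient.mk I)).ResidueField q.ResidueField :=
      (κmap A I q).toRingHom.toAlgebra
    haveI : IsScalarTower (q.comap (Ideal.Quotient.mk I)).ResidueField q.ResidueField K :=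
      IsScalarTower.of_algebraMap_eq (fun _ => rfl)
    haveI : Module.Finite (q.comap (Ideal.Quotient.mk I)).ResidueField q.ResidueField :=
      Module.Finite.of_surjective (Algebra.linearMap _ _) (κmap_bijective A I q).2
    exact Module.Finite.trans q.ResidueField K
  · obtain ⟨e1⟩ := cpl_tensor A I K
    let e0 := Algebra.TensorProduct.cancelBaseChange (A ⧸ I) q.ResidueField q.ResidueField K
      (EGA4.Cpl (A ⧸ I))
    let e2 := Algebra.TensorProduct.cancelBaseChange A
      (q.comap (Ideal.Quotient.mk I)).ResidueField (q.comap (Ideal.Quotient.mk I)).ResidueField K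
      (EGA4.Cpl A)
    exact ⟨e0.toRingEquiv.trans (e1.trans e2.symm.toRingEquiv)⟩

end Local

end Groth.Agent.Helper1.FormalFibreQuot
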