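import Mathlib
import Groth.Prelude.Def_CAlg
import Groth.Prelude.Def_EGA4b
import Groth.Agent.Helper1.SkFlat
import Groth.Agent.Helper1.RegAscent
import Groth.Agent.H29.ReducedR0S1
import Groth.Agent.S19474

namespace Groth.Agent.Helper1.RedFlat

open TensorProduct IsLocalRing
open scoped Pointwise

universe u

set_option linter.style.haveILetI false

open Algebra.TensorProduct in
/-- Regularity of the local ring at a prime of a flat algebra, from regularity downstairs and in
the fibre. -/
theorem key' (R S : Type u) [CommRing R] [CommRing S] [Algebra R S]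
    [IsNoetherianRing R] [IsNoetherianRing S] [Module.Flat R S] (p : Ideal R) [p.IsPrime]
    (q : Ideal (p.Fiber S)) [q.IsPrime]
    [IsRegularLocalRing (Localization.AtPrime p)] [IsRegularLocalRing (Localization.AtPrime q)] :
    IsRegularLocalRing (Localization.AtPrime
      (q.comap (includeRight (R := R) (A := p.ResidueField) (B := S)))) := by
  letI := Localization.AtPrime.algebraOfLiesOver p
    (q.comap (includeRight (R := R) (A := p.ResidueField) (B := S)))
  have e := Ideal.Fiber.localizationAlgEquivQuotient p q
  haveI hloc : IsLocalHom (algebraMap (Localization.AtPrime p)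
      (Localization.AtPrime (q.comap (includeRight (R := R) (A := p.ResidueField) (B := S))))) :=
    Localization.isLocalHom_localRingHom _ _ _ Ideal.LiesOver.over
  haveI : IsRegularLocalRing (Localization.AtPrime
        (q.comap (includeRight (R := R) (A := p.ResidueField) (B := S))) ⧸
      p.map (algebraMap R (Localization.AtPrime
        (q.comap (includeRight (R := R) (A := p.ResidueField) (B := S)))))) :=
    IsRegularLocalRing.of_ringEquiv (R := Localization.AtPrime q) e.toRingEquiv
  refine RegAscent.isRegularLocalRing_of_flat (Localization.AtPrime p) _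
    (p.map (algebraMap R (Localization.AtPrime
      (q.comap (includeRight (R := R) (A := p.ResidueField) (B := S)))))) ?_
  rw [← Localization.AtPrime.map_eq_maximalIdeal, Ideal.map_map, ← IsScalarTower.algebraMap_eq]

open Algebra.TensorProduct in
/-- Serre's condition `(R_k)` ascends along flat maps with `(R_k)` fibres. -/
theorem hasRk_of_flat (R S : Type u) [CommRing R] [CommRing S] [Algebra R S]
    [IsNoetherianRing R] [IsNoetherianRing S] [Module.Flat R S] (k : ℕ)
    (hR : LocCoh.HasRk k R)
    (hfib : ∀ (p : Ideal R) [p.IsPrime], LocCoh.HasRk k (p.Fiber S)) :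
    LocCoh.HasRk k S := by
  intro Q hQ hht
  obtain ⟨p, hp, q, hq, hQeq⟩ := FlatLocalCM.exists_fiber_prime R S Q
  subst hQeq
  haveI := SkFlat.isNoetherianRing_fiber R S p
  obtain ⟨h1, _⟩ := FlatLocalCM.local_formulas R S p q
  rw [IsLocalization.AtPrime.ringKrullDim_eq_height
      (q.comap (includeRight (R := R) (A := p.ResidueField) (B := S))) (Localization.AtPrime _),
    IsLocalization.AtPrime.ringKrullDim_eq_height p (Localization.AtPrime p),
    IsLocalization.AtPrime.ringKrullDim_eq_height q (Localization.AtPrime q),
    ← WithBot.coe_add, WithBot.coe_inj] at h1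
  haveI : IsRegularLocalRing (Localization.AtPrime p) :=
    hR p (le_trans (h1 ▸ le_self_add) hht)
  haveI : IsRegularLocalRing (Localization.AtPrime q) :=
    hfib p q (le_trans (h1 ▸ le_add_self) hht)
  exact key' R S p q

/-- Reducedness ascends along flat maps of Noetherian rings with reduced fibres. -/
theorem isReduced_of_flat (R S : Type u) [CommRing R] [CommRing S] [Algebra R S]
    [IsNoetherianRing R] [IsNoetherianRing S] [Module.Flat R S] [IsReduced R]
    (hfib : ∀ (p : Ideal R) [p.IsPrime], IsReduced (p.Fiber S)) : IsReduced S := by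
  apply Groth.Agent.H29.isReduced_of_hasRk_zero_of_hasSk_one
  · refine hasRk_of_flat R S 0 (Groth.Agent.H29.hasRk_zero_of_isReduced R) (fun p _ => ?_)
    haveI := hfib p
    haveI := SkFlat.isNoetherianRing_fiber R S p
    exact Groth.Agent.H29.hasRk_zero_of_isReduced _
  · refine SkFlat.hasSk_of_flat R S 1 (Groth.Agent.H29.hasSk_one_of_isReduced R) (fun p _ => ?_)
    haveI := hfib p
    haveI := SkFlat.isNoetherianRing_fiber R S p
    exact Groth.Agent.H29.hasSk_one_of_isReduced _

theorem main (A : Type u) [CommRing A] [IsNoetherianRing A] [IsLocalRing A]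
    (hA : EGA4.HasGeomReducedFormalFibres A) : IsReduced A ↔ IsReduced (EGA4.Cpl A) := by
  haveI : IsNoetherianRing (AdicCompletion (maximalIdeal A) A) :=
    Groth.Agent.S19474.isNoetherianRing_adicCompletion A (maximalIdeal A)
  haveI : Module.FaithfullyFlat A (AdicCompletion (maximalIdeal A) A) :=
    Module.FaithfullyFlat.of_flat_of_isLocalHom
  constructor
  · intro h
    refine isReduced_of_flat A (EGA4.Cpl A) (fun p _ => ?_)
    haveI := hA p
    exact Algebra.isReduced_of_isGeometricallyReduced p.ResidueField
  · intro h
    exact isReduced_of_injective (algebraMap A (EGA4.Cpl A))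
      (FaithfulSMul.algebraMap_injective A (EGA4.Cpl A))

end Groth.Agent.Helper1.RedFlat
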