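import Mathlib
import Groth.Prelude.Def_CAlg
import Groth.Prelude.Def_EGA4b
import Groth.Agent.Helper1.SkFlat
import Groth.Agent.H29.DepthLib
import Groth.Agent.S19474

namespace Groth.Agent.Helper1.SkDescent

open TensorProduct IsLocalRing
open scoped Pointwise

universe u

set_option linter.style.haveILetI false

/-- Serre's condition `(S_k)` descends along faithfully flat maps of Noetherian rings. -/
theorem hasSk_descent (R S : Type u) [CommRing R] [CommRing S] [Algebra R S]
    [IsNoetherianRing R] [IsNoetherianRing S] [Module.FaithfullyFlat R S] (k : ℕ)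
    (hS : LocCoh.HasSk k S S) : LocCoh.HasSk k R R := by
  intro p hp
  haveI := SkFlat.isNoetherianRing_fiber R S p
  haveI : Nontrivial (p.Fiber S) := Module.FaithfullyFlat.rTensor_nontrivial R S p.ResidueField
  obtain ⟨⟨q, hq⟩⟩ := Ideal.nonempty_minimalPrimes (I := (⊥ : Ideal (p.Fiber S))) bot_ne_top
  haveI : q.IsPrime := hq.1.1
  obtain ⟨h1, h2⟩ := FlatLocalCM.local_formulas R S p q
  have hQ := hS (q.comap (Algebra.TensorProduct.includeRight (R := R) (A := p.ResidueField)
    (B := S)))
  rw [Groth.Agent.H29.depth_localizedModule_self,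
    Groth.Agent.H29.supportDim_localizedModule_self] at hQ ⊢
  have hdim : ringKrullDim (Localization.AtPrime q) = 0 := by
    rw [IsLocalization.AtPrime.ringKrullDim_eq_height q (Localization.AtPrime q),
      Ideal.height_eq_zero_iff.mpr hq]
    rfl
  have hdepth : LocCoh.depth (Localization.AtPrime q) (Localization.AtPrime q) = 0 := by
    have h3 := Groth.Agent.H29.depth_le_supportDim (Localization.AtPrime q)
      (Localization.AtPrime q)
    rw [Module.supportDim_self_eq_ringKrullDim, hdim] at h3
    have h4 : ((LocCoh.depth (Localization.AtPrime q) (Localization.AtPrime q) : ℕ∞) :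
        WithBot ℕ∞) ≤ ((0 : ℕ∞) : WithBot ℕ∞) := h3
    exact le_antisymm (WithBot.coe_le_coe.mp h4) (by simp)
  rw [h1, h2, hdim, hdepth, add_zero, add_zero] at hQ
  exact hQ

/-- For a Noetherian local ring with `(S_n)` formal fibres, `(S_n)` for `A` and its completion are
equivalent. -/
theorem main (n : ℕ) (A : Type u) [CommRing A] [IsNoetherianRing A] [IsLocalRing A]
    (hA : EGA4.HasSnFormalFibres n A) :
    LocCoh.HasSk n A A ↔ LocCoh.HasSk n (EGA4.Cpl A) (EGA4.Cpl A) := by
  haveI : IsNoetherianRing (AdicCompletion (maximalIdeal A) A) :=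
    Groth.Agent.S19474.isNoetherianRing_adicCompletion A (maximalIdeal A)
  haveI : Module.FaithfullyFlat A (AdicCompletion (maximalIdeal A) A) :=
    Module.FaithfullyFlat.of_flat_of_isLocalHom
  constructor
  · intro h
    exact SkFlat.hasSk_of_flat A (EGA4.Cpl A) n h hA
  · intro h
    exact hasSk_descent A (EGA4.Cpl A) n h

end Groth.Agent.Helper1.SkDescent
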