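import Mathlib
import Groth.Prelude.Def_CAlg
import Groth.Prelude.Def_EGA4b
import Groth.Agent.Helper1.RedFlat
import Groth.Agent.Helper1.SkDescent
import Groth.Agent.S0601

namespace Groth.Agent.Helper1.NormalCpl

open TensorProduct IsLocalRing
open scoped Pointwise

universe u

set_option linter.style.haveILetI false

theorem isNormalRing_of_ringEquiv {R S : Type u} [CommRing R] [CommRing S] (e : R ≃+* S)
    (h : EGA4.IsNormalRing R) : EGA4.IsNormalRing S := by
  intro q hq
  haveI : (q.comap e).IsPrime := Ideal.comap_isPrime _ _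
  obtain ⟨h1, h2⟩ := h (q.comap e)
  have e' : Localization.AtPrime (q.comap e) ≃+* Localization.AtPrime q :=
    Localization.localRingEquiv (q.comap e) q e rfl
  exact ⟨MulEquiv.isDomain _ e'.symm.toMulEquiv, IsIntegrallyClosed.of_equiv e'⟩

theorem isNormalRing_of_isGeomNormal (k F : Type u) [Field k] [CommRing F] [Algebra k F]
    (h : EGA4.IsGeomNormal k F) : EGA4.IsNormalRing F :=
  isNormalRing_of_ringEquiv (Algebra.TensorProduct.lid k F).toRingEquiv
    (h k (Module.Finite.self k))

/-- Normality ascends along flat maps of Noetherian rings with normal fibres. -/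
theorem isNormalRing_of_flat (R S : Type u) [CommRing R] [CommRing S] [Algebra R S]
    [IsNoetherianRing R] [IsNoetherianRing S] [Module.Flat R S] (hR : EGA4.IsNormalRing R)
    (hfib : ∀ (p : Ideal R) [p.IsPrime], EGA4.IsNormalRing (p.Fiber S)) :
    EGA4.IsNormalRing S := by
  have hR' := (Groth.Agent.S0601.result R).mp hR
  apply (Groth.Agent.S0601.result S).mpr
  refine ⟨RedFlat.hasRk_of_flat R S 1 hR'.1 (fun p _ => ?_),
    SkFlat.hasSk_of_flat R S 2 hR'.2 (fun p _ => ?_)⟩
  · haveI := SkFlat.isNoetherianRing_fiber R S p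
    exact ((Groth.Agent.S0601.result _).mp (hfib p)).1
  · haveI := SkFlat.isNoetherianRing_fiber R S p
    exact ((Groth.Agent.S0601.result _).mp (hfib p)).2

theorem isDomain_and_isIntegrallyClosed_of_isNormalRing (B : Type u) [CommRing B] [IsLocalRing B]
    (h : EGA4.IsNormalRing B) : IsDomain B ∧ IsIntegrallyClosed B := by
  obtain ⟨h1, h2⟩ := h (maximalIdeal B)
  let e : B ≃ₐ[B] Localization.AtPrime (maximalIdeal B) :=
    IsLocalization.atUnits B (maximalIdeal B).primeCompl
      (fun x hx => IsLocalRing.notMem_maximalIdeal.mp hx)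
  exact ⟨MulEquiv.isDomain _ e.toRingEquiv.toMulEquiv,
    IsIntegrallyClosed.of_equiv e.symm.toRingEquiv⟩

theorem isNormalRing_of_isIntegrallyClosed (A : Type u) [CommRing A] [IsDomain A]
    [IsIntegrallyClosed A] : EGA4.IsNormalRing A := by
  intro p hp
  exact ⟨IsLocalization.isDomain_localization (Ideal.primeCompl_le_nonZeroDivisors p),
    isIntegrallyClosed_of_isLocalization (Localization.AtPrime p) p.primeCompl
      (Ideal.primeCompl_le_nonZeroDivisors p)⟩

/-- Integrally closed domains descend along faithfully flat maps. -/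
theorem isIntegrallyClosed_descent (A B : Type u) [CommRing A] [CommRing B] [Algebra A B]
    [Module.FaithfullyFlat A B] [IsDomain B] [IsIntegrallyClosed B] :
    ∃ _ : IsDomain A, IsIntegrallyClosed A := by
  have hinj : Function.Injective (algebraMap A B) := FaithfulSMul.algebraMap_injective A B
  haveI : IsDomain A := hinj.isDomain _
  refine ⟨inferInstance, ?_⟩
  have hinjL : Function.Injective (algebraMap A (FractionRing B)) := by
    rw [IsScalarTower.algebraMap_eq A B (FractionRing B)]
    exact (IsFractionRing.injective B (FractionRing B)).comp hinj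
  let φ : FractionRing A →ₐ[A] FractionRing B :=
    IsFractionRing.liftAlgHom (g := Algebra.ofId A (FractionRing B)) hinjL
  rw [isIntegrallyClosed_iff (FractionRing A)]
  intro x hx
  obtain ⟨β, hβ⟩ := (isIntegrallyClosed_iff (FractionRing B)).mp ‹IsIntegrallyClosed B›
    ((hx.map φ).tower_top (A := B))
  obtain ⟨a, b, hb, rfl⟩ := IsFractionRing.div_surjective A x
  have hb0 : b ≠ 0 := nonZeroDivisors.ne_zero hb
  have hbL : algebraMap A (FractionRing B) b ≠ 0 :=
    fun h => hb0 (hinjL (by rw [h, map_zero]))
  have hbK : algebraMap A (FractionRing A) b ≠ 0 :=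
    fun h => hb0 (IsFractionRing.injective A (FractionRing A) (by rw [h, map_zero]))
  rw [map_div₀, AlgHom.commutes, AlgHom.commutes, eq_div_iff hbL] at hβ
  have hB : β * algebraMap A B b = algebraMap A B a := by
    apply IsFractionRing.injective B (FractionRing B)
    rw [map_mul, ← IsScalarTower.algebraMap_apply, ← IsScalarTower.algebraMap_apply]
    exact hβ
  have hmem : a ∈ Ideal.span {b} := by
    rw [← Ideal.comap_map_eq_self_of_faithfullyFlat (B := B) (Ideal.span {b}), Ideal.mem_comap,
      Ideal.map_span, Set.image_singleton, Ideal.mem_span_singleton']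
    exact ⟨β, hB⟩
  obtain ⟨c, hc⟩ := Ideal.mem_span_singleton'.mp hmem
  refine ⟨c, ?_⟩
  rw [eq_div_iff hbK, ← map_mul, hc]

theorem main (A : Type u) [CommRing A] [IsNoetherianRing A] [IsLocalRing A]
    (hA : EGA4.HasGeomNormalFormalFibres A) :
    EGA4.IsNormalRing A ↔ EGA4.IsNormalRing (EGA4.Cpl A) := by
  haveI : IsNoetherianRing (AdicCompletion (maximalIdeal A) A) :=
    Groth.Agent.S19474.isNoetherianRing_adicCompletion A (maximalIdeal A)
  haveI : Module.FaithfullyFlat A (AdicCompletion (maximalIdeal A) A) :=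
    Module.FaithfullyFlat.of_flat_of_isLocalHom
  constructor
  · intro h
    exact isNormalRing_of_flat A (EGA4.Cpl A) h
      (fun p _ => isNormalRing_of_isGeomNormal _ _ (hA p))
  · intro h
    obtain ⟨h1, h2⟩ := isDomain_and_isIntegrallyClosed_of_isNormalRing (EGA4.Cpl A) h
    obtain ⟨h3, h4⟩ := isIntegrallyClosed_descent A (EGA4.Cpl A)
    exact isNormalRing_of_isIntegrallyClosed A

end Groth.Agent.Helper1.NormalCpl
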