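import Mathlib
import Groth.Prelude.Def_CAlg
import Groth.Prelude.Def_Found
import Groth.Prelude.Def_EGA4b
import Groth.Agent.Helper1.FormalFibreQuot
import Groth.Agent.Helper1.FlatLocalCM
import Groth.Agent.Helper1.NormalCpl

/-!
# Formal fibres of quotients: applications (helper1)
-/

set_option autoImplicit false
set_option linter.style.haveILetI false

namespace Groth.Agent.Helper1.FormalFibreApps

open TensorProduct IsLocalRing

universe u

theorem isCohenMacaulayLocalRing_of_ringEquiv {R S : Type u} [CommRing R] [CommRing S]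
    (e : R ≃+* S) (h : LocCoh.IsCohenMacaulayLocalRing R) : LocCoh.IsCohenMacaulayLocalRing S := by
  haveI : IsNoetherianRing S := isNoetherianRing_of_ringEquiv R e
  haveI : IsLocalRing S := e.isLocalRing
  refine { supportDim_eq_depth := ?_ }
  rw [Module.supportDim_self_eq_ringKrullDim, ← ringKrullDim_eq_of_ringEquiv e,
    ← FlatLocalCM.depth_self_eq_of_ringEquiv e, ← Module.supportDim_self_eq_ringKrullDim]
  exact h.supportDim_eq_depth

theorem isCohenMacaulayRing_of_ringEquiv {R S : Type u} [CommRing R] [CommRing S]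
    (e : R ≃+* S) (h : LocCoh.IsCohenMacaulayRing R) : LocCoh.IsCohenMacaulayRing S := by
  haveI : IsNoetherianRing S := isNoetherianRing_of_ringEquiv R e
  refine { isCohenMacaulayLocalRing_localization := ?_ }
  intro q hq
  haveI : (q.comap e).IsPrime := Ideal.comap_isPrime _ _
  have e' : Localization.AtPrime (q.comap e) ≃+* Localization.AtPrime q :=
    Localization.localRingEquiv (q.comap e) q e rfl
  exact isCohenMacaulayLocalRing_of_ringEquiv e'
    (h.isCohenMacaulayLocalRing_localization (q.comap e))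

variable (A : Type u) [CommRing A] [IsNoetherianRing A] [IsLocalRing A]

theorem s4755 (hA : EGA4.HasCMFormalFibres A) (I : Ideal A) [Nontrivial (A ⧸ I)] :
    EGA4.HasCMFormalFibres (A ⧸ I) := by
  intro q hq
  obtain ⟨e⟩ := FormalFibreQuot.fibre_equiv A I q
  exact isCohenMacaulayRing_of_ringEquiv e.symm (hA (q.comap (Ideal.Quotient.mk I)))

theorem s4754 (hA : EGA4.HasGeomNormalFormalFibres A) (I : Ideal A) [Nontrivial (A ⧸ I)] :
    EGA4.HasGeomNormalFormalFibres (A ⧸ I) := by
  intro q hq k' _ _ hfin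
  obtain ⟨alg, -, hf, ⟨e⟩⟩ := FormalFibreQuot.fibre_equiv_tensor A I q k'
  have h := hA (q.comap (Ideal.Quotient.mk I)) k' (hf hfin)
  exact NormalCpl.isNormalRing_of_ringEquiv e.symm h

theorem s4738 (hA : EGA4.HasGeomReducedFormalFibres A) (I : Ideal A) [Nontrivial (A ⧸ I)] :
    EGA4.HasGeomReducedFormalFibres (A ⧸ I) := by
  intro q hq
  rw [Algebra.isGeometricallyReduced_field_iff]
  obtain ⟨alg, hcomp, -, ⟨e⟩⟩ := FormalFibreQuot.fibre_equiv_tensor A I q
    (AlgebraicClosure q.ResidueField)
  haveI := hA (q.comap (Ideal.Quotient.mk I))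
  haveI hint : Algebra.IsIntegral (q.comap (Ideal.Quotient.mk I)).ResidueField
      (AlgebraicClosure q.ResidueField) := ⟨fun z => by
    have hz : IsIntegral q.ResidueField z := Algebra.IsIntegral.isIntegral z
    obtain ⟨p, hp1, hp2⟩ := hz
    let h := RingEquiv.ofBijective (FormalFibreQuot.κmap A I q).toRingHom
      (FormalFibreQuot.κmap_bijective A I q)
    refine ⟨p.map h.symm.toRingHom, hp1.map _, ?_⟩
    have h1 : algebraMap (q.comap (Ideal.Quotient.mk I)).ResidueField
        (AlgebraicClosure q.ResidueField) =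
        (algebraMap q.ResidueField (AlgebraicClosure q.ResidueField)).comp h.toRingHom :=
      RingHom.ext hcomp
    rw [h1, Polynomial.eval₂_map]
    have h2 : ((algebraMap q.ResidueField (AlgebraicClosure q.ResidueField)).comp
        h.toRingHom).comp h.symm.toRingHom =
        algebraMap q.ResidueField (AlgebraicClosure q.ResidueField) := by
      ext x
      simp
    rw [h2]
    exact hp2⟩
  haveI : IsReduced (AlgebraicClosure q.ResidueField ⊗[(q.comap (Ideal.Quotient.mk I)).ResidueField]
      EGA4.formalFibre A (q.comap (Ideal.Quotient.mk I))) := inferInstance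
  exact isReduced_of_injective e e.injective

theorem s4737 (hA : CAlg.IsRegularHom A (EGA4.Cpl A)) (I : Ideal A) [Nontrivial (A ⧸ I)] :
    CAlg.IsRegularHom (A ⧸ I) (EGA4.Cpl (A ⧸ I)) := by
  refine ⟨inferInstance, ?_⟩
  intro q hq
  obtain ⟨e⟩ := FormalFibreQuot.fibre_equiv A I q
  obtain ⟨h1, h2⟩ := hA.2 (q.comap (Ideal.Quotient.mk I))
  refine ⟨isNoetherianRing_of_ringEquiv _ e.symm, ?_⟩
  intro k' _ _ hfin
  obtain ⟨alg, -, hf, ⟨e'⟩⟩ := FormalFibreQuot.fibre_equiv_tensor A I q k'
  haveI := h2 k' (hf hfin)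
  exact IsRegularRing.of_ringEquiv (R := k' ⊗[(q.comap (Ideal.Quotient.mk I)).ResidueField]
    EGA4.formalFibre A (q.comap (Ideal.Quotient.mk I))) e'.symm

end Groth.Agent.Helper1.FormalFibreApps
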