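import Mathlib
import Groth.Prelude.Def_Found
import Groth.Prelude.Def_EGA4b
import Groth.Agent.Helper1.RedFlat
import Groth.Agent.Helper1.NormalCpl
import Groth.Agent.Helper1.FlatLocalCM

/-!
# Composition of regular / normal homomorphisms (helper1)
-/

namespace Groth.Agent.Helper1.HomCompose

open TensorProduct

universe u

set_option linter.style.haveILetI false
set_option linter.unusedSectionVars false

section Iso

variable (A B C K : Type u) [CommRing A] [CommRing B] [CommRing C] [CommRing K]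
  [Algebra A B] [Algebra B C] [Algebra A C] [IsScalarTower A B C] [Algebra A K]

/-- `(B ⊗[A] K) ⊗[B] C ≃+* C ⊗[A] K`. -/
noncomputable def tensorIso₂ : (B ⊗[A] K) ⊗[B] C ≃+* C ⊗[A] K :=
  ((Algebra.TensorProduct.comm B (B ⊗[A] K) C).toRingEquiv).trans
    (Algebra.TensorProduct.cancelBaseChange A B C C K).toRingEquiv

/-- `K ⊗[κ] (κ ⊗[A] B) ≃+* B ⊗[A] K` for a `κ`-algebra `K` (with `A → κ → K` a tower). -/
noncomputable def tensorIso₁ (κ : Type u) [CommRing κ] [Algebra A κ] [Algebra κ K]
    [IsScalarTower A κ K] : K ⊗[κ] (κ ⊗[A] B) ≃+* B ⊗[A] K :=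
  ((Algebra.TensorProduct.cancelBaseChange A κ K K B).toRingEquiv).trans
    (Algebra.TensorProduct.comm A K B).toRingEquiv

end Iso

/-- Regularity ascends along flat maps of Noetherian rings with regular fibre rings. -/
theorem isRegularRing_of_flat (R S : Type u) [CommRing R] [CommRing S] [Algebra R S]
    [IsNoetherianRing S] [Module.Flat R S] [IsRegularRing R]
    (hfib : ∀ (p : Ideal R) [p.IsPrime], IsRegularRing (p.Fiber S)) : IsRegularRing S := by
  rw [isRegularRing_iff]
  intro Q hQ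
  obtain ⟨p, hp, q, hq, hQeq⟩ := FlatLocalCM.exists_fiber_prime R S Q
  subst hQeq
  haveI := hfib p
  exact RedFlat.key' R S p q

theorem isNoetherianRing_tensor_of_finite (K L X : Type u) [Field K] [Field L] [Algebra K L]
    [Module.Finite K L] [CommRing X] [Algebra K X] [IsNoetherianRing X] :
    IsNoetherianRing (L ⊗[K] X) := by
  haveI : IsNoetherianRing (X ⊗[K] L) := Algebra.FiniteType.isNoetherianRing X (X ⊗[K] L)
  exact isNoetherianRing_of_ringEquiv _ (Algebra.TensorProduct.comm K X L).toRingEquiv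

section Core

variable (A B C : Type u) [CommRing A] [CommRing B] [CommRing C] [Algebra A B] [Algebra B C]
  [Algebra A C] [IsScalarTower A B C]
  (p : Ideal A) [p.IsPrime] (L : Type u) [Field L] [Algebra p.ResidueField L]
  [Module.Finite p.ResidueField L] [Algebra A L] [IsScalarTower A p.ResidueField L]

include p in
theorem fiber_regular
    (hBC : ∀ (q : Ideal B) [q.IsPrime], IsNoetherianRing (q.Fiber C) ∧
      CAlg.IsGeometricallyRegular q.ResidueField (q.Fiber C))
    (q' : Ideal (B ⊗[A] L)) [q'.IsPrime] :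
    IsRegularRing (q'.Fiber ((B ⊗[A] L) ⊗[B] C)) := by
  haveI : Algebra.QuasiFinite A L := Algebra.QuasiFinite.trans A p.ResidueField L
  let q := q'.under B
  letI := Localization.AtPrime.algebraOfLiesOver q q'
  let e : q'.Fiber ((B ⊗[A] L) ⊗[B] C) ≃ₐ[q'.ResidueField]
      q'.ResidueField ⊗[q.ResidueField] (q.Fiber C) :=
    (Algebra.TensorProduct.cancelBaseChange _ _ _ _ _).trans
      (Algebra.TensorProduct.cancelBaseChange _ _ _ _ _).symm
  haveI : IsRegularRing (q'.ResidueField ⊗[q.ResidueField] (q.Fiber C)) :=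
    (hBC q).2 q'.ResidueField inferInstance
  exact IsRegularRing.of_ringEquiv (R := q'.ResidueField ⊗[q.ResidueField] (q.Fiber C))
    e.symm.toRingEquiv

theorem regular_core [Module.Flat B C]
    (hB : IsRegularRing (L ⊗[p.ResidueField] (p.Fiber B)))
    (hCN : IsNoetherianRing (p.Fiber C))
    (hBC : ∀ (q : Ideal B) [q.IsPrime], IsNoetherianRing (q.Fiber C) ∧
      CAlg.IsGeometricallyRegular q.ResidueField (q.Fiber C)) :
    IsRegularRing (L ⊗[p.ResidueField] (p.Fiber C)) := by
  haveI : IsRegularRing (B ⊗[A] L) :=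
    IsRegularRing.of_ringEquiv (R := L ⊗[p.ResidueField] (p.Fiber B))
      (tensorIso₁ A B L p.ResidueField)
  haveI hN1 : IsNoetherianRing (L ⊗[p.ResidueField] (p.Fiber C)) :=
    isNoetherianRing_tensor_of_finite _ _ _
  haveI hN2 : IsNoetherianRing ((B ⊗[A] L) ⊗[B] C) :=
    isNoetherianRing_of_ringEquiv _
      ((tensorIso₁ A C L p.ResidueField).trans (tensorIso₂ A B C L).symm)
  haveI : IsRegularRing ((B ⊗[A] L) ⊗[B] C) :=
    isRegularRing_of_flat (B ⊗[A] L) _ (fun q' _ => fiber_regular A B C p L hBC q')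
  exact IsRegularRing.of_ringEquiv (R := (B ⊗[A] L) ⊗[B] C)
    ((tensorIso₂ A B C L).trans (tensorIso₁ A C L p.ResidueField).symm)

include p in
theorem fiber_normal
    (hBC : ∀ (q : Ideal B) [q.IsPrime], EGA4.IsGeomNormal q.ResidueField (q.Fiber C))
    (q' : Ideal (B ⊗[A] L)) [q'.IsPrime] :
    EGA4.IsNormalRing (q'.Fiber ((B ⊗[A] L) ⊗[B] C)) := by
  haveI : Algebra.QuasiFinite A L := Algebra.QuasiFinite.trans A p.ResidueField L
  let q := q'.under B
  letI := Localization.AtPrime.algebraOfLiesOver q q'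
  let e : q'.Fiber ((B ⊗[A] L) ⊗[B] C) ≃ₐ[q'.ResidueField]
      q'.ResidueField ⊗[q.ResidueField] (q.Fiber C) :=
    (Algebra.TensorProduct.cancelBaseChange _ _ _ _ _).trans
      (Algebra.TensorProduct.cancelBaseChange _ _ _ _ _).symm
  exact NormalCpl.isNormalRing_of_ringEquiv e.symm.toRingEquiv
    ((hBC q) q'.ResidueField inferInstance)

theorem normal_core [IsNoetherianRing B] [IsNoetherianRing C] [Module.Flat B C]
    (hB : EGA4.IsNormalRing (L ⊗[p.ResidueField] (p.Fiber B)))
    (hBC : ∀ (q : Ideal B) [q.IsPrime], EGA4.IsGeomNormal q.ResidueField (q.Fiber C)) :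
    EGA4.IsNormalRing (L ⊗[p.ResidueField] (p.Fiber C)) := by
  haveI : IsNoetherianRing (p.Fiber B) := SkFlat.isNoetherianRing_fiber A B p
  haveI : IsNoetherianRing (p.Fiber C) := SkFlat.isNoetherianRing_fiber A C p
  haveI hN0 : IsNoetherianRing (L ⊗[p.ResidueField] (p.Fiber B)) :=
    isNoetherianRing_tensor_of_finite _ _ _
  haveI hN0' : IsNoetherianRing (B ⊗[A] L) :=
    isNoetherianRing_of_ringEquiv _ (tensorIso₁ A B L p.ResidueField)
  haveI hN1 : IsNoetherianRing (L ⊗[p.ResidueField] (p.Fiber C)) :=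
    isNoetherianRing_tensor_of_finite _ _ _
  haveI hN2 : IsNoetherianRing ((B ⊗[A] L) ⊗[B] C) :=
    isNoetherianRing_of_ringEquiv _
      ((tensorIso₁ A C L p.ResidueField).trans (tensorIso₂ A B C L).symm)
  have hR : EGA4.IsNormalRing (B ⊗[A] L) :=
    NormalCpl.isNormalRing_of_ringEquiv (tensorIso₁ A B L p.ResidueField) hB
  have hS := NormalCpl.isNormalRing_of_flat (B ⊗[A] L) ((B ⊗[A] L) ⊗[B] C) hR
    (fun q' _ => fiber_normal A B C p L hBC q')
  exact NormalCpl.isNormalRing_of_ringEquiv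
    ((tensorIso₂ A B C L).trans (tensorIso₁ A C L p.ResidueField).symm) hS

end Core

theorem s9294 (A B C : Type u) [CommRing A] [CommRing B] [CommRing C]
    [Algebra A B] [Algebra B C] [Algebra A C] [IsScalarTower A B C]
    (hAB : CAlg.IsRegularHom A B) (hBC : CAlg.IsRegularHom B C)
    (hN : ∀ (p : Ideal A) [p.IsPrime], IsNoetherianRing (p.Fiber C)) :
    CAlg.IsRegularHom A C := by
  obtain ⟨hfAB, hAB'⟩ := hAB
  obtain ⟨hfBC, hBC'⟩ := hBC
  haveI := hfAB
  haveI := hfBC
  refine ⟨Module.Flat.trans A B C, fun p hp => ⟨hN p, fun L _ _ hfin => ?_⟩⟩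
  letI : Algebra A L :=
    ((algebraMap p.ResidueField L).comp (algebraMap A p.ResidueField)).toAlgebra
  haveI : IsScalarTower A p.ResidueField L := IsScalarTower.of_algebraMap_eq' rfl
  haveI := hfin
  exact regular_core A B C p L ((hAB' p).2 L hfin) (hN p) (fun q _ => hBC' q)

theorem s4696 (A B C : Type u) [CommRing A] [CommRing B] [CommRing C] [IsNoetherianRing A]
    [IsNoetherianRing B] [IsNoetherianRing C] [Algebra A B] [Algebra B C] [Algebra A C]
    [IsScalarTower A B C]
    (hAB : EGA4.IsNormalHom A B) (hBC : EGA4.IsNormalHom B C) : EGA4.IsNormalHom A C := by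
  obtain ⟨hfAB, hAB'⟩ := hAB
  obtain ⟨hfBC, hBC'⟩ := hBC
  haveI := hfAB
  haveI := hfBC
  refine ⟨Module.Flat.trans A B C, fun p hp L _ _ hfin => ?_⟩
  letI : Algebra A L :=
    ((algebraMap p.ResidueField L).comp (algebraMap A p.ResidueField)).toAlgebra
  haveI : IsScalarTower A p.ResidueField L := IsScalarTower.of_algebraMap_eq' rfl
  haveI := hfin
  exact normal_core A B C p L ((hAB' p) L hfin) (fun q _ => hBC' q)

end Groth.Agent.Helper1.HomCompose
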