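import Mathlib
import Groth.Prelude
import Groth.Agent.Helper1.CMCompose
import Groth.Agent.Helper1.HomCompose
import Groth.Agent.Helper1.SkFlat
import Groth.Agent.S19474

/-!
# Formal fibres and finite domains (helper1)

Criterion of EGA IV 7.3.? : a property of the formal fibres can be tested on the local rings of
`B ⊗_A Â` at primes over the generic point of `B`, for finite `A`-algebras `B` which are domains.
-/

set_option autoImplicit false
set_option linter.style.haveILetI false

namespace Groth.Agent.Helper1.FormalFibreCrit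

open TensorProduct Algebra.TensorProduct

universe u

section Forward

variable (A B C : Type u) [CommRing A] [CommRing B] [CommRing C] [Algebra A B] [Algebra A C]
  [IsDomain B] [Module.Finite A B]

/-- The generic fibre of `B → B ⊗_A C` as a base change of a fibre of `A → C`. -/
noncomputable def fiberBotEquiv :
    letI := Localization.AtPrime.algebraOfLiesOver ((⊥ : Ideal B).under A) (⊥ : Ideal B)
    (⊥ : Ideal B).Fiber (B ⊗[A] C) ≃ₐ[(⊥ : Ideal B).ResidueField]
      (⊥ : Ideal B).ResidueField ⊗[((⊥ : Ideal B).under A).ResidueField]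
        (((⊥ : Ideal B).under A).Fiber C) :=
  letI := Localization.AtPrime.algebraOfLiesOver ((⊥ : Ideal B).under A) (⊥ : Ideal B)
  (Algebra.TensorProduct.cancelBaseChange _ _ _ _ _).trans
    (Algebra.TensorProduct.cancelBaseChange _ _ _ _ _).symm

theorem fiber_bot_regular
    (hC : ∀ (p : Ideal A) [p.IsPrime], CAlg.IsGeometricallyRegular p.ResidueField (p.Fiber C)) :
    IsRegularRing ((⊥ : Ideal B).Fiber (B ⊗[A] C)) := by
  letI := Localization.AtPrime.algebraOfLiesOver ((⊥ : Ideal B).under A) (⊥ : Ideal B)
  haveI : IsRegularRing ((⊥ : Ideal B).ResidueField ⊗[((⊥ : Ideal B).under A).ResidueField]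
      (((⊥ : Ideal B).under A).Fiber C)) :=
    hC ((⊥ : Ideal B).under A) (⊥ : Ideal B).ResidueField inferInstance
  exact IsRegularRing.of_ringEquiv
    (R := (⊥ : Ideal B).ResidueField ⊗[((⊥ : Ideal B).under A).ResidueField]
      (((⊥ : Ideal B).under A).Fiber C))
    (fiberBotEquiv A B C).symm.toRingEquiv

theorem fiber_bot_reduced
    (hC : ∀ (p : Ideal A) [p.IsPrime],
      Algebra.IsGeometricallyReduced p.ResidueField (p.Fiber C)) :
    IsReduced ((⊥ : Ideal B).Fiber (B ⊗[A] C)) := by
  letI := Localization.AtPrime.algebraOfLiesOver ((⊥ : Ideal B).under A) (⊥ : Ideal B)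
  haveI := hC ((⊥ : Ideal B).under A)
  haveI : IsReduced ((⊥ : Ideal B).ResidueField ⊗[((⊥ : Ideal B).under A).ResidueField]
      (((⊥ : Ideal B).under A).Fiber C)) := inferInstance
  exact isReduced_of_injective (fiberBotEquiv A B C).toRingEquiv
    (fiberBotEquiv A B C).injective

end Forward

/-- The local ring of `S` at a prime over the generic point of the domain `B` is a local ring of the
generic fibre. -/
theorem loc_equiv (B S : Type u) [CommRing B] [IsDomain B] [CommRing S] [Algebra B S]
    (q : Ideal S) [q.IsPrime] (hq : q.comap (algebraMap B S) = ⊥) :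
    ∃ (Q : Ideal ((⊥ : Ideal B).Fiber S)) (_ : Q.IsPrime),
      Nonempty (Localization.AtPrime Q ≃+* Localization.AtPrime q) := by
  haveI : q.LiesOver (⊥ : Ideal B) := ⟨hq.symm⟩
  obtain ⟨Q, hQ, hQeq⟩ := CMCompose.exists_fiber_prime_of_liesOver B S ⊥ q
  subst hQeq
  letI := Localization.AtPrime.algebraOfLiesOver (⊥ : Ideal B)
    (Q.comap (includeRight (R := B) (A := (⊥ : Ideal B).ResidueField) (B := S)))
  have e0 := Ideal.Fiber.localizationAlgEquivQuotient (⊥ : Ideal B) Q
  exact ⟨Q, hQ, ⟨e0.toRingEquiv.trans
    ((Ideal.quotEquivOfEq Ideal.map_bot).trans (RingEquiv.quotientBot _))⟩⟩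

theorem loc_regular (B S : Type u) [CommRing B] [IsDomain B] [CommRing S] [Algebra B S]
    (q : Ideal S) [q.IsPrime] (hq : q.comap (algebraMap B S) = ⊥)
    [IsRegularRing ((⊥ : Ideal B).Fiber S)] : IsRegularLocalRing (Localization.AtPrime q) := by
  obtain ⟨Q, hQ, ⟨e⟩⟩ := loc_equiv B S q hq
  haveI : IsRegularLocalRing (Localization.AtPrime Q) := inferInstance
  exact IsRegularLocalRing.of_ringEquiv (R := Localization.AtPrime Q) e

theorem loc_reduced (B S : Type u) [CommRing B] [IsDomain B] [CommRing S] [Algebra B S]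
    (q : Ideal S) [q.IsPrime] (hq : q.comap (algebraMap B S) = ⊥)
    [hF : IsReduced ((⊥ : Ideal B).Fiber S)] : IsReduced (Localization.AtPrime q) := by
  obtain ⟨Q, hQ, ⟨e⟩⟩ := loc_equiv B S q hq
  have hQr : IsReduced (Localization.AtPrime Q) :=
    isReduced_localizationPreserves Q.primeCompl (Localization.AtPrime Q) hF
  exact isReduced_of_injective e.symm e.symm.injective

section Construct

variable (A : Type u) [CommRing A] (p : Ideal A) [p.IsPrime] (K' : Type u) [Field K']
  [Algebra p.ResidueField K'] [Module.Finite p.ResidueField K'] [Algebra A K']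
  [IsScalarTower A p.ResidueField K']

include p in
/-- A finite sub-`A`-algebra of `K'` with fraction field `K'`. -/
theorem exists_finite_subalgebra :
    ∃ B : Subalgebra A K', Module.Finite A B ∧ IsFractionRing B K' := by
  classical
  letI : Algebra (A ⧸ p) K' :=
    ((algebraMap p.ResidueField K').comp (algebraMap (A ⧸ p) p.ResidueField)).toAlgebra
  haveI : IsScalarTower (A ⧸ p) p.ResidueField K' := IsScalarTower.of_algebraMap_eq' rfl
  have hinjK : Function.Injective (algebraMap (A ⧸ p) K') := by
    rw [IsScalarTower.algebraMap_eq (A ⧸ p) p.ResidueField K']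
    exact (algebraMap p.ResidueField K').injective.comp (IsFractionRing.injective (A ⧸ p) _)
  have htow : ∀ a : A, algebraMap A K' a = algebraMap (A ⧸ p) K' (Ideal.Quotient.mk p a) := by
    intro a
    rw [IsScalarTower.algebraMap_apply A p.ResidueField K',
      IsScalarTower.algebraMap_apply (A ⧸ p) p.ResidueField K',
      IsScalarTower.algebraMap_apply A (A ⧸ p) p.ResidueField]
    rfl
  haveI : IsScalarTower A (A ⧸ p) K' := IsScalarTower.of_algebraMap_eq htow
  obtain ⟨s, b, hb⟩ := FiniteDimensional.exists_is_basis_integral (A ⧸ p) p.ResidueField K'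
  haveI : Algebra.IsIntegral A (A ⧸ p) :=
    Algebra.isIntegral_of_surjective Ideal.Quotient.mk_surjective
  have hbA : ∀ i, IsIntegral A (b i) := fun i => isIntegral_trans (b i) (hb i)
  refine ⟨Algebra.adjoin A (Set.range b),
    Algebra.finite_adjoin_of_finite_of_isIntegral (Set.finite_range b)
      (by rintro _ ⟨i, rfl⟩; exact hbA i), ?_⟩
  haveI : FaithfulSMul (Algebra.adjoin A (Set.range b)) K' :=
    (faithfulSMul_iff_algebraMap_injective _ _).mpr Subtype.val_injective
  refine IsFractionRing.of_field _ K' fun z => ?_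
  obtain ⟨d, hd⟩ := IsLocalization.exist_integer_multiples (nonZeroDivisors (A ⧸ p))
    (Finset.univ : Finset s) (fun i => b.repr z i)
  obtain ⟨d', hd'⟩ := Ideal.Quotient.mk_surjective (d : A ⧸ p)
  have hdne : algebraMap A K' d' ≠ 0 := by
    rw [htow, hd']
    intro h0
    have := hinjK (h0.trans (map_zero _).symm)
    exact nonZeroDivisors.ne_zero d.2 this
  have hmem : algebraMap A K' d' * z ∈ Algebra.adjoin A (Set.range b) := by
    rw [show algebraMap A K' d' * z = algebraMap A K' d' * ∑ i, b.repr z i • b i from by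
      rw [b.sum_repr z], Finset.mul_sum]
    refine Subalgebra.sum_mem _ fun i _ => ?_
    obtain ⟨a, ha⟩ := hd i (Finset.mem_univ i)
    obtain ⟨a', rfl⟩ := Ideal.Quotient.mk_surjective a
    have h1 : algebraMap A K' d' * (b.repr z i • b i) = a' • b i := by
      rw [Algebra.smul_def (b.repr z i), ← mul_assoc, htow, hd',
        IsScalarTower.algebraMap_apply (A ⧸ p) p.ResidueField K', ← map_mul,
        ← Algebra.smul_def (d : A ⧸ p) (b.repr z i), ← ha,
        ← IsScalarTower.algebraMap_apply (A ⧸ p) p.ResidueField K', ← htow, ← Algebra.smul_def]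
    rw [h1]
    exact Subalgebra.smul_mem _ (Algebra.subset_adjoin (Set.mem_range_self i)) a'
  refine ⟨⟨_, hmem⟩, algebraMap A (Algebra.adjoin A (Set.range b)) d', ?_⟩
  show z = (algebraMap A K' d' * z) / algebraMap A K' d'
  field_simp

end Construct

section Back

/-- Abstract form: local rings of a ring isomorphic to the localization of `S` at the nonzero
elements of the domain `B` are local rings of `S` at primes over the generic point of `B`. -/
theorem loc_back (B S T' T : Type u) [CommRing B] [IsDomain B] [CommRing S] [Algebra B S]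
    [CommRing T'] [Algebra S T']
    [IsLocalization (Algebra.algebraMapSubmonoid S (nonZeroDivisors B)) T'] [CommRing T]
    (e : T' ≃+* T) (Q : Ideal T) [Q.IsPrime] :
    ∃ (q : Ideal S) (_ : q.IsPrime), q.comap (algebraMap B S) = ⊥ ∧
      Nonempty (Localization.AtPrime q ≃+* Localization.AtPrime Q) := by
  haveI : (Q.comap e).IsPrime := Ideal.comap_isPrime _ _
  have e1 : Localization.AtPrime (Q.comap e) ≃+* Localization.AtPrime Q :=
    Localization.localRingEquiv (Q.comap e) Q e rfl
  haveI : ((Q.comap e).comap (algebraMap S T')).IsPrime := Ideal.comap_isPrime _ _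
  haveI : IsLocalization.AtPrime (Localization.AtPrime (Q.comap e))
      ((Q.comap e).comap (algebraMap S T')) :=
    IsLocalization.isLocalization_isLocalization_atPrime_isLocalization
      (Algebra.algebraMapSubmonoid S (nonZeroDivisors B)) _ (Q.comap e)
  have e2 : Localization.AtPrime ((Q.comap e).comap (algebraMap S T')) ≃ₐ[S]
      Localization.AtPrime (Q.comap e) :=
    IsLocalization.algEquiv ((Q.comap e).comap (algebraMap S T')).primeCompl _ _
  refine ⟨(Q.comap e).comap (algebraMap S T'), inferInstance, ?_, ⟨e2.toRingEquiv.trans e1⟩⟩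
  rw [eq_bot_iff]
  intro x hx
  rw [Ideal.mem_bot]
  by_contra hne
  rw [Ideal.mem_comap, Ideal.mem_comap] at hx
  have hxM : algebraMap B S x ∈ Algebra.algebraMapSubmonoid S (nonZeroDivisors B) :=
    Algebra.mem_algebraMapSubmonoid_of_mem ⟨x, mem_nonZeroDivisors_of_ne_zero hne⟩
  have hu := IsLocalization.map_units T' ⟨_, hxM⟩
  exact (Ideal.IsPrime.ne_top ‹(Q.comap e).IsPrime›) (Ideal.eq_top_of_isUnit_mem _ hx hu)

variable (A C : Type u) [CommRing A] [CommRing C] [Algebra A C]
  (P : ∀ (R : Type u) [CommRing R], Prop)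
  (hP : ∀ (R S : Type u) [CommRing R] [CommRing S], (R ≃+* S) → P R → P S)
  (p : Ideal A) [p.IsPrime] (K' : Type u) [Field K'] [Algebra p.ResidueField K']
  [Module.Finite p.ResidueField K'] [Algebra A K'] [IsScalarTower A p.ResidueField K']

include hP in
theorem back
    (h : ∀ (B : Type u) [CommRing B] [IsDomain B] [Algebra A B] [Module.Finite A B]
      (q : Ideal (B ⊗[A] C)) [q.IsPrime],
      q.comap (algebraMap B (B ⊗[A] C)) = ⊥ → P (Localization.AtPrime q))
    (T : Type u) [CommRing T] (eT : (K' ⊗[p.ResidueField] (p.Fiber C)) ≃+* T)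
    (Q : Ideal T) [Q.IsPrime] :
    P (Localization.AtPrime Q) := by
  obtain ⟨B, hfin, hfrac⟩ := exists_finite_subalgebra A p K'
  haveI := hfin
  haveI := hfrac
  haveI : IsLocalization (Algebra.algebraMapSubmonoid (↥B ⊗[A] C) (nonZeroDivisors ↥B))
      ((↥B ⊗[A] C) ⊗[↥B] K') := inferInstance
  obtain ⟨q, hq, hq0, ⟨e3⟩⟩ := loc_back ↥B (↥B ⊗[A] C) ((↥B ⊗[A] C) ⊗[↥B] K') T
    ((((Algebra.TensorProduct.comm ↥B (↥B ⊗[A] C) K').toRingEquiv.trans
      (Algebra.TensorProduct.cancelBaseChange A ↥B K' K' C).toRingEquiv).trans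
      (Algebra.TensorProduct.cancelBaseChange A p.ResidueField K' K' C).toRingEquiv.symm).trans
        eT) Q
  exact hP _ _ e3 (h ↥B q hq0)

end Back

/-- Reducedness after all finite extensions implies geometric reducedness. -/
theorem geomRed_of_finite (k F : Type u) [Field k] [CommRing F] [Algebra k F]
    (h : ∀ (K' : Type u) [Field K'] [Algebra k K'], Module.Finite k K' → IsReduced (K' ⊗[k] F)) :
    Algebra.IsGeometricallyReduced k F := by
  rw [Algebra.isGeometricallyReduced_field_iff]
  have h1 : IsReduced (F ⊗[k] AlgebraicClosure k) := by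
    refine IsReduced.tensorProduct_of_flat_of_forall_fg fun B hB => ?_
    obtain ⟨s, rfl⟩ := hB
    have hE : (IntermediateField.adjoin k (↑s : Set (AlgebraicClosure k))).toSubalgebra =
        Algebra.adjoin k (↑s : Set (AlgebraicClosure k)) :=
      IntermediateField.adjoin_toSubalgebra_of_isAlgebraic
        (fun x _ => Algebra.IsAlgebraic.isAlgebraic x)
    rw [← hE]
    haveI : Module.Finite k (IntermediateField.adjoin k (↑s : Set (AlgebraicClosure k))) :=
      IntermediateField.finiteDimensional_adjoin (fun x _ => Algebra.IsIntegral.isIntegral x)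
    haveI := h (IntermediateField.adjoin k (↑s : Set (AlgebraicClosure k))) inferInstance
    exact isReduced_of_injective
      (Algebra.TensorProduct.comm k F
        (IntermediateField.adjoin k (↑s : Set (AlgebraicClosure k)))).toRingEquiv
      (Algebra.TensorProduct.comm k F _).injective
  exact isReduced_of_injective (Algebra.TensorProduct.comm k (AlgebraicClosure k) F).toRingEquiv
    (Algebra.TensorProduct.comm k _ F).injective

section Main

variable (A : Type u) [CommRing A] [IsNoetherianRing A] [IsLocalRing A]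

theorem regular_iff :
    CAlg.IsRegularHom A (EGA4.Cpl A) ↔
      ∀ (B : Type u) [CommRing B] [IsDomain B] [Algebra A B] [Module.Finite A B]
        (q : Ideal (B ⊗[A] EGA4.Cpl A)) [q.IsPrime],
        q.comap (algebraMap B (B ⊗[A] EGA4.Cpl A)) = ⊥ →
          IsRegularLocalRing (Localization.AtPrime q) := by
  constructor
  · intro hreg B _ _ _ _ q _ hq
    haveI : IsRegularRing ((⊥ : Ideal B).Fiber (B ⊗[A] EGA4.Cpl A)) :=
      fiber_bot_regular A B (EGA4.Cpl A) (fun p _ => (hreg.2 p).2)
    exact loc_regular B (B ⊗[A] EGA4.Cpl A) q hq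
  · intro h
    haveI : IsNoetherianRing (EGA4.Cpl A) :=
      Groth.Agent.S19474.isNoetherianRing_adicCompletion A (IsLocalRing.maximalIdeal A)
    refine ⟨inferInstance, fun p _ => ⟨SkFlat.isNoetherianRing_fiber A (EGA4.Cpl A) p,
      fun K' _ _ hfin => ?_⟩⟩
    haveI := hfin
    haveI := SkFlat.isNoetherianRing_fiber A (EGA4.Cpl A) p
    letI : Algebra A K' :=
      ((algebraMap p.ResidueField K').comp (algebraMap A p.ResidueField)).toAlgebra
    haveI : IsScalarTower A p.ResidueField K' := IsScalarTower.of_algebraMap_eq' rfl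
    haveI : IsNoetherianRing (K' ⊗[p.ResidueField] (p.Fiber (EGA4.Cpl A))) :=
      HomCompose.isNoetherianRing_tensor_of_finite _ _ _
    rw [isRegularRing_iff]
    intro Q hQ
    exact back A (EGA4.Cpl A) (fun R _ => IsRegularLocalRing R)
      (fun R S _ _ e hR => by haveI := hR; exact IsRegularLocalRing.of_ringEquiv e) p K' h _
      (RingEquiv.refl _) Q

theorem reduced_iff :
    EGA4.HasGeomReducedFormalFibres A ↔
      ∀ (B : Type u) [CommRing B] [IsDomain B] [Algebra A B] [Module.Finite A B]
        (q : Ideal (B ⊗[A] EGA4.Cpl A)) [q.IsPrime],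
        q.comap (algebraMap B (B ⊗[A] EGA4.Cpl A)) = ⊥ →
          IsReduced (Localization.AtPrime q) := by
  constructor
  · intro hred B _ _ _ _ q _ hq
    haveI hF : IsReduced ((⊥ : Ideal B).Fiber (B ⊗[A] EGA4.Cpl A)) :=
      fiber_bot_reduced A B (EGA4.Cpl A) (fun p _ => hred p)
    exact loc_reduced B (B ⊗[A] EGA4.Cpl A) q hq
  · intro h p _
    refine geomRed_of_finite _ _ fun K' _ _ hfin => ?_
    haveI := hfin
    letI : Algebra A K' :=
      ((algebraMap p.ResidueField K').comp (algebraMap A p.ResidueField)).toAlgebra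
    haveI : IsScalarTower A p.ResidueField K' := IsScalarTower.of_algebraMap_eq' rfl
    refine isReduced_ofLocalizationMaximal _ fun J hJ => ?_
    haveI : J.IsPrime := hJ.isPrime
    exact back A (EGA4.Cpl A) (fun R _ => IsReduced R)
      (fun R S _ _ e hR => isReduced_of_injective e.symm e.symm.injective) p K' h _
      (RingEquiv.refl _) J

end Main

end Groth.Agent.Helper1.FormalFibreCrit
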