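import Mathlib.RingTheory.GradedAlgebra.Homogeneous.Ideal
import Mathlib.RingTheory.GradedAlgebra.FiniteType
import Mathlib.RingTheory.FiniteType
import Mathlib.Algebra.DirectSum.Internal
import Mathlib.Algebra.Algebra.Operations

set_option autoImplicit false
universe u

namespace Groth.Agent.Helper1.Graded

open DirectSum

variable {R A : Type u} [CommRing R] [CommRing A] [Algebra R A] (𝒜 : ℕ → Submodule R A)
  [GradedAlgebra 𝒜]

/-- Homogeneous elements of positive degree lie in the irrelevant ideal. -/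
theorem span_le_irrelevant (E : Set A) (hE : ∀ e ∈ E, ∃ d : ℕ, 0 < d ∧ e ∈ 𝒜 d) :
    Ideal.span E ≤ (HomogeneousIdeal.irrelevant 𝒜).toIdeal := by
  rw [Ideal.span_le]
  intro e he
  obtain ⟨d, hd, hed⟩ := hE e he
  exact HomogeneousIdeal.mem_irrelevant_of_mem 𝒜 hd hed

/-- If `E` (homogeneous of positive degree) generates the irrelevant ideal, then `E` generates `A`
as an `𝒜 0`-algebra. -/
theorem mem_adjoin_of_irrelevant_eq_span (E : Set A) (hE : ∀ e ∈ E, ∃ d : ℕ, 0 < d ∧ e ∈ 𝒜 d)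
    (h : (HomogeneousIdeal.irrelevant 𝒜).toIdeal = Ideal.span E) :
    ∀ n : ℕ, ∀ x ∈ 𝒜 n, x ∈ Algebra.adjoin (𝒜 0) E := by
  classical
  intro n
  induction n using Nat.strong_induction_on with
  | _ n ih =>
    intro x hx
    rcases Nat.eq_zero_or_pos n with rfl | hn
    · exact Subalgebra.algebraMap_mem _ (⟨x, hx⟩ : 𝒜 0)
    · have hxirr : x ∈ (HomogeneousIdeal.irrelevant 𝒜).toIdeal :=
        HomogeneousIdeal.mem_irrelevant_of_mem 𝒜 hn hx
      rw [h] at hxirr
      have key : ∀ y ∈ Ideal.span E, ((decompose 𝒜 y n : 𝒜 n) : A) ∈ Algebra.adjoin (𝒜 0) E := by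
        intro y hy
        refine Submodule.closure_induction (p := fun y _ =>
          ((decompose 𝒜 y n : 𝒜 n) : A) ∈ Algebra.adjoin (𝒜 0) E) ?_ ?_ ?_ hy
        · rw [decompose_zero]
          exact Subalgebra.zero_mem _
        · intro y z _ _ hy hz
          rw [decompose_add, add_apply, Submodule.coe_add]
          exact Subalgebra.add_mem _ hy hz
        · intro r e he
          obtain ⟨d, hd, hed⟩ := hE e he
          rw [smul_eq_mul]
          by_cases hdn : d ≤ n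
          · rw [coe_decompose_mul_of_right_mem_of_le 𝒜 hed hdn]
            refine Subalgebra.mul_mem _ ?_ (Algebra.subset_adjoin he)
            exact ih (n - d) (by omega) _ (decompose 𝒜 r (n - d)).2
          · rw [coe_decompose_mul_of_right_mem_of_not_le 𝒜 hed hdn]
            exact Subalgebra.zero_mem _
      have := key x hxirr
      rwa [decompose_of_mem_same 𝒜 hx] at this

/-- Every element of the `𝒜 0`-algebra generated by `E` is an element of `𝒜 0` plus an element of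
the ideal generated by `E`. -/
theorem exists_sub_mem_span_of_mem_adjoin (E : Set A) (y : A) (hy : y ∈ Algebra.adjoin (𝒜 0) E) :
    ∃ a ∈ 𝒜 0, y - a ∈ Ideal.span E := by
  induction hy using Algebra.adjoin_induction with
  | mem e he => exact ⟨0, Submodule.zero_mem _, by simpa using Ideal.subset_span he⟩
  | algebraMap r => exact ⟨r, r.2, by simp⟩
  | add y z _ _ hy hz =>
    obtain ⟨a, ha, hya⟩ := hy
    obtain ⟨b, hb, hzb⟩ := hz
    refine ⟨a + b, Submodule.add_mem _ ha hb, ?_⟩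
    have : y + z - (a + b) = (y - a) + (z - b) := by ring
    rw [this]
    exact Ideal.add_mem _ hya hzb
  | mul y z _ _ hy hz =>
    obtain ⟨a, ha, hya⟩ := hy
    obtain ⟨b, hb, hzb⟩ := hz
    refine ⟨a * b, ?_, ?_⟩
    · have := SetLike.mul_mem_graded (A := 𝒜) ha hb
      simpa using this
    · have : y * z - a * b = (y - a) * z + a * (z - b) := by ring
      rw [this]
      exact Ideal.add_mem _ (Ideal.mul_mem_right _ _ hya) (Ideal.mul_mem_left _ _ hzb)

theorem irrelevant_eq_span_of_adjoin_eq_top (E : Set A) (hE : ∀ e ∈ E, ∃ d : ℕ, 0 < d ∧ e ∈ 𝒜 d)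
    (h : Algebra.adjoin (𝒜 0) E = ⊤) :
    (HomogeneousIdeal.irrelevant 𝒜).toIdeal = Ideal.span E := by
  classical
  refine le_antisymm ?_ (span_le_irrelevant 𝒜 E hE)
  intro x hx
  obtain ⟨a, ha, hxa⟩ := exists_sub_mem_span_of_mem_adjoin 𝒜 E x (h ▸ Algebra.mem_top)
  have h1 : x - a ∈ (HomogeneousIdeal.irrelevant 𝒜).toIdeal := span_le_irrelevant 𝒜 E hE hxa
  have h2 : a ∈ (HomogeneousIdeal.irrelevant 𝒜).toIdeal := by
    have := Ideal.sub_mem _ hx h1
    simpa using this
  have h3 : a = 0 := by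
    have : GradedRing.proj 𝒜 0 a = 0 := (HomogeneousIdeal.mem_irrelevant_iff 𝒜 a).1 h2
    rwa [GradedRing.proj_apply, decompose_of_mem_same 𝒜 ha] at this
  rw [h3, sub_zero] at hxa
  exact hxa

theorem adjoin_eq_top_of_irrelevant_eq_span (E : Set A) (hE : ∀ e ∈ E, ∃ d : ℕ, 0 < d ∧ e ∈ 𝒜 d)
    (h : (HomogeneousIdeal.irrelevant 𝒜).toIdeal = Ideal.span E) :
    Algebra.adjoin (𝒜 0) E = ⊤ := by
  classical
  rw [eq_top_iff]
  intro x _
  rw [← sum_support_decompose 𝒜 x]
  exact Subalgebra.sum_mem _ fun n _ =>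
    mem_adjoin_of_irrelevant_eq_span 𝒜 E hE h n _ (decompose 𝒜 x n).2

end Groth.Agent.Helper1.Graded

namespace Groth.Agent.Helper1.Graded

open DirectSum

variable {R A : Type u} [CommRing R] [CommRing A] [Algebra R A] (𝒜 : ℕ → Submodule R A)
  [GradedAlgebra 𝒜]

theorem irrelevant_fg_of_finiteType [Algebra.FiniteType (𝒜 0) A] :
    (HomogeneousIdeal.irrelevant 𝒜).toIdeal.FG := by
  classical
  obtain ⟨s, hs, hs'⟩ := GradedAlgebra.exists_finset_adjoin_eq_top_and_homogeneous_ne_zero 𝒜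
  refine ⟨s, ?_⟩
  refine (irrelevant_eq_span_of_adjoin_eq_top 𝒜 (s : Set A) ?_ hs).symm
  intro e he
  obtain ⟨n, hn, hen⟩ := hs' e he
  exact ⟨n, Nat.pos_of_ne_zero hn, hen⟩

/-- If the irrelevant ideal is finitely generated, it is generated by finitely many homogeneous
elements of positive degree. -/
theorem exists_finset_homogeneous_of_irrelevant_fg
    (h : (HomogeneousIdeal.irrelevant 𝒜).toIdeal.FG) :
    ∃ E : Finset A, (∀ e ∈ E, ∃ d : ℕ, 0 < d ∧ e ∈ 𝒜 d) ∧
      (HomogeneousIdeal.irrelevant 𝒜).toIdeal = Ideal.span (E : Set A) := by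
  classical
  obtain ⟨F, hF⟩ := h
  let E : Finset A := F.biUnion fun f => (decompose 𝒜 f).support.image fun n => ((decompose 𝒜 f n : 𝒜 n) : A)
  have hFirr : ∀ f ∈ F, f ∈ (HomogeneousIdeal.irrelevant 𝒜).toIdeal := by
    intro f hf
    rw [← hF]
    exact Ideal.subset_span hf
  have hE : ∀ e ∈ E, ∃ d : ℕ, 0 < d ∧ e ∈ 𝒜 d := by
    intro e he
    obtain ⟨f, hf, he⟩ := Finset.mem_biUnion.1 he
    obtain ⟨n, hn, rfl⟩ := Finset.mem_image.1 he
    refine ⟨n, Nat.pos_of_ne_zero ?_, (decompose 𝒜 f n).2⟩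
    rintro rfl
    have h0 : GradedRing.proj 𝒜 0 f = 0 := (HomogeneousIdeal.mem_irrelevant_iff 𝒜 f).1 (hFirr f hf)
    rw [GradedRing.proj_apply] at h0
    rw [DFinsupp.mem_support_iff] at hn
    exact hn (Subtype.ext h0)
  refine ⟨E, hE, le_antisymm ?_ (span_le_irrelevant 𝒜 (E : Set A) hE)⟩
  rw [← hF, Ideal.span_le]
  intro f hf
  rw [SetLike.mem_coe, ← sum_support_decompose 𝒜 f]
  refine Ideal.sum_mem _ fun n hn => Ideal.subset_span ?_
  exact Finset.mem_biUnion.2 ⟨f, hf, Finset.mem_image.2 ⟨n, hn, rfl⟩⟩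

theorem finiteType_of_irrelevant_fg (h : (HomogeneousIdeal.irrelevant 𝒜).toIdeal.FG) :
    Algebra.FiniteType (𝒜 0) A := by
  obtain ⟨E, hE, hspan⟩ := exists_finset_homogeneous_of_irrelevant_fg 𝒜 h
  exact ⟨⟨E, adjoin_eq_top_of_irrelevant_eq_span 𝒜 (E : Set A) hE hspan⟩⟩

end Groth.Agent.Helper1.Graded
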