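import Mathlib
import Groth.Prelude.Def_CAlgX

/-!
# Appending H1-regular sequences (helper for S2105)
-/

namespace Groth.Agent.Helper1.H1Append

open CAlgX

universe u

variable {A : Type u} [CommRing A] {n m : ℕ}

/-- the span of trivial (Koszul) relations -/
def Triv {c : ℕ} (f : Fin c → A) : Submodule A (Fin c → A) :=
  Submodule.span A {v : Fin c → A | ∃ i j : Fin c, v = Pi.single i (f j) - Pi.single j (f i)}

lemma isH1Regular_iff {c : ℕ} (f : Fin c → A) :
    IsH1Regular f ↔ ∀ a : Fin c → A, ∑ i, a i * f i = 0 → a ∈ Triv f := Iff.rfl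

/-- inclusion of the first block -/
def ιf : (Fin n → A) →ₗ[A] (Fin (n + m) → A) where
  toFun v := Fin.append v 0
  map_add' v w := by
    ext k; refine Fin.addCases (fun i => ?_) (fun i => ?_) k <;> simp
  map_smul' r v := by
    ext k; refine Fin.addCases (fun i => ?_) (fun i => ?_) k <;> simp

/-- inclusion of the second block -/
def ιg : (Fin m → A) →ₗ[A] (Fin (n + m) → A) where
  toFun v := Fin.append 0 v
  map_add' v w := by
    ext k; refine Fin.addCases (fun i => ?_) (fun i => ?_) k <;> simp
  map_smul' r v := by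
    ext k; refine Fin.addCases (fun i => ?_) (fun i => ?_) k <;> simp

lemma ne_aux (i : Fin n) (j : Fin m) : Fin.natAdd n j ≠ Fin.castAdd m i := by
  intro h
  have := congrArg Fin.val h
  simp at this
  omega

lemma ιf_single (i : Fin n) (x : A) :
    (ιf (m := m) (Pi.single i x) : Fin (n + m) → A) = Pi.single (Fin.castAdd m i) x := by
  classical
  ext k
  refine Fin.addCases (fun i' => ?_) (fun j => ?_) k
  · simp [ιf, Pi.single_apply, Fin.castAdd_inj]
  · simp [ιf, Pi.single_apply, ne_aux]

lemma ιg_single (j : Fin m) (x : A) :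
    (ιg (n := n) (Pi.single j x) : Fin (n + m) → A) = Pi.single (Fin.natAdd n j) x := by
  classical
  ext k
  refine Fin.addCases (fun i => ?_) (fun j' => ?_) k
  · simp [ιg, Pi.single_apply, (ne_aux i j).symm]
  · simp [ιg, Pi.single_apply, Fin.natAdd_inj]

lemma decomp (c : Fin (n + m) → A) :
    c = ιf (fun i => c (Fin.castAdd m i)) + ιg (fun j => c (Fin.natAdd n j)) := by
  ext k
  refine Fin.addCases (fun i => ?_) (fun j => ?_) k <;> simp [ιf, ιg]

variable (f : Fin n → A) (g : Fin m → A)

lemma gen_mem (i j : Fin (n + m)) :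
    Pi.single i (Fin.append f g j) - Pi.single j (Fin.append f g i) ∈ Triv (Fin.append f g) :=
  Submodule.subset_span ⟨i, j, rfl⟩

lemma ιf_Triv : (Triv f).map (ιf (m := m)) ≤ Triv (Fin.append f g) := by
  rw [Triv, Submodule.map_span, Submodule.span_le]
  rintro _ ⟨_, ⟨i, j, rfl⟩, rfl⟩
  rw [map_sub, ιf_single, ιf_single]
  have := gen_mem f g (Fin.castAdd m i) (Fin.castAdd m j)
  simpa using this

lemma ιg_Triv : (Triv g).map (ιg (n := n)) ≤ Triv (Fin.append f g) := by
  rw [Triv, Submodule.map_span, Submodule.span_le]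
  rintro _ ⟨_, ⟨i, j, rfl⟩, rfl⟩
  rw [map_sub, ιg_single, ιg_single]
  have := gen_mem f g (Fin.natAdd n i) (Fin.natAdd n j)
  simpa using this

lemma mixed_mem (i : Fin n) (j : Fin m) :
    Pi.single (Fin.natAdd n j) (f i) - Pi.single (Fin.castAdd m i) (g j)
      ∈ Triv (Fin.append f g) := by
  have := gen_mem f g (Fin.natAdd n j) (Fin.castAdd m i)
  simpa using this

/-- every trivial relation is a relation -/
lemma Triv_rel {c : ℕ} (h : Fin c → A) (t : Fin c → A) (ht : t ∈ Triv h) :
    ∑ k, t k * h k = 0 := by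
  classical
  induction ht using Submodule.span_induction with
  | mem x hx =>
    obtain ⟨i, j, rfl⟩ := hx
    simp only [Pi.sub_apply, sub_mul, Finset.sum_sub_distrib, Pi.single_apply, ite_mul, zero_mul,
      Finset.sum_ite_eq', Finset.mem_univ, if_true]
    ring
  | zero => simp
  | add x y _ _ hx hy => simp only [Pi.add_apply, add_mul, Finset.sum_add_distrib, hx, hy, add_zero]
  | smul r x _ hx =>
    simp only [Pi.smul_apply, smul_eq_mul, mul_assoc]
    rw [← Finset.mul_sum, hx, mul_zero]

theorem main (hf : IsH1Regular f)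
    (hg : IsH1Regular (fun j => Ideal.Quotient.mk (Ideal.span (Set.range f)) (g j))) :
    IsH1Regular (Fin.append f g) := by
  classical
  intro c hc
  show c ∈ Triv (Fin.append f g)
  set J : Ideal A := Ideal.span (Set.range f) with hJ
  set a : Fin n → A := fun i => c (Fin.castAdd m i) with ha
  set b : Fin m → A := fun j => c (Fin.natAdd n j) with hb
  have hdec : c = ιf a + ιg b := decomp c
  have hrel : ∑ i, a i * f i + ∑ j, b j * g j = 0 := by
    rw [Fin.sum_univ_add] at hc
    simpa using hc
  -- Step 1: reduce mod J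
  have h1 : ∑ j, (Ideal.Quotient.mk J (b j)) * (Ideal.Quotient.mk J (g j)) = 0 := by
    have h0 : Ideal.Quotient.mk J (∑ i, a i * f i + ∑ j, b j * g j) = 0 := by rw [hrel, map_zero]
    rw [map_add, map_sum, map_sum] at h0
    have hz : ∑ i, Ideal.Quotient.mk J (a i * f i) = 0 := by
      refine Finset.sum_eq_zero fun i _ => ?_
      exact Ideal.Quotient.eq_zero_iff_mem.2 (Ideal.mul_mem_left _ _ (Ideal.subset_span ⟨i, rfl⟩))
    rw [hz, zero_add] at h0
    simpa [map_mul] using h0
  have h2 := hg (fun j => Ideal.Quotient.mk J (b j)) h1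
  -- Step 2: lift
  let q : (Fin m → A) →ₗ[A] (Fin m → A ⧸ J) := (Ideal.Quotient.mkₐ A J).toLinearMap.compLeft (Fin m)
  have hq : ∀ v : Fin m → A, q v = fun j => Ideal.Quotient.mk J (v j) := fun v => rfl
  have hspan : (Submodule.span (A ⧸ J) {v : Fin m → A ⧸ J | ∃ i j : Fin m,
      v = Pi.single i (Ideal.Quotient.mk J (g j)) - Pi.single j (Ideal.Quotient.mk J (g i))}).restrictScalars A
      = (Triv g).map q := by
    rw [Submodule.restrictScalars_span A (A ⧸ J) Ideal.Quotient.mk_surjective, Triv,
      Submodule.map_span]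
    congr 1
    ext v
    constructor
    · rintro ⟨i, j, rfl⟩
      refine ⟨Pi.single i (g j) - Pi.single j (g i), ⟨i, j, rfl⟩, ?_⟩
      rw [map_sub, hq, hq]
      ext k
      simp [Pi.single_apply, apply_ite (Ideal.Quotient.mk J)]
    · rintro ⟨_, ⟨i, j, rfl⟩, rfl⟩
      refine ⟨i, j, ?_⟩
      rw [map_sub, hq, hq]
      ext k
      simp [Pi.single_apply, apply_ite (Ideal.Quotient.mk J)]
  have h3 : q b ∈ (Triv g).map q := by
    rw [← hspan]
    exact h2
  obtain ⟨t, ht, htq⟩ := h3
  -- v = b - t has all coordinates in J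
  have hv : ∀ j, (b - t) j ∈ J := by
    intro j
    have : Ideal.Quotient.mk J (t j) = Ideal.Quotient.mk J (b j) := by
      have := congrFun htq j
      rw [hq, hq] at this
      exact this
    rw [Pi.sub_apply, ← Ideal.Quotient.eq_zero_iff_mem, map_sub, this, sub_self]
  choose u hu using fun j => Ideal.mem_span_range_iff_exists_fun.1 (hv j)
  -- Step 3
  set a'' : Fin n → A := fun i => ∑ j, u j i * g j with ha''
  have h4 : ιg (n := n) (b - t) - ιf (m := m) a'' ∈ Triv (Fin.append f g) := by
    have e1 : (b - t) = ∑ j, ∑ i, u j i • (Pi.single j (f i) : Fin m → A) := by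
      ext j
      rw [← hu j]
      simp [Finset.sum_apply, Pi.single_apply, Finset.sum_comm (s := Finset.univ (α := Fin m))]
    have e2 : a'' = ∑ j, ∑ i, u j i • (Pi.single i (g j) : Fin n → A) := by
      ext i
      simp [ha'', Finset.sum_apply, Pi.single_apply]
    rw [e1, e2, map_sum, map_sum, ← Finset.sum_sub_distrib]
    refine Submodule.sum_mem _ fun j _ => ?_
    rw [map_sum, map_sum, ← Finset.sum_sub_distrib]
    refine Submodule.sum_mem _ fun i _ => ?_
    rw [map_smul, map_smul, ← smul_sub, ιg_single, ιf_single]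
    exact Submodule.smul_mem _ _ (mixed_mem f g i j)
  -- Step 4
  have h5 : c - ιf (m := m) (a + a'') ∈ Triv (Fin.append f g) := by
    have : c - ιf (m := m) (a + a'') = ιg (n := n) t + (ιg (n := n) (b - t) - ιf (m := m) a'') := by
      rw [hdec, map_add, map_sub]
      abel
    rw [this]
    exact Submodule.add_mem _ (ιg_Triv f g ⟨t, ht, rfl⟩) h4
  have h6 : ∑ k, (ιf (m := m) (a + a'')) k * (Fin.append f g) k = 0 := by
    have r1 := Triv_rel _ _ h5
    simp only [Pi.sub_apply, sub_mul, Finset.sum_sub_distrib] at r1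
    rw [hc, zero_sub, neg_eq_zero] at r1
    exact r1
  have h7 : ∑ i, (a + a'') i * f i = 0 := by
    rw [Fin.sum_univ_add] at h6
    simpa [ιf] using h6
  have h8 : ιf (m := m) (a + a'') ∈ Triv (Fin.append f g) := ιf_Triv f g ⟨_, hf _ h7, rfl⟩
  have : c = (c - ιf (m := m) (a + a'')) + ιf (m := m) (a + a'') := by abel
  rw [this]
  exact Submodule.add_mem _ h5 h8

end Groth.Agent.Helper1.H1Append
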