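import Mathlib
import Groth.Prelude.Def_CAlgX

/-!
# Base change of `H_1`-regular sequences with flat quotient (helper for S9273)
-/

namespace Groth.Agent.Helper1.H1BaseChange

open TensorProduct

universe u

theorem main (A B A' : Type u) [CommRing A] [CommRing B]
    [CommRing A'] [Algebra A B] [Algebra A A'] (r : ℕ) (f : Fin r → B)
    (hflat : Module.Flat A (B ⧸ Ideal.span (Set.range f))) (hq : CAlgX.IsH1Regular f) :
    CAlgX.IsH1Regular (fun i => ((1 : A') ⊗ₜ[A] f i : TensorProduct A A' B)) := by
  classical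
  set J : Ideal B := Ideal.span (Set.range f) with hJ
  let φB : (Fin r → B) →ₗ[B] B := Fintype.linearCombination B f
  let φ : (Fin r → B) →ₗ[A] B := φB.restrictScalars A
  have hφ : ∀ a, φ a = ∑ i, a i * f i := fun a => by
    simp [φ, φB, Fintype.linearCombination_apply]
  have hrange : ∀ a, φ a ∈ J.restrictScalars A := fun a => by
    rw [hφ]
    exact Ideal.sum_mem _ fun i _ => Ideal.mul_mem_left _ _ (Ideal.subset_span ⟨i, rfl⟩)
  let JA : Submodule A B := J.restrictScalars A
  let g₁ : ↥JA →ₗ[A] B := JA.subtype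
  let g₂ : B →ₗ[A] B ⧸ J := (Submodule.mkQ J).restrictScalars A
  have hg₁ : Function.Injective g₁ := Subtype.val_injective
  have hg₂ : Function.Surjective g₂ := Submodule.mkQ_surjective J
  have hex : Function.Exact g₁ g₂ := by
    intro b
    constructor
    · intro h
      have hb : b ∈ J := (Submodule.Quotient.mk_eq_zero J).1 h
      exact ⟨⟨b, hb⟩, rfl⟩
    · rintro ⟨j, rfl⟩
      exact (Submodule.Quotient.mk_eq_zero J).2 j.2
  have hinj : Function.Injective (g₁.lTensor A') :=
    LinearMap.lTensor_injective_of_exact_of_flat g₂ hg₂ g₁ hg₁ hex A'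
  let φJ : (Fin r → B) →ₗ[A] ↥JA := φ.codRestrict JA hrange
  have hφJ : g₁ ∘ₗ φJ = φ := by ext a; rfl
  have hφJsurj : Function.Surjective φJ := by
    rintro ⟨b, hb⟩
    have hb' : b ∈ LinearMap.range φB := by
      rw [Fintype.range_linearCombination]; exact hb
    obtain ⟨a, ha⟩ := hb'
    exact ⟨a, Subtype.ext ha⟩
  have hexK : Function.Exact (LinearMap.ker φ).subtype φJ := by
    intro a
    constructor
    · intro h
      have h0 : φ a = 0 := by
        have := congrArg Subtype.val h
        simpa [φJ] using this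
      exact ⟨⟨a, h0⟩, rfl⟩
    · rintro ⟨k, rfl⟩
      apply Subtype.ext
      exact k.2
  have hexT : Function.Exact ((LinearMap.ker φ).subtype.lTensor A') (φJ.lTensor A') :=
    lTensor_exact A' hexK hφJsurj
  let e : A' ⊗[A] (Fin r → B) ≃ₗ[A] (Fin r → A' ⊗[A] B) :=
    TensorProduct.piRight A A A' (fun _ : Fin r => B)
  have he : ∀ (x : A') (a : Fin r → B), e (x ⊗ₜ[A] a) = fun j => x ⊗ₜ[A] a j := fun x a => by
    simp only [e, TensorProduct.piRight_apply, TensorProduct.piRightHom_tmul]
  -- compatibility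
  have hcompat : ∀ z : A' ⊗[A] (Fin r → B),
      (φ.lTensor A') z = ∑ i, (e z) i * ((1 : A') ⊗ₜ[A] f i) := by
    intro z
    induction z using TensorProduct.induction_on with
    | zero => simp
    | tmul x a =>
      rw [LinearMap.lTensor_tmul, hφ, TensorProduct.tmul_sum, he]
      refine Finset.sum_congr rfl fun i _ => ?_
      rw [Algebra.TensorProduct.tmul_mul_tmul, mul_one]
    | add z₁ z₂ h₁ h₂ =>
      rw [map_add, map_add, h₁, h₂, ← Finset.sum_add_distrib]
      refine Finset.sum_congr rfl fun i _ => ?_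
      rw [Pi.add_apply, add_mul]
  -- trivial relations
  have htriv : ∀ a ∈ Submodule.span B {v : Fin r → B | ∃ i j : Fin r,
      v = Pi.single i (f j) - Pi.single j (f i)}, ∀ x : A',
      e (x ⊗ₜ[A] a) ∈ Submodule.span (A' ⊗[A] B) {v : Fin r → A' ⊗[A] B | ∃ i j : Fin r,
        v = Pi.single i ((1 : A') ⊗ₜ[A] f j) - Pi.single j ((1 : A') ⊗ₜ[A] f i)} := by
    intro a ha
    induction ha using Submodule.span_induction with
    | mem a ha =>
      obtain ⟨i, j, rfl⟩ := ha
      intro x
      have h1 : e (x ⊗ₜ[A] (Pi.single i (f j) - Pi.single j (f i))) =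
          (x ⊗ₜ[A] (1 : B)) • (Pi.single i ((1 : A') ⊗ₜ[A] f j) -
            Pi.single j ((1 : A') ⊗ₜ[A] f i) : Fin r → A' ⊗[A] B) := by
        rw [he]
        funext l
        simp only [Pi.sub_apply, Pi.smul_apply, smul_eq_mul, Pi.single_apply, mul_sub,
          TensorProduct.tmul_sub]
        congr 1 <;> (split_ifs <;> simp [Algebra.TensorProduct.tmul_mul_tmul])
      rw [h1]
      exact Submodule.smul_mem _ _ (Submodule.subset_span ⟨i, j, rfl⟩)
    | zero =>
      intro x
      rw [TensorProduct.tmul_zero, map_zero]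
      exact Submodule.zero_mem _
    | add a b _ _ ha hb =>
      intro x
      rw [TensorProduct.tmul_add, map_add]
      exact Submodule.add_mem _ (ha x) (hb x)
    | smul b a _ ha =>
      intro x
      have h1 : e (x ⊗ₜ[A] (b • a)) = ((1 : A') ⊗ₜ[A] b) • e (x ⊗ₜ[A] a) := by
        rw [he, he]
        funext l
        simp only [Pi.smul_apply, smul_eq_mul, Algebra.TensorProduct.tmul_mul_tmul, one_mul]
      rw [h1]
      exact Submodule.smul_mem _ _ (ha x)
  have hker : ∀ w : A' ⊗[A] ↥(LinearMap.ker φ),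
      e ((LinearMap.ker φ).subtype.lTensor A' w) ∈
        Submodule.span (A' ⊗[A] B) {v : Fin r → A' ⊗[A] B | ∃ i j : Fin r,
          v = Pi.single i ((1 : A') ⊗ₜ[A] f j) - Pi.single j ((1 : A') ⊗ₜ[A] f i)} := by
    intro w
    induction w using TensorProduct.induction_on with
    | zero => rw [map_zero, map_zero]; exact Submodule.zero_mem _
    | tmul x k =>
      rw [LinearMap.lTensor_tmul]
      apply htriv _ _ x
      apply hq
      have := k.2
      rw [LinearMap.mem_ker, hφ] at this
      exact this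
    | add w₁ w₂ h₁ h₂ =>
      rw [map_add, map_add]; exact Submodule.add_mem _ h₁ h₂
  -- main
  intro a' ha'
  set z := e.symm a' with hz
  have hez : e z = a' := e.apply_symm_apply a'
  have h1 : (φ.lTensor A') z = 0 := by
    rw [hcompat, hez]; exact ha'
  have h2 : (g₁.lTensor A') ((φJ.lTensor A') z) = 0 := by
    rw [← LinearMap.comp_apply, ← LinearMap.lTensor_comp, hφJ]; exact h1
  have h3 : (φJ.lTensor A') z = 0 := hinj (by rw [h2, map_zero])
  obtain ⟨w, hw⟩ := (hexT z).1 h3
  rw [← hez, ← hw]
  exact hker w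

end Groth.Agent.Helper1.H1BaseChange
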