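import Mathlib
import Groth.Prelude.Def_CycAlg

set_option autoImplicit false
universe u v

namespace Groth.Agent.Helper1.Herbrand

variable {R : Type u} [CommRing R] {M : Type v} [AddCommGroup M] [Module R M]

/-- length of `Y / (X ∩ Y)` -/
noncomputable def lam (X Y : Submodule R M) : ℕ∞ := Module.length R (↥Y ⧸ X.submoduleOf Y)

theorem lam_congr {X X' Y : Submodule R M} (h : ∀ y ∈ Y, y ∈ X ↔ y ∈ X') : lam X Y = lam X' Y := by
  have : X.submoduleOf Y = X'.submoduleOf Y := by
    ext ⟨y, hy⟩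
    exact h y hy
  unfold lam
  rw [this]

theorem lam_eq_zero {X Y : Submodule R M} (h : Y ≤ X) : lam X Y = 0 := by
  unfold lam
  rw [Module.length_eq_zero_iff]
  constructor
  intro a b
  obtain ⟨a, rfl⟩ := Submodule.Quotient.mk_surjective _ a
  obtain ⟨b, rfl⟩ := Submodule.Quotient.mk_surjective _ b
  rw [Submodule.Quotient.eq]
  exact h (a - b).2

theorem lam_add {X Y Z : Submodule R M} (hYZ : Y ≤ Z) : lam X Z = lam X Y + lam (X ⊔ Y) Z := by
  have h1 : X.submoduleOf Y ≤ Submodule.comap (Submodule.inclusion hYZ) (X.submoduleOf Z) :=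
    fun y hy => hy
  have h2 : X.submoduleOf Z ≤
      Submodule.comap (LinearMap.id : ↥Z →ₗ[R] ↥Z) ((X ⊔ Y).submoduleOf Z) :=
    fun z hz => Submodule.mem_sup_left hz
  let f := Submodule.mapQ (X.submoduleOf Y) (X.submoduleOf Z) (Submodule.inclusion hYZ) h1
  let g := Submodule.mapQ (X.submoduleOf Z) ((X ⊔ Y).submoduleOf Z) LinearMap.id h2
  have hf : Function.Injective f := by
    rw [injective_iff_map_eq_zero]
    intro y hy
    obtain ⟨y, rfl⟩ := Submodule.Quotient.mk_surjective _ y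
    rw [Submodule.mapQ_apply, Submodule.Quotient.mk_eq_zero] at hy
    rw [Submodule.Quotient.mk_eq_zero]
    exact hy
  have hg : Function.Surjective g := by
    intro z
    obtain ⟨z, rfl⟩ := Submodule.Quotient.mk_surjective _ z
    exact ⟨Submodule.Quotient.mk z, rfl⟩
  have hex : Function.Exact f g := by
    intro z
    obtain ⟨z, rfl⟩ := Submodule.Quotient.mk_surjective _ z
    constructor
    · intro hz
      rw [Submodule.mapQ_apply, Submodule.Quotient.mk_eq_zero] at hz
      have hz' : (z : M) ∈ X ⊔ Y := hz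
      obtain ⟨x, hx, y, hy, hxy⟩ := Submodule.mem_sup.mp hz'
      refine ⟨Submodule.Quotient.mk ⟨y, hy⟩, ?_⟩
      rw [Submodule.mapQ_apply, Submodule.Quotient.eq]
      show ((Submodule.inclusion hYZ ⟨y, hy⟩ - z : ↥Z) : M) ∈ X
      have : ((Submodule.inclusion hYZ ⟨y, hy⟩ - z : ↥Z) : M) = -x := by
        rw [Submodule.coe_sub, Submodule.coe_inclusion, ← hxy]
        abel
      rw [this]
      exact X.neg_mem hx
    · rintro ⟨y, hy⟩
      rw [← hy]
      obtain ⟨y, rfl⟩ := Submodule.Quotient.mk_surjective _ y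
      rw [Submodule.mapQ_apply, Submodule.mapQ_apply, Submodule.Quotient.mk_eq_zero]
      exact Submodule.mem_sup_right y.2
  exact Module.length_eq_add_of_exact f g hf hg hex

theorem lam_map (s : M →ₗ[R] M) (X Y : Submodule R M) :
    lam (X ⊔ LinearMap.ker s) Y = lam (X.map s) (Y.map s) := by
  let u : ↥Y →ₗ[R] (↥(Y.map s) ⧸ (X.map s).submoduleOf (Y.map s)) :=
    (Submodule.mkQ _).comp (s.submoduleMap Y)
  have hu : Function.Surjective u :=
    (Submodule.mkQ_surjective _).comp (s.submoduleMap_surjective Y)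
  have hker : LinearMap.ker u = (X ⊔ LinearMap.ker s).submoduleOf Y := by
    ext y
    rw [LinearMap.mem_ker]
    show Submodule.Quotient.mk (s.submoduleMap Y y) = 0 ↔ (y : M) ∈ X ⊔ LinearMap.ker s
    rw [Submodule.Quotient.mk_eq_zero]
    show (s (y : M)) ∈ X.map s ↔ _
    rw [Submodule.mem_map]
    constructor
    · rintro ⟨x, hx, hxy⟩
      rw [Submodule.mem_sup]
      refine ⟨x, hx, (y : M) - x, ?_, by abel⟩
      rw [LinearMap.mem_ker, map_sub, hxy, sub_self]
    · intro h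
      obtain ⟨x, hx, k, hk, hxk⟩ := Submodule.mem_sup.mp h
      refine ⟨x, hx, ?_⟩
      rw [← hxk, map_add, LinearMap.mem_ker.mp hk, add_zero]
  unfold lam
  exact ((Submodule.quotEquivOfEq _ _ hker).symm.trans
    (LinearMap.quotKerEquivOfSurjective u hu)).length_eq

section pow
variable (t : M →ₗ[R] M)

theorem pow_pow_apply (a b : ℕ) (m : M) : (t ^ a) ((t ^ b) m) = (t ^ (a + b)) m := by
  rw [pow_add, Module.End.mul_apply]

theorem map_pow_ker (a i k : ℕ) (hk : k = i + a) :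
    (LinearMap.ker (t ^ k)).map (t ^ a) = LinearMap.ker (t ^ i) ⊓ LinearMap.range (t ^ a) := by
  subst hk
  ext z
  rw [Submodule.mem_map, Submodule.mem_inf, LinearMap.mem_ker, LinearMap.mem_range]
  constructor
  · rintro ⟨y, hy, rfl⟩
    rw [LinearMap.mem_ker] at hy
    exact ⟨by rw [pow_pow_apply]; exact hy, y, rfl⟩
  · rintro ⟨hz, m, rfl⟩
    refine ⟨m, ?_, rfl⟩
    rw [LinearMap.mem_ker, ← pow_pow_apply]
    exact hz

theorem map_pow_range (a j k : ℕ) (hk : k = a + j) :
    (LinearMap.range (t ^ j)).map (t ^ a) = LinearMap.range (t ^ k) := by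
  subst hk
  ext z
  rw [Submodule.mem_map, LinearMap.mem_range]
  constructor
  · rintro ⟨y, ⟨m, rfl⟩, rfl⟩
    exact ⟨m, (pow_pow_apply t a j m).symm⟩
  · rintro ⟨m, rfl⟩
    exact ⟨(t ^ j) m, ⟨m, rfl⟩, pow_pow_apply t a j m⟩

theorem range_anti (j k : ℕ) : LinearMap.range (t ^ (j + k)) ≤ LinearMap.range (t ^ j) := by
  rintro z ⟨m, rfl⟩
  exact ⟨(t ^ k) m, pow_pow_apply t j k m⟩

theorem ker_mono (j k : ℕ) : LinearMap.ker (t ^ j) ≤ LinearMap.ker (t ^ (j + k)) := by
  intro z hz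
  rw [LinearMap.mem_ker] at hz ⊢
  rw [add_comm, ← pow_pow_apply, hz, map_zero]

/-- `a_i` -/
noncomputable def aa (n i : ℕ) : ℕ∞ :=
  lam (LinearMap.range (t ^ (n - i))) (LinearMap.ker (t ^ i))
/-- `b_j` -/
noncomputable def bb (j : ℕ) : ℕ∞ := lam (LinearMap.range (t ^ 1)) (LinearMap.ker (t ^ j))
/-- `c_j` -/
noncomputable def cc (j : ℕ) : ℕ∞ := lam (LinearMap.range (t ^ j)) (LinearMap.ker (t ^ 1))
/-- `g_j` -/
noncomputable def gg (j : ℕ) : ℕ∞ :=
  lam (LinearMap.range (t ^ (j + 1))) (LinearMap.ker (t ^ 1) ⊓ LinearMap.range (t ^ j))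

theorem bb_succ (j : ℕ) : bb t (j + 1) = bb t j + gg t j := by
  unfold bb gg
  rw [lam_add (X := LinearMap.range (t ^ 1)) (ker_mono t j 1), lam_map (t ^ j),
    map_pow_range t j 1 (j + 1) rfl, map_pow_ker t j 1 (j + 1) (by omega)]

theorem cc_succ (j : ℕ) : cc t (j + 1) = gg t j + cc t j := by
  unfold cc gg
  rw [lam_add (X := LinearMap.range (t ^ (j + 1)))
    (Y := LinearMap.ker (t ^ 1) ⊓ LinearMap.range (t ^ j)) (Z := LinearMap.ker (t ^ 1)) inf_le_left]
  congr 1
  apply lam_congr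
  intro y hy
  constructor
  · intro h
    obtain ⟨x, hx, w, hw, rfl⟩ := Submodule.mem_sup.mp h
    exact add_mem (range_anti t j 1 hx) (Submodule.mem_inf.mp hw).2
  · intro h
    exact Submodule.mem_sup_right (Submodule.mem_inf.mpr ⟨hy, h⟩)

theorem bb_eq_cc (j : ℕ) : bb t j = cc t j := by
  induction j with
  | zero =>
    have h1 : bb t 0 = 0 := by
      apply lam_eq_zero
      intro z hz
      rw [LinearMap.mem_ker, pow_zero, Module.End.one_apply] at hz
      rw [hz]
      exact zero_mem _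
    have h2 : cc t 0 = 0 := by
      apply lam_eq_zero
      intro z _
      exact ⟨z, by rw [pow_zero, Module.End.one_apply]⟩
    rw [h1, h2]
  | succ j ih => rw [bb_succ, cc_succ, ih, add_comm]

theorem range_le_ker (n : ℕ) (hn : t ^ n = 0) (a b : ℕ) (hab : n ≤ a + b) :
    LinearMap.range (t ^ a) ≤ LinearMap.ker (t ^ b) := by
  rintro z ⟨m, rfl⟩
  rw [LinearMap.mem_ker, pow_pow_apply]
  have : t ^ (b + a) = 0 := by
    rw [show b + a = (b + a - n) + n by omega, pow_add, hn, mul_zero]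
  rw [this]
  rfl

theorem aa_succ (n : ℕ) (i : ℕ) (hi : i + 1 ≤ n) :
    aa t n (i + 1) + cc t i = cc t (n - (i + 1)) + aa t n i := by
  have e1 : aa t n (i + 1) = cc t (n - (i + 1)) +
      lam (LinearMap.range (t ^ (n - i))) (LinearMap.ker (t ^ i) ⊓ LinearMap.range (t ^ 1)) := by
    unfold aa cc
    rw [lam_add (X := LinearMap.range (t ^ (n - (i + 1)))) (Y := LinearMap.ker (t ^ 1))
      (Z := LinearMap.ker (t ^ (i + 1))) (by rw [add_comm i 1]; exact ker_mono t 1 i),
      lam_map (t ^ 1), map_pow_range t 1 (n - (i + 1)) (n - i) (by omega),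
      map_pow_ker t 1 i (i + 1) rfl]
  have e2 : aa t n i =
      lam (LinearMap.range (t ^ (n - i))) (LinearMap.ker (t ^ i) ⊓ LinearMap.range (t ^ 1)) +
        bb t i := by
    unfold aa bb
    rw [lam_add (X := LinearMap.range (t ^ (n - i)))
      (Y := LinearMap.ker (t ^ i) ⊓ LinearMap.range (t ^ 1)) (Z := LinearMap.ker (t ^ i))
      inf_le_left]
    congr 1
    apply lam_congr
    intro y hy
    constructor
    · intro h
      obtain ⟨x, hx, w, hw, rfl⟩ := Submodule.mem_sup.mp h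
      refine add_mem ?_ (Submodule.mem_inf.mp hw).2
      have : n - i = 1 + (n - i - 1) := by omega
      rw [this] at hx
      exact range_anti t 1 _ hx
    · intro h
      exact Submodule.mem_sup_right (Submodule.mem_inf.mpr ⟨hy, h⟩)
  rw [e1, e2, bb_eq_cc, add_assoc]

theorem cc_mono : Monotone (cc t) :=
  monotone_nat_of_le_succ fun j => by
    rw [cc_succ]
    exact le_add_self

theorem aa_zero (n : ℕ) : aa t n 0 = 0 := by
  apply lam_eq_zero
  intro z hz
  rw [LinearMap.mem_ker, pow_zero, Module.End.one_apply] at hz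
  rw [hz]
  exact zero_mem _

theorem aa_lt_top (n : ℕ) (hfin : cc t (n - 1) < ⊤) : ∀ i, i ≤ n → aa t n i < ⊤ := by
  intro i
  induction i with
  | zero =>
    intro _
    rw [aa_zero]
    simp
  | succ i ih =>
    intro hi
    have h := aa_succ t n i hi
    have h1 : cc t (n - (i + 1)) < ⊤ := lt_of_le_of_lt (cc_mono t (by omega)) hfin
    have h2 := ih (by omega)
    have h3 : aa t n (i + 1) + cc t i < ⊤ := by
      rw [h]
      exact ENat.add_lt_top.mpr ⟨h1, h2⟩
    exact lt_of_le_of_lt le_self_add h3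

theorem aa_symm (n : ℕ) (hfin : cc t (n - 1) < ⊤) (i : ℕ) (hi : i ≤ n) :
    ((aa t n i).toNat : ℤ) = ((aa t n (n - i)).toNat : ℤ) := by
  have hA : ∀ k, k + 1 ≤ n →
      ((aa t n (k + 1)).toNat : ℤ) + ((cc t k).toNat : ℤ) =
        ((cc t (n - (k + 1))).toNat : ℤ) + ((aa t n k).toNat : ℤ) := by
    intro k hk
    have h := congrArg ENat.toNat (aa_succ t n k hk)
    have f1 : aa t n (k + 1) ≠ ⊤ := (aa_lt_top t n hfin (k + 1) hk).ne
    have f2 : cc t k ≠ ⊤ := (lt_of_le_of_lt (cc_mono t (by omega)) hfin).ne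
    have f3 : cc t (n - (k + 1)) ≠ ⊤ := (lt_of_le_of_lt (cc_mono t (by omega)) hfin).ne
    have f4 : aa t n k ≠ ⊤ := (aa_lt_top t n hfin k (by omega)).ne
    rw [ENat.toNat_add f1 f2, ENat.toNat_add f3 f4] at h
    exact_mod_cast h
  have hT : ∀ k, k ≤ n → ((aa t n k).toNat : ℤ) =
      (∑ j ∈ Finset.range n, ((cc t j).toNat : ℤ)) -
        (∑ j ∈ Finset.range (n - k), ((cc t j).toNat : ℤ)) -
        (∑ j ∈ Finset.range k, ((cc t j).toNat : ℤ)) := by
    intro k
    induction k with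
    | zero =>
      intro _
      rw [aa_zero]
      simp
    | succ k ih =>
      intro hk
      have h1 := ih (by omega)
      have h2 := hA k hk
      have h3 : n - k = (n - (k + 1)) + 1 := by omega
      rw [h3, Finset.sum_range_succ] at h1
      rw [Finset.sum_range_succ]
      linarith
  have e1 := hT i hi
  have e2 := hT (n - i) (by omega)
  rw [Nat.sub_sub_self hi] at e2
  linarith

end pow

theorem main (φ : M →ₗ[R] M) (n : ℕ) (hn : 0 < n) (hφ : φ ^ n = 0)
    (hfin : Module.length R (CycAlg.perH φ (φ ^ (n - 1))) < ⊤) (i : ℕ) (hi : i ≤ n) :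
    CycAlg.FinCoh R (φ ^ i) (φ ^ (n - i)) ∧ CycAlg.herbrand R (φ ^ i) (φ ^ (n - i)) = 0 := by
  have hfin' : cc φ (n - 1) < ⊤ := by
    unfold cc
    rw [pow_one]
    exact hfin
  have e0 : Module.length R (CycAlg.perH (φ ^ i) (φ ^ (n - i))) = aa φ n i := rfl
  have e1 : Module.length R (CycAlg.perH (φ ^ (n - i)) (φ ^ i)) = aa φ n (n - i) := by
    unfold aa
    rw [Nat.sub_sub_self hi]
    rfl
  refine ⟨⟨?_, ?_⟩, ?_⟩
  · rw [e0]
    exact aa_lt_top φ n hfin' i hi
  · rw [e1]
    exact aa_lt_top φ n hfin' (n - i) (by omega)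
  · unfold CycAlg.herbrand
    rw [e0, e1, aa_symm φ n hfin' i hi, sub_self]

end Groth.Agent.Helper1.Herbrand
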