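import Mathlib
import Groth.Prelude.Def_CycAlg
import Groth.Agent.Helper1.Herbrand
import Groth.Agent.S16234

set_option autoImplicit false
universe u v

open CycAlg

namespace Groth.Agent.Helper1.HerbMul

open Groth.Agent.Helper1.Herbrand
open scoped Pointwise

variable {R : Type u} [CommRing R] {M : Type v} [AddCommGroup M] [Module R M]

theorem len_d (φ : M →ₗ[R] M) (x : R) :
    lam (LinearMap.ker φ) (LinearMap.ker (x • φ)) =
      Module.length R (perH (x • (LinearMap.id : ↥(LinearMap.range φ) →ₗ[R] ↥(LinearMap.range φ)))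
        (0 : ↥(LinearMap.range φ) →ₗ[R] ↥(LinearMap.range φ))) := by
  let w : ↥(LinearMap.ker (x • φ)) →ₗ[R]
      ↥(LinearMap.ker (x • (LinearMap.id : ↥(LinearMap.range φ) →ₗ[R] ↥(LinearMap.range φ)))) :=
    LinearMap.codRestrict _ (φ.rangeRestrict.comp (LinearMap.ker (x • φ)).subtype) (by
      intro m
      rw [LinearMap.mem_ker]
      apply Subtype.ext
      have hm : x • φ (m : M) = 0 := by
        have h0 := m.2
        rwa [LinearMap.mem_ker, LinearMap.smul_apply] at h0
      show x • φ (m : M) = 0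
      exact hm)
  have hw : Function.Surjective w := by
    rintro ⟨⟨n, m', rfl⟩, hn⟩
    have hm' : m' ∈ LinearMap.ker (x • φ) := by
      rw [LinearMap.mem_ker]
      have := congrArg Subtype.val (LinearMap.mem_ker.mp hn)
      simpa using this
    exact ⟨⟨m', hm'⟩, Subtype.ext (Subtype.ext rfl)⟩
  let u := (Submodule.mkQ ((LinearMap.range (0 : ↥(LinearMap.range φ) →ₗ[R]
      ↥(LinearMap.range φ))).submoduleOf (LinearMap.ker (x • (LinearMap.id :
        ↥(LinearMap.range φ) →ₗ[R] ↥(LinearMap.range φ)))))).comp w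
  have hu : Function.Surjective u := (Submodule.mkQ_surjective _).comp hw
  have hker : LinearMap.ker u = (LinearMap.ker φ).submoduleOf (LinearMap.ker (x • φ)) := by
    ext m
    rw [LinearMap.mem_ker]
    show Submodule.Quotient.mk (w m) = 0 ↔ (m : M) ∈ LinearMap.ker φ
    rw [Submodule.Quotient.mk_eq_zero]
    show ((w m : ↥(LinearMap.range φ))) ∈ LinearMap.range (0 : ↥(LinearMap.range φ) →ₗ[R]
      ↥(LinearMap.range φ)) ↔ _
    rw [LinearMap.range_zero, Submodule.mem_bot, LinearMap.mem_ker]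
    constructor
    · intro h
      have := congrArg Subtype.val h
      simpa [w] using this
    · intro h
      apply Subtype.ext
      simpa [w] using h
  unfold lam
  exact ((Submodule.quotEquivOfEq _ _ hker).symm.trans
    (LinearMap.quotKerEquivOfSurjective u hu)).length_eq

theorem len_c (φ : M →ₗ[R] M) (x : R) :
    lam (LinearMap.range (x • φ)) (LinearMap.range φ) =
      Module.length R (perH (0 : ↥(LinearMap.range φ) →ₗ[R] ↥(LinearMap.range φ))
        (x • (LinearMap.id : ↥(LinearMap.range φ) →ₗ[R] ↥(LinearMap.range φ)))) := by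
  let u : ↥(LinearMap.ker (0 : ↥(LinearMap.range φ) →ₗ[R] ↥(LinearMap.range φ))) →ₗ[R]
      (↥(LinearMap.range φ) ⧸ (LinearMap.range (x • φ)).submoduleOf (LinearMap.range φ)) :=
    (Submodule.mkQ _).comp (Submodule.subtype _)
  have hu : Function.Surjective u := by
    intro q
    obtain ⟨n, rfl⟩ := Submodule.Quotient.mk_surjective _ q
    exact ⟨⟨n, by simp⟩, rfl⟩
  have hker : LinearMap.ker u = (LinearMap.range (x • (LinearMap.id :
      ↥(LinearMap.range φ) →ₗ[R] ↥(LinearMap.range φ)))).submoduleOf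
        (LinearMap.ker (0 : ↥(LinearMap.range φ) →ₗ[R] ↥(LinearMap.range φ))) := by
    ext k
    rw [LinearMap.mem_ker]
    show Submodule.Quotient.mk (k : ↥(LinearMap.range φ)) = 0 ↔
      (k : ↥(LinearMap.range φ)) ∈ LinearMap.range (x • (LinearMap.id :
      ↥(LinearMap.range φ) →ₗ[R] ↥(LinearMap.range φ)))
    rw [Submodule.Quotient.mk_eq_zero]
    show ((k : ↥(LinearMap.range φ)) : M) ∈ LinearMap.range (x • φ) ↔ _
    constructor
    · rintro ⟨m', hm'⟩
      refine ⟨⟨φ m', m', rfl⟩, ?_⟩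
      apply Subtype.ext
      simpa using hm'
    · rintro ⟨⟨n', m', rfl⟩, hn'⟩
      refine ⟨m', ?_⟩
      have := congrArg Subtype.val hn'
      simpa using this
  unfold lam
  exact ((Submodule.quotEquivOfEq _ _ hker).symm.trans
    (LinearMap.quotKerEquivOfSurjective u hu)).length_eq.symm

theorem len_mul (φ ψ : M →ₗ[R] M) (hper : IsPeriodic φ ψ) (x : R) :
    Module.length R (perH (x • φ) ψ) = Module.length R (perH φ ψ) +
      Module.length R (perH (x • (LinearMap.id : ↥(LinearMap.range φ) →ₗ[R] ↥(LinearMap.range φ)))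
        (0 : ↥(LinearMap.range φ) →ₗ[R] ↥(LinearMap.range φ))) ∧
    Module.length R (perH ψ (x • φ)) = Module.length R (perH ψ φ) +
      Module.length R (perH (0 : ↥(LinearMap.range φ) →ₗ[R] ↥(LinearMap.range φ))
        (x • (LinearMap.id : ↥(LinearMap.range φ) →ₗ[R] ↥(LinearMap.range φ)))) := by
  have h1 : LinearMap.range ψ ≤ LinearMap.ker φ := by
    rintro _ ⟨m, rfl⟩
    rw [LinearMap.mem_ker]
    exact LinearMap.congr_fun hper.1 m
  have h2 : LinearMap.range φ ≤ LinearMap.ker ψ := by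
    rintro _ ⟨m, rfl⟩
    rw [LinearMap.mem_ker]
    exact LinearMap.congr_fun hper.2 m
  have h3 : LinearMap.ker φ ≤ LinearMap.ker (x • φ) := by
    intro m hm
    rw [LinearMap.mem_ker] at hm ⊢
    rw [LinearMap.smul_apply, hm, smul_zero]
  have h4 : LinearMap.range (x • φ) ≤ LinearMap.range φ := by
    rintro _ ⟨m, rfl⟩
    exact ⟨x • m, by simp⟩
  constructor
  · show lam (LinearMap.range ψ) (LinearMap.ker (x • φ)) = lam (LinearMap.range ψ) (LinearMap.ker φ) + _
    rw [lam_add h3, sup_eq_right.mpr h1, len_d]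
  · show lam (LinearMap.range (x • φ)) (LinearMap.ker ψ) = lam (LinearMap.range φ) (LinearMap.ker ψ) + _
    rw [lam_add h2, sup_eq_right.mpr h4, len_c, add_comm]

section Fin
variable [IsNoetherianRing R] [IsLocalRing R]

theorem isMaximal_of_mem_support (N : Type v) [AddCommGroup N] [Module R N]
    (h0 : Module.supportDim R N ≤ 0) (p : PrimeSpectrum R) (hp : p ∈ Module.support R N) :
    p.asIdeal.IsMaximal := by
  by_contra hmax
  have hne : p.asIdeal ≠ IsLocalRing.maximalIdeal R := fun h => hmax (h ▸ inferInstance)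
  have hlt : p.asIdeal < IsLocalRing.maximalIdeal R :=
    lt_of_le_of_ne (IsLocalRing.le_maximalIdeal p.isPrime.ne_top) hne
  let m : PrimeSpectrum R := ⟨IsLocalRing.maximalIdeal R, inferInstance⟩
  have hm : m ∈ Module.support R N := Module.mem_support_mono (p := p) (q := m) hlt.le hp
  let a : Module.support R N := ⟨p, hp⟩
  let b : Module.support R N := ⟨m, hm⟩
  have hab : a < b := hlt
  have h1 : ((1 : ℕ) : WithBot ℕ∞) ≤ Module.supportDim R N := by
    unfold Module.supportDim
    rw [Order.le_krullDim_iff]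
    exact ⟨(RelSeries.singleton _ a).snoc b hab, rfl⟩
  have h2 : ((1 : ℕ) : WithBot ℕ∞) ≤ 0 := h1.trans h0
  exact absurd h2 (by decide)

theorem length_lt_top_of_supportDim (N : Type v) [AddCommGroup N] [Module R N] [Module.Finite R N]
    (h0 : Module.supportDim R N ≤ 0) : Module.length R N < ⊤ := by
  rw [lt_top_iff_ne_top, Module.length_ne_top_iff, ← Groth.Agent.S16234.result]
  exact fun p hp => isMaximal_of_mem_support N h0 p hp

variable [Module.Finite R M]

theorem fin_c (φ : M →ₗ[R] M) (x : R)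
    (hx : Module.supportDim R (M ⧸ x • (⊤ : Submodule R M)) ≤ 0) :
    Module.length R (perH (0 : ↥(LinearMap.range φ) →ₗ[R] ↥(LinearMap.range φ))
        (x • (LinearMap.id : ↥(LinearMap.range φ) →ₗ[R] ↥(LinearMap.range φ)))) < ⊤ := by
  rw [← len_c]
  unfold lam
  let g : M →ₗ[R] (↥(LinearMap.range φ) ⧸
      (LinearMap.range (x • φ)).submoduleOf (LinearMap.range φ)) :=
    (Submodule.mkQ _).comp φ.rangeRestrict
  have hg : x • (⊤ : Submodule R M) ≤ LinearMap.ker g := by
    intro m hm
    obtain ⟨m', -, rfl⟩ := (Submodule.mem_smul_pointwise_iff_exists _ _ _).mp hm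
    rw [LinearMap.mem_ker]
    show Submodule.Quotient.mk (φ.rangeRestrict (x • m')) = 0
    rw [Submodule.Quotient.mk_eq_zero]
    show φ (x • m') ∈ LinearMap.range (x • φ)
    exact ⟨m', by simp⟩
  have hsurj : Function.Surjective (Submodule.liftQ _ g hg) := by
    intro q
    obtain ⟨⟨n, m', rfl⟩, rfl⟩ := Submodule.Quotient.mk_surjective _ q
    exact ⟨Submodule.Quotient.mk m', rfl⟩
  exact lt_of_le_of_lt (Module.length_le_of_surjective _ hsurj)
    (length_lt_top_of_supportDim _ hx)

theorem fin_d (φ : M →ₗ[R] M) (x : R)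
    (hx : Module.supportDim R (M ⧸ x • (⊤ : Submodule R M)) ≤ 0) :
    Module.length R (perH (x • (LinearMap.id : ↥(LinearMap.range φ) →ₗ[R] ↥(LinearMap.range φ)))
        (0 : ↥(LinearMap.range φ) →ₗ[R] ↥(LinearMap.range φ))) < ⊤ := by
  rw [lt_top_iff_ne_top, Module.length_ne_top_iff, ← Groth.Agent.S16234.result]
  intro p hp
  have hxp : x ∈ p.asIdeal := by
    have hann : x ∈ Module.annihilator R (perH (x • (LinearMap.id :
        ↥(LinearMap.range φ) →ₗ[R] ↥(LinearMap.range φ)))
        (0 : ↥(LinearMap.range φ) →ₗ[R] ↥(LinearMap.range φ))) := by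
      rw [Module.mem_annihilator]
      intro q
      obtain ⟨k, rfl⟩ := Submodule.Quotient.mk_surjective _ q
      rw [← Submodule.Quotient.mk_smul]
      have hk : x • k = 0 := by
        apply Subtype.ext
        exact LinearMap.mem_ker.mp k.2
      rw [hk, Submodule.Quotient.mk_zero]
    exact (Module.mem_support_iff_of_finite.mp hp) hann
  have hpM : p ∈ Module.support R M := by
    have h1 := Module.support_subset_of_surjective
      (Submodule.mkQ ((LinearMap.range (0 : ↥(LinearMap.range φ) →ₗ[R]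
      ↥(LinearMap.range φ))).submoduleOf (LinearMap.ker (x • (LinearMap.id :
        ↥(LinearMap.range φ) →ₗ[R] ↥(LinearMap.range φ)))))) (Submodule.mkQ_surjective _)
    have h2 := Module.support_subset_of_injective
      (Submodule.subtype (LinearMap.ker (x • (LinearMap.id :
        ↥(LinearMap.range φ) →ₗ[R] ↥(LinearMap.range φ))))) (Submodule.subtype_injective _)
    have h3 := Module.support_subset_of_injective
      (Submodule.subtype (LinearMap.range φ)) (Submodule.subtype_injective _)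
    exact h3 (h2 (h1 hp))
  have hpq : p ∈ Module.support R (M ⧸ x • (⊤ : Submodule R M)) := by
    rw [← Submodule.ideal_span_singleton_smul x ⊤, Module.support_quotient]
    refine ⟨hpM, ?_⟩
    rw [PrimeSpectrum.mem_zeroLocus]
    intro y hy
    exact (Ideal.span_singleton_le_iff_mem _).mpr hxp hy
  exact isMaximal_of_mem_support _ hx p hpq

theorem part1 (φ ψ : M →ₗ[R] M) (hper : IsPeriodic φ ψ) (hfin : FinCoh R φ ψ) (x : R)
    (hx : Module.supportDim R (M ⧸ x • (⊤ : Submodule R M)) ≤ 0) :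
    FinCoh R (x • φ) ψ ∧ herbrand R (x • φ) ψ = herbrand R φ ψ -
      herbrand R (0 : ↥(LinearMap.range φ) →ₗ[R] ↥(LinearMap.range φ)) (x • LinearMap.id) := by
  obtain ⟨h1, h2⟩ := len_mul φ ψ hper x
  have hc := fin_c φ x hx
  have hd := fin_d φ x hx
  obtain ⟨ha, hb⟩ := hfin
  refine ⟨⟨by rw [h1]; exact WithTop.add_lt_top.mpr ⟨ha, hd⟩,
    by rw [h2]; exact WithTop.add_lt_top.mpr ⟨hb, hc⟩⟩, ?_⟩
  unfold herbrand
  rw [h1, h2, ENat.toNat_add ha.ne hd.ne, ENat.toNat_add hb.ne hc.ne]
  push_cast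
  ring

theorem part2 (φ ψ : M →ₗ[R] M) (hper : IsPeriodic φ ψ) (hfin : FinCoh R φ ψ) (x : R)
    (hx : Module.supportDim R (M ⧸ x • (⊤ : Submodule R M)) ≤ 0) :
    FinCoh R φ (x • ψ) ∧ herbrand R φ (x • ψ) = herbrand R φ ψ +
      herbrand R (0 : ↥(LinearMap.range ψ) →ₗ[R] ↥(LinearMap.range ψ)) (x • LinearMap.id) := by
  have hper' : IsPeriodic ψ φ := ⟨hper.2, hper.1⟩
  obtain ⟨h1, h2⟩ := len_mul ψ φ hper' x
  have hc := fin_c ψ x hx
  have hd := fin_d ψ x hx
  obtain ⟨ha, hb⟩ := hfin
  refine ⟨⟨by rw [h2]; exact WithTop.add_lt_top.mpr ⟨ha, hc⟩,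
    by rw [h1]; exact WithTop.add_lt_top.mpr ⟨hb, hd⟩⟩, ?_⟩
  unfold herbrand
  rw [h1, h2, ENat.toNat_add ha.ne hc.ne, ENat.toNat_add hb.ne hd.ne]
  push_cast
  ring

end Fin

end Groth.Agent.Helper1.HerbMul
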