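import Mathlib
import Groth.Prelude.Def_LefPen

set_option autoImplicit false
universe u

namespace Groth.Agent.Helper1.IndepCond

open MvPolynomial

variable (k : Type u) [Field k] (r d : ℕ)

theorem degSet_eq (n m : ℕ) :
    {e : Fin (n + 1) →₀ ℕ | e.degree = m} =
      ↑((Finset.univ : Finset (Fin (n + 1))).finsuppAntidiag m) := by
  ext e
  simp only [Set.mem_setOf_eq, Finset.mem_coe, Finset.mem_finsuppAntidiag, Finset.subset_univ,
    and_true, Finsupp.degree_eq_sum]

theorem finrank_homog (n m : ℕ) :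
    Module.finrank k (homogeneousSubmodule (Fin (n + 1)) k m) = Nat.choose (m + n) n := by
  have h0 : homogeneousSubmodule (Fin (n + 1)) k m =
      MvPolynomial.restrictSupport k {e : Fin (n + 1) →₀ ℕ | e.degree = m} :=
    MvPolynomial.homogeneousSubmodule_eq_finsupp_supported _ _ m
  rw [h0,
    Module.finrank_eq_nat_card_basis (MvPolynomial.basisRestrictSupport k _), degSet_eq,
    Nat.card_coe_set_eq, Set.ncard_coe_finset, Finset.card_finsuppAntidiag_nat_eq_choose]
  simp only [Finset.card_univ, Fintype.card_fin]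
  rw [show n + 1 + m - 1 = n + m by omega, add_comm n m, Nat.choose_symm_add]

instance finite_form : Module.Finite k (LefPen.Form r k d) :=
  Module.finite_of_finrank_pos (by
    change 0 < Module.finrank k (homogeneousSubmodule (Fin (r + 1)) k d)
    rw [finrank_homog]; exact Nat.choose_pos (by omega))

/-- number of conditions -/
noncomputable abbrev NN : ℕ := Module.finrank k (LefPen.Form r k d)

noncomputable abbrev bb : Module.Basis (Fin (NN k r d)) k (LefPen.Form r k d) :=
  Module.finBasis k (LefPen.Form r k d)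

theorem NN_eq : NN k r d = Nat.choose (r + d) d := by
  change Module.finrank k (homogeneousSubmodule (Fin (r + 1)) k d) = _
  rw [finrank_homog, add_comm d r, Nat.choose_symm_add]

variable {k r d}

theorem polyfun_aeval {m : ℕ} (i : Fin m) (p : MvPolynomial (Fin (r + 1)) k) :
    (fun w : Fin m → (Fin (r + 1) → k) => MvPolynomial.aeval (w i) p) ∈
      Algebra.adjoin k (Set.range (fun l : Module.Dual k (Fin m → (Fin (r + 1) → k)) =>
        (l : (Fin m → (Fin (r + 1) → k)) → k))) := by
  induction p using MvPolynomial.induction_on with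
  | C c =>
    have : (fun w : Fin m → (Fin (r + 1) → k) => MvPolynomial.aeval (w i) (C c : MvPolynomial (Fin (r + 1)) k)) =
        algebraMap k ((Fin m → (Fin (r + 1) → k)) → k) c := by
      funext w; simp
    rw [this]; exact Subalgebra.algebraMap_mem _ c
  | add p q hp hq =>
    have : (fun w : Fin m → (Fin (r + 1) → k) => MvPolynomial.aeval (w i) (p + q)) =
        (fun w : Fin m → (Fin (r + 1) → k) => MvPolynomial.aeval (w i) p) +
        (fun w : Fin m → (Fin (r + 1) → k) => MvPolynomial.aeval (w i) q) := by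
      funext w; simp
    rw [this]; exact Subalgebra.add_mem _ hp hq
  | mul_X p j hp =>
    have : (fun w : Fin m → (Fin (r + 1) → k) => MvPolynomial.aeval (w i) (p * X j)) =
        (fun w : Fin m → (Fin (r + 1) → k) => MvPolynomial.aeval (w i) p) *
        (fun w : Fin m → (Fin (r + 1) → k) => w i j) := by
      funext w; simp
    rw [this]
    refine Subalgebra.mul_mem _ hp (Algebra.subset_adjoin ?_)
    refine ⟨(LinearMap.proj j : (Fin (r + 1) → k) →ₗ[k] k).comp
      (LinearMap.proj i : (Fin m → (Fin (r + 1) → k)) →ₗ[k] (Fin (r + 1) → k)), ?_⟩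
    funext w
    rfl

/-- the minor function -/
noncomputable def minor {m : ℕ} (σ : Fin (NN k r d) → Fin m) (w : Fin m → (Fin (r + 1) → k)) : k :=
  Matrix.det (Matrix.of fun a j => MvPolynomial.aeval (w (σ a)) (bb k r d j).1)

theorem isPolyFun_minor {m : ℕ} (σ : Fin (NN k r d) → Fin m) :
    LefPen.IsPolyFun k (minor (k := k) (r := r) (d := d) σ) := by
  unfold LefPen.IsPolyFun
  set A := Algebra.adjoin k (Set.range (fun l : Module.Dual k (Fin m → (Fin (r + 1) → k)) =>
        (l : (Fin m → (Fin (r + 1) → k)) → k))) with hA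
  let M' : Matrix (Fin (NN k r d)) (Fin (NN k r d)) A :=
    Matrix.of fun a j => ⟨fun w => MvPolynomial.aeval (w (σ a)) (bb k r d j).1,
      polyfun_aeval (σ a) _⟩
  have h : minor (k := k) (r := r) (d := d) σ = ((Matrix.det M' : A) : (Fin m → (Fin (r + 1) → k)) → k) := by
    funext w
    have h1 := RingHom.map_det
      ((Pi.evalRingHom (fun _ : Fin m → (Fin (r + 1) → k) => k) w).comp A.val.toRingHom) M'
    have h2 : ((Pi.evalRingHom (fun _ : Fin m → (Fin (r + 1) → k) => k) w).comp A.val.toRingHom)
        (Matrix.det M') = ((Matrix.det M' : A) : (Fin m → (Fin (r + 1) → k)) → k) w := rfl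
    rw [← h2, h1]
    rfl
  rw [h]
  exact (Matrix.det M').2

theorem mem_of_minor_ne_zero {m : ℕ} (σ : Fin (NN k r d) → Fin m) (w : Fin m → (Fin (r + 1) → k))
    (h : minor (k := k) (r := r) (d := d) σ w ≠ 0) (G : LefPen.Form r k d)
    (hG : ∀ i : Fin m, MvPolynomial.aeval (w i) G.1 = 0) : G = 0 := by
  obtain ⟨c, rfl⟩ : ∃ c : Fin (NN k r d) → k, G = ∑ j, c j • bb k r d j :=
    ⟨fun j => (bb k r d).repr G j, ((bb k r d).sum_repr G).symm⟩
  have hmv : (Matrix.of fun a j => MvPolynomial.aeval (w (σ a)) (bb k r d j).1).mulVec c = 0 := by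
    funext a
    have h2 := hG (σ a)
    simp only [Submodule.coe_sum, Submodule.coe_smul, map_sum, map_smul, smul_eq_mul] at h2
    simp only [Matrix.mulVec, dotProduct, Matrix.of_apply, Pi.zero_apply]
    rw [← h2]
    exact Finset.sum_congr rfl fun j _ => mul_comm _ _
  have hc := Matrix.eq_zero_of_mulVec_eq_zero h hmv
  simp [hc]

theorem exists_minor {ι : Type*} (P : ι → (Fin (r + 1) → k))
    (hP : ∀ G : LefPen.Form r k d, (∀ i, MvPolynomial.aeval (P i) G.1 = 0) → G = 0) :
    ∃ τ : Fin (NN k r d) → ι,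
      Matrix.det (Matrix.of fun a j => MvPolynomial.aeval (P (τ a)) (bb k r d j).1) ≠ 0 := by
  classical
  set ρ : ι → (Fin (NN k r d) → k) := fun i j => MvPolynomial.aeval (P i) (bb k r d j).1 with hρ
  have hspan : Submodule.span k (Set.range ρ) = ⊤ := by
    by_contra hne
    obtain ⟨φ, hφ0, hφ⟩ := Submodule.exists_le_ker_of_lt_top _ (lt_top_iff_ne_top.mpr hne)
    set c : Fin (NN k r d) → k := fun j => φ (fun j' => if j = j' then 1 else 0) with hc
    have hφv : ∀ v : Fin (NN k r d) → k, φ v = ∑ j, v j * c j := fun v => by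
      rw [LinearMap.pi_apply_eq_sum_univ φ v]; rfl
    have hG := hP (∑ j, c j • bb k r d j) (fun i => by
      simp only [Submodule.coe_sum, Submodule.coe_smul, map_sum, map_smul, smul_eq_mul]
      have h1 : ρ i ∈ LinearMap.ker φ := hφ (Submodule.subset_span ⟨i, rfl⟩)
      rw [LinearMap.mem_ker, hφv] at h1
      rw [← h1]
      exact Finset.sum_congr rfl fun j _ => mul_comm _ _)
    have hc0 : ∀ j, c j = 0 :=
      fun j => Fintype.linearIndependent_iff.mp (bb k r d).linearIndependent c hG j
    apply hφ0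
    refine LinearMap.ext fun v => ?_
    rw [hφv]
    simp [hc0]
  have hfr : Module.finrank k (Submodule.span k (Set.range ρ)) = NN k r d := by
    rw [hspan, finrank_top, Module.finrank_fin_fun]
  obtain ⟨f, hf, -, hli⟩ := Submodule.exists_fun_fin_finrank_span_eq k (Set.range ρ)
  have hli2 : LinearIndependent k (fun a : Fin (NN k r d) => f (Fin.cast hfr.symm a)) :=
    hli.comp _ (Fin.cast_injective _)
  choose τ hτ using fun a : Fin (NN k r d) => hf (Fin.cast hfr.symm a)
  refine ⟨τ, ?_⟩
  have hrow : (Matrix.of fun a j => MvPolynomial.aeval (P (τ a)) (bb k r d j).1 :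
      Matrix (Fin (NN k r d)) (Fin (NN k r d)) k).row =
      (fun a : Fin (NN k r d) => f (Fin.cast hfr.symm a)) := by
    funext a
    rw [← hτ a]
    rfl
  have hU : IsUnit (Matrix.of fun a j => MvPolynomial.aeval (P (τ a)) (bb k r d j).1 :
      Matrix (Fin (NN k r d)) (Fin (NN k r d)) k) := by
    rw [← Matrix.linearIndependent_rows_iff_isUnit, hrow]
    exact hli2
  exact ((Matrix.isUnit_iff_isUnit_det _).mp hU).ne_zero

/-- the set of tuples imposing independent conditions -/
def goodSet (k : Type u) [Field k] (r d m : ℕ) : Set (Fin m → (Fin (r + 1) → k)) :=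
  {x : Fin m → (Fin (r + 1) → k) |
      ∀ G : LefPen.Form r k d, (∀ i : Fin m, MvPolynomial.aeval (x i) G.1 = 0) → G = 0}

theorem isZOpen_good (m : ℕ) : LefPen.IsZOpen k (goodSet k r d m) := by
  intro v hv
  obtain ⟨τ, hτ⟩ := exists_minor (k := k) (r := r) (d := d) v hv
  exact ⟨minor (k := k) (r := r) (d := d) τ, isPolyFun_minor τ, hτ,
    fun w hw G hG => mem_of_minor_ne_zero τ w hw G hG⟩

theorem isGeneric_good [Infinite k] (m : ℕ) (hm : Nat.choose (r + d) d ≤ m) :
    LefPen.IsGeneric k (goodSet k r d m) := by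
  have hNm : NN k r d ≤ m := by rw [NN_eq]; exact hm
  obtain ⟨τ, hτ⟩ := exists_minor (k := k) (r := r) (d := d) (ι := Fin (r + 1) → k) id (by
    intro G hG
    apply Subtype.ext
    apply MvPolynomial.funext
    intro x
    have := hG x
    simpa [MvPolynomial.aeval_def, MvPolynomial.eval, MvPolynomial.eval₂_eq] using this)
  refine ⟨minor (k := k) (r := r) (d := d) (Fin.castLE hNm), isPolyFun_minor _,
    ⟨fun i => if h : (i : ℕ) < NN k r d then τ ⟨i, h⟩ else 0, ?_⟩,
    fun w hw G hG => mem_of_minor_ne_zero _ w hw G hG⟩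
  unfold minor
  convert hτ using 4
  simp

end Groth.Agent.Helper1.IndepCond
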