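import Mathlib

/-!
# Dimension of localisations of an integral extension of an integrally closed local domain
(helper for S5764)
-/

set_option autoImplicit false

namespace Groth.Agent.Helper1.IntDim

universe u

theorem height_eq_of_isIntegral_of_hasGoingDown (A B : Type u) [CommRing A] [CommRing B]
    [Algebra A B] [Algebra.IsIntegral A B] [Algebra.HasGoingDown A B]
    (m : Ideal A) [m.IsPrime] (n : Ideal B) [n.IsPrime] [n.LiesOver m] :
    n.height = m.height := by
  have hn : n.height = Order.height (⟨n, inferInstance⟩ : PrimeSpectrum B) :=
    PrimeSpectrum.height_eq_orderHeight ⟨n, inferInstance⟩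
  have hm : m.height = Order.height (⟨m, inferInstance⟩ : PrimeSpectrum A) :=
    PrimeSpectrum.height_eq_orderHeight ⟨m, inferInstance⟩
  rw [hn, hm]
  apply le_antisymm
  · rw [Order.height_le_iff']
    intro L hL
    have hmono : StrictMono (PrimeSpectrum.comap (algebraMap A B)) := by
      intro p q hpq
      have h1 : p.asIdeal < q.asIdeal := hpq
      exact Ideal.IsIntegral.comap_lt_comap (R := A) h1
    have h2 : (L.map _ hmono).length ≤ Order.height (⟨m, inferInstance⟩ : PrimeSpectrum A) := by
      apply Order.length_le_height
      rw [LTSeries.last_map, hL]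
      apply le_of_eq
      ext1
      exact ((Ideal.LiesOver.over (p := m) (P := n))).symm
    simpa using h2
  · rw [Order.height_le_iff']
    intro l hl
    haveI : n.LiesOver l.last.asIdeal := by
      rw [hl]
      infer_instance
    obtain ⟨L, hlen, hlast, -⟩ := Ideal.exists_ltSeries_of_hasGoingDown l n
    rw [← hlen]
    exact Order.length_le_height (le_of_eq hlast)

theorem main (A B : Type u) [CommRing A]
    [CommRing B] [IsDomain B] [Algebra A B] (hinj : Function.Injective (algebraMap A B)) [IsDomain A]
    [IsLocalRing A] [IsIntegrallyClosed A] [Algebra.IsIntegral A B] (n : Ideal B) [n.IsMaximal] :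
    ringKrullDim (Localization.AtPrime n) = ringKrullDim A := by
  haveI : FaithfulSMul A B := (faithfulSMul_iff_algebraMap_injective A B).mpr hinj
  haveI : (n.comap (algebraMap A B)).IsMaximal := Ideal.isMaximal_comap_of_isIntegral_of_isMaximal n
  have hcomap : n.comap (algebraMap A B) = IsLocalRing.maximalIdeal A :=
    IsLocalRing.eq_maximalIdeal inferInstance
  haveI : n.LiesOver (IsLocalRing.maximalIdeal A) := ⟨hcomap.symm⟩
  rw [IsLocalization.AtPrime.ringKrullDim_eq_height n (Localization.AtPrime n),
    ← IsLocalRing.maximalIdeal_height_eq_ringKrullDim,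
    height_eq_of_isIntegral_of_hasGoingDown A B (IsLocalRing.maximalIdeal A) n]

end Groth.Agent.Helper1.IntDim
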