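import Groth.Agent.Helper1.SymmWeight

set_option autoImplicit false

open MvPolynomial Finset

/-! Stability of the universal polynomials under increasing the number of variables. -/

namespace Groth.Agent.Helper1.SymmPoly

open LambdaRing

section Zero

variable {R : Type*} [CommSemiring R]

theorem esymm_map_of_zero {α β : Type*} [DecidableEq α] (e : β ↪ α) (P : Finset α) (Q : Finset β)
    (hQ : Q.map e ⊆ P) (g : α → R) (hg : ∀ a ∈ P, a ∉ Q.map e → g a = 0) (n : ℕ) :
    (P.val.map g).esymm n = (Q.val.map (g ∘ e)).esymm n := by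
  rw [Finset.esymm_map_val, Finset.esymm_map_val]
  have h1 : ∑ t' ∈ Q.powersetCard n, ∏ b ∈ t', (g ∘ e) b =
      ∑ t ∈ (Q.map e).powersetCard n, ∏ a ∈ t, g a := by
    rw [Finset.powersetCard_map, Finset.sum_map]
    refine Finset.sum_congr rfl fun t' _ => ?_
    simp [Finset.prod_map]
  rw [h1]
  symm
  apply Finset.sum_subset (Finset.powersetCard_mono hQ)
  intro t ht hnt
  rw [Finset.mem_powersetCard] at ht hnt
  have h2 : ¬ t ⊆ Q.map e := fun h => hnt ⟨h, ht.2⟩
  obtain ⟨a, hat, haQ⟩ := Finset.not_subset.mp h2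
  exact Finset.prod_eq_zero hat (hg a (ht.1 hat) haQ)

end Zero

/-- the embedding `Fin M ↪ Fin N` -/
def emb {M N : ℕ} (h : M ≤ N) : Fin M ↪ Fin N := ⟨Fin.castLE h, Fin.castLE_injective h⟩

theorem emb_apply {M N : ℕ} (h : M ≤ N) (b : Fin M) : emb h b = Fin.castLE h b := rfl

/-- kill the variables of index `≥ M` -/
noncomputable def rho1 (N M : ℕ) : MvPolynomial (Fin N) ℤ →ₐ[ℤ] MvPolynomial (Fin M) ℤ :=
  aeval (fun a : Fin N => if h : (a : ℕ) < M then (X ⟨a, h⟩ : MvPolynomial (Fin M) ℤ) else 0)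

theorem rho1_X_castLE {N M : ℕ} (h : M ≤ N) (b : Fin M) : rho1 N M (X (Fin.castLE h b)) = X b := by
  simp [rho1]

theorem not_lt_of_not_mem_range {N M : ℕ} (h : M ≤ N) (a : Fin N)
    (ha : a ∉ Set.range (Fin.castLE h)) : ¬ (a : ℕ) < M := by
  intro hlt
  exact ha ⟨⟨a, hlt⟩, by ext; simp⟩

theorem rho1_X_of_not_mem {N M : ℕ} (h : M ≤ N) (a : Fin N)
    (ha : a ∉ Set.range (Fin.castLE h)) : rho1 N M (X a) = 0 := by
  have := not_lt_of_not_mem_range h a ha
  simp [rho1, this]

theorem rho1_esymm {N M : ℕ} (h : M ≤ N) (r : ℕ) :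
    rho1 N M (esymm (Fin N) ℤ r) = esymm (Fin M) ℤ r := by
  rw [esymm_eq_multiset_esymm, esymm_eq_multiset_esymm, map_multiset_esymm, Multiset.map_map]
  have h1 := esymm_map_of_zero (R := MvPolynomial (Fin M) ℤ) (emb h) univ univ (subset_univ _)
    (fun a => rho1 N M (X a)) (fun a _ ha => rho1_X_of_not_mem h a (by
      intro ⟨b, hb⟩
      exact ha (Finset.mem_map.mpr ⟨b, Finset.mem_univ _, hb⟩))) r
  have h2 : (⇑(rho1 N M) ∘ X) = fun a => rho1 N M (X a) := rfl
  rw [h2, h1]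
  congr 2
  funext b
  exact rho1_X_castLE h b

theorem rho1_compGen {N M : ℕ} (h : M ≤ N) (i j : ℕ) :
    rho1 N M (compGen N i j) = compGen M i j := by
  rw [compGen, compGen, map_multiset_esymm, Multiset.map_map]
  have h1 := esymm_map_of_zero (R := MvPolynomial (Fin M) ℤ)
    (Finset.mapEmbedding (emb h)).toEmbedding
    ((univ : Finset (Fin N)).powersetCard i) ((univ : Finset (Fin M)).powersetCard i)
    (by
      intro S hS
      obtain ⟨S', hS', rfl⟩ := Finset.mem_map.mp hS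
      rw [Finset.mem_powersetCard] at hS' ⊢
      refine ⟨Finset.subset_univ _, ?_⟩
      rw [← hS'.2]
      exact Finset.card_map _)
    (fun S => rho1 N M (∏ a ∈ S, (X a : MvPolynomial (Fin N) ℤ)))
    (by
      intro S hS hS'
      rw [map_prod]
      by_contra hne
      apply hS'
      have hall : ∀ a ∈ S, (a : ℕ) < M := by
        intro a ha
        by_contra hlt
        apply hne
        refine Finset.prod_eq_zero ha ?_
        simp [rho1, hlt]
      refine Finset.mem_map.mpr ⟨univ.filter (fun b : Fin M => Fin.castLE h b ∈ S), ?_, ?_⟩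
      · have hmap : (univ.filter (fun b : Fin M => Fin.castLE h b ∈ S)).map (emb h) = S := by
          ext a
          simp only [Finset.mem_map, Finset.mem_filter, Finset.mem_univ, true_and, emb_apply]
          constructor
          · rintro ⟨b, hb, rfl⟩
            exact hb
          · intro ha
            exact ⟨⟨a, hall a ha⟩, by simpa using ha, by ext; simp⟩
        rw [Finset.mem_powersetCard] at hS ⊢
        refine ⟨Finset.subset_univ _, ?_⟩
        rw [← hS.2, ← hmap, Finset.card_map, hmap]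
      · ext a
        simp only [RelEmbedding.coe_toEmbedding, Finset.mapEmbedding_apply, Finset.mem_map,
          Finset.mem_filter, Finset.mem_univ, true_and, emb_apply]
        constructor
        · rintro ⟨b, hb, rfl⟩
          exact hb
        · intro ha
          exact ⟨⟨a, hall a ha⟩, by simpa using ha, by ext; simp⟩)
    j
  have h2 : (⇑(rho1 N M) ∘ fun s : Finset (Fin N) => ∏ a ∈ s, (X a : MvPolynomial (Fin N) ℤ)) =
      fun S => rho1 N M (∏ a ∈ S, (X a : MvPolynomial (Fin N) ℤ)) := rfl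
  rw [h2, h1]
  congr 2
  funext S'
  simp only [Function.comp_apply, RelEmbedding.coe_toEmbedding, Finset.mapEmbedding_apply,
    map_prod, Finset.prod_map, emb_apply, rho1_X_castLE]

/-- kill the variables of index `≥ M` in both families -/
noncomputable def rho2 (N M : ℕ) :
    MvPolynomial (Fin N ⊕ Fin N) ℤ →ₐ[ℤ] MvPolynomial (Fin M ⊕ Fin M) ℤ :=
  aeval (Sum.elim
    (fun a : Fin N => if h : (a : ℕ) < M then
      (X (Sum.inl ⟨a, h⟩) : MvPolynomial (Fin M ⊕ Fin M) ℤ) else 0)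
    (fun a : Fin N => if h : (a : ℕ) < M then
      (X (Sum.inr ⟨a, h⟩) : MvPolynomial (Fin M ⊕ Fin M) ℤ) else 0))

theorem rho2_rename_inl (N M : ℕ) (q : MvPolynomial (Fin N) ℤ) :
    rho2 N M (rename Sum.inl q) = rename Sum.inl (rho1 N M q) := by
  have h : (rho2 N M).comp (rename Sum.inl) = (rename Sum.inl).comp (rho1 N M) := by
    apply MvPolynomial.algHom_ext
    intro a
    by_cases ha : (a : ℕ) < M <;> simp [rho2, rho1, ha]
  exact AlgHom.congr_fun h q

theorem rho2_rename_inr (N M : ℕ) (q : MvPolynomial (Fin N) ℤ) :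
    rho2 N M (rename Sum.inr q) = rename Sum.inr (rho1 N M q) := by
  have h : (rho2 N M).comp (rename Sum.inr) = (rename Sum.inr).comp (rho1 N M) := by
    apply MvPolynomial.algHom_ext
    intro a
    by_cases ha : (a : ℕ) < M <;> simp [rho2, rho1, ha]
  exact AlgHom.congr_fun h q

theorem rho2_mulGen {N M : ℕ} (h : M ≤ N) (k : ℕ) : rho2 N M (mulGen N k) = mulGen M k := by
  rw [mulGen, mulGen, map_multiset_esymm, Multiset.map_map]
  have h1 := esymm_map_of_zero (R := MvPolynomial (Fin M ⊕ Fin M) ℤ)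
    ((emb h).prodMap (emb h)) univ univ (subset_univ _)
    (fun ab : Fin N × Fin N => rho2 N M
      (X (Sum.inl ab.1) * X (Sum.inr ab.2) : MvPolynomial (Fin N ⊕ Fin N) ℤ))
    (by
      intro ab _ hab
      have : ¬ ((ab.1 : ℕ) < M ∧ (ab.2 : ℕ) < M) := by
        rintro ⟨h1, h2⟩
        apply hab
        refine Finset.mem_map.mpr ⟨(⟨ab.1, h1⟩, ⟨ab.2, h2⟩), Finset.mem_univ _, ?_⟩
        ext <;> simp [emb_apply]
      rw [map_mul]
      by_cases h1 : (ab.1 : ℕ) < M
      · have h2 : ¬ (ab.2 : ℕ) < M := fun h2 => this ⟨h1, h2⟩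
        simp [rho2, h2]
      · simp [rho2, h1])
    k
  have h2 : (⇑(rho2 N M) ∘ fun ab : Fin N × Fin N =>
      (X (Sum.inl ab.1) * X (Sum.inr ab.2) : MvPolynomial (Fin N ⊕ Fin N) ℤ)) =
      fun ab : Fin N × Fin N => rho2 N M
        (X (Sum.inl ab.1) * X (Sum.inr ab.2) : MvPolynomial (Fin N ⊕ Fin N) ℤ) := rfl
  rw [h2, h1]
  congr 2
  funext ab
  simp [rho2, emb_apply]

section Trunc

theorem trunc_lemma {σm σN τm τN M : Type*} [AddCommMonoid M] [DecidableEq M]
    (ι : σm → σN) (hι : Function.Injective ι)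
    (gN : σN → MvPolynomial τN ℤ) (gm : σm → MvPolynomial τm ℤ)
    (hinj : Function.Injective (aeval gm : MvPolynomial σm ℤ →ₐ[ℤ] MvPolynomial τm ℤ))
    (ρ : MvPolynomial τN ℤ →ₐ[ℤ] MvPolynomial τm ℤ)
    (H1 : ∀ s : σm, ρ (gN (ι s)) = gm s)
    (w : σN → M) (w' : τN → M) (hg : ∀ s, IsWeightedHomogeneous w' (gN s) (w s)) (μ : M)
    (H2 : ∀ d : σN →₀ ℕ, Finsupp.weight w d = μ → ∀ s ∈ d.support, s ∈ Set.range ι)
    (GN : MvPolynomial τN ℤ) (hGN : IsWeightedHomogeneous w' GN μ)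
    (H3 : ∃ p : MvPolynomial σN ℤ, aeval gN p = GN)
    (Gm : MvPolynomial τm ℤ) (H4 : ρ GN = Gm)
    (P : MvPolynomial σm ℤ) (hP : aeval gm P = Gm) :
    aeval gN (rename ι P) = GN := by
  obtain ⟨p, hp⟩ := H3
  obtain ⟨p', hp', hw⟩ := exists_isWeightedHomogeneous_of_aeval w w' gN hg μ p GN hGN hp
  have hvars : (p'.vars : Set σN) ⊆ Set.range ι := by
    intro s hs
    rw [Finset.mem_coe, mem_vars_iff_mem_support] at hs
    obtain ⟨d, hd, hsd⟩ := hs
    exact H2 d (hw (mem_support_iff.mp hd)) s hsd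
  obtain ⟨p'', rfl⟩ := exists_rename_eq_of_vars_subset_range p' ι hι hvars
  have h5 : aeval gm p'' = Gm := by
    rw [← H4, ← hp', aeval_rename]
    have h6 : ρ.comp (aeval (gN ∘ ι)) = aeval gm := by
      apply MvPolynomial.algHom_ext
      intro s
      simp [H1]
    exact (AlgHom.congr_fun h6 p'').symm
  have h7 : p'' = P := hinj (h5.trans hP.symm)
  rw [← h7, hp']

theorem trunc_weight1 {N μ : ℕ} (h : μ ≤ N) (d : Fin N →₀ ℕ)
    (hd : Finsupp.weight (fun k : Fin N => (k : ℕ) + 1) d = μ) (s : Fin N) (hs : s ∈ d.support) :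
    s ∈ Set.range (Fin.castLE h) := by
  have h1 : d s * ((s : ℕ) + 1) ≤ μ := by
    rw [← hd, Finsupp.weight_apply, Finsupp.sum]
    have := Finset.single_le_sum (f := fun k : Fin N => d k • ((k : ℕ) + 1))
      (fun _ _ => Nat.zero_le _) hs
    simpa using this
  have h2 : 1 ≤ d s := Nat.one_le_iff_ne_zero.mpr (Finsupp.mem_support_iff.mp hs)
  have h3 : (s : ℕ) < μ := by nlinarith
  exact ⟨⟨s, h3⟩, by ext; simp⟩

theorem trunc_weight2 {N m : ℕ} (h : m ≤ N) (d : Fin N ⊕ Fin N →₀ ℕ)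
    (hd : Finsupp.weight (Sum.elim (fun k : Fin N => (((k : ℕ) + 1, 0) : ℕ × ℕ))
      (fun k : Fin N => ((0, (k : ℕ) + 1) : ℕ × ℕ))) d = (m, m))
    (s : Fin N ⊕ Fin N) (hs : s ∈ d.support) :
    s ∈ Set.range (Sum.map (Fin.castLE h) (Fin.castLE h)) := by
  rw [Finsupp.weight_apply, Finsupp.sum] at hd
  have hd1 := congrArg Prod.fst hd
  have hd2 := congrArg Prod.snd hd
  rw [Prod.fst_sum] at hd1
  rw [Prod.snd_sum] at hd2
  have h2 : 1 ≤ d s := Nat.one_le_iff_ne_zero.mpr (Finsupp.mem_support_iff.mp hs)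
  rcases s with k | k
  · have h1 : d (Sum.inl k) * ((k : ℕ) + 1) ≤ m := by
      have := Finset.single_le_sum (f := fun v : Fin N ⊕ Fin N => (d v • (Sum.elim
        (fun k : Fin N => (((k : ℕ) + 1, 0) : ℕ × ℕ))
        (fun k : Fin N => ((0, (k : ℕ) + 1) : ℕ × ℕ)) v)).1) (fun _ _ => Nat.zero_le _) hs
      rw [hd1] at this
      simpa using this
    have h3 : (k : ℕ) < m := by nlinarith
    exact ⟨Sum.inl ⟨k, h3⟩, by simp [Fin.castLE]⟩
  · have h1 : d (Sum.inr k) * ((k : ℕ) + 1) ≤ m := by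
      have := Finset.single_le_sum (f := fun v : Fin N ⊕ Fin N => (d v • (Sum.elim
        (fun k : Fin N => (((k : ℕ) + 1, 0) : ℕ × ℕ))
        (fun k : Fin N => ((0, (k : ℕ) + 1) : ℕ × ℕ)) v)).2) (fun _ _ => Nat.zero_le _) hs
      rw [hd2] at this
      simpa using this
    have h3 : (k : ℕ) < m := by nlinarith
    exact ⟨Sum.inr ⟨k, h3⟩, by simp [Fin.castLE]⟩

end Trunc

/-- The universal polynomial `Q_{i,j}` computes `compGen N i j` for every `N ≥ i j`. -/
theorem ev1_of_isCompPoly {i j N : ℕ} (h : i * j ≤ N) (Q : MvPolynomial (Fin (i * j)) ℤ)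
    (hQ : IsCompPoly i j Q) : ev1 ℤ N N (rename (Fin.castLE h) Q) = compGen N i j := by
  refine trunc_lemma (Fin.castLE h) (Fin.castLE_injective h)
    (fun k : Fin N => esymm (Fin N) ℤ ((k : ℕ) + 1))
    (fun k : Fin (i * j) => esymm (Fin (i * j)) ℤ ((k : ℕ) + 1))
    (ev1_injective ℤ (le_refl (i * j))) (rho1 N (i * j))
    (fun s => by rw [rho1_esymm h]; simp)
    (fun k : Fin N => (k : ℕ) + 1) (fun _ : Fin N => (1 : ℕ))
    (fun k => esymm_isWeightedHomogeneous ℤ _ _) (i * j)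
    (fun d hd s hs => trunc_weight1 h d hd s hs)
    (compGen N i j) (compGen_isWeightedHomogeneous N i j) (exists_compGen N i j)
    (compGen (i * j) i j) (rho1_compGen h i j) Q hQ.1

/-- The universal polynomial `P_m` computes `mulGen N m` for every `N ≥ m`. -/
theorem ev2_of_isMulPoly {m N : ℕ} (h : m ≤ N) (P : MvPolynomial (Fin m ⊕ Fin m) ℤ)
    (hP : IsMulPoly m P) :
    ev2 ℤ N N (rename (Sum.map (Fin.castLE h) (Fin.castLE h)) P) = mulGen N m := by
  refine trunc_lemma (Sum.map (Fin.castLE h) (Fin.castLE h))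
    (Function.Injective.sumMap (Fin.castLE_injective h) (Fin.castLE_injective h))
    (Sum.elim (fun k : Fin N => rename Sum.inl (esymm (Fin N) ℤ ((k : ℕ) + 1)))
      (fun k : Fin N => rename Sum.inr (esymm (Fin N) ℤ ((k : ℕ) + 1))))
    (Sum.elim (fun k : Fin m => rename Sum.inl (esymm (Fin m) ℤ ((k : ℕ) + 1)))
      (fun k : Fin m => rename Sum.inr (esymm (Fin m) ℤ ((k : ℕ) + 1))))
    (ev2_injective ℤ (le_refl m)) (rho2 N m)
    (fun s => by
      rcases s with k | k
      · simp only [Sum.map_inl, Sum.elim_inl, rho2_rename_inl, rho1_esymm h]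
        simp
      · simp only [Sum.map_inr, Sum.elim_inr, rho2_rename_inr, rho1_esymm h]
        simp)
    (Sum.elim (fun k : Fin N => (((k : ℕ) + 1, 0) : ℕ × ℕ))
      (fun k : Fin N => ((0, (k : ℕ) + 1) : ℕ × ℕ))) (w2 N)
    (fun s => by
      rcases s with k | k
      · exact rename_inl_esymm_isWeightedHomogeneous ℤ N _
      · exact rename_inr_esymm_isWeightedHomogeneous ℤ N _) (m, m)
    (fun d hd s hs => trunc_weight2 h d hd s hs)
    (mulGen N m) (mulGen_isWeightedHomogeneous N m) (exists_mulGen N m)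
    (mulGen m m) (rho2_mulGen h m) P hP.1

end Groth.Agent.Helper1.SymmPoly
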