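import Groth.Agent.Helper1.LambdaSpecial
import Groth.Agent.Helper1.SymmTrunc

set_option autoImplicit false

open MvPolynomial Finset

/-! Adams operations of a special λ-ring are ring homomorphisms and compose multiplicatively. -/

namespace Groth.Agent.Helper1.LambdaSpecial

open LambdaRing Groth.Agent.Helper1.SymmPoly Groth.Agent.Helper1.Newton

universe u

variable {K : Type u} [CommRing K] [LambdaOps K]

theorem adamsOp_mul_of_isSpecial (hK : IsSpecial K)
    (hP : ∀ n : ℕ, ∃ P : MvPolynomial (Fin n ⊕ Fin n) ℤ, IsMulPoly n P)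
    (k : ℕ) (hk : 1 ≤ k) (x y : K) :
    adamsOp k (x * y) = adamsOp k x * adamsOp k y := by
  have hab : ∀ m ≤ k, LambdaOps.lam m (x * y) = Phi k x y (preM k m) := by
    intro m hm
    obtain ⟨P, hPm⟩ := hP m
    have h1 := ev2_of_isMulPoly hm P hPm
    have h2 : rename (Sum.map (Fin.castLE hm) (Fin.castLE hm)) P = preM k m :=
      ev2_injective ℤ (le_refl k) (by rw [h1, ev2_preM])
    have hfun : ((Sum.elim (fun j : Fin k => LambdaOps.lam ((j : ℕ) + 1) x)
        (fun j : Fin k => LambdaOps.lam ((j : ℕ) + 1) y)) ∘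
        Sum.map (Fin.castLE hm) (Fin.castLE hm)) =
        Sum.elim (fun j : Fin m => LambdaOps.lam ((j : ℕ) + 1) x)
          (fun j : Fin m => LambdaOps.lam ((j : ℕ) + 1) y) := by
      funext s
      rcases s with j | j <;> simp
    rw [← h2, hK.lam_mul m P hPm x y, Phi, aeval_rename, hfun]
  have h := newton_unique' (fun m => LambdaOps.lam m (x * y)) (fun m => Phi k x y (preM k m))
    (fun l => adamsOp l (x * y)) (fun l => Phi k x y (preW k l)) k (LambdaOps.lam_zero _)
    (fun m _ => newton_lam (x * y) m) (fun m _ => (newton_preM k m).map (Phi k x y)) hab k hk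
    le_rfl
  rw [h, preW, map_mul, Phi_rename_inl, Phi_rename_inr, ← adamsOp_eq_phi k x k hk le_rfl,
    ← adamsOp_eq_phi k y k hk le_rfl]

theorem adamsOp_one_of_isSpecial (hK : IsSpecial K) (k : ℕ) (hk : 1 ≤ k) :
    adamsOp k (1 : K) = 1 := by
  have hab : ∀ m ≤ k, LambdaOps.lam m (1 : K) = (fun m => if m ≤ 1 then (1 : K) else 0) m := by
    intro m _
    beta_reduce
    rcases m with _ | _ | m
    · simp [LambdaOps.lam_zero]
    · simp [LambdaOps.lam_one]
    · rw [if_neg (by omega)]
      exact hK.lam_one_eq_zero _ (by omega)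
  exact newton_unique' (fun m => LambdaOps.lam m (1 : K)) (fun m => if m ≤ 1 then (1 : K) else 0)
    (fun l => adamsOp l (1 : K)) (fun _ => 1) k (LambdaOps.lam_zero _)
    (fun m _ => newton_lam 1 m) (fun m _ => newton_b m) hab k hk le_rfl

theorem adamsOp_adamsOp_of_isSpecial (hK : IsSpecial K)
    (hP : ∀ n : ℕ, ∃ P : MvPolynomial (Fin n ⊕ Fin n) ℤ, IsMulPoly n P)
    (hQ : ∀ i j : ℕ, ∃ Q : MvPolynomial (Fin (i * j)) ℤ, IsCompPoly i j Q)
    (k k' : ℕ) (hk : 1 ≤ k) (hk' : 1 ≤ k') (x : K) :
    adamsOp k (adamsOp k' x) = adamsOp (k * k') x := by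
  have h3 : ∀ r ≤ k', ∀ m ≤ k,
      LambdaOps.lam m (LambdaOps.lam r x) = phi (k * k') x (preC (k * k') r m) := by
    intro r hr m hm
    obtain ⟨Q, hQrm⟩ := hQ r m
    have hle : r * m ≤ k * k' := by
      rw [mul_comm k k']
      exact Nat.mul_le_mul hr hm
    have h1 := ev1_of_isCompPoly hle Q hQrm
    have h2 : rename (Fin.castLE hle) Q = preC (k * k') r m :=
      ev1_injective ℤ (le_refl (k * k')) (by rw [h1, ev1_preC])
    rw [← h2, hK.lam_lam r m Q hQrm x, phi, aeval_rename]
    rfl
  have h4 : ∀ r ≤ k', adamsOp k (LambdaOps.lam r x) = phi (k * k') x (preEpow (k * k') k r) := by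
    intro r hr
    exact newton_unique' (fun m => LambdaOps.lam m (LambdaOps.lam r x))
      (fun m => phi (k * k') x (preC (k * k') r m)) (fun l => adamsOp l (LambdaOps.lam r x))
      (fun l => phi (k * k') x (preEpow (k * k') l r)) k (LambdaOps.lam_zero _)
      (fun m _ => newton_lam _ m) (fun m _ => (newton_preC (k * k') r m).map (phi (k * k') x))
      (h3 r hr) k hk le_rfl
  have h5 := newton_unique'
    (fun r => adamsHom k (adamsOp_one_of_isSpecial hK k hk)
      (fun a b => adamsOp_mul_of_isSpecial hK hP k hk a b) (LambdaOps.lam r x))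
    (fun r => phi (k * k') x (preEpow (k * k') k r))
    (fun l => adamsHom k (adamsOp_one_of_isSpecial hK k hk)
      (fun a b => adamsOp_mul_of_isSpecial hK hP k hk a b) (adamsOp l x))
    (fun l => phi (k * k') x (preP (k * k') (k * l))) k'
    (by simp only [LambdaOps.lam_zero, map_one])
    (fun m _ => (newton_lam x m).map _)
    (fun m _ => (newton_preEpow (k * k') k m).map (phi (k * k') x))
    (fun r hr => h4 r hr) k' hk' le_rfl
  rw [adamsHom_apply] at h5
  rw [h5, ← adamsOp_eq_phi (k * k') x (k * k') (Nat.mul_pos hk hk') le_rfl]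

end Groth.Agent.Helper1.LambdaSpecial
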