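import Mathlib
import Groth.Prelude.Def_LambdaSp

set_option autoImplicit false

/-! Auxiliary lemmas on λ-series, logarithmic derivatives and the ODE `F' = L F` over ℚ-algebras. -/

namespace Groth.Agent.Helper1.LambdaAux

open PowerSeries LambdaRing

universe u

section ODE

variable {K : Type u} [CommRing K] [Algebra ℚ K]

theorem natCast_succ_mul_inv (n : ℕ) :
    ((n : K) + 1) * algebraMap ℚ K (1 / ((n : ℚ) + 1)) = 1 := by
  have h : ((n : K) + 1) = algebraMap ℚ K ((n : ℚ) + 1) := by
    rw [map_add, map_natCast, map_one]
  rw [h, ← map_mul, mul_one_div_cancel (by positivity), map_one]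

/-- Uniqueness of solutions of `F' = L F` with given constant term over a ℚ-algebra. -/
theorem ode_unique {H1 H2 L : PowerSeries K}
    (h1 : d⁄dX K H1 = L * H1) (h2 : d⁄dX K H2 = L * H2)
    (hc : constantCoeff H1 = constantCoeff H2) : H1 = H2 := by
  ext n
  induction n using Nat.strong_induction_on with
  | _ n ih =>
    cases n with
    | zero =>
      rw [coeff_zero_eq_constantCoeff_apply, coeff_zero_eq_constantCoeff_apply, hc]
    | succ n =>
      have e1 := congrArg (coeff n) h1
      have e2 := congrArg (coeff n) h2
      rw [coeff_derivative, coeff_mul] at e1 e2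
      have e : coeff (n + 1) H1 * ((n : K) + 1) = coeff (n + 1) H2 * ((n : K) + 1) := by
        rw [e1, e2]
        refine Finset.sum_congr rfl fun p hp => ?_
        rw [ih p.2 (by have := Finset.HasAntidiagonal.mem_antidiagonal.mp hp; omega)]
      calc coeff (n + 1) H1
          = coeff (n + 1) H1 * (((n : K) + 1) * algebraMap ℚ K (1 / ((n : ℚ) + 1))) := by
            rw [natCast_succ_mul_inv, mul_one]
        _ = coeff (n + 1) H2 * (((n : K) + 1) * algebraMap ℚ K (1 / ((n : ℚ) + 1))) := by
            rw [← mul_assoc, e, mul_assoc]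
        _ = coeff (n + 1) H2 := by rw [natCast_succ_mul_inv, mul_one]

end ODE

section Lam

variable {K : Type u} [CommRing K] [LambdaOps K]

theorem constantCoeff_lamSeries (x : K) : constantCoeff (lamSeries x) = 1 := by
  rw [← coeff_zero_eq_constantCoeff_apply, lamSeries, coeff_mk, LambdaOps.lam_zero]

theorem coeff_lamSeries (n : ℕ) (x : K) : coeff n (lamSeries x) = LambdaOps.lam n x := by
  rw [lamSeries, coeff_mk]

theorem lamSeries_mul_inv (x : K) : lamSeries x * (lamSeries x).invOfUnit 1 = 1 :=
  mul_invOfUnit _ _ (by rw [constantCoeff_lamSeries, Units.val_one])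

theorem inv_mul_lamSeries (x : K) : (lamSeries x).invOfUnit 1 * lamSeries x = 1 :=
  invOfUnit_mul _ _ (by rw [constantCoeff_lamSeries, Units.val_one])

theorem deriv_lamSeries (x : K) :
    d⁄dX K (lamSeries x) = logDerivSeries x * lamSeries x := by
  rw [logDerivSeries, mul_assoc, inv_mul_lamSeries, mul_one]

theorem logDerivSeries_eq_of_deriv (x : K) (L : PowerSeries K)
    (h : d⁄dX K (lamSeries x) = L * lamSeries x) : logDerivSeries x = L := by
  rw [logDerivSeries, h, mul_assoc, lamSeries_mul_inv, mul_one]

theorem adamsOp_succ (k : ℕ) (x : K) :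
    adamsOp (k + 1) x = (-1) ^ k * coeff k (logDerivSeries x) := rfl

theorem coeff_logDerivSeries (k : ℕ) (x : K) :
    coeff k (logDerivSeries x) = (-1) ^ k * adamsOp (k + 1) x := by
  rw [adamsOp_succ, ← mul_assoc, ← mul_pow]
  simp

end Lam

theorem map_derivative {K K' : Type u} [CommRing K] [CommRing K'] (f : K →+* K')
    (s : PowerSeries K) :
    d⁄dX K' (PowerSeries.map f s) = PowerSeries.map f (d⁄dX K s) := by
  ext n
  rw [coeff_derivative, coeff_map, coeff_map, coeff_derivative, map_mul, map_add, map_natCast,
    map_one]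

theorem lambdaOps_ext {K : Type u} [CommRing K] (L L' : LambdaOps K)
    (h : ∀ n x, L.lam n x = L'.lam n x) : L = L' := by
  cases L with
  | mk l a b c =>
    cases L' with
    | mk l' a' b' c' =>
      have : l = l' := funext fun n => funext fun x => h n x
      subst this
      rfl

end Groth.Agent.Helper1.LambdaAux
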