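import Groth.Agent.Helper1.Newton

set_option autoImplicit false

open MvPolynomial Finset

/-! A pre-λ-ring in which positive integers are cancellable and whose Adams operations are unital,
multiplicative and compose multiplicatively is special. -/

namespace Groth.Agent.Helper1.LambdaSpecial

open LambdaRing Groth.Agent.Helper1.SymmPoly Groth.Agent.Helper1.Newton

/-! ### Preimages of symmetric polynomials -/

/-- a preimage under `ev1` of a symmetric polynomial -/
noncomputable def pre1 (N : ℕ) (p : MvPolynomial (Fin N) ℤ) (hp : p.IsSymmetric) :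
    MvPolynomial (Fin N) ℤ :=
  Classical.choose (ev1_surjective ℤ N p hp)

theorem ev1_pre1 (N : ℕ) (p : MvPolynomial (Fin N) ℤ) (hp : p.IsSymmetric) :
    ev1 ℤ N N (pre1 N p hp) = p :=
  Classical.choose_spec (ev1_surjective ℤ N p hp)

/-- a preimage under `ev2` of a bisymmetric polynomial -/
noncomputable def pre2 (N : ℕ) (g : MvPolynomial (Fin N ⊕ Fin N) ℤ) (hg : IsBisymm ℤ g) :
    MvPolynomial (Fin N ⊕ Fin N) ℤ :=
  Classical.choose (ev2_surjective ℤ N g hg)

theorem ev2_pre2 (N : ℕ) (g : MvPolynomial (Fin N ⊕ Fin N) ℤ) (hg : IsBisymm ℤ g) :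
    ev2 ℤ N N (pre2 N g hg) = g :=
  Classical.choose_spec (ev2_surjective ℤ N g hg)

noncomputable def preE (N m : ℕ) : MvPolynomial (Fin N) ℤ :=
  pre1 N (esymm (Fin N) ℤ m) (esymm_isSymmetric (Fin N) ℤ m)

noncomputable def preP (N k : ℕ) : MvPolynomial (Fin N) ℤ :=
  pre1 N (psum (Fin N) ℤ k) (psum_isSymmetric (Fin N) ℤ k)

theorem ev1_preE (N m : ℕ) : ev1 ℤ N N (preE N m) = esymm (Fin N) ℤ m := ev1_pre1 _ _ _

theorem ev1_preP (N k : ℕ) : ev1 ℤ N N (preP N k) = psum (Fin N) ℤ k := ev1_pre1 _ _ _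

theorem newton_pre (N m : ℕ) : NewtonRel (preE N) (preP N) m := by
  apply NewtonRel.of_map (ev1 ℤ N N) (ev1_injective ℤ le_rfl)
  have e1 : (fun k => (ev1 ℤ N N) (preE N k)) = fun k => esymm (Fin N) ℤ k := by
    funext k
    exact ev1_preE N k
  have e2 : (fun k => (ev1 ℤ N N) (preP N k)) = fun k => psum (Fin N) ℤ k := by
    funext k
    exact ev1_preP N k
  rw [e1, e2]
  exact newton_mv (Fin N) m

theorem preE_zero (N : ℕ) : preE N 0 = 1 := by
  apply ev1_injective ℤ (le_refl N)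
  rw [ev1_preE, esymm_zero, map_one]

theorem preE_succ (N : ℕ) (k : Fin N) : preE N ((k : ℕ) + 1) = X k := by
  apply ev1_injective ℤ (le_refl N)
  rw [ev1_preE, ev1_X]

/-- `e_m` of the `k`-th powers of the variables -/
noncomputable def epow (N k m : ℕ) : MvPolynomial (Fin N) ℤ :=
  ((Finset.univ : Finset (Fin N)).val.map fun a => (X a : MvPolynomial (Fin N) ℤ) ^ k).esymm m

theorem epow_symm (N k m : ℕ) : (epow N k m).IsSymmetric := by
  intro σ
  rw [epow, map_multiset_esymm, Multiset.map_map]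
  have h : ((rename σ : MvPolynomial (Fin N) ℤ →ₐ[ℤ] _) ∘
      fun a => (X a : MvPolynomial (Fin N) ℤ) ^ k) =
      (fun a => (X a : MvPolynomial (Fin N) ℤ) ^ k) ∘ σ := by
    funext a
    simp
  rw [h, ← Multiset.map_map, Multiset.map_univ_val_equiv]

noncomputable def preEpow (N k m : ℕ) : MvPolynomial (Fin N) ℤ :=
  pre1 N (epow N k m) (epow_symm N k m)

theorem ev1_preEpow (N k m : ℕ) : ev1 ℤ N N (preEpow N k m) = epow N k m := ev1_pre1 _ _ _

theorem multiset_esymm_zero {R : Type*} [CommSemiring R] (s : Multiset R) : s.esymm 0 = 1 := by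
  simp [Multiset.esymm]

theorem preEpow_zero (N k : ℕ) : preEpow N k 0 = 1 := by
  apply ev1_injective ℤ (le_refl N)
  rw [ev1_preEpow, epow, multiset_esymm_zero, map_one]

theorem newton_preEpow (N k m : ℕ) : NewtonRel (preEpow N k) (fun l => preP N (k * l)) m := by
  apply NewtonRel.of_map (ev1 ℤ N N) (ev1_injective ℤ le_rfl)
  have h := newton_fintype (fun a : Fin N => (X a : MvPolynomial (Fin N) ℤ) ^ k) m
  have e1 : (fun r => (ev1 ℤ N N) (preEpow N k r)) =
      fun r => ((Finset.univ : Finset (Fin N)).val.map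
        fun a => (X a : MvPolynomial (Fin N) ℤ) ^ k).esymm r := by
    funext r
    exact ev1_preEpow N k r
  have e2 : (fun l => (ev1 ℤ N N) (preP N (k * l))) =
      fun l => ∑ a : Fin N, ((X a : MvPolynomial (Fin N) ℤ) ^ k) ^ l := by
    funext l
    rw [ev1_preP, psum]
    simp [pow_mul]
  rw [e1, e2]
  exact h

noncomputable def preC (N i m : ℕ) : MvPolynomial (Fin N) ℤ :=
  pre1 N (compGen N i m) (compGen_symm N i m)

theorem ev1_preC (N i m : ℕ) : ev1 ℤ N N (preC N i m) = compGen N i m := ev1_pre1 _ _ _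

theorem preC_zero (N i : ℕ) : preC N i 0 = 1 := by
  apply ev1_injective ℤ (le_refl N)
  rw [ev1_preC, compGen, multiset_esymm_zero, map_one]

theorem newton_preC (N i m : ℕ) : NewtonRel (preC N i) (fun k => preEpow N k i) m := by
  apply NewtonRel.of_map (ev1 ℤ N N) (ev1_injective ℤ le_rfl)
  have h := newton_finset ((Finset.univ : Finset (Fin N)).powersetCard i)
    (fun s => ∏ a ∈ s, (X a : MvPolynomial (Fin N) ℤ)) m
  have e1 : (fun r => (ev1 ℤ N N) (preC N i r)) =
      fun r => (((Finset.univ : Finset (Fin N)).powersetCard i).val.map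
        fun s => ∏ a ∈ s, (X a : MvPolynomial (Fin N) ℤ)).esymm r := by
    funext r
    exact ev1_preC N i r
  have e2 : (fun k => (ev1 ℤ N N) (preEpow N k i)) =
      fun k => ∑ s ∈ (Finset.univ : Finset (Fin N)).powersetCard i,
        (∏ a ∈ s, (X a : MvPolynomial (Fin N) ℤ)) ^ k := by
    funext k
    rw [ev1_preEpow, epow, Finset.esymm_map_val]
    refine Finset.sum_congr rfl fun s _ => ?_
    rw [Finset.prod_pow]
  rw [e1, e2]
  exact h

noncomputable def preM (n m : ℕ) : MvPolynomial (Fin n ⊕ Fin n) ℤ :=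
  pre2 n (mulGen n m) (mulGen_bisymm n m)

theorem ev2_preM (n m : ℕ) : ev2 ℤ n n (preM n m) = mulGen n m := ev2_pre2 _ _ _

theorem preM_zero (n : ℕ) : preM n 0 = 1 := by
  apply ev2_injective ℤ (le_refl n)
  rw [ev2_preM, mulGen, multiset_esymm_zero, map_one]

noncomputable def preW (n k : ℕ) : MvPolynomial (Fin n ⊕ Fin n) ℤ :=
  rename Sum.inl (preP n k) * rename Sum.inr (preP n k)

theorem ev2_rename_inl (n N : ℕ) (q : MvPolynomial (Fin n) ℤ) :
    ev2 ℤ n N (rename Sum.inl q) = rename Sum.inl (ev1 ℤ n N q) := by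
  have h : (ev2 ℤ n N).comp (rename Sum.inl) = (rename Sum.inl).comp (ev1 ℤ n N) := by
    apply MvPolynomial.algHom_ext
    intro k
    simp [ev2, ev1]
  exact AlgHom.congr_fun h q

theorem ev2_rename_inr (n N : ℕ) (q : MvPolynomial (Fin n) ℤ) :
    ev2 ℤ n N (rename Sum.inr q) = rename Sum.inr (ev1 ℤ n N q) := by
  have h : (ev2 ℤ n N).comp (rename Sum.inr) = (rename Sum.inr).comp (ev1 ℤ n N) := by
    apply MvPolynomial.algHom_ext
    intro k
    simp [ev2, ev1]
  exact AlgHom.congr_fun h q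

theorem newton_preM (n m : ℕ) : NewtonRel (preM n) (preW n) m := by
  apply NewtonRel.of_map (ev2 ℤ n n) (ev2_injective ℤ le_rfl)
  have h := newton_fintype (fun ab : Fin n × Fin n =>
    (X (Sum.inl ab.1) * X (Sum.inr ab.2) : MvPolynomial (Fin n ⊕ Fin n) ℤ)) m
  have e1 : (fun r => (ev2 ℤ n n) (preM n r)) =
      fun r => ((Finset.univ : Finset (Fin n × Fin n)).val.map fun ab =>
        (X (Sum.inl ab.1) * X (Sum.inr ab.2) : MvPolynomial (Fin n ⊕ Fin n) ℤ)).esymm r := by
    funext r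
    exact ev2_preM n r
  have e2 : (fun k => (ev2 ℤ n n) (preW n k)) =
      fun k => ∑ ab : Fin n × Fin n,
        (X (Sum.inl ab.1) * X (Sum.inr ab.2) : MvPolynomial (Fin n ⊕ Fin n) ℤ) ^ k := by
    funext k
    rw [preW, map_mul, ev2_rename_inl, ev2_rename_inr, ev1_preP, psum, map_sum, map_sum,
      Fintype.sum_prod_type, Finset.sum_mul_sum]
    refine Finset.sum_congr rfl fun a _ => Finset.sum_congr rfl fun b _ => ?_
    simp [mul_pow]
  rw [e1, e2]
  exact h

/-! ### The λ-ring side -/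

universe u

variable {K : Type u} [CommRing K] [LambdaOps K]

/-- evaluation `X_k ↦ λ^(k+1) x` -/
noncomputable def phi (N : ℕ) (x : K) : MvPolynomial (Fin N) ℤ →ₐ[ℤ] K :=
  aeval (fun k : Fin N => LambdaOps.lam ((k : ℕ) + 1) x)

/-- evaluation `X_k ↦ λ^(k+1) x`, `Y_k ↦ λ^(k+1) y` -/
noncomputable def Phi (n : ℕ) (x y : K) : MvPolynomial (Fin n ⊕ Fin n) ℤ →ₐ[ℤ] K :=
  aeval (Sum.elim (fun k : Fin n => LambdaOps.lam ((k : ℕ) + 1) x)
    (fun k : Fin n => LambdaOps.lam ((k : ℕ) + 1) y))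

theorem Phi_rename_inl (n : ℕ) (x y : K) (q : MvPolynomial (Fin n) ℤ) :
    Phi n x y (rename Sum.inl q) = phi n x q := by
  rw [Phi, aeval_rename]
  rfl

theorem Phi_rename_inr (n : ℕ) (x y : K) (q : MvPolynomial (Fin n) ℤ) :
    Phi n x y (rename Sum.inr q) = phi n y q := by
  rw [Phi, aeval_rename]
  rfl

theorem phi_preE (N : ℕ) (x : K) (m : ℕ) (hm : m ≤ N) :
    phi N x (preE N m) = LambdaOps.lam m x := by
  cases m with
  | zero => rw [preE_zero, map_one, LambdaOps.lam_zero]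
  | succ m =>
    have h := preE_succ N ⟨m, by omega⟩
    simp only at h
    rw [h]
    simp [phi]

theorem adamsOp_eq_phi (N : ℕ) (x : K) (k : ℕ) (hk1 : 1 ≤ k) (hkN : k ≤ N) :
    adamsOp k x = phi N x (preP N k) :=
  newton_unique' (fun m => LambdaOps.lam m x) (fun m => phi N x (preE N m))
    (fun k => adamsOp k x) (fun k => phi N x (preP N k)) N (LambdaOps.lam_zero x)
    (fun m _ => newton_lam x m) (fun m _ => (newton_pre N m).map (phi N x))
    (fun m hm => (phi_preE N x m hm).symm) k hk1 hkN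

variable (hK : ∀ (m : ℕ) (x y : K), ((m : K) + 1) * x = ((m : K) + 1) * y → x = y)

include hK

theorem adams_lam_eq_phi (N : ℕ) (x : K) (k : ℕ) (hk : 1 ≤ k) (ψk : K →+* K)
    (hψ : ∀ y, ψk y = adamsOp k y)
    (hcomp : ∀ l, 1 ≤ l → adamsOp k (adamsOp l x) = adamsOp (k * l) x) (M : ℕ)
    (hM : k * M ≤ N) (m : ℕ) (hm : m ≤ M) :
    adamsOp k (LambdaOps.lam m x) = phi N x (preEpow N k m) := by
  have key := newton_unique hK (fun m => ψk (LambdaOps.lam m x))
    (fun m => phi N x (preEpow N k m)) (fun l => ψk (adamsOp l x))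
    (fun l => phi N x (preP N (k * l))) M
    (by simp only [LambdaOps.lam_zero, preEpow_zero, map_one])
    (fun m _ => (newton_lam x m).map ψk)
    (fun m _ => (newton_preEpow N k m).map (phi N x))
    (fun l hl1 hlM => by
      rw [hψ, hcomp l hl1]
      exact adamsOp_eq_phi N x (k * l) (Nat.mul_pos hk hl1)
        ((Nat.mul_le_mul_left k hlM).trans hM))
  rw [← hψ]
  exact key m hm

theorem lam_lam_of_adams
    (h1 : ∀ k : ℕ, 1 ≤ k → adamsOp k (1 : K) = 1)
    (hmul : ∀ k : ℕ, 1 ≤ k → ∀ x y : K, adamsOp k (x * y) = adamsOp k x * adamsOp k y)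
    (hcomp : ∀ k k' : ℕ, 1 ≤ k → 1 ≤ k' → ∀ x : K,
      adamsOp k (adamsOp k' x) = adamsOp (k * k') x)
    (i j : ℕ) (Q : MvPolynomial (Fin (i * j)) ℤ) (hQ : IsCompPoly i j Q) (x : K) :
    LambdaOps.lam j (LambdaOps.lam i x) =
      aeval (fun k : Fin (i * j) => LambdaOps.lam ((k : ℕ) + 1) x) Q := by
  have hQ' : preC (i * j) i j = Q :=
    ev1_injective ℤ (le_refl (i * j)) (by rw [ev1_preC]; exact hQ.1.symm)
  have key := newton_unique hK (fun m => LambdaOps.lam m (LambdaOps.lam i x))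
    (fun m => phi (i * j) x (preC (i * j) i m)) (fun k => adamsOp k (LambdaOps.lam i x))
    (fun k => phi (i * j) x (preEpow (i * j) k i)) j
    (by simp only [LambdaOps.lam_zero, preC_zero, map_one])
    (fun m _ => newton_lam (LambdaOps.lam i x) m)
    (fun m _ => (newton_preC (i * j) i m).map (phi (i * j) x))
    (fun k hk1 hkj => adams_lam_eq_phi hK (i * j) x k hk1
      (adamsHom k (h1 k hk1) (hmul k hk1)) (fun y => rfl)
      (fun l hl => hcomp k l hk1 hl x) i
      (by rw [mul_comm i j]; exact Nat.mul_le_mul_right i hkj) i le_rfl)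
  have h := key j le_rfl
  rw [hQ'] at h
  exact h

theorem lam_mul_of_adams
    (hmul : ∀ k : ℕ, 1 ≤ k → ∀ x y : K, adamsOp k (x * y) = adamsOp k x * adamsOp k y)
    (n : ℕ) (P : MvPolynomial (Fin n ⊕ Fin n) ℤ) (hP : IsMulPoly n P) (x y : K) :
    LambdaOps.lam n (x * y) =
      aeval (Sum.elim (fun k : Fin n => LambdaOps.lam ((k : ℕ) + 1) x)
        (fun k : Fin n => LambdaOps.lam ((k : ℕ) + 1) y)) P := by
  have hP' : preM n n = P :=
    ev2_injective ℤ (le_refl n) (by rw [ev2_preM]; exact hP.1.symm)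
  have key := newton_unique hK (fun m => LambdaOps.lam m (x * y))
    (fun m => Phi n x y (preM n m)) (fun k => adamsOp k (x * y))
    (fun k => Phi n x y (preW n k)) n
    (by simp only [LambdaOps.lam_zero, preM_zero, map_one])
    (fun m _ => newton_lam (x * y) m)
    (fun m _ => (newton_preM n m).map (Phi n x y))
    (fun k hk1 hkn => by
      rw [hmul k hk1, preW, map_mul, Phi_rename_inl, Phi_rename_inr,
        ← adamsOp_eq_phi n x k hk1 hkn, ← adamsOp_eq_phi n y k hk1 hkn])
  have h := key n le_rfl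
  rw [hP'] at h
  exact h

omit hK in
theorem newton_b (m : ℕ) :
    NewtonRel (fun m => if m ≤ 1 then (1 : K) else 0) (fun _ => 1) m := by
  unfold NewtonRel
  cases m with
  | zero => simp
  | succ m =>
    beta_reduce
    rw [if_neg (by omega), mul_zero, Finset.sum_range_succ, Finset.sum_range_succ,
      Finset.sum_eq_zero, zero_add]
    · have h1 : m + 1 - m = 1 := by omega
      have h2 : m + 1 - (m + 1) = 0 := by omega
      rw [h1, h2, if_pos le_rfl, if_pos (by omega), pow_succ]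
      ring
    · intro i hi
      rw [Finset.mem_range] at hi
      rw [if_neg (by omega), mul_zero]

theorem lam_one_of_adams (h1 : ∀ k : ℕ, 1 ≤ k → adamsOp k (1 : K) = 1) (n : ℕ) (hn : 2 ≤ n) :
    LambdaOps.lam n (1 : K) = 0 := by
  have key := newton_unique hK (fun m => LambdaOps.lam m (1 : K))
    (fun m => if m ≤ 1 then (1 : K) else 0) (fun k => adamsOp k (1 : K)) (fun _ => 1) n
    (by simp [LambdaOps.lam_zero]) (fun m _ => newton_lam 1 m) (fun m _ => newton_b m)
    (fun k hk _ => h1 k hk)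
  have h := key n le_rfl
  simpa [show ¬ n ≤ 1 by omega] using h

theorem isSpecial_of_adams
    (h1 : ∀ k : ℕ, 1 ≤ k → adamsOp k (1 : K) = 1)
    (hmul : ∀ k : ℕ, 1 ≤ k → ∀ x y : K, adamsOp k (x * y) = adamsOp k x * adamsOp k y)
    (hcomp : ∀ k k' : ℕ, 1 ≤ k → 1 ≤ k' → ∀ x : K,
      adamsOp k (adamsOp k' x) = adamsOp (k * k') x) : IsSpecial K :=
  ⟨fun n hn => lam_one_of_adams hK h1 n hn,
    fun n P hP x y => lam_mul_of_adams hK hmul n P hP x y,
    fun i j Q hQ x => lam_lam_of_adams hK h1 hmul hcomp i j Q hQ x⟩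

end Groth.Agent.Helper1.LambdaSpecial
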