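import Groth.Agent.Helper1.Lie3Free

set_option autoImplicit false

open MvPolynomial

namespace Groth.Agent.Helper1.Lie3Free

open Groth.Agent.Helper1.Lie3Mat

variable (A : Type*) [CommRing A]

local notation "Y0" => (C (X 0 : MvPolynomial (Fin 6) A) : MvPolynomial (Fin 3) (MvPolynomial (Fin 6) A))
local notation "Y1" => (C (X 1 : MvPolynomial (Fin 6) A) : MvPolynomial (Fin 3) (MvPolynomial (Fin 6) A))
local notation "Y2" => (C (X 2 : MvPolynomial (Fin 6) A) : MvPolynomial (Fin 3) (MvPolynomial (Fin 6) A))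
local notation "Y3" => (C (X 3 : MvPolynomial (Fin 6) A) : MvPolynomial (Fin 3) (MvPolynomial (Fin 6) A))
local notation "Y4" => (C (X 4 : MvPolynomial (Fin 6) A) : MvPolynomial (Fin 3) (MvPolynomial (Fin 6) A))
local notation "Y5" => (C (X 5 : MvPolynomial (Fin 6) A) : MvPolynomial (Fin 3) (MvPolynomial (Fin 6) A))
local notation "xb" => (X 0 : MvPolynomial (Fin 3) (MvPolynomial (Fin 6) A))
local notation "xc" => (X 1 : MvPolynomial (Fin 3) (MvPolynomial (Fin 6) A))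
local notation "xe" => (X 2 : MvPolynomial (Fin 3) (MvPolynomial (Fin 6) A))

/-- the coordinate change -/
noncomputable def theta : MvPolynomial (Fin 9) A →ₐ[A] DD A :=
  aeval (![Y0 - xe + xc, xb, xc, Y1 + xc, xe, Y2 - xb, Y3 - xb, Y4, Y5 + xc] : Fin 9 → DD A)

theorem theta_Q1 : theta A (Lie3Mod.Q1 A) = xc ^ 2 + Y5 * xc - Y4 * xe + Y4 * xc + Y2 * xb - Y2 * Y3 + Y1 * xc + Y1 * Y5 + Y0 * Y4 := by
  simp [theta, Lie3Mod.Q1, Lie3Mod.va, Lie3Mod.vb, Lie3Mod.vc, Lie3Mod.vd, Lie3Mod.ve, Lie3Mod.vf, Lie3Mod.vg, Lie3Mod.vh, Lie3Mod.vi]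
  ring

theorem theta_Q2 : theta A (Lie3Mod.Q2 A) = xe ^ 2 + xb * xc + Y5 * xe + Y4 * xb - Y2 * Y4 + Y1 * xb - Y0 * xe := by
  simp [theta, Lie3Mod.Q2, Lie3Mod.va, Lie3Mod.vb, Lie3Mod.vc, Lie3Mod.vd, Lie3Mod.ve, Lie3Mod.vf, Lie3Mod.vg, Lie3Mod.vh, Lie3Mod.vi]
  ring

theorem theta_Q3 : theta A (Lie3Mod.Q3 A) = xc ^ 2 - xb * xe - Y5 * xb + Y4 * xc + Y2 * xe - Y2 * xc + Y1 * xc + Y0 * xb - Y0 * Y2 := by
  simp [theta, Lie3Mod.Q3, Lie3Mod.va, Lie3Mod.vb, Lie3Mod.vc, Lie3Mod.vd, Lie3Mod.ve, Lie3Mod.vf, Lie3Mod.vg, Lie3Mod.vh, Lie3Mod.vi]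
  ring

theorem theta_detM : theta A (Lie3Mod.detM A) = xc ^ 2 * xe + xb * xc * xe + xb ^ 3 + 2 * Y5 * xc * xe + Y5 ^ 2 * xe + 2 * Y4 * xb * xc + 2 * Y4 * Y5 * xb - Y4 ^ 2 * xc - Y3 * xc * xe - Y3 * xb ^ 2 - Y2 * xb ^ 2 - Y2 * Y4 * xc - Y2 * Y4 * Y5 + Y2 * Y3 * xb := by
  simp [theta, Lie3Mod.detM, Lie3Mod.va, Lie3Mod.vb, Lie3Mod.vc, Lie3Mod.vd, Lie3Mod.ve, Lie3Mod.vf, Lie3Mod.vg, Lie3Mod.vh, Lie3Mod.vi]
  ring

noncomputable def G1 : DD A := theta A (Lie3Mod.Q1 A)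
noncomputable def G2 : DD A := theta A (Lie3Mod.Q2 A)
noncomputable def G3 : DD A := theta A (Lie3Mod.Q3 A)
noncomputable def G4 : DD A := theta A (Lie3Mod.detM A)

theorem TT_0_0 : TT A 0 0 = 0 := by
  simp [TT, Mat, Mb, Mc, Me, mm, Fin.sum_univ_succ, map_ofNat] <;> ring

theorem TT_0_1 : TT A 0 1 = 0 := by
  simp [TT, Mat, Mb, Mc, Me, mm, Fin.sum_univ_succ, map_ofNat] <;> ring

theorem TT_0_2 : TT A 0 2 = 0 := by
  simp [TT, Mat, Mb, Mc, Me, mm, Fin.sum_univ_succ, map_ofNat] <;> ring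

theorem TT_0_3 : TT A 0 3 = (1) * G1 A + (0) * G2 A + (-1) * G3 A + (0) * G4 A := by
  simp [TT, Mat, Mb, Mc, Me, mm, Fin.sum_univ_succ, G1, G2, G3, G4, theta_Q1, theta_Q2, theta_Q3, theta_detM, map_ofNat] <;> ring

theorem TT_0_4 : TT A 0 4 = (-xe - xc + Y5 + 2 * Y2) * G1 A + (-Y4) * G2 A + (xc - Y2) * G3 A + (1) * G4 A := by
  simp [TT, Mat, Mb, Mc, Me, mm, Fin.sum_univ_succ, G1, G2, G3, G4, theta_Q1, theta_Q2, theta_Q3, theta_detM, map_ofNat] <;> ring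

theorem TT_0_5 : TT A 0 5 = (-xe + Y2) * G1 A + (xb - Y4 - Y2) * G2 A + (xe - Y2) * G3 A + (0) * G4 A := by
  simp [TT, Mat, Mb, Mc, Me, mm, Fin.sum_univ_succ, G1, G2, G3, G4, theta_Q1, theta_Q2, theta_Q3, theta_detM, map_ofNat] <;> ring

theorem TT_0_6 : TT A 0 6 = (xc - Y5 - Y2) * G1 A + (0) * G2 A + (-xc) * G3 A + (0) * G4 A := by
  simp [TT, Mat, Mb, Mc, Me, mm, Fin.sum_univ_succ, G1, G2, G3, G4, theta_Q1, theta_Q2, theta_Q3, theta_detM, map_ofNat] <;> ring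

theorem TT_1_0 : TT A 1 0 = 0 := by
  simp [TT, Mat, Mb, Mc, Me, mm, Fin.sum_univ_succ, map_ofNat] <;> ring

theorem TT_1_1 : TT A 1 1 = 0 := by
  simp [TT, Mat, Mb, Mc, Me, mm, Fin.sum_univ_succ, map_ofNat] <;> ring

theorem TT_1_2 : TT A 1 2 = (1) * G1 A + (0) * G2 A + (0) * G3 A + (0) * G4 A := by
  simp [TT, Mat, Mb, Mc, Me, mm, Fin.sum_univ_succ, G1, G2, G3, G4, theta_Q1, theta_Q2, theta_Q3, theta_detM, map_ofNat] <;> ring

theorem TT_1_3 : TT A 1 3 = 0 := by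
  simp [TT, Mat, Mb, Mc, Me, mm, Fin.sum_univ_succ, map_ofNat] <;> ring

theorem TT_1_4 : TT A 1 4 = (-xe + Y2) * G1 A + (xb - Y4 - Y2) * G2 A + (xe - Y2) * G3 A + (0) * G4 A := by
  simp [TT, Mat, Mb, Mc, Me, mm, Fin.sum_univ_succ, G1, G2, G3, G4, theta_Q1, theta_Q2, theta_Q3, theta_detM, map_ofNat] <;> ring

theorem TT_1_5 : TT A 1 5 = (xb + Y4) * G1 A + (0) * G2 A + (-Y4) * G3 A + (0) * G4 A := by
  simp [TT, Mat, Mb, Mc, Me, mm, Fin.sum_univ_succ, G1, G2, G3, G4, theta_Q1, theta_Q2, theta_Q3, theta_detM, map_ofNat] <;> ring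

theorem TT_1_6 : TT A 1 6 = (xe - Y2) * G1 A + (Y4) * G2 A + (Y2) * G3 A + (0) * G4 A := by
  simp [TT, Mat, Mb, Mc, Me, mm, Fin.sum_univ_succ, G1, G2, G3, G4, theta_Q1, theta_Q2, theta_Q3, theta_detM, map_ofNat] <;> ring

theorem TT_2_0 : TT A 2 0 = 0 := by
  simp [TT, Mat, Mb, Mc, Me, mm, Fin.sum_univ_succ, map_ofNat] <;> ring

theorem TT_2_1 : TT A 2 1 = (1) * G1 A + (0) * G2 A + (-1) * G3 A + (0) * G4 A := by
  simp [TT, Mat, Mb, Mc, Me, mm, Fin.sum_univ_succ, G1, G2, G3, G4, theta_Q1, theta_Q2, theta_Q3, theta_detM, map_ofNat] <;> ring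

theorem TT_2_2 : TT A 2 2 = 0 := by
  simp [TT, Mat, Mb, Mc, Me, mm, Fin.sum_univ_succ, map_ofNat] <;> ring

theorem TT_2_3 : TT A 2 3 = (0) * G1 A + (1) * G2 A + (0) * G3 A + (0) * G4 A := by
  simp [TT, Mat, Mb, Mc, Me, mm, Fin.sum_univ_succ, G1, G2, G3, G4, theta_Q1, theta_Q2, theta_Q3, theta_detM, map_ofNat] <;> ring

theorem TT_2_4 : TT A 2 4 = (xb + Y4 + Y2) * G1 A + (0) * G2 A + (-xb - Y4 - Y2) * G3 A + (0) * G4 A := by
  simp [TT, Mat, Mb, Mc, Me, mm, Fin.sum_univ_succ, G1, G2, G3, G4, theta_Q1, theta_Q2, theta_Q3, theta_detM, map_ofNat] <;> ring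

theorem TT_2_5 : TT A 2 5 = (xc - Y5 - Y2) * G1 A + (0) * G2 A + (-xc) * G3 A + (0) * G4 A := by
  simp [TT, Mat, Mb, Mc, Me, mm, Fin.sum_univ_succ, G1, G2, G3, G4, theta_Q1, theta_Q2, theta_Q3, theta_detM, map_ofNat] <;> ring

theorem TT_2_6 : TT A 2 6 = (-xb - Y4) * G1 A + (xc) * G2 A + (Y4) * G3 A + (0) * G4 A := by
  simp [TT, Mat, Mb, Mc, Me, mm, Fin.sum_univ_succ, G1, G2, G3, G4, theta_Q1, theta_Q2, theta_Q3, theta_detM, map_ofNat] <;> ring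

theorem G1_eq : G1 A = (1) * TT A 1 2 := by
  simp [TT, Mat, Mb, Mc, Me, mm, Fin.sum_univ_succ, G1, G2, G3, G4, theta_Q1, theta_Q2, theta_Q3, theta_detM, map_ofNat] <;> ring

theorem G2_eq : G2 A = (1) * TT A 2 3 := by
  simp [TT, Mat, Mb, Mc, Me, mm, Fin.sum_univ_succ, G1, G2, G3, G4, theta_Q1, theta_Q2, theta_Q3, theta_detM, map_ofNat] <;> ring

theorem G3_eq : G3 A = (1) * TT A 1 2 + (-1) * TT A 0 3 := by
  simp [TT, Mat, Mb, Mc, Me, mm, Fin.sum_univ_succ, G1, G2, G3, G4, theta_Q1, theta_Q2, theta_Q3, theta_detM, map_ofNat] <;> ring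

theorem G4_eq : G4 A = (1) * TT A 0 4 + (xe - Y5 - Y2) * TT A 1 2 + (xc - Y2) * TT A 0 3 + (Y4) * TT A 2 3 := by
  simp [TT, Mat, Mb, Mc, Me, mm, Fin.sum_univ_succ, G1, G2, G3, G4, theta_Q1, theta_Q2, theta_Q3, theta_detM, map_ofNat] <;> ring

theorem TT_mem (v : Fin 3) (k : Fin 7) :
    TT A v k ∈ Ideal.span ({G1 A, G2 A, G3 A, G4 A} : Set (DD A)) := by
  have h1 : G1 A ∈ Ideal.span ({G1 A, G2 A, G3 A, G4 A} : Set (DD A)) :=
    Ideal.subset_span (by simp)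
  have h2 : G2 A ∈ Ideal.span ({G1 A, G2 A, G3 A, G4 A} : Set (DD A)) :=
    Ideal.subset_span (by simp)
  have h3 : G3 A ∈ Ideal.span ({G1 A, G2 A, G3 A, G4 A} : Set (DD A)) :=
    Ideal.subset_span (by simp)
  have h4 : G4 A ∈ Ideal.span ({G1 A, G2 A, G3 A, G4 A} : Set (DD A)) :=
    Ideal.subset_span (by simp)
  have hmem : ∀ c1 c2 c3 c4 : DD A, c1 * G1 A + c2 * G2 A + c3 * G3 A + c4 * G4 A ∈
      Ideal.span ({G1 A, G2 A, G3 A, G4 A} : Set (DD A)) := fun c1 c2 c3 c4 =>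
    add_mem (add_mem (add_mem (Ideal.mul_mem_left _ _ h1) (Ideal.mul_mem_left _ _ h2))
      (Ideal.mul_mem_left _ _ h3)) (Ideal.mul_mem_left _ _ h4)
  fin_cases v <;> fin_cases k
  · show TT A 0 0 ∈ _; rw [TT_0_0]; exact zero_mem _
  · show TT A 0 1 ∈ _; rw [TT_0_1]; exact zero_mem _
  · show TT A 0 2 ∈ _; rw [TT_0_2]; exact zero_mem _
  · show TT A 0 3 ∈ _; rw [TT_0_3]; exact hmem _ _ _ _
  · show TT A 0 4 ∈ _; rw [TT_0_4]; exact hmem _ _ _ _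
  · show TT A 0 5 ∈ _; rw [TT_0_5]; exact hmem _ _ _ _
  · show TT A 0 6 ∈ _; rw [TT_0_6]; exact hmem _ _ _ _
  · show TT A 1 0 ∈ _; rw [TT_1_0]; exact zero_mem _
  · show TT A 1 1 ∈ _; rw [TT_1_1]; exact zero_mem _
  · show TT A 1 2 ∈ _; rw [TT_1_2]; exact hmem _ _ _ _
  · show TT A 1 3 ∈ _; rw [TT_1_3]; exact zero_mem _
  · show TT A 1 4 ∈ _; rw [TT_1_4]; exact hmem _ _ _ _
  · show TT A 1 5 ∈ _; rw [TT_1_5]; exact hmem _ _ _ _
  · show TT A 1 6 ∈ _; rw [TT_1_6]; exact hmem _ _ _ _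
  · show TT A 2 0 ∈ _; rw [TT_2_0]; exact zero_mem _
  · show TT A 2 1 ∈ _; rw [TT_2_1]; exact hmem _ _ _ _
  · show TT A 2 2 ∈ _; rw [TT_2_2]; exact zero_mem _
  · show TT A 2 3 ∈ _; rw [TT_2_3]; exact hmem _ _ _ _
  · show TT A 2 4 ∈ _; rw [TT_2_4]; exact hmem _ _ _ _
  · show TT A 2 5 ∈ _; rw [TT_2_5]; exact hmem _ _ _ _
  · show TT A 2 6 ∈ _; rw [TT_2_6]; exact hmem _ _ _ _

theorem map_idJ : Ideal.map (theta A) (Lie3Mod.idJ A) =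
    Ideal.span ({G1 A, G2 A, G3 A, G4 A} : Set (DD A)) := by
  rw [Lie3Mod.idJ, Ideal.map_span]
  simp only [Set.image_insert_eq, Set.image_singleton]
  rfl

theorem TI_le_map : TI A ≤ Ideal.map (theta A) (Lie3Mod.idJ A) := by
  rw [map_idJ, TI, Ideal.span_le]
  rintro _ ⟨⟨v, k⟩, rfl⟩
  exact TT_mem A v k

theorem map_le_TI : Ideal.map (theta A) (Lie3Mod.idJ A) ≤ TI A := by
  rw [map_idJ, Ideal.span_le]
  have hT : ∀ v k, TT A v k ∈ TI A := fun v k => Ideal.subset_span ⟨(v, k), rfl⟩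
  intro z hz
  simp only [Set.mem_insert_iff, Set.mem_singleton_iff] at hz
  rcases hz with rfl | rfl | rfl | rfl
  · rw [G1_eq]
    exact Ideal.mul_mem_left _ _ (hT _ _)
  · rw [G2_eq]
    exact Ideal.mul_mem_left _ _ (hT _ _)
  · rw [G3_eq]
    exact add_mem (Ideal.mul_mem_left _ _ (hT _ _)) (Ideal.mul_mem_left _ _ (hT _ _))
  · rw [G4_eq]
    exact add_mem (add_mem (add_mem (Ideal.mul_mem_left _ _ (hT _ _))
      (Ideal.mul_mem_left _ _ (hT _ _))) (Ideal.mul_mem_left _ _ (hT _ _)))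
      (Ideal.mul_mem_left _ _ (hT _ _))

noncomputable def sigma : BB A →+* MvPolynomial (Fin 9) A :=
  ((aeval (![X 0 + X 4 - X 2, X 3 - X 2, X 5 + X 1, X 6 + X 1, X 7, X 8 - X 2] :
    Fin 6 → MvPolynomial (Fin 9) A) : BB A →ₐ[A] MvPolynomial (Fin 9) A) : BB A →+* _)

noncomputable def thetaInv : DD A →+* MvPolynomial (Fin 9) A :=
  eval₂Hom (sigma A) (![X 1, X 2, X 4] : Fin 3 → MvPolynomial (Fin 9) A)

theorem thetaInv_theta (x : MvPolynomial (Fin 9) A) : thetaInv A (theta A x) = x := by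
  have h : (thetaInv A).comp (theta A : MvPolynomial (Fin 9) A →+* DD A) = RingHom.id _ := by
    apply MvPolynomial.ringHom_ext
    · intro r
      simp [theta, thetaInv, sigma]
    · intro j
      fin_cases j <;> simp [theta, thetaInv, sigma] <;> ring
  exact RingHom.congr_fun h x

theorem mem_idJ_of_epsHom_eq_zero (x : MvPolynomial (Fin 9) A)
    (h : epsHom A (theta A x) = 0) : x ∈ Lie3Mod.idJ A := by
  have h1 := sub_RR_mem A (theta A x)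
  rw [h, RR_zero, sub_zero] at h1
  have h2 : theta A x ∈ Ideal.map (theta A) (Lie3Mod.idJ A) := TI_le_map A h1
  have h3 : Ideal.map (theta A) (Lie3Mod.idJ A) ≤ Ideal.comap (thetaInv A) (Lie3Mod.idJ A) := by
    rw [Ideal.map_le_iff_le_comap]
    intro z hz
    rw [Ideal.mem_comap, Ideal.mem_comap, thetaInv_theta]
    exact hz
  have h4 := h3 h2
  rwa [Ideal.mem_comap, thetaInv_theta] at h4

theorem epsHom_eq_zero_of_mem (x : MvPolynomial (Fin 9) A) (hx : x ∈ Lie3Mod.idJ A) :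
    epsHom A (theta A x) = 0 :=
  epsHom_eq_zero_of_mem_TI A (map_le_TI A (Ideal.mem_map_of_mem _ hx))

theorem theta_L2 : theta A (Lie3Mod.vb + Lie3Mod.vf) = Y2 := by
  simp [theta, Lie3Mod.vb, Lie3Mod.vf]

theorem mem_idJ_of_L2_mul_mem [IsDomain A] (x : MvPolynomial (Fin 9) A)
    (h : (Lie3Mod.vb + Lie3Mod.vf) * x ∈ Lie3Mod.idJ A) : x ∈ Lie3Mod.idJ A := by
  apply mem_idJ_of_epsHom_eq_zero
  have h1 := epsHom_eq_zero_of_mem A _ h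
  rw [map_mul, theta_L2, epsHom_C_mul] at h1
  funext l
  have h2 := congrFun h1 l
  simp only [Pi.smul_apply, smul_eq_mul, Pi.zero_apply, mul_eq_zero] at h2
  rcases h2 with h2 | h2
  · exact absurd h2 (X_ne_zero 2)
  · exact h2

theorem mem_idJ_of_zsmul_mem (n : ℤ) (hn : n ≠ 0) (x : MvPolynomial (Fin 9) ℤ)
    (h : n • x ∈ Lie3Mod.idJ ℤ) : x ∈ Lie3Mod.idJ ℤ := by
  apply mem_idJ_of_epsHom_eq_zero
  have h1 := epsHom_eq_zero_of_mem ℤ _ h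
  rw [map_zsmul, map_zsmul] at h1
  funext l
  have h2 := congrFun h1 l
  simp only [Pi.smul_apply, Pi.zero_apply, smul_eq_zero] at h2
  exact h2.resolve_left hn

end Groth.Agent.Helper1.Lie3Free
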