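import Groth.Agent.Helper1.Lie3Cert

set_option autoImplicit false

open MvPolynomial

namespace Groth.Agent.Helper1.Lie3Chart

open Lie3Mod

variable (A : Type*) [CommRing A]

/-- the three linear forms -/
theorem L1_def : L1 A = X 0 - X 8 := rfl
theorem L2_def : L2 A = X 1 + X 5 := rfl
theorem L3_def : L3 A = X 3 + X 7 := rfl

theorem mem_idI (c1 c2 c3 : D A) : c1 * Q1 A + c2 * Q2 A + c3 * Q3 A ∈ idI A := by
  have h1 : Q1 A ∈ idI A := Ideal.subset_span (by simp)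
  have h2 : Q2 A ∈ idI A := Ideal.subset_span (by simp)
  have h3 : Q3 A ∈ idI A := Ideal.subset_span (by simp)
  exact add_mem (add_mem (Ideal.mul_mem_left _ _ h1) (Ideal.mul_mem_left _ _ h2))
    (Ideal.mul_mem_left _ _ h3)

theorem idI_le_idJ : idI A ≤ idJ A := by
  apply Ideal.span_mono
  intro x hx
  simp only [Set.mem_insert_iff, Set.mem_singleton_iff] at hx ⊢
  tauto

theorem detM_mem_idJ : detM A ∈ idJ A := Ideal.subset_span (by simp)

theorem L1_mul_detM : L1 A * detM A = (-vc * vh + vb * vi) * Q1 A + (-vi ^ 2 + vc * vg) * Q2 A +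
    (vh * vi - vb * vg) * Q3 A := by
  simp only [L1, detM, Q1, Q2, Q3]
  ring

theorem L2_mul_detM : L2 A * detM A = (vc * ve - vb * vf) * Q1 A + (vf * vi + vc * vh) * Q2 A +
    (-ve * vi - vb * vh) * Q3 A := by
  simp only [L2, detM, Q1, Q2, Q3]
  ring

theorem L3_mul_detM : L3 A * detM A = (-vf * vh + ve * vi) * Q1 A + (vh * vi + vf * vg) * Q2 A +
    (-vh ^ 2 - ve * vg) * Q3 A := by
  simp only [L3, detM, Q1, Q2, Q3]
  ring

theorem L1_mul_detM_mem : L1 A * detM A ∈ idI A := by rw [L1_mul_detM]; exact mem_idI A _ _ _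
theorem L2_mul_detM_mem : L2 A * detM A ∈ idI A := by rw [L2_mul_detM]; exact mem_idI A _ _ _
theorem L3_mul_detM_mem : L3 A * detM A ∈ idI A := by rw [L3_mul_detM]; exact mem_idI A _ _ _

/-- chart polynomial ring, variables `L1, L2, L3, b, c, e` -/
abbrev P2 := MvPolynomial (Fin 6) A

/-- the section of the chart -/
noncomputable def sig : P2 A →+* D A :=
  eval₂Hom (C : A →+* D A)
    (![X 0 - X 8, X 1 + X 5, X 3 + X 7, X 1, X 2, X 4] : Fin 6 → D A)

noncomputable def ri : P2 A := X 4 * X 2 - (X 1 - X 3) * X 0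
noncomputable def rh : P2 A := X 3 * X 2 - X 5 * X 0

theorem var_cert (j : Fin 9) : ∃ (N : ℕ) (r : P2 A), L2 A ^ N * X j - sig A r ∈ idI A := by
  fin_cases j
  · refine ⟨1, X 1 * X 0 + ri A, ?_⟩
    have h : L2 A ^ 1 * X 0 - sig A (X 1 * X 0 + ri A) = 0 * Q1 A + 0 * Q2 A + (-1) * Q3 A := by
      simp [sig, ri, L2, Q1, Q2, Q3]
      ring
    show L2 A ^ 1 * X 0 - sig A (X 1 * X 0 + ri A) ∈ idI A
    rw [h]; exact mem_idI A _ _ _
  · refine ⟨0, X 3, ?_⟩
    have h : L2 A ^ 0 * X 1 - sig A (X 3) = 0 := by simp [sig]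
    show L2 A ^ 0 * X 1 - sig A (X 3) ∈ idI A
    rw [h]; exact zero_mem _
  · refine ⟨0, X 4, ?_⟩
    have h : L2 A ^ 0 * X 2 - sig A (X 4) = 0 := by simp [sig]
    show L2 A ^ 0 * X 2 - sig A (X 4) ∈ idI A
    rw [h]; exact zero_mem _
  · refine ⟨1, X 1 * X 2 - rh A, ?_⟩
    have h : L2 A ^ 1 * X 3 - sig A (X 1 * X 2 - rh A) = 0 * Q1 A + 1 * Q2 A + 0 * Q3 A := by
      simp [sig, rh, L2, Q1, Q2, Q3]
      ring
    show L2 A ^ 1 * X 3 - sig A (X 1 * X 2 - rh A) ∈ idI A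
    rw [h]; exact mem_idI A _ _ _
  · refine ⟨0, X 5, ?_⟩
    have h : L2 A ^ 0 * X 4 - sig A (X 5) = 0 := by simp [sig]
    show L2 A ^ 0 * X 4 - sig A (X 5) ∈ idI A
    rw [h]; exact zero_mem _
  · refine ⟨0, X 1 - X 3, ?_⟩
    have h : L2 A ^ 0 * X 5 - sig A (X 1 - X 3) = 0 := by simp [sig]
    show L2 A ^ 0 * X 5 - sig A (X 1 - X 3) ∈ idI A
    rw [h]; exact zero_mem _
  · refine ⟨2, rh A * X 0 + ri A * X 2, ?_⟩
    have h : L2 A ^ 2 * X 6 - sig A (rh A * X 0 + ri A * X 2) =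
        (-(L2 A)) * Q1 A + (-(L1 A)) * Q2 A + (-(L3 A)) * Q3 A := by
      simp [sig, rh, ri, L1, L2, L3, Q1, Q2, Q3]
      ring
    show L2 A ^ 2 * X 6 - sig A (rh A * X 0 + ri A * X 2) ∈ idI A
    rw [h]; exact mem_idI A _ _ _
  · refine ⟨1, rh A, ?_⟩
    have h : L2 A ^ 1 * X 7 - sig A (rh A) = 0 * Q1 A + (-1) * Q2 A + 0 * Q3 A := by
      simp [sig, rh, L2, Q1, Q2, Q3]
      ring
    show L2 A ^ 1 * X 7 - sig A (rh A) ∈ idI A
    rw [h]; exact mem_idI A _ _ _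
  · refine ⟨1, ri A, ?_⟩
    have h : L2 A ^ 1 * X 8 - sig A (ri A) = 0 * Q1 A + 0 * Q2 A + (-1) * Q3 A := by
      simp [sig, ri, L2, Q1, Q2, Q3]
      ring
    show L2 A ^ 1 * X 8 - sig A (ri A) ∈ idI A
    rw [h]; exact mem_idI A _ _ _

theorem sig_X1 : sig A (X 1) = L2 A := by simp [sig, L2]

theorem exists_pow_mul_sub_mem (x : D A) :
    ∃ (N : ℕ) (r : P2 A), L2 A ^ N * x - sig A r ∈ idI A := by
  induction x using MvPolynomial.induction_on with
  | C c =>
    refine ⟨0, C c, ?_⟩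
    have h : L2 A ^ 0 * (C c : D A) - sig A (C c) = 0 := by simp [sig]
    rw [h]; exact zero_mem _
  | add p q hp hq =>
    obtain ⟨N1, r1, h1⟩ := hp
    obtain ⟨N2, r2, h2⟩ := hq
    refine ⟨N1 + N2, X 1 ^ N2 * r1 + X 1 ^ N1 * r2, ?_⟩
    have h : L2 A ^ (N1 + N2) * (p + q) - sig A (X 1 ^ N2 * r1 + X 1 ^ N1 * r2) =
        L2 A ^ N2 * (L2 A ^ N1 * p - sig A r1) + L2 A ^ N1 * (L2 A ^ N2 * q - sig A r2) := by
      rw [map_add, map_mul, map_mul, map_pow, map_pow, sig_X1]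
      ring
    rw [h]
    exact add_mem (Ideal.mul_mem_left _ _ h1) (Ideal.mul_mem_left _ _ h2)
  | mul_X p j hp =>
    obtain ⟨N, r, h1⟩ := hp
    obtain ⟨Nj, rj, hj⟩ := var_cert A j
    refine ⟨N + Nj, r * rj, ?_⟩
    have h : L2 A ^ (N + Nj) * (p * X j) - sig A (r * rj) =
        (L2 A ^ Nj * X j) * (L2 A ^ N * p - sig A r) + sig A r * (L2 A ^ Nj * X j - sig A rj) := by
      rw [map_mul]
      ring
    rw [h]
    exact add_mem (Ideal.mul_mem_left _ _ h1) (Ideal.mul_mem_left _ _ hj)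

section domain

variable [IsDomain A]

/-- the fraction field of the chart ring -/
abbrev K2 := FractionRing (MvPolynomial (Fin 6) A)

noncomputable def Z (k : Fin 6) : K2 A := algebraMap (P2 A) (K2 A) (X k)

theorem Z1_ne_zero : Z A 1 ≠ 0 := by
  unfold Z
  rw [Ne, IsFractionRing.to_map_eq_zero_iff]
  exact X_ne_zero 1

noncomputable def Ii : K2 A := (Z A 4 * Z A 2 - (Z A 1 - Z A 3) * Z A 0) / Z A 1
noncomputable def Hh : K2 A := (Z A 3 * Z A 2 - Z A 5 * Z A 0) / Z A 1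
noncomputable def Gg : K2 A := (Hh A * Z A 0 + Ii A * Z A 2) / Z A 1

/-- the chart map -/
noncomputable def psi : D A →+* K2 A :=
  eval₂Hom ((algebraMap (P2 A) (K2 A)).comp (C : A →+* P2 A))
    (![Z A 0 + Ii A, Z A 3, Z A 4, Z A 2 - Hh A, Z A 5, Z A 1 - Z A 3, Gg A, Hh A, Ii A] :
      Fin 9 → K2 A)

theorem psi_sig (r : P2 A) : psi A (sig A r) = algebraMap (P2 A) (K2 A) r := by
  have h : (psi A).comp (sig A) = algebraMap (P2 A) (K2 A) := by
    apply MvPolynomial.ringHom_ext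
    · intro c
      simp [psi, sig]
    · intro k
      fin_cases k <;> simp [psi, sig, Z]
  exact RingHom.congr_fun h r

theorem psi_Q1 : psi A (Q1 A) = 0 := by
  have hz := Z1_ne_zero A
  simp only [Q1, va, vb, vd, vf, vg, vh, vi, psi, map_add, map_sub, map_mul, eval₂Hom_X']
  simp [Gg, Hh, Ii]
  field_simp
  ring

theorem psi_Q2 : psi A (Q2 A) = 0 := by
  have hz := Z1_ne_zero A
  simp only [Q2, va, vb, vd, ve, vf, vh, vi, psi, map_add, map_sub, map_mul, eval₂Hom_X']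
  simp [Gg, Hh, Ii]
  field_simp
  ring

theorem psi_Q3 : psi A (Q3 A) = 0 := by
  have hz := Z1_ne_zero A
  simp only [Q3, va, vb, vc, vd, vf, vh, vi, psi, map_add, map_sub, map_mul, eval₂Hom_X']
  simp [Gg, Hh, Ii]
  field_simp
  ring

theorem psi_L2 : psi A (L2 A) = Z A 1 := by
  simp [L2, psi]

theorem psi_idI {x : D A} (hx : x ∈ idI A) : psi A x = 0 := by
  have h : idI A ≤ RingHom.ker (psi A) := by
    rw [idI, Ideal.span_le]
    intro y hy
    simp only [Set.mem_insert_iff, Set.mem_singleton_iff] at hy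
    rcases hy with rfl | rfl | rfl
    · exact psi_Q1 A
    · exact psi_Q2 A
    · exact psi_Q3 A
  exact h hx

theorem psi_detM : psi A (detM A) = 0 := by
  have h := psi_idI A (L2_mul_detM_mem A)
  rw [map_mul, psi_L2, mul_eq_zero] at h
  exact h.resolve_left (Z1_ne_zero A)

theorem psi_idJ {x : D A} (hx : x ∈ idJ A) : psi A x = 0 := by
  have h : idJ A ≤ RingHom.ker (psi A) := by
    rw [idJ, Ideal.span_le]
    intro y hy
    simp only [Set.mem_insert_iff, Set.mem_singleton_iff] at hy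
    rcases hy with rfl | rfl | rfl | rfl
    · exact psi_Q1 A
    · exact psi_Q2 A
    · exact psi_Q3 A
    · exact psi_detM A
  exact h hx

theorem mem_idJ_of_pow_mul_mem (N : ℕ) (x : D A) (h : L2 A ^ N * x ∈ idJ A) : x ∈ idJ A := by
  induction N with
  | zero => simpa using h
  | succ n ih =>
    apply ih
    apply Groth.Agent.Helper1.Lie3Free.mem_idJ_of_L2_mul_mem A
    have : (vb + vf) * (L2 A ^ n * x) = L2 A ^ (n + 1) * x := by
      rw [pow_succ]
      show L2 A * (L2 A ^ n * x) = L2 A ^ n * L2 A * x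
      ring
    rw [this]
    exact h

theorem mem_idJ_of_psi_eq_zero (x : D A) (h : psi A x = 0) : x ∈ idJ A := by
  obtain ⟨N, r, hr⟩ := exists_pow_mul_sub_mem A x
  have h1 := psi_idI A hr
  rw [map_sub, map_mul, map_pow, h, mul_zero, zero_sub, neg_eq_zero, psi_sig] at h1
  have h2 : r = 0 := (IsFractionRing.to_map_eq_zero_iff (K := K2 A)).mp h1
  rw [h2, map_zero, sub_zero] at hr
  exact mem_idJ_of_pow_mul_mem A N x (idI_le_idJ A hr)

theorem idJ_isPrime : (idJ A).IsPrime := by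
  rw [Ideal.isPrime_iff]
  constructor
  · intro h
    have h1 : (1 : D A) ∈ idJ A := by rw [h]; trivial
    have h2 := psi_idJ A h1
    rw [map_one] at h2
    exact one_ne_zero h2
  · intro x y hxy
    have h0 := psi_idJ A hxy
    rw [map_mul, mul_eq_zero] at h0
    rcases h0 with h0 | h0
    · exact Or.inl (mem_idJ_of_psi_eq_zero A x h0)
    · exact Or.inr (mem_idJ_of_psi_eq_zero A y h0)

end domain

end Groth.Agent.Helper1.Lie3Chart
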