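import Mathlib

set_option autoImplicit false

open MvPolynomial

namespace Groth.Agent.Helper1.Lie3Mat

section generic

variable {B : Type*} [CommRing B] {n : Type*} [Fintype n] [DecidableEq n]

/-- monoid hom from exponent vectors to matrices, for three commuting matrices -/
noncomputable def mu3 (M0 M1 M2 : Matrix n n B) (h01 : Commute M0 M1) (h02 : Commute M0 M2)
    (h12 : Commute M1 M2) : Multiplicative (Fin 3 →₀ ℕ) →* Matrix n n B where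
  toFun m := M0 ^ (Multiplicative.toAdd m 0) * M1 ^ (Multiplicative.toAdd m 1) *
    M2 ^ (Multiplicative.toAdd m 2)
  map_one' := by simp
  map_mul' x y := by
    simp only [toAdd_mul, Finsupp.add_apply, pow_add]
    have c01 := (h01.pow_pow (Multiplicative.toAdd y 0) (Multiplicative.toAdd x 1))
    have c02 := (h02.pow_pow (Multiplicative.toAdd y 0) (Multiplicative.toAdd x 2))
    have c12 := (h12.pow_pow (Multiplicative.toAdd y 1) (Multiplicative.toAdd x 2))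
    calc M0 ^ (Multiplicative.toAdd x 0) * M0 ^ (Multiplicative.toAdd y 0) *
          (M1 ^ (Multiplicative.toAdd x 1) * M1 ^ (Multiplicative.toAdd y 1)) *
          (M2 ^ (Multiplicative.toAdd x 2) * M2 ^ (Multiplicative.toAdd y 2))
        = M0 ^ (Multiplicative.toAdd x 0) * (M0 ^ (Multiplicative.toAdd y 0) *
          M1 ^ (Multiplicative.toAdd x 1)) * (M1 ^ (Multiplicative.toAdd y 1) *
          M2 ^ (Multiplicative.toAdd x 2)) * M2 ^ (Multiplicative.toAdd y 2) := by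
          simp only [mul_assoc]
      _ = M0 ^ (Multiplicative.toAdd x 0) * (M1 ^ (Multiplicative.toAdd x 1) *
          M0 ^ (Multiplicative.toAdd y 0)) * (M2 ^ (Multiplicative.toAdd x 2) *
          M1 ^ (Multiplicative.toAdd y 1)) * M2 ^ (Multiplicative.toAdd y 2) := by
          rw [c01.eq, c12.eq]
      _ = M0 ^ (Multiplicative.toAdd x 0) * M1 ^ (Multiplicative.toAdd x 1) *
          (M0 ^ (Multiplicative.toAdd y 0) * M2 ^ (Multiplicative.toAdd x 2)) *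
          M1 ^ (Multiplicative.toAdd y 1) * M2 ^ (Multiplicative.toAdd y 2) := by
          simp only [mul_assoc]
      _ = M0 ^ (Multiplicative.toAdd x 0) * M1 ^ (Multiplicative.toAdd x 1) *
          (M2 ^ (Multiplicative.toAdd x 2) * M0 ^ (Multiplicative.toAdd y 0)) *
          M1 ^ (Multiplicative.toAdd y 1) * M2 ^ (Multiplicative.toAdd y 2) := by
          rw [c02.eq]
      _ = _ := by simp only [mul_assoc]

/-- the algebra hom from a polynomial ring in three variables to matrices, sending the variables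
to three commuting matrices -/
noncomputable def rho3 (M0 M1 M2 : Matrix n n B) (h01 : Commute M0 M1) (h02 : Commute M0 M2)
    (h12 : Commute M1 M2) : MvPolynomial (Fin 3) B →ₐ[B] Matrix n n B :=
  AddMonoidAlgebra.lift B (Matrix n n B) (Fin 3 →₀ ℕ) (mu3 M0 M1 M2 h01 h02 h12)

theorem rho3_X0 (M0 M1 M2 : Matrix n n B) (h01 : Commute M0 M1) (h02 : Commute M0 M2)
    (h12 : Commute M1 M2) : rho3 M0 M1 M2 h01 h02 h12 (X 0) = M0 := by
  have : (X 0 : MvPolynomial (Fin 3) B) = AddMonoidAlgebra.single (Finsupp.single 0 1) 1 := rfl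
  rw [rho3, this, AddMonoidAlgebra.lift_single]
  simp [mu3]

theorem rho3_X1 (M0 M1 M2 : Matrix n n B) (h01 : Commute M0 M1) (h02 : Commute M0 M2)
    (h12 : Commute M1 M2) : rho3 M0 M1 M2 h01 h02 h12 (X 1) = M1 := by
  have : (X 1 : MvPolynomial (Fin 3) B) = AddMonoidAlgebra.single (Finsupp.single 1 1) 1 := rfl
  rw [rho3, this, AddMonoidAlgebra.lift_single]
  simp [mu3]

theorem rho3_X2 (M0 M1 M2 : Matrix n n B) (h01 : Commute M0 M1) (h02 : Commute M0 M2)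
    (h12 : Commute M1 M2) : rho3 M0 M1 M2 h01 h02 h12 (X 2) = M2 := by
  have : (X 2 : MvPolynomial (Fin 3) B) = AddMonoidAlgebra.single (Finsupp.single 2 1) 1 := rfl
  rw [rho3, this, AddMonoidAlgebra.lift_single]
  simp [mu3]

theorem rho3_C (M0 M1 M2 : Matrix n n B) (h01 : Commute M0 M1) (h02 : Commute M0 M2)
    (h12 : Commute M1 M2) (β : B) : rho3 M0 M1 M2 h01 h02 h12 (C β) = β • (1 : Matrix n n B) := by
  rw [← MvPolynomial.algebraMap_eq, AlgHom.commutes, Algebra.algebraMap_eq_smul_one]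

end generic

variable (A : Type*) [CommRing A]

local notation "y0" => (X 0 : MvPolynomial (Fin 6) A)
local notation "y1" => (X 1 : MvPolynomial (Fin 6) A)
local notation "y2" => (X 2 : MvPolynomial (Fin 6) A)
local notation "y3" => (X 3 : MvPolynomial (Fin 6) A)
local notation "y4" => (X 4 : MvPolynomial (Fin 6) A)
local notation "y5" => (X 5 : MvPolynomial (Fin 6) A)

noncomputable def Mb : Matrix (Fin 7) (Fin 7) (MvPolynomial (Fin 6) A) :=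
  Matrix.of ![(![0, 0, 0, y2 * y3 - y1 * y5 - y0 * y4 - y0 * y2, y2 * y4 * y5 - y2 * y4 ^ 2 + y2 * y3 * y5 + 2 * y2 ^ 2 * y3 - y1 * y5 ^ 2 - 2 * y1 * y2 * y5 - y0 * y4 * y5 - 2 * y0 * y2 * y4 - y0 * y2 ^ 2, -y2 * y4 ^ 2 - y2 ^ 2 * y4 + y2 ^ 2 * y3 - y1 * y2 * y5 - y0 * y2 * y4 - y0 * y2 ^ 2, -y2 * y3 * y5 - y2 ^ 2 * y3 + y1 * y5 ^ 2 + y1 * y2 * y5 + y0 * y4 * y5 + y0 * y2 * y4] : Fin 7 → MvPolynomial (Fin 6) A),
    (![1, 0, 0, -y5 - y2 + y0, -2 * y4 * y5 + y4 ^ 2 - 2 * y2 * y5 - y2 * y3 - 2 * y2 ^ 2 + y1 * y4 + y0 * y2, y4 ^ 2 - y2 * y5 + 2 * y2 * y4 - y2 ^ 2 + y1 * y4 + y1 * y2 + y0 * y2, y2 * y5 + y2 ^ 2] : Fin 7 → MvPolynomial (Fin 6) A),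
    (![0, 0, 0, -y5 - y2, -y5 ^ 2 - y4 * y5 + y4 ^ 2 - 2 * y2 * y5 - y2 * y3 - y2 ^ 2 - y1 * y2 + y0 * y4 + y0 * y2, -y2 * y5 - y2 ^ 2, y5 ^ 2 + y4 * y5 + y2 * y5 + y2 * y4 + y2 * y3 + y1 * y2 - y0 * y4 - y0 * y2] : Fin 7 → MvPolynomial (Fin 6) A),
    (![0, 0, 0, y4 + y2, -y5 ^ 2 + 2 * y4 * y5 + 2 * y2 * y4 - y2 * y3 + y2 ^ 2 + y1 * y5, y4 * y5 + y2 * y5 + y2 * y4 - y2 * y3 + y2 ^ 2 + y1 * y5, -y4 * y5 - y2 * y4] : Fin 7 → MvPolynomial (Fin 6) A),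
    (![0, 1, 0, 0, y3 + y2, -y4 - y1, 0] : Fin 7 → MvPolynomial (Fin 6) A),
    (![0, 0, 1, 0, y5 - y4 + y2 - y0, y4 + y2, -y5 - y2 + y0] : Fin 7 → MvPolynomial (Fin 6) A),
    (![0, 0, 0, 0, -y5 + y3 - y2 + y1, y5 + y2, y4 + y2] : Fin 7 → MvPolynomial (Fin 6) A)]

noncomputable def Mc : Matrix (Fin 7) (Fin 7) (MvPolynomial (Fin 6) A) :=
  Matrix.of ![(![0, 0, y2 * y3 - y1 * y5 - y0 * y4, 0, -y2 * y4 ^ 2 - y2 ^ 2 * y4 + y2 ^ 2 * y3 - y1 * y2 * y5 - y0 * y2 * y4 - y0 * y2 ^ 2, y2 * y3 * y4 - y1 * y4 * y5 - y0 * y4 ^ 2 - y0 * y2 * y4, y2 * y4 ^ 2 - y2 ^ 2 * y3 + y1 * y2 * y5 + y0 * y2 * y4 + y0 * y2 ^ 2] : Fin 7 → MvPolynomial (Fin 6) A),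
    (![0, 0, -y2, 0, y4 ^ 2 - y2 * y5 + 2 * y2 * y4 - y2 ^ 2 + y1 * y4 + y1 * y2 + y0 * y2, -y4 * y5 - y2 * y4 + y2 * y3 - y1 * y5, -y4 ^ 2 + y2 * y5 + y2 ^ 2 - y1 * y4 - y0 * y2] : Fin 7 → MvPolynomial (Fin 6) A),
    (![1, 0, -y5 - y4 - y1, 0, -y2 * y5 - y2 ^ 2, -y4 * y5 - y2 * y4, y2 * y5 + y2 ^ 2] : Fin 7 → MvPolynomial (Fin 6) A),
    (![0, 0, y4, 0, y4 * y5 + y2 * y5 + y2 * y4 - y2 * y3 + y2 ^ 2 + y1 * y5, y4 ^ 2 + y2 * y4, -y4 * y5 - y2 * y4 + y2 * y3 - y2 ^ 2 - y1 * y5] : Fin 7 → MvPolynomial (Fin 6) A),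
    (![0, 0, 0, 0, -y4 - y1, -y2, 0] : Fin 7 → MvPolynomial (Fin 6) A),
    (![0, 1, 0, 0, y4 + y2, -y5 - y4 - y1, -y4] : Fin 7 → MvPolynomial (Fin 6) A),
    (![0, 0, 0, 1, y5 + y2, 0, -y5 - y4 - y1] : Fin 7 → MvPolynomial (Fin 6) A)]

noncomputable def Me : Matrix (Fin 7) (Fin 7) (MvPolynomial (Fin 6) A) :=
  Matrix.of ![(![0, y2 * y3 - y1 * y5 - y0 * y4 - y0 * y2, 0, y2 * y4, y2 * y3 * y4 + y2 ^ 2 * y3 - y1 * y4 * y5 - y1 * y2 * y5 - y0 * y4 ^ 2 - 2 * y0 * y2 * y4 - y0 * y2 ^ 2, -y2 * y3 * y5 - y2 ^ 2 * y3 + y1 * y5 ^ 2 + y1 * y2 * y5 + y0 * y4 * y5 + y0 * y2 * y4, -y2 * y3 * y4 + y1 * y4 * y5 + y0 * y4 ^ 2 + y0 * y2 * y4] : Fin 7 → MvPolynomial (Fin 6) A),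
    (![0, -y5 - y2 + y0, 0, -y4 - y1, -y4 * y5 - y2 * y5 - y2 * y4 + y2 * y3 - y2 ^ 2 - y1 * y5, y2 * y5 + y2 ^ 2, y4 * y5 + y2 * y4 - y2 * y3 + y1 * y5] : Fin 7 → MvPolynomial (Fin 6) A),
    (![0, -y5 - y2, 0, 0, -y4 * y5 - y2 * y5 - y2 * y4 - y2 ^ 2, y5 ^ 2 + y4 * y5 + y2 * y5 + y2 * y4 + y2 * y3 + y1 * y2 - y0 * y4 - y0 * y2, y4 * y5 + 2 * y2 * y4] : Fin 7 → MvPolynomial (Fin 6) A),
    (![1, y4 + y2, 0, -y5 + y0, y4 ^ 2 + 2 * y2 * y4 + y2 ^ 2, -y4 * y5 - y2 * y4, -y4 ^ 2 - y2 * y4] : Fin 7 → MvPolynomial (Fin 6) A),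
    (![0, 0, 0, 0, -y5 - y2 + y0, 0, y2] : Fin 7 → MvPolynomial (Fin 6) A),
    (![0, 0, 0, -1, -y5 - y2, -y5 - y2 + y0, y5] : Fin 7 → MvPolynomial (Fin 6) A),
    (![0, 0, 1, 0, 0, y4 + y2, -y5 + y0] : Fin 7 → MvPolynomial (Fin 6) A)]


set_option maxHeartbeats 4000000 in
theorem comm_bc : Commute (Mb A) (Mc A) := by
  show Mb A * Mc A = Mc A * Mb A
  apply Matrix.ext; intro i j
  fin_cases i <;> fin_cases j <;>
    simp [Mb, Mc, Matrix.mul_apply, Fin.sum_univ_succ] <;>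
    ring

set_option maxHeartbeats 4000000 in
theorem comm_be : Commute (Mb A) (Me A) := by
  show Mb A * Me A = Me A * Mb A
  apply Matrix.ext; intro i j
  fin_cases i <;> fin_cases j <;>
    simp [Mb, Me, Matrix.mul_apply, Fin.sum_univ_succ] <;>
    ring

set_option maxHeartbeats 4000000 in
theorem comm_ce : Commute (Mc A) (Me A) := by
  show Mc A * Me A = Me A * Mc A
  apply Matrix.ext; intro i j
  fin_cases i <;> fin_cases j <;>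
    simp [Mc, Me, Matrix.mul_apply, Fin.sum_univ_succ] <;>
    ring

end Groth.Agent.Helper1.Lie3Mat
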