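import Groth.Prelude.Def_W4c1bouilletffgsL3
import Groth.Agent.Helper1.Lie3Mat
import Mathlib

set_option autoImplicit false

open MvPolynomial

namespace Groth.Agent.Helper1.Lie3Free

open Groth.Agent.Helper1.Lie3Mat

variable (A : Type*) [CommRing A]

/-- base polynomial ring in the six parameters -/
abbrev BB := MvPolynomial (Fin 6) A
/-- polynomial ring in three fibre variables over `BB` -/
abbrev DD := MvPolynomial (Fin 3) (MvPolynomial (Fin 6) A)

local notation "Y0" => (C (X 0 : MvPolynomial (Fin 6) A) : MvPolynomial (Fin 3) (MvPolynomial (Fin 6) A))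
local notation "Y1" => (C (X 1 : MvPolynomial (Fin 6) A) : MvPolynomial (Fin 3) (MvPolynomial (Fin 6) A))
local notation "Y2" => (C (X 2 : MvPolynomial (Fin 6) A) : MvPolynomial (Fin 3) (MvPolynomial (Fin 6) A))
local notation "Y3" => (C (X 3 : MvPolynomial (Fin 6) A) : MvPolynomial (Fin 3) (MvPolynomial (Fin 6) A))
local notation "Y4" => (C (X 4 : MvPolynomial (Fin 6) A) : MvPolynomial (Fin 3) (MvPolynomial (Fin 6) A))
local notation "Y5" => (C (X 5 : MvPolynomial (Fin 6) A) : MvPolynomial (Fin 3) (MvPolynomial (Fin 6) A))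
local notation "xb" => (X 0 : MvPolynomial (Fin 3) (MvPolynomial (Fin 6) A))
local notation "xc" => (X 1 : MvPolynomial (Fin 3) (MvPolynomial (Fin 6) A))
local notation "xe" => (X 2 : MvPolynomial (Fin 3) (MvPolynomial (Fin 6) A))

noncomputable def rho : DD A →ₐ[BB A] Matrix (Fin 7) (Fin 7) (BB A) :=
  rho3 (Mb A) (Mc A) (Me A) (comm_bc A) (comm_be A) (comm_ce A)

noncomputable def Mat : Fin 3 → Matrix (Fin 7) (Fin 7) (BB A) := ![Mb A, Mc A, Me A]

theorem rho_X (v : Fin 3) : rho A (X v) = Mat A v := by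
  fin_cases v
  · exact rho3_X0 _ _ _ _ _ _
  · exact rho3_X1 _ _ _ _ _ _
  · exact rho3_X2 _ _ _ _ _ _

theorem rho_C (β : BB A) : rho A (C β) = β • (1 : Matrix (Fin 7) (Fin 7) (BB A)) :=
  rho3_C _ _ _ _ _ _ β

noncomputable def mm : Fin 7 → DD A := ![1, xb, xc, xe, xb ^ 2, xb * xc, xc * xe]

noncomputable def epsHom : DD A →+ (Fin 7 → BB A) :=
  (Matrix.mulVec.addMonoidHomLeft (Pi.single (0 : Fin 7) (1 : BB A))).comp
    ((rho A : DD A →+* Matrix (Fin 7) (Fin 7) (BB A)) : DD A →+ Matrix (Fin 7) (Fin 7) (BB A))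

theorem epsHom_apply (p : DD A) :
    epsHom A p = (rho A p).mulVec (Pi.single (0 : Fin 7) (1 : BB A)) := rfl

theorem epsHom_mul (p q : DD A) : epsHom A (p * q) = (rho A p).mulVec (epsHom A q) := by
  rw [epsHom_apply, epsHom_apply, map_mul, Matrix.mulVec_mulVec]

theorem epsHom_C_mul (β : BB A) (q : DD A) : epsHom A (C β * q) = β • epsHom A q := by
  rw [epsHom_mul, rho_C, Matrix.smul_mulVec, Matrix.one_mulVec]

theorem mulVec_single_one' (M : Matrix (Fin 7) (Fin 7) (BB A)) (j : Fin 7) :
    M.mulVec (Pi.single j 1) = fun l => M l j := by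
  funext l
  simp [Matrix.mulVec, dotProduct, Pi.single_apply]

theorem col_b0 : (fun l => Mb A l 0) = Pi.single 1 1 := by
  funext l; fin_cases l <;> simp [Mb]
theorem col_c0 : (fun l => Mc A l 0) = Pi.single 2 1 := by
  funext l; fin_cases l <;> simp [Mc]
theorem col_e0 : (fun l => Me A l 0) = Pi.single 3 1 := by
  funext l; fin_cases l <;> simp [Me]
theorem col_b1 : (fun l => Mb A l 1) = Pi.single 4 1 := by
  funext l; fin_cases l <;> simp [Mb]
theorem col_b2 : (fun l => Mb A l 2) = Pi.single 5 1 := by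
  funext l; fin_cases l <;> simp [Mb]
theorem col_c3 : (fun l => Mc A l 3) = Pi.single 6 1 := by
  funext l; fin_cases l <;> simp [Mc]

theorem epsHom_one : epsHom A 1 = Pi.single 0 1 := by
  rw [epsHom_apply, map_one, Matrix.one_mulVec]
theorem epsHom_xb : epsHom A xb = Pi.single 1 1 := by
  rw [epsHom_apply, rho_X, mulVec_single_one']
  exact col_b0 A
theorem epsHom_xc : epsHom A xc = Pi.single 2 1 := by
  rw [epsHom_apply, rho_X, mulVec_single_one']
  exact col_c0 A
theorem epsHom_xe : epsHom A xe = Pi.single 3 1 := by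
  rw [epsHom_apply, rho_X, mulVec_single_one']
  exact col_e0 A

theorem epsHom_mm (k : Fin 7) : epsHom A (mm A k) = Pi.single k 1 := by
  fin_cases k
  · exact epsHom_one A
  · exact epsHom_xb A
  · exact epsHom_xc A
  · exact epsHom_xe A
  · show epsHom A (xb ^ 2) = Pi.single 4 1
    rw [pow_two, epsHom_mul, epsHom_xb, rho_X, mulVec_single_one']
    exact col_b1 A
  · show epsHom A (xb * xc) = Pi.single 5 1
    rw [epsHom_mul, epsHom_xc, rho_X, mulVec_single_one']
    exact col_b2 A
  · show epsHom A (xc * xe) = Pi.single 6 1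
    rw [epsHom_mul, epsHom_xe, rho_X, mulVec_single_one']
    exact col_c3 A

noncomputable def TT (v : Fin 3) (k : Fin 7) : DD A :=
  X v * mm A k - ∑ l, C (Mat A v l k) * mm A l

theorem epsHom_TT (v : Fin 3) (k : Fin 7) : epsHom A (TT A v k) = 0 := by
  unfold TT
  rw [map_sub, map_sum, epsHom_mul, rho_X, epsHom_mm]
  have h1 : (Mat A v).mulVec (Pi.single k 1) = fun l => Mat A v l k := by
    funext l
    simp [Matrix.mulVec, dotProduct, Pi.single_apply]
  have h2 : ∑ l, epsHom A (C (Mat A v l k) * mm A l) = fun l => Mat A v l k := by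
    funext l'
    simp only [epsHom_C_mul, epsHom_mm, Finset.sum_apply, Pi.smul_apply, Pi.single_apply,
      smul_eq_mul, mul_ite, mul_one, mul_zero]
    simp
  rw [h1, h2, sub_self]

noncomputable def RR (β : Fin 7 → BB A) : DD A := ∑ k, C (β k) * mm A k

theorem RR_add (β γ : Fin 7 → BB A) : RR A (β + γ) = RR A β + RR A γ := by
  simp [RR, add_mul, Finset.sum_add_distrib]

theorem RR_zero : RR A 0 = 0 := by simp [RR]

/-- the ideal generated by the table relations -/
noncomputable def TI : Ideal (DD A) :=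
  Ideal.span (Set.range fun vk : Fin 3 × Fin 7 => TT A vk.1 vk.2)

theorem RR_mul_X (β : Fin 7 → BB A) (v : Fin 3) :
    RR A β * X v - RR A ((Mat A v).mulVec β) = ∑ k, C (β k) * TT A v k := by
  have h1 : RR A β * X v = ∑ k, C (β k) * (X v * mm A k) := by
    rw [RR, Finset.sum_mul]
    exact Finset.sum_congr rfl (fun k _ => by ring)
  have h2 : RR A ((Mat A v).mulVec β) = ∑ k, C (β k) * ∑ l, C (Mat A v l k) * mm A l := by
    simp only [RR, Matrix.mulVec, dotProduct, map_sum, map_mul, Finset.sum_mul, Finset.mul_sum]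
    rw [Finset.sum_comm]
    exact Finset.sum_congr rfl (fun k _ => Finset.sum_congr rfl (fun l _ => by ring))
  rw [h1, h2, ← Finset.sum_sub_distrib]
  exact Finset.sum_congr rfl (fun k _ => by rw [TT]; ring)

theorem epsHom_mul_X (p : DD A) (v : Fin 3) :
    epsHom A (p * X v) = (Mat A v).mulVec (epsHom A p) := by
  rw [mul_comm, epsHom_mul, rho_X]

theorem sub_RR_mem (p : DD A) : p - RR A (epsHom A p) ∈ TI A := by
  induction p using MvPolynomial.induction_on with
  | C β =>
    have h : epsHom A (C β) = β • Pi.single 0 1 := by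
      have h0 := epsHom_C_mul A β 1
      rw [mul_one] at h0
      rw [h0]
      have h1 := epsHom_mm A 0
      simp only [mm, Matrix.cons_val_zero] at h1
      rw [h1]
    have h2 : RR A (epsHom A (C β)) = C β := by
      rw [h]
      simp [RR, Fin.sum_univ_succ, mm, Pi.single_apply]
    rw [h2, sub_self]
    exact zero_mem _
  | add p q hp hq =>
    have h : p + q - RR A (epsHom A (p + q)) =
        (p - RR A (epsHom A p)) + (q - RR A (epsHom A q)) := by
      rw [map_add, RR_add]
      ring
    rw [h]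
    exact add_mem hp hq
  | mul_X p v hp =>
    have key := RR_mul_X A (epsHom A p) v
    rw [← epsHom_mul_X] at key
    have h : p * X v - RR A (epsHom A (p * X v)) =
        (p - RR A (epsHom A p)) * X v + ∑ k, C (epsHom A p k) * TT A v k := by
      rw [← key]
      ring
    rw [h]
    exact add_mem (Ideal.mul_mem_right _ _ hp)
      (Ideal.sum_mem _ fun k _ => Ideal.mul_mem_left _ _ (Ideal.subset_span ⟨(v, k), rfl⟩))

theorem epsHom_eq_zero_of_mem_TI {z : DD A} (hz : z ∈ TI A) : epsHom A z = 0 := by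
  unfold TI at hz
  induction hz using Submodule.span_induction with
  | mem x hx =>
    obtain ⟨⟨v, k⟩, rfl⟩ := hx
    exact epsHom_TT A v k
  | zero => exact map_zero _
  | add x y _ _ hx hy => rw [map_add, hx, hy, add_zero]
  | smul a x _ hx => rw [smul_eq_mul, epsHom_mul, hx, Matrix.mulVec_zero]

end Groth.Agent.Helper1.Lie3Free
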