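import Groth.Agent.Helper1.Lie3L

set_option autoImplicit false

open MvPolynomial

namespace Groth.Agent.Helper1.Lie3Gen

open Lie3Mod Groth.Agent.Helper1.Lie3Chart Groth.Agent.Helper1.Lie3L Groth.Agent.Helper1.Lie3Free

variable (A : Type*) [CommRing A]

/-- `L2` is a non-zero-divisor modulo `J`, over any commutative ring. -/
theorem mem_idJ_of_L2_mul_mem (x : MvPolynomial (Fin 9) A)
    (h : (Lie3Mod.vb + Lie3Mod.vf) * x ∈ Lie3Mod.idJ A) : x ∈ Lie3Mod.idJ A := by
  apply mem_idJ_of_epsHom_eq_zero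
  have h1 := epsHom_eq_zero_of_mem A _ h
  rw [map_mul, theta_L2, epsHom_C_mul] at h1
  funext l
  have h2 := congrFun h1 l
  simp only [Pi.smul_apply, smul_eq_mul, Pi.zero_apply] at h2
  exact (isRegular_X (n := (2 : Fin 6))).left (by simpa using h2)

noncomputable def q6 : Fin 6 → A := ![0, 1, -1, 1, 0, 0]

noncomputable def shear : MvPolynomial (Fin 6) A →ₐ[A] Polynomial (MvPolynomial (Fin 6) A) :=
  aeval (fun j => Polynomial.C (X j) + Polynomial.C (C (q6 A j)) * Polynomial.X)

theorem eval_shear (p : MvPolynomial (Fin 6) A) : Polynomial.eval 0 (shear A p) = p := by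
  have h : ((Polynomial.evalRingHom (0 : MvPolynomial (Fin 6) A)).comp
      (shear A : MvPolynomial (Fin 6) A →+* Polynomial (MvPolynomial (Fin 6) A))) = RingHom.id _ := by
    apply MvPolynomial.ringHom_ext
    · intro r
      simp [shear]
    · intro j
      simp [shear]
  exact RingHom.congr_fun h p

theorem lam_detM : lam A (detM A) =
    -(X 1 * X 4 ^ 2) - X 3 * X 0 ^ 2 + X 2 * X 5 ^ 2 - X 3 * X 2 * X 1 + 2 * X 0 * X 4 * X 5 := by
  simp [lam, detM]
  ring

theorem shear_f6 : shear A (lam A (detM A)) = Polynomial.X ^ 3 +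
    (Polynomial.C (X 1 + X 3 - X 2) * Polynomial.X ^ 2 +
      Polynomial.C (-(X 3 * X 2) - (X 2 - X 3) * X 1 - X 4 ^ 2 - X 0 ^ 2 - X 5 ^ 2) * Polynomial.X +
      Polynomial.C (lam A (detM A))) := by
  rw [lam_detM]
  simp [shear, q6, map_ofNat]
  have h2 : (Polynomial.C (2 : MvPolynomial (Fin 6) A) : Polynomial (MvPolynomial (Fin 6) A)) = 2 := map_ofNat _ 2
  try rw [h2]
  ring

theorem shear_f6_monic : (shear A (lam A (detM A))).Monic := by
  rw [shear_f6]
  apply Polynomial.monic_X_pow_add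
  exact lt_of_le_of_lt Polynomial.degree_quadratic_le (by norm_num)

theorem eq_zero_of_mul_lam_detM (y : MvPolynomial (Fin 6) A) (h : y * lam A (detM A) = 0) :
    y = 0 := by
  have h1 : shear A y * shear A (lam A (detM A)) = 0 := by rw [← map_mul, h, map_zero]
  have h2 := (shear_f6_monic A).mul_left_eq_zero_iff.mp h1
  rw [← eval_shear A y, h2, Polynomial.eval_zero]

theorem mem_idL_of_mul_detM_mem {y : D A} (h : y * detM A ∈ idL A) : y ∈ idL A := by
  rw [idL_eq_ker, RingHom.mem_ker] at h ⊢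
  rw [map_mul] at h
  exact eq_zero_of_mul_lam_detM A _ h

theorem idI_eq_inf : idI A = idL A ⊓ idJ A := by
  apply le_antisymm
  · exact le_inf (idI_le_idL A) (idI_le_idJ A)
  · rintro x ⟨hxL, hxJ⟩
    have hxJ' : x ∈ idI A ⊔ Ideal.span {detM A} := by rw [← idJ_eq_sup]; exact hxJ
    obtain ⟨q, hq, z, hz, rfl⟩ := Submodule.mem_sup.mp hxJ'
    obtain ⟨y, rfl⟩ := Ideal.mem_span_singleton'.mp hz
    have h1 : y * detM A ∈ idL A := by
      have h2 : q + y * detM A - q ∈ idL A := sub_mem hxL (idI_le_idL A hq)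
      simpa using h2
    exact add_mem hq (mul_detM_mem_of_mem_idL A (mem_idL_of_mul_detM_mem A h1))

theorem detM_mem_idJ : detM A ∈ idJ A := Ideal.subset_span (by simp)

theorem mul_mem_idI_of_mem {x s : D A} (hx : x ∈ idL A) (hs : s ∈ idJ A) : x * s ∈ idI A := by
  have hs' : s ∈ idI A ⊔ Ideal.span {detM A} := by rw [← idJ_eq_sup]; exact hs
  obtain ⟨q, hq, z, hz, rfl⟩ := Submodule.mem_sup.mp hs'
  obtain ⟨y, rfl⟩ := Ideal.mem_span_singleton'.mp hz
  rw [mul_add]
  refine add_mem (Ideal.mul_mem_left _ _ hq) ?_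
  have h : x * (y * detM A) = y * (x * detM A) := by ring
  rw [h]
  exact Ideal.mul_mem_left _ _ (mul_detM_mem_of_mem_idL A hx)

theorem colon_idJ : (idI A).colon (idJ A : Set (D A)) = idL A := by
  apply le_antisymm
  · intro x hx
    rw [Submodule.mem_colon] at hx
    have h := hx (detM A) (detM_mem_idJ A)
    rw [smul_eq_mul] at h
    exact mem_idL_of_mul_detM_mem A (idI_le_idL A h)
  · intro x hx
    rw [Submodule.mem_colon]
    intro s hs
    rw [smul_eq_mul]
    exact mul_mem_idI_of_mem A hx hs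

theorem L2_mem_idL : L2 A ∈ idL A := Ideal.subset_span (by simp)

theorem colon_idL : (idI A).colon (idL A : Set (D A)) = idJ A := by
  apply le_antisymm
  · intro x hx
    rw [Submodule.mem_colon] at hx
    have h := hx (L2 A) (L2_mem_idL A)
    rw [smul_eq_mul] at h
    apply mem_idJ_of_L2_mul_mem
    have h' : (Lie3Mod.vb + Lie3Mod.vf) * x = x * L2 A := by rw [L2]; ring
    rw [h']
    exact idI_le_idJ A h
  · intro x hx
    rw [Submodule.mem_colon]
    intro s hs
    rw [smul_eq_mul, mul_comm]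
    exact mul_mem_idI_of_mem A hs hx

theorem idL_mem_minimalPrimes [IsDomain A] : idL A ∈ (idI A).minimalPrimes := by
  refine ⟨⟨idL_isPrime A, idI_le_idL A⟩, ?_⟩
  rintro P ⟨hP, hIP⟩ hPL y hy
  have h1 : y * detM A ∈ P := hIP (mul_detM_mem_of_mem_idL A hy)
  rcases hP.mem_or_mem h1 with h | h
  · exact h
  · exact absurd (hPL h) (detM_not_mem_idL A)

end Groth.Agent.Helper1.Lie3Gen
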