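import Groth.Agent.Helper1.Lie3Chart

set_option autoImplicit false

open MvPolynomial

namespace Groth.Agent.Helper1.Lie3L

open Lie3Mod Groth.Agent.Helper1.Lie3Chart

variable (A : Type*) [CommRing A]

theorem Q1_eq : Q1 A = vh * L1 A + (-vg) * L2 A + vi * L3 A := by
  simp only [Q1, L1, L2, L3]; ring
theorem Q2_eq : Q2 A = (-ve) * L1 A + (-vh) * L2 A + vb * L3 A := by
  simp only [Q2, L1, L2, L3]; ring
theorem Q3_eq : Q3 A = (-vf) * L1 A + (-vi) * L2 A + vc * L3 A := by
  simp only [Q3, L1, L2, L3]; ring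

theorem mem_idL (c1 c2 c3 : D A) : c1 * L1 A + c2 * L2 A + c3 * L3 A ∈ idL A := by
  have h1 : L1 A ∈ idL A := Ideal.subset_span (by simp)
  have h2 : L2 A ∈ idL A := Ideal.subset_span (by simp)
  have h3 : L3 A ∈ idL A := Ideal.subset_span (by simp)
  exact add_mem (add_mem (Ideal.mul_mem_left _ _ h1) (Ideal.mul_mem_left _ _ h2))
    (Ideal.mul_mem_left _ _ h3)

theorem idI_le_idL : idI A ≤ idL A := by
  rw [idI, Ideal.span_le]
  intro y hy
  simp only [Set.mem_insert_iff, Set.mem_singleton_iff] at hy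
  rcases hy with rfl | rfl | rfl
  · rw [Q1_eq]; exact mem_idL A _ _ _
  · rw [Q2_eq]; exact mem_idL A _ _ _
  · rw [Q3_eq]; exact mem_idL A _ _ _

/-- projection onto the unimodular coordinates `b, c, e, g, h, i` -/
noncomputable def lam : D A →+* MvPolynomial (Fin 6) A :=
  eval₂Hom (C : A →+* MvPolynomial (Fin 6) A)
    (![X 5, X 0, X 1, -X 4, X 2, -X 0, X 3, X 4, X 5] : Fin 9 → MvPolynomial (Fin 6) A)

noncomputable def sec : MvPolynomial (Fin 6) A →+* D A :=
  eval₂Hom (C : A →+* D A) (![X 1, X 2, X 4, X 6, X 7, X 8] : Fin 6 → D A)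

theorem var_sub_mem (j : Fin 9) : (X j : D A) - sec A (lam A (X j)) ∈ idL A := by
  fin_cases j
  · have h : (X 0 : D A) - sec A (lam A (X 0)) = 1 * L1 A + 0 * L2 A + 0 * L3 A := by
      simp [sec, lam, L1]
    show (X 0 : D A) - sec A (lam A (X 0)) ∈ idL A
    rw [h]; exact mem_idL A _ _ _
  · have h : (X 1 : D A) - sec A (lam A (X 1)) = 0 := by simp [sec, lam]
    show (X 1 : D A) - sec A (lam A (X 1)) ∈ idL A
    rw [h]; exact zero_mem _
  · have h : (X 2 : D A) - sec A (lam A (X 2)) = 0 := by simp [sec, lam]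
    show (X 2 : D A) - sec A (lam A (X 2)) ∈ idL A
    rw [h]; exact zero_mem _
  · have h : (X 3 : D A) - sec A (lam A (X 3)) = 0 * L1 A + 0 * L2 A + 1 * L3 A := by
      simp [sec, lam, L3]
    show (X 3 : D A) - sec A (lam A (X 3)) ∈ idL A
    rw [h]; exact mem_idL A _ _ _
  · have h : (X 4 : D A) - sec A (lam A (X 4)) = 0 := by simp [sec, lam]
    show (X 4 : D A) - sec A (lam A (X 4)) ∈ idL A
    rw [h]; exact zero_mem _
  · have h : (X 5 : D A) - sec A (lam A (X 5)) = 0 * L1 A + 1 * L2 A + 0 * L3 A := by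
      simp [sec, lam, L2]
      ring
    show (X 5 : D A) - sec A (lam A (X 5)) ∈ idL A
    rw [h]; exact mem_idL A _ _ _
  · have h : (X 6 : D A) - sec A (lam A (X 6)) = 0 := by simp [sec, lam]
    show (X 6 : D A) - sec A (lam A (X 6)) ∈ idL A
    rw [h]; exact zero_mem _
  · have h : (X 7 : D A) - sec A (lam A (X 7)) = 0 := by simp [sec, lam]
    show (X 7 : D A) - sec A (lam A (X 7)) ∈ idL A
    rw [h]; exact zero_mem _
  · have h : (X 8 : D A) - sec A (lam A (X 8)) = 0 := by simp [sec, lam]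
    show (X 8 : D A) - sec A (lam A (X 8)) ∈ idL A
    rw [h]; exact zero_mem _

theorem sub_sec_lam_mem (x : D A) : x - sec A (lam A x) ∈ idL A := by
  induction x using MvPolynomial.induction_on with
  | C c =>
    have h : (C c : D A) - sec A (lam A (C c)) = 0 := by simp [sec, lam]
    rw [h]; exact zero_mem _
  | add p q hp hq =>
    have h : p + q - sec A (lam A (p + q)) = (p - sec A (lam A p)) + (q - sec A (lam A q)) := by
      rw [map_add, map_add]; ring
    rw [h]; exact add_mem hp hq
  | mul_X p j hp =>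
    have h : p * X j - sec A (lam A (p * X j)) =
        X j * (p - sec A (lam A p)) + sec A (lam A p) * (X j - sec A (lam A (X j))) := by
      rw [map_mul, map_mul]; ring
    rw [h]
    exact add_mem (Ideal.mul_mem_left _ _ hp) (Ideal.mul_mem_left _ _ (var_sub_mem A j))

theorem idL_eq_ker : idL A = RingHom.ker (lam A) := by
  apply le_antisymm
  · rw [idL, Ideal.span_le]
    intro y hy
    simp only [Set.mem_insert_iff, Set.mem_singleton_iff] at hy
    rcases hy with rfl | rfl | rfl <;> simp [RingHom.mem_ker, lam, L1, L2, L3]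
  · intro x hx
    rw [RingHom.mem_ker] at hx
    have h := sub_sec_lam_mem A x
    rwa [hx, map_zero, sub_zero] at h

theorem idL_isPrime [IsDomain A] : (idL A).IsPrime := by
  rw [idL_eq_ker]
  exact RingHom.ker_isPrime _

/-- the point `g = 1, e = -1, c = 1` (a nondegenerate symmetric structure) -/
noncomputable def pt : Fin 9 → A := ![0, 0, 1, 0, -1, 0, 1, 0, 0]

theorem idL_le_ker_eval : idL A ≤ RingHom.ker (MvPolynomial.eval (pt A)) := by
  rw [idL, Ideal.span_le]
  intro y hy
  simp only [Set.mem_insert_iff, Set.mem_singleton_iff] at hy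
  rcases hy with rfl | rfl | rfl <;> simp [RingHom.mem_ker, pt, L1, L2, L3]

theorem eval_detM : MvPolynomial.eval (pt A) (detM A) = 1 := by
  simp [pt, detM]

theorem detM_not_mem_idL [Nontrivial A] : detM A ∉ idL A := by
  intro h
  have h1 := idL_le_ker_eval A h
  rw [RingHom.mem_ker, eval_detM] at h1
  exact one_ne_zero h1

theorem mul_detM_mem_of_mem_idL {y : D A} (hy : y ∈ idL A) : y * detM A ∈ idI A := by
  unfold idL at hy
  induction hy using Submodule.span_induction with
  | mem x hx =>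
    simp only [Set.mem_insert_iff, Set.mem_singleton_iff] at hx
    rcases hx with rfl | rfl | rfl
    · exact L1_mul_detM_mem A
    · exact L2_mul_detM_mem A
    · exact L3_mul_detM_mem A
  | zero => rw [zero_mul]; exact zero_mem _
  | add x y _ _ hx hy => rw [add_mul]; exact add_mem hx hy
  | smul a x _ hx => rw [smul_eq_mul, mul_assoc]; exact Ideal.mul_mem_left _ _ hx

theorem idJ_eq_sup : idJ A = idI A ⊔ Ideal.span {detM A} := by
  rw [idJ, idI, ← Ideal.span_union]
  congr 1
  ext z
  simp only [Set.mem_insert_iff, Set.mem_singleton_iff, Set.mem_union]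
  tauto

theorem idI_eq_inf [IsDomain A] : idI A = idL A ⊓ idJ A := by
  apply le_antisymm
  · exact le_inf (idI_le_idL A) (idI_le_idJ A)
  · rintro x ⟨hxL, hxJ⟩
    have hxJ' : x ∈ idI A ⊔ Ideal.span {detM A} := by rw [← idJ_eq_sup]; exact hxJ
    obtain ⟨q, hq, z, hz, rfl⟩ := Submodule.mem_sup.mp hxJ'
    obtain ⟨y, rfl⟩ := Ideal.mem_span_singleton'.mp hz
    have h1 : y * detM A ∈ idL A := by
      have h2 : q + y * detM A - q ∈ idL A := sub_mem hxL (idI_le_idL A hq)
      simpa using h2
    have hP := idL_isPrime A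
    rcases hP.mem_or_mem h1 with h3 | h3
    · exact add_mem hq (mul_detM_mem_of_mem_idL A h3)
    · exact absurd h3 (detM_not_mem_idL A)

end Groth.Agent.Helper1.Lie3L
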