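import Mathlib

/-!
# Lifting a direct summand compatible with a two-step filtration (helper1, S16419)
-/

open TensorProduct

namespace Groth.Agent.Helper1.LiftSummand

universe u v

variable {R : Type u} [CommRing R]

lemma mem_baseChange_iff {X : Type v} [AddCommGroup X] [Module R X] (𝔫 : Ideal R)
    (p : Submodule R X) (x : (R ⧸ 𝔫) ⊗[R] X) :
    x ∈ p.baseChange (R ⧸ 𝔫) ↔ ∃ m ∈ p, x = (1 : R ⧸ 𝔫) ⊗ₜ[R] m := by
  constructor
  · intro hx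
    obtain ⟨t, rfl⟩ := (hx : x ∈ LinearMap.range (p.subtype.baseChange (R ⧸ 𝔫)))
    obtain ⟨m', rfl⟩ := TensorProduct.mk_surjective R ↥p (R ⧸ 𝔫) Ideal.Quotient.mk_surjective t
    exact ⟨m'.1, m'.2, rfl⟩
  · rintro ⟨m, hm, rfl⟩
    exact Submodule.tmul_mem_baseChange_of_mem 1 hm

lemma one_tmul_eq_zero_iff {X : Type v} [AddCommGroup X] [Module R X] (𝔫 : Ideal R) (h : X) :
    (1 : R ⧸ 𝔫) ⊗ₜ[R] h = 0 ↔ h ∈ 𝔫 • (⊤ : Submodule R X) := by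
  rw [← (TensorProduct.quotTensorEquivQuotSMul X 𝔫).map_eq_zero_iff,
    TensorProduct.quotTensorEquivQuotSMul_mk_one_tmul, Submodule.Quotient.mk_eq_zero]

theorem lift_summand
    (H₁ : Type v) (H : Type v) (H₂ : Type v)
    [AddCommGroup H₁] [Module R H₁] [AddCommGroup H] [Module R H] [AddCommGroup H₂] [Module R H₂]
    [Module.Projective R H₂]
    (f : H₁ →ₗ[R] H) (g : H →ₗ[R] H₂) (hf : Function.Injective f) (hg : Function.Surjective g)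
    (hfg : Function.Exact f g)
    (F₁ : Submodule R H₁) (F₂ : Submodule R H₂) [Module.Projective R (H₁ ⧸ F₁)]
    [Module.Projective R (H₂ ⧸ F₂)]
    (𝔫 : Ideal R)
    (Fb : Submodule (R ⧸ 𝔫) ((R ⧸ 𝔫) ⊗[R] H))
    (h1 : Fb ⊓ LinearMap.range (f.baseChange (R ⧸ 𝔫)) =
      Submodule.map (f.baseChange (R ⧸ 𝔫)) (F₁.baseChange (R ⧸ 𝔫)))
    (h2 : Submodule.map (g.baseChange (R ⧸ 𝔫)) Fb = F₂.baseChange (R ⧸ 𝔫)) :
    ∃ F : Submodule R H, (∃ C : Submodule R H, IsCompl F C) ∧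
      F ⊓ LinearMap.range f = Submodule.map f F₁ ∧
      F.baseChange (R ⧸ 𝔫) = Fb ∧ Submodule.map g F = F₂ := by
  classical
  have hsurj : Function.Surjective (algebraMap R (R ⧸ 𝔫)) := Ideal.Quotient.mk_surjective
  obtain ⟨σ₁, hσ₁⟩ := Module.projective_lifting_property F₁.mkQ LinearMap.id
    (Submodule.mkQ_surjective F₁)
  obtain ⟨σ₂, hσ₂⟩ := Module.projective_lifting_property F₂.mkQ LinearMap.id
    (Submodule.mkQ_surjective F₂)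
  obtain ⟨t, ht⟩ := Module.projective_lifting_property g LinearMap.id hg
  have hσ₁' : ∀ y, F₁.mkQ (σ₁ y) = y := fun y => LinearMap.congr_fun hσ₁ y
  have hσ₂' : ∀ y, F₂.mkQ (σ₂ y) = y := fun y => LinearMap.congr_fun hσ₂ y
  have ht' : ∀ y, g (t y) = y := fun y => LinearMap.congr_fun ht y
  have hgf : ∀ a, g (f a) = 0 := fun a => hfg.apply_apply_eq_zero a
  -- `F₂` is a direct summand of `H₂`, hence projective
  have hρmem : ∀ h : H₂, ((LinearMap.id : H₂ →ₗ[R] H₂) - σ₂ ∘ₗ F₂.mkQ) h ∈ F₂ := by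
    intro h
    show h - σ₂ (F₂.mkQ h) ∈ F₂
    have : F₂.mkQ (h - σ₂ (F₂.mkQ h)) = 0 := by rw [map_sub, hσ₂', sub_self]
    exact (Submodule.Quotient.mk_eq_zero F₂).1 this
  let ρ : H₂ →ₗ[R] ↥F₂ := ((LinearMap.id : H₂ →ₗ[R] H₂) - σ₂ ∘ₗ F₂.mkQ).codRestrict F₂ hρmem
  have hρ : ∀ h : H₂, ((ρ h : ↥F₂) : H₂) = h - σ₂ (F₂.mkQ h) := fun _ => rfl
  haveI : Module.Projective R ↥F₂ := Module.Projective.of_split F₂.subtype ρ
    (LinearMap.ext fun y => Subtype.ext (by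
      show ((ρ (y : H₂) : ↥F₂) : H₂) = y
      rw [hρ, show F₂.mkQ (y : H₂) = 0 from (Submodule.Quotient.mk_eq_zero F₂).2 y.2, map_zero,
        sub_zero]))
  -- the module of admissible lifts
  let mk1 : H →ₗ[R] (R ⧸ 𝔫) ⊗[R] H := TensorProduct.mk R (R ⧸ 𝔫) H 1
  let T : Submodule R H := (F₂.comap g) ⊓ (Fb.restrictScalars R).comap mk1
  let γ : ↥T →ₗ[R] ↥F₂ := (g ∘ₗ T.subtype).codRestrict F₂ (fun h => h.2.1)
  have hγ : Function.Surjective γ := by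
    intro y
    have hy : (1 : R ⧸ 𝔫) ⊗ₜ[R] (y : H₂) ∈ Submodule.map (g.baseChange (R ⧸ 𝔫)) Fb := by
      rw [h2]
      exact Submodule.tmul_mem_baseChange_of_mem 1 y.2
    obtain ⟨x, hxF, hx⟩ := hy
    obtain ⟨h₀, rfl⟩ := TensorProduct.mk_surjective R H (R ⧸ 𝔫) hsurj x
    have hx' : (1 : R ⧸ 𝔫) ⊗ₜ[R] (g h₀ - y) = 0 := by
      rw [TensorProduct.tmul_sub, sub_eq_zero]
      exact hx
    rw [one_tmul_eq_zero_iff] at hx'
    have hmap : (𝔫 • (⊤ : Submodule R H₂)) = Submodule.map g (𝔫 • (⊤ : Submodule R H)) := by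
      rw [Submodule.map_smul'', Submodule.map_top, LinearMap.range_eq_top.2 hg]
    rw [hmap] at hx'
    obtain ⟨w, hw, hgw⟩ := hx'
    have hw0 : (1 : R ⧸ 𝔫) ⊗ₜ[R] w = 0 := (one_tmul_eq_zero_iff 𝔫 w).2 hw
    have hg0 : g (h₀ - w) = y := by rw [map_sub, hgw, sub_sub_cancel]
    refine ⟨⟨h₀ - w, ?_, ?_⟩, ?_⟩
    · show g (h₀ - w) ∈ F₂
      rw [hg0]
      exact y.2
    · show (1 : R ⧸ 𝔫) ⊗ₜ[R] (h₀ - w) ∈ Fb
      rw [TensorProduct.tmul_sub, hw0, sub_zero]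
      exact hxF
    · exact Subtype.ext hg0
  obtain ⟨s, hs⟩ := Module.projective_lifting_property γ LinearMap.id hγ
  let s' : ↥F₂ →ₗ[R] H := T.subtype ∘ₗ s
  have hgs : ∀ y : ↥F₂, g (s' y) = y := fun y => congrArg Subtype.val (LinearMap.congr_fun hs y)
  have hFs : ∀ y : ↥F₂, (1 : R ⧸ 𝔫) ⊗ₜ[R] (s' y) ∈ Fb := fun y => (s y).2.2
  let F : Submodule R H := Submodule.map f F₁ ⊔ LinearMap.range s'
  let C : Submodule R H := Submodule.map f (LinearMap.range σ₁) ⊔ Submodule.map t (LinearMap.range σ₂)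
  have hF_intro : ∀ (a : H₁) (_ : a ∈ F₁) (y : ↥F₂), f a + s' y ∈ F := fun a ha y =>
    Submodule.add_mem_sup (Submodule.mem_map_of_mem ha) (LinearMap.mem_range_self s' y)
  have hF_elim : ∀ x ∈ F, ∃ a ∈ F₁, ∃ y : ↥F₂, x = f a + s' y := by
    intro x hx
    obtain ⟨u, ⟨a, ha, rfl⟩, v, ⟨y, rfl⟩, rfl⟩ := Submodule.mem_sup.1 hx
    exact ⟨a, ha, y, rfl⟩
  have hC_intro : ∀ (c : H₁ ⧸ F₁) (d : H₂ ⧸ F₂), f (σ₁ c) + t (σ₂ d) ∈ C := fun c d =>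
    Submodule.add_mem_sup (Submodule.mem_map_of_mem (LinearMap.mem_range_self σ₁ c))
      (Submodule.mem_map_of_mem (LinearMap.mem_range_self σ₂ d))
  have hC_elim : ∀ x ∈ C, ∃ (c : H₁ ⧸ F₁) (d : H₂ ⧸ F₂), x = f (σ₁ c) + t (σ₂ d) := by
    intro x hx
    obtain ⟨u, ⟨_, ⟨c, rfl⟩, rfl⟩, v, ⟨_, ⟨d, rfl⟩, rfl⟩, rfl⟩ := Submodule.mem_sup.1 hx
    exact ⟨c, d, rfl⟩
  have hdisj : F ⊓ C = ⊥ := by
    rw [Submodule.eq_bot_iff]
    rintro x ⟨hxF, hxC⟩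
    obtain ⟨a, ha, y, rfl⟩ := hF_elim x hxF
    obtain ⟨c, d, hcd⟩ := hC_elim _ hxC
    have h3 : (y : H₂) = σ₂ d := by
      have := congrArg g hcd
      rw [map_add, map_add, hgf, hgf, zero_add, zero_add, hgs, ht'] at this
      exact this
    have hd : d = 0 := by
      have h4 := hσ₂' d
      rw [← h3] at h4
      rw [← h4]
      exact (Submodule.Quotient.mk_eq_zero F₂).2 y.2
    have hy : y = 0 := Subtype.ext (by rw [h3, hd, map_zero]; rfl)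
    rw [hy, hd, map_zero, map_zero, map_zero, add_zero, add_zero] at hcd
    have hac : a = σ₁ c := hf hcd
    have hc : c = 0 := by
      have h4 := hσ₁' c
      rw [← hac] at h4
      rw [← h4]
      exact (Submodule.Quotient.mk_eq_zero F₁).2 ha
    rw [hy, map_zero, add_zero, hac, hc, map_zero, map_zero]
  have hcodisj : F ⊔ C = ⊤ := by
    rw [Submodule.eq_top_iff']
    intro h
    have hy₂ : ((ρ (g h) : ↥F₂) : H₂) = g h - σ₂ (F₂.mkQ (g h)) := hρ (g h)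
    have hk : g (h - s' (ρ (g h)) - t (σ₂ (F₂.mkQ (g h)))) = 0 := by
      rw [map_sub, map_sub, hgs, ht', hy₂]
      abel
    obtain ⟨b, hb⟩ := (hfg _).1 hk
    have ha : b - σ₁ (F₁.mkQ b) ∈ F₁ := by
      have : F₁.mkQ (b - σ₁ (F₁.mkQ b)) = 0 := by rw [map_sub, hσ₁', sub_self]
      exact (Submodule.Quotient.mk_eq_zero F₁).1 this
    have hsum : h = (f (b - σ₁ (F₁.mkQ b)) + s' (ρ (g h))) +
        (f (σ₁ (F₁.mkQ b)) + t (σ₂ (F₂.mkQ (g h)))) := by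
      rw [map_sub, hb]
      abel
    rw [hsum]
    exact Submodule.add_mem_sup (hF_intro _ ha _) (hC_intro _ _)
  refine ⟨F, ⟨C, IsCompl.of_eq hdisj hcodisj⟩, ?_, ?_, ?_⟩
  · -- F ⊓ range f = map f F₁
    apply le_antisymm
    · rintro x ⟨hxF, ⟨b, rfl⟩⟩
      obtain ⟨a, ha, y, hxy⟩ := hF_elim _ hxF
      have h3 : (y : H₂) = 0 := by
        have := congrArg g hxy
        rw [map_add, hgf, hgf, zero_add, hgs] at this
        exact this.symm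
      have hy : y = 0 := Subtype.ext h3
      rw [hy, map_zero, add_zero] at hxy
      rw [hxy]
      exact Submodule.mem_map_of_mem ha
    · rintro x ⟨a, ha, rfl⟩
      exact ⟨le_sup_left (a := Submodule.map f F₁) (Submodule.mem_map_of_mem ha),
        LinearMap.mem_range_self f a⟩
  · -- F.baseChange = Fb
    ext x
    rw [mem_baseChange_iff]
    constructor
    · rintro ⟨m, hm, rfl⟩
      obtain ⟨a, ha, y, rfl⟩ := hF_elim m hm
      rw [TensorProduct.tmul_add]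
      refine Fb.add_mem ?_ (hFs y)
      have h4 : (1 : R ⧸ 𝔫) ⊗ₜ[R] f a ∈ Submodule.map (f.baseChange (R ⧸ 𝔫))
          (F₁.baseChange (R ⧸ 𝔫)) :=
        ⟨(1 : R ⧸ 𝔫) ⊗ₜ[R] a, Submodule.tmul_mem_baseChange_of_mem 1 ha, rfl⟩
      rw [← h1] at h4
      exact h4.1
    · intro hx
      have h5 : g.baseChange (R ⧸ 𝔫) x ∈ F₂.baseChange (R ⧸ 𝔫) := by
        rw [← h2]
        exact Submodule.mem_map_of_mem hx
      obtain ⟨y, hy, hgy⟩ := (mem_baseChange_iff 𝔫 F₂ _).1 h5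
      have hx' : x - (1 : R ⧸ 𝔫) ⊗ₜ[R] s' ⟨y, hy⟩ ∈ Fb := Fb.sub_mem hx (hFs ⟨y, hy⟩)
      have hgx' : g.lTensor (R ⧸ 𝔫) (x - (1 : R ⧸ 𝔫) ⊗ₜ[R] s' ⟨y, hy⟩) = 0 := by
        rw [map_sub, LinearMap.lTensor_tmul, hgs, sub_eq_zero]
        exact hgy
      obtain ⟨z, hz⟩ := (lTensor_exact (R ⧸ 𝔫) hfg hg _).1 hgx'
      have h6 : x - (1 : R ⧸ 𝔫) ⊗ₜ[R] s' ⟨y, hy⟩ ∈
          Fb ⊓ LinearMap.range (f.baseChange (R ⧸ 𝔫)) := ⟨hx', ⟨z, hz⟩⟩
      rw [h1] at h6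
      obtain ⟨z', hz', hfz'⟩ := h6
      obtain ⟨a, ha, rfl⟩ := (mem_baseChange_iff 𝔫 F₁ _).1 hz'
      refine ⟨f a + s' ⟨y, hy⟩, hF_intro a ha ⟨y, hy⟩, ?_⟩
      rw [TensorProduct.tmul_add]
      have h7 : (1 : R ⧸ 𝔫) ⊗ₜ[R] f a = x - (1 : R ⧸ 𝔫) ⊗ₜ[R] s' ⟨y, hy⟩ := hfz'
      rw [h7, sub_add_cancel]
  · -- map g F = F₂
    ext y
    constructor
    · rintro ⟨x, hx, rfl⟩
      obtain ⟨a, ha, y', rfl⟩ := hF_elim x hx
      rw [map_add, hgf, zero_add, hgs]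
      exact y'.2
    · intro hy
      exact ⟨s' ⟨y, hy⟩, le_sup_right (b := LinearMap.range s') (LinearMap.mem_range_self s' _),
        hgs ⟨y, hy⟩⟩

end Groth.Agent.Helper1.LiftSummand
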