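import Mathlib
import Groth.Prelude.Def_CAlg
import Groth.Prelude.Def_EGA4b
import Groth.Agent.H29.CMLib
import Groth.Agent.Lib.Helper8.LocalCrit

/-!
# Miracle flatness (helper1)

If `xs` is an `M`-weakly-regular sequence of `A` then `Tor₁^A(A/(xs), M) = 0` (expressed through a
presentation of `M`).  Combined with the local criterion of flatness this yields miracle flatness
over a regular local ring.
-/

set_option autoImplicit false
set_option linter.style.haveILetI false

namespace Groth.Agent.Helper1.Miracle

open TensorProduct Function RingTheory.Sequence IsLocalRing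

universe u

section Tor

variable {A : Type*} [CommRing A] {M K F : Type*} [AddCommGroup M] [Module A M]
  [AddCommGroup K] [Module A K] [AddCommGroup F] [Module A F]

theorem step (ι : K →ₗ[A] F) (π : F →ₗ[A] M) (hex : Exact ι π) (hπ : Surjective π)
    (I : Ideal A) (x : A)
    (hI : Injective (ι.lTensor (A ⧸ I)))
    (hx : IsSMulRegular (M ⧸ (I • ⊤ : Submodule A M)) x) :
    Injective (ι.lTensor (A ⧸ (I ⊔ Ideal.span {x}))) := by
  have hle : I ≤ I ⊔ Ideal.span {x} := le_sup_left
  let f₁ : (A ⧸ I) →ₗ[A] (A ⧸ I) := x • LinearMap.id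
  let f₂ : (A ⧸ I) →ₗ[A] (A ⧸ (I ⊔ Ideal.span {x})) := Submodule.factor hle
  have hfexact : Exact f₁ f₂ := by
    intro y
    obtain ⟨a, rfl⟩ := Submodule.Quotient.mk_surjective _ y
    constructor
    · intro h
      have h1 : a ∈ I ⊔ Ideal.span {x} := by
        have : Submodule.Quotient.mk (p := I ⊔ Ideal.span {x}) a = 0 := h
        exact (Submodule.Quotient.mk_eq_zero _).mp this
      obtain ⟨i, hi, j, hj, rfl⟩ := Submodule.mem_sup.mp h1
      obtain ⟨c, rfl⟩ := Ideal.mem_span_singleton'.mp hj
      refine ⟨Submodule.Quotient.mk c, ?_⟩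
      show x • (Submodule.Quotient.mk (p := I) c) = Submodule.Quotient.mk (i + c * x)
      rw [Submodule.Quotient.mk_add, (Submodule.Quotient.mk_eq_zero I).mpr hi, zero_add,
        ← Submodule.Quotient.mk_smul, smul_eq_mul, mul_comm]
    · rintro ⟨z, hz⟩
      obtain ⟨c, rfl⟩ := Submodule.Quotient.mk_surjective _ z
      rw [← hz]
      show f₂ (x • Submodule.Quotient.mk (p := I) c) = 0
      rw [map_smul]
      show x • (Submodule.Quotient.mk (p := I ⊔ Ideal.span {x}) c) = 0
      rw [← Submodule.Quotient.mk_smul]
      apply (Submodule.Quotient.mk_eq_zero _).mpr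
      rw [smul_eq_mul, mul_comm]
      exact Ideal.mul_mem_left _ _ (Ideal.mem_sup_right (Ideal.subset_span rfl))
  have hfsurj : Surjective f₂ := Submodule.factor_surjective hle
  have hfinj : Injective (f₁.rTensor M) := by
    have h1 : f₁.rTensor M = x • LinearMap.id := by
      rw [LinearMap.rTensor_smul, LinearMap.rTensor_id]
    rw [h1]
    have h2 : IsSMulRegular ((A ⧸ I) ⊗[A] M) x :=
      ((TensorProduct.quotTensorEquivQuotSMul M I).isSMulRegular_congr x).mpr hx
    exact h2
  exact lTensor_injective_of_exact_of_exact_of_rTensor_injective hfexact hfsurj hex hπ hfinj hI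

theorem tor_vanish (ι : K →ₗ[A] F) (π : F →ₗ[A] M) (hex : Exact ι π) (hπ : Surjective π)
    (hι : Injective ι) (xs : List A) (hreg : IsWeaklyRegular M xs) :
    Injective (ι.lTensor (A ⧸ Ideal.ofList xs)) := by
  have hbot : ∀ J : Ideal A, J = ⊥ → Injective (ι.lTensor (A ⧸ J)) := by
    rintro _ rfl
    haveI : Module.Flat A (A ⧸ (⊥ : Ideal A)) :=
      Module.Flat.of_linearEquiv (Submodule.quotEquivOfEqBot (⊥ : Ideal A) rfl)
    exact Module.Flat.lTensor_preserves_injective_linearMap ι hι
  have hstep : ∀ (I J : Ideal A) (x : A), J = I ⊔ Ideal.span {x} →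
      Injective (ι.lTensor (A ⧸ I)) → IsSMulRegular (M ⧸ (I • ⊤ : Submodule A M)) x →
      Injective (ι.lTensor (A ⧸ J)) := by
    rintro I _ x rfl h1 h2
    exact step ι π hex hπ I x h1 h2
  have key : ∀ j : ℕ, j ≤ xs.length → Injective (ι.lTensor (A ⧸ Ideal.ofList (xs.take j))) := by
    intro j
    induction j with
    | zero =>
      intro _
      exact hbot _ (by rw [List.take_zero, Ideal.ofList_nil])
    | succ j ih =>
      intro hj
      have hj' : j < xs.length := hj
      refine hstep (Ideal.ofList (xs.take j)) _ xs[j] ?_ (ih hj'.le) (hreg.regular_mod_prev j hj')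
      rw [List.take_succ_eq_append_getElem hj', Ideal.ofList_append, Ideal.ofList_singleton]
  have := key xs.length le_rfl
  rwa [List.take_length] at this

theorem rTensor_subtype_injective [Module.Flat A F]
    (ι : K →ₗ[A] F) (π : F →ₗ[A] M) (hex : Exact ι π) (hπ : Surjective π)
    (I : Ideal A) (h : Injective (ι.lTensor (A ⧸ I))) :
    Injective (I.subtype.rTensor M) := by
  apply (LinearMap.lTensor_inj_iff_rTensor_inj _ _).mp
  refine lTensor_injective_of_exact_of_exact_of_rTensor_injective
    (f₁ := ι) (f₂ := π) (g₁ := I.subtype) (g₂ := I.mkQ) hex hπ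
    (LinearMap.exact_subtype_mkQ I) (Submodule.mkQ_surjective I)
    ((LinearMap.lTensor_inj_iff_rTensor_inj _ _).mp h)
    (Module.Flat.lTensor_preserves_injective_linearMap _ (Submodule.injective_subtype _))

theorem T2 [Module.Flat A F]
    (ι : K →ₗ[A] F) (π : F →ₗ[A] M) (hex : Exact ι π) (hπ : Surjective π) (hι : Injective ι)
    (xs : List A) (hreg : IsWeaklyRegular M xs) :
    Injective ((Ideal.ofList xs).subtype.rTensor M) :=
  rTensor_subtype_injective ι π hex hπ _ (tor_vanish ι π hex hπ hι xs hreg)

/-- `Tor₁(A/(xs), M) = 0` in ideal form, for an `M`-weakly regular sequence `xs`. -/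
theorem rTensor_subtype_injective_of_isWeaklyRegular {A M : Type u} [CommRing A] [AddCommGroup M]
    [Module A M] (xs : List A) (hreg : IsWeaklyRegular M xs) :
    Injective ((Ideal.ofList xs).subtype.rTensor M) := by
  obtain ⟨π, hπ⟩ : ∃ π : (M →₀ A) →ₗ[A] M, Surjective π :=
    ⟨_, Finsupp.linearCombination_id_surjective A M⟩
  have hex : Exact (LinearMap.ker π).subtype π := LinearMap.exact_subtype_ker_map π
  exact T2 (K := LinearMap.ker π) (F := M →₀ A) (LinearMap.ker π).subtype
    π hex hπ (Submodule.injective_subtype _) xs hreg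

end Tor

/-- Flatness over a Noetherian local ring whose maximal ideal is generated by an `M`-regular
sequence. -/
theorem flat_of_isWeaklyRegular (A B : Type u) [CommRing A] [CommRing B] [IsLocalRing A]
    [IsNoetherianRing A] [IsNoetherianRing B]
    [IsLocalRing B] [Algebra A B] [IsLocalHom (algebraMap A B)]
    (M : Type u) [AddCommGroup M] [Module B M] [Module A M] [IsScalarTower A B M]
    [Module.Finite B M] (xs : List A) (hxs : Ideal.ofList xs = maximalIdeal A)
    (hreg : IsWeaklyRegular M xs) : Module.Flat A M := by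
  have h1 : Injective ((maximalIdeal A).subtype.rTensor M) := by
    rw [← hxs]
    exact rTensor_subtype_injective_of_isWeaklyRegular xs hreg
  have hIS : (maximalIdeal A).map (algebraMap A B) ≤ Ideal.jacobson ⊥ := by
    rw [IsLocalRing.jacobson_eq_maximalIdeal (⊥ : Ideal B) bot_ne_top]
    exact IsLocalRing.map_maximalIdeal_le (algebraMap A B)
  have h2 : Module.Flat (A ⧸ maximalIdeal A) ((A ⧸ maximalIdeal A) ⊗[A] M) := by
    have hF : IsField (A ⧸ maximalIdeal A) :=
      (Ideal.Quotient.maximal_ideal_iff_isField_quotient _).mp (maximalIdeal.isMaximal A)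
    letI := hF.toField
    haveI : Module.Free (A ⧸ maximalIdeal A) ((A ⧸ maximalIdeal A) ⊗[A] M) :=
      Module.Free.of_divisionRing _ _
    exact Module.Flat.of_free
  exact Groth.Agent.Helper8.LocalCrit.flat_of_rTensor_injective_of_flat_quotient
    (R := A) (S := B) (M := M) (maximalIdeal A) hIS h1 h2

/-- Miracle flatness, module version. -/
theorem main (A B : Type u) [CommRing A] [CommRing B] [IsRegularLocalRing A] [IsNoetherianRing B]
    [IsLocalRing B] [Algebra A B] [IsLocalHom (algebraMap A B)]
    (M : Type u) [AddCommGroup M] [Module B M] [Module A M] [IsScalarTower A B M]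
    [Module.Finite B M]
    (hCM : LocCoh.IsCohenMacaulayModule B M)
    (hdim : Module.supportDim B M = ringKrullDim A + Module.supportDim B (EGA4.FibMod A B M)) :
    Module.Flat A M := by
  have hfg : (maximalIdeal A).FG := IsNoetherian.noetherian _
  obtain ⟨s, hs1, hs2⟩ := Submodule.FG.exists_span_finset_card_eq_spanFinrank hfg
  have hlen : ((s.toList.length : ℕ) : WithBot ℕ∞) = ringKrullDim A := by
    rw [Finset.length_toList, hs1]
    exact IsRegularLocalRing.spanFinrank_maximalIdeal
  have hof : Ideal.ofList s.toList = maximalIdeal A := by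
    rw [← hs2]
    show Ideal.span _ = Ideal.span _
    congr 1
    ext y
    simp
  have hofB : Ideal.ofList (s.toList.map (algebraMap A B)) = EGA4.mB A B := by
    rw [← Ideal.map_ofList, hof]
  have hmem : ∀ y ∈ s.toList.map (algebraMap A B), y ∈ maximalIdeal B := by
    intro y hy
    have h1 : y ∈ Ideal.ofList (s.toList.map (algebraMap A B)) := Ideal.subset_span hy
    rw [hofB] at h1
    exact IsLocalRing.map_maximalIdeal_le (algebraMap A B) h1
  have hreg : IsWeaklyRegular M (s.toList.map (algebraMap A B)) := by
    apply Groth.Agent.H29.isWeaklyRegular_of_supportDim_quotient_add_length B _ M hCM hmem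
    rw [hofB, List.length_map, hlen, hdim, add_comm]
  have hregA : IsWeaklyRegular M s.toList := (isWeaklyRegular_map_algebraMap_iff B M _).mp hreg
  exact flat_of_isWeaklyRegular A B M s.toList hof hregA

/-- Miracle flatness, ring version. -/
theorem main_ring {R S : Type u} [CommRing R] [CommRing S] [IsRegularLocalRing R]
    [LocCoh.IsCohenMacaulayLocalRing S] [Algebra R S] [IsLocalHom (algebraMap R S)]
    (hdim : ringKrullDim S = ringKrullDim R +
      ringKrullDim (S ⧸ (IsLocalRing.maximalIdeal R).map (algebraMap R S))) :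
    Module.Flat R S := by
  apply main R S S LocCoh.IsCohenMacaulayLocalRing.supportDim_eq_depth
  rw [Module.supportDim_self_eq_ringKrullDim, hdim]
  congr 1
  have h1 : (EGA4.mB R S • (⊤ : Submodule S S)) = EGA4.mB R S := by
    rw [smul_eq_mul, Ideal.mul_top]
  show _ = Module.supportDim S (S ⧸ (EGA4.mB R S • (⊤ : Submodule S S)))
  rw [h1, Module.supportDim_quotient_eq_ringKrullDim]

end Groth.Agent.Helper1.Miracle
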