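import Mathlib
import Groth.Prelude.Def_CAlg
import Groth.Agent.H29.DepthFinite
import Groth.Agent.H29.DepthLocal
import Groth.Agent.H29.RegLocal3
import Groth.Agent.H29.RegNormal

namespace Groth.Agent.Helper1.MiracleFinite

open IsLocalRing

universe u

set_option linter.style.haveILetI false

theorem main (R S : Type u) [CommRing R] [CommRing S]
    [IsRegularLocalRing R] [IsDomain S] [Algebra R S] [Module.Finite R S]
    (hinj : Function.Injective (algebraMap R S))
    (hCM : ∀ (q : Ideal S) [q.IsMaximal],
      LocCoh.IsCohenMacaulayLocalRing (Localization.AtPrime q)) :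
    Module.Flat R S := by
  haveI : IsNoetherianRing S := IsNoetherianRing.of_finite R S
  haveI : IsDomain R := Groth.Agent.H29.isDomain_of_isRegularLocalRing R
  haveI : IsIntegrallyClosed R := Groth.Agent.H29.isIntegrallyClosed_of_isRegularLocalRing R
  haveI : FaithfulSMul R S := (faithfulSMul_iff_algebraMap_injective R S).mpr hinj
  haveI : Algebra.IsIntegral R S := Algebra.IsIntegral.of_finite R S
  have hkey : (maximalIdeal R).height ≤ LocCoh.depth R S := by
    unfold LocCoh.depth
    rw [Groth.Agent.H29.idealDepth_eq_idealDepth_map R S (maximalIdeal R) S,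
      Groth.Agent.H29.idealDepth_eq_iInf_depth_localizedModule]
    refine le_iInf₂ (fun P hP => ?_)
    have hcomap : (maximalIdeal R) = P.asIdeal.comap (algebraMap R S) := by
      have h1 : maximalIdeal R ≤ P.asIdeal.comap (algebraMap R S) :=
        Ideal.map_le_iff_le_comap.mp hP
      exact (maximalIdeal.isMaximal R).eq_of_le (Ideal.IsPrime.ne_top inferInstance) h1
    haveI hPmax : P.asIdeal.IsMaximal :=
      Ideal.isMaximal_of_isIntegral_of_isMaximal_comap (R := R) P.asIdeal
        (by rw [← hcomap]; exact maximalIdeal.isMaximal R)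
    haveI : P.asIdeal.LiesOver (maximalIdeal R) := ⟨hcomap⟩
    rw [Groth.Agent.H29.depth_localizedModule_self,
      Groth.Agent.H29.depth_localization_eq_height_of_isCohenMacaulayLocalRing S P.asIdeal
        (hCM P.asIdeal),
      Ideal.height_eq_height_add_of_liesOver_of_hasGoingDown (maximalIdeal R) P.asIdeal]
    exact le_self_add
  have h1 := Groth.Agent.H29.depth_le_supportDim R S
  have h2 := Module.supportDim_le_ringKrullDim R S
  have h3 : ((LocCoh.depth R S : ℕ∞) : WithBot ℕ∞) = ringKrullDim R := by
    apply le_antisymm (h1.trans h2)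
    rw [← maximalIdeal_height_eq_ringKrullDim]
    exact WithBot.coe_le_coe.mpr hkey
  haveI := Groth.Agent.H29.free_of_depth_eq_ringKrullDim R S h3
  infer_instance

end Groth.Agent.Helper1.MiracleFinite
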