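import Mathlib
import Groth.Agent.H11.MultCrvLib

/-!
# Freeness of the graded pieces of the two canonical filtrations (helper1, S17944)
-/

open MultCrv Polynomial

namespace Groth.Agent.Helper1.MC

open Groth.Agent.H11.MC

section Core

variable {S : Type*} [CommRing S] (M : Type*) [AddCommGroup M] [Module S M] (z c : S)

/-- `z^i M / z^(i+1) M` has no `c`-torsion -/
def PA (i : ℕ) : Prop := ∀ m : M, (∃ w : M, z ^ i • w = m) → (∃ w : M, z ^ (i + 1) • w = c • m) →
  ∃ w : M, z ^ (i + 1) • w = m

/-- `M^(i+1) / (M^(i) + z M^(i+2))` has no `c`-torsion -/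
def PB (i : ℕ) : Prop := ∀ u : M, z ^ (i + 1) • u = 0 →
  (∃ b : M, z ^ (i + 2) • b = 0 ∧ z ^ i • (z • b - c • u) = 0) →
  ∃ b : M, z ^ (i + 2) • b = 0 ∧ z ^ i • (z • b - u) = 0

/-- `M / z^i M` has no `c`-torsion -/
def PA' (i : ℕ) : Prop := ∀ m : M, (∃ w : M, z ^ i • w = c • m) → ∃ w : M, z ^ i • w = m

/-- `ker z / (z^l M ∩ ker z)` has no `c`-torsion -/
def PC (l : ℕ) : Prop := ∀ v : M, z • v = 0 → (∃ b : M, z ^ l • b = c • v) → ∃ b : M, z ^ l • b = v

variable {M z c} (n : ℕ)

lemma PA'_of_PA (h : ∀ i < n, PA M z c i) : ∀ i, i ≤ n → PA' M z c i := by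
  intro i
  induction i with
  | zero => intro _ m _; exact ⟨m, by rw [pow_zero, one_smul]⟩
  | succ i ih =>
    intro hi m hm
    obtain ⟨w, hw⟩ := hm
    have h1 : ∃ w', z ^ i • w' = m :=
      ih (by omega) m ⟨z • w, by linear_combination (norm := module) hw⟩
    exact h i (by omega) m h1 ⟨w, hw⟩

lemma PA_of_PA' (h : ∀ i, i ≤ n → PA' M z c i) : ∀ i < n, PA M z c i := by
  intro i hi m _ hw
  exact h (i + 1) (by omega) m hw

lemma PB_of_PA' (h : ∀ i, i ≤ n → PA' M z c i) : ∀ i < n, PB M z c i := by
  intro i hi u hu hb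
  obtain ⟨b, hb, hbu⟩ := hb
  obtain ⟨w', hw'⟩ := h (i + 1) (by omega) (z ^ i • u)
    ⟨b, by linear_combination (norm := module) hbu⟩
  refine ⟨w', ?_, ?_⟩
  · linear_combination (norm := module) z • hw' + hu
  · linear_combination (norm := module) hw'

lemma PC_of_PB (hzn : z ^ n = 0) (h : ∀ i < n, PB M z c i) : ∀ l, PC M z c l := by
  intro l
  induction l with
  | zero => intro v _ _; exact ⟨v, by rw [pow_zero, one_smul]⟩
  | succ l ih =>
    intro v hv hb
    obtain ⟨b, hb⟩ := hb
    obtain ⟨u, hu⟩ := ih v hv ⟨z • b, by linear_combination (norm := module) hb⟩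
    by_cases hl : l < n
    · have hu1 : z ^ (l + 1) • u = 0 := by linear_combination (norm := module) z • hu + hv
      have hb2 : z ^ (l + 2) • b = 0 := by linear_combination (norm := module) z • hb + c • hv
      have hb3 : z ^ l • (z • b - c • u) = 0 := by linear_combination (norm := module) hb - c • hu
      obtain ⟨b', _, hbu'⟩ := h l hl u hu1 ⟨b, hb2, hb3⟩
      exact ⟨b', by linear_combination (norm := module) hbu' + hu⟩
    · have hz : z ^ l = 0 := by
        obtain ⟨k, rfl⟩ := Nat.exists_eq_add_of_le (not_lt.1 hl)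
        rw [pow_add, hzn, zero_mul]
      have hv0 : v = 0 := by rw [← hu, hz, zero_smul]
      exact ⟨0, by rw [smul_zero, hv0]⟩

lemma PA'_of_PC (hzn : z ^ n = 0) (hC : ∀ l, PC M z c l) : ∀ i, PA' M z c i := by
  intro i
  have key : ∀ j : ℕ, ∀ m : M, z ^ j • m = 0 → (∃ w, z ^ i • w = c • m) → ∃ w, z ^ i • w = m := by
    intro j
    induction j with
    | zero =>
      intro m hm _
      rw [pow_zero, one_smul] at hm
      exact ⟨0, by rw [smul_zero, hm]⟩
    | succ j ih =>
      intro m hm hw
      obtain ⟨w, hw⟩ := hw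
      obtain ⟨b', hb'⟩ := hC (j + i) (z ^ j • m) (by linear_combination (norm := module) hm)
        ⟨w, by linear_combination (norm := module) z ^ j • hw⟩
      obtain ⟨c', hc'⟩ := ih (m - z ^ i • b')
        (by linear_combination (norm := module) (-1 : S) • hb')
        ⟨w - c • b', by linear_combination (norm := module) hw⟩
      exact ⟨c' + b', by linear_combination (norm := module) hc'⟩
  intro m hm
  exact key n m (by rw [hzn, zero_smul]) hm

theorem PA_iff_PB (hzn : z ^ n = 0) : (∀ i < n, PA M z c i) ↔ (∀ i < n, PB M z c i) :=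
  ⟨fun h => PB_of_PA' n (PA'_of_PA n h),
   fun h => PA_of_PA' n (fun i _ => PA'_of_PC n hzn (PC_of_PB n hzn h) i)⟩

end Core

section Free

/-- over a DVR, a finitely generated module is free iff it has no `π`-torsion -/
lemma free_iff_of_irreducible {R : Type*} [CommRing R] [IsDomain R] [IsDiscreteValuationRing R]
    {π : R} (hπ : Irreducible π) (Q : Type*) [AddCommGroup Q] [Module R Q] [Module.Finite R Q] :
    Module.Free R Q ↔ ∀ x : Q, π • x = 0 → x = 0 := by
  constructor
  · intro h x hx
    have hreg : IsSMulRegular Q π :=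
      Module.IsTorsionFree.isSMulRegular (isRegular_of_ne_zero hπ.ne_zero)
    apply hreg
    show π • x = π • 0
    rw [hx, smul_zero]
  · intro h
    have hpow : ∀ (k : ℕ) (x : Q), π ^ k • x = 0 → x = 0 := by
      intro k
      induction k with
      | zero => intro x hx; rwa [pow_zero, one_smul] at hx
      | succ k ih =>
        intro x hx
        rw [pow_succ, mul_smul] at hx
        exact h x (ih _ hx)
    haveI : Module.IsTorsionFree R Q := ⟨by
      intro r hr
      have hr0 : r ≠ 0 := hr.ne_zero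
      obtain ⟨k, u, rfl⟩ := IsDiscreteValuationRing.eq_unit_mul_pow_irreducible hr0 hπ
      intro x y hxy
      have h1 : ((u : R) * π ^ k) • (x - y) = 0 := by
        rw [smul_sub]
        exact sub_eq_zero.2 hxy
      rw [mul_smul] at h1
      have h2 : π ^ k • (x - y) = 0 := by
        have h3 : ((u⁻¹ : Rˣ) : R) • ((u : R) • π ^ k • (x - y)) = 0 := by rw [h1, smul_zero]
        rwa [smul_smul, Units.inv_mul, one_smul] at h3
      exact sub_eq_zero.1 (hpow k _ h2)⟩
    infer_instance

end Free

section Trans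

variable {R : Type*} [CommRing R] {n : ℕ}
variable {M : Type*} [AddCommGroup M] [Module (Rn R n) M] [Module R M]
  [IsScalarTower R (Rn R n) M]

lemma noeth_sub (p : Submodule (Rn R n) M) [IsNoetherian R M] : IsNoetherian R ↥p :=
  isNoetherian_of_injective
    ({ toFun := fun x => (x : M), map_add' := fun _ _ => rfl, map_smul' := fun _ _ => rfl } :
      ↥p →ₗ[R] M) Subtype.val_injective

lemma noeth_quot (q : Submodule (Rn R n) M) [IsNoetherian R M] : IsNoetherian R (M ⧸ q) :=
  isNoetherian_of_surjective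
    ({ toFun := Submodule.Quotient.mk, map_add' := fun _ _ => rfl,
       map_smul' := fun _ _ => rfl } : M →ₗ[R] M ⧸ q)
    (LinearMap.range_eq_top.2 (Submodule.Quotient.mk_surjective q))

variable (π : R)

lemma G1_torsion_iff (i : ℕ) :
    (∀ x : G1 R n M i, π • x = 0 → x = 0) ↔
      PA M (z R n) (algebraMap R (Rn R n) π) i := by
  constructor
  · intro h m hm hw
    obtain ⟨w, hw⟩ := hw
    let m' : ↥(filt R n M i) := ⟨m, (mem_filt_iff i m).2 hm⟩
    have h1 : π • (Submodule.Quotient.mk m' : G1 R n M i) = 0 := by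
      rw [← Submodule.Quotient.mk_smul, Submodule.Quotient.mk_eq_zero, Submodule.mem_comap]
      show π • m ∈ filt R n M (i + 1)
      rw [← algebraMap_smul (Rn R n) π m]
      exact (mem_filt_iff _ _).2 ⟨w, hw⟩
    have h2 := h _ h1
    rw [Submodule.Quotient.mk_eq_zero, Submodule.mem_comap] at h2
    exact (mem_filt_iff _ _).1 h2
  · intro h x hx
    induction x using Submodule.Quotient.induction_on with
    | H m' =>
      rw [← Submodule.Quotient.mk_smul, Submodule.Quotient.mk_eq_zero, Submodule.mem_comap] at hx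
      have hx' : π • (m' : M) ∈ filt R n M (i + 1) := hx
      rw [← algebraMap_smul (Rn R n) π (m' : M)] at hx'
      rw [Submodule.Quotient.mk_eq_zero, Submodule.mem_comap]
      exact (mem_filt_iff _ _).2
        (h (m' : M) ((mem_filt_iff _ _).1 m'.2) ((mem_filt_iff _ _).1 hx'))

omit [Module R M] [IsScalarTower R (Rn R n) M] in
lemma mem_range_lamG2_iff (i : ℕ) (y : ↥(filt2 R n M (i + 1))) :
    (Submodule.Quotient.mk y : G2 R n M (i + 1)) ∈ LinearMap.range (lamG2 R n M i) ↔
      ∃ b : M, z R n ^ (i + 2) • b = 0 ∧ z R n ^ i • (z R n • b - (y : M)) = 0 := by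
  constructor
  · rintro ⟨q, hq⟩
    induction q using Submodule.Quotient.induction_on with
    | H b' =>
      have hq' : (Submodule.Quotient.mk (zDown R n M (i + 1) b') : G2 R n M (i + 1)) =
          Submodule.Quotient.mk y := hq
      rw [Submodule.Quotient.eq, Submodule.mem_comap] at hq'
      have h3 : z R n • (b' : M) - (y : M) ∈ filt2 R n M i := hq'
      exact ⟨(b' : M), (mem_filt2_iff _ _).1 b'.2, (mem_filt2_iff _ _).1 h3⟩
  · rintro ⟨b, hb, hby⟩
    let b' : ↥(filt2 R n M (i + 2)) := ⟨b, (mem_filt2_iff _ _).2 hb⟩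
    refine ⟨Submodule.Quotient.mk b', ?_⟩
    show (Submodule.Quotient.mk (zDown R n M (i + 1) b') : G2 R n M (i + 1)) =
      Submodule.Quotient.mk y
    rw [Submodule.Quotient.eq, Submodule.mem_comap]
    show z R n • b - (y : M) ∈ filt2 R n M i
    exact (mem_filt2_iff _ _).2 hby

lemma Gam2_torsion_iff (i : ℕ) :
    (∀ x : Gam2 R n M i, π • x = 0 → x = 0) ↔
      PB M (z R n) (algebraMap R (Rn R n) π) i := by
  constructor
  · intro h u hu hb
    let u' : ↥(filt2 R n M (i + 1)) := ⟨u, (mem_filt2_iff _ _).2 hu⟩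
    have h1 : π • (Submodule.Quotient.mk (Submodule.Quotient.mk u' : G2 R n M (i + 1)) :
        Gam2 R n M i) = 0 := by
      rw [← Submodule.Quotient.mk_smul, ← Submodule.Quotient.mk_smul,
        Submodule.Quotient.mk_eq_zero, mem_range_lamG2_iff]
      obtain ⟨b, hb, hbu⟩ := hb
      refine ⟨b, hb, ?_⟩
      show z R n ^ i • (z R n • b - π • u) = 0
      rw [← algebraMap_smul (Rn R n) π u]
      exact hbu
    have h2 := h _ h1
    rw [Submodule.Quotient.mk_eq_zero, mem_range_lamG2_iff] at h2
    exact h2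
  · intro h x hx
    induction x using Submodule.Quotient.induction_on with
    | H x' =>
      induction x' using Submodule.Quotient.induction_on with
      | H u' =>
        rw [← Submodule.Quotient.mk_smul, ← Submodule.Quotient.mk_smul,
          Submodule.Quotient.mk_eq_zero, mem_range_lamG2_iff] at hx
        rw [Submodule.Quotient.mk_eq_zero, mem_range_lamG2_iff]
        refine h (u' : M) ((mem_filt2_iff _ _).1 u'.2) ?_
        obtain ⟨b, hb, hbu⟩ := hx
        refine ⟨b, hb, ?_⟩
        have hbu' : z R n ^ i • (z R n • b - π • (u' : M)) = 0 := hbu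
        rw [← algebraMap_smul (Rn R n) π (u' : M)] at hbu'
        exact hbu'

end Trans

section Main

theorem free_G1_iff_free_Gam2 (R : Type*) [CommRing R] [IsDomain R] [IsDiscreteValuationRing R]
    (n : ℕ) (M : Type*) [AddCommGroup M] [Module (Rn R n) M] [Module R M]
    [IsScalarTower R (Rn R n) M] [Module.Finite (Rn R n) M] :
    (∀ i : ℕ, i < n → Module.Free R (G1 R n M i)) ↔
      (∀ i : ℕ, i < n → Module.Free R (Gam2 R n M i)) := by
  obtain ⟨π, hπ⟩ := IsDiscreteValuationRing.exists_irreducible R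
  haveI : Module.Finite R M := Module.Finite.trans (Rn R n) M
  haveI : IsNoetherian R M := isNoetherian_of_isNoetherianRing_of_finite R M
  have hG1 : ∀ i, Module.Finite R (G1 R n M i) := by
    intro i
    haveI := noeth_sub (R := R) (filt R n M i)
    haveI := noeth_quot (R := R) (Submodule.comap (filt R n M i).subtype (filt R n M (i + 1)))
    exact Module.IsNoetherian.finite R _
  have hGam : ∀ i, Module.Finite R (Gam2 R n M i) := by
    intro i
    haveI := noeth_sub (R := R) (filt2 R n M (i + 1))
    haveI := noeth_quot (R := R)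
      (Submodule.comap (filt2 R n M (i + 1)).subtype (filt2 R n M (i + 1 - 1)))
    haveI := noeth_quot (R := R) (LinearMap.range (lamG2 R n M i))
    exact Module.IsNoetherian.finite R _
  have e1 : ∀ i, Module.Free R (G1 R n M i) ↔ PA M (z R n) (algebraMap R (Rn R n) π) i := by
    intro i
    haveI := hG1 i
    rw [free_iff_of_irreducible hπ, G1_torsion_iff]
  have e2 : ∀ i, Module.Free R (Gam2 R n M i) ↔ PB M (z R n) (algebraMap R (Rn R n) π) i := by
    intro i
    haveI := hGam i
    rw [free_iff_of_irreducible hπ, Gam2_torsion_iff]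
  simp only [e1, e2]
  exact PA_iff_PB n (z_pow_n R n)

end Main

end Groth.Agent.Helper1.MC
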