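import Mathlib
import Groth.Prelude.Def_W4c5qllcourbesmultMultCrv
import Groth.Agent.H11.MultCrvLib

set_option autoImplicit false
universe u

namespace Groth.Agent.Helper1.MultCrv2

open MultCrv

section nil
variable {A : Type u} [CommRing A] (z : A) (n : ℕ) {E : Type*} [AddCommGroup E] [Module A E]

theorem pow_mem (N : E →ₗ[A] E) (hN : ∀ x, ∃ w, z • w = N x) :
    ∀ (k : ℕ) (x : E), ∃ w, z ^ k • w = (N ^ k) x := by
  intro k
  induction k with
  | zero =>
    intro x
    exact ⟨x, by simp⟩
  | succ k ih =>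
    intro x
    obtain ⟨w, hw⟩ := ih x
    obtain ⟨w', hw'⟩ := hN w
    refine ⟨w', ?_⟩
    rw [pow_succ' N k, Module.End.mul_apply, ← hw, map_smul, ← hw', smul_smul, ← pow_succ]

theorem isNilpotent_of (hz : z ^ n = 0) (N : E →ₗ[A] E) (hN : ∀ x, ∃ w, z • w = N x) :
    IsNilpotent N := by
  refine ⟨n, LinearMap.ext fun x => ?_⟩
  obtain ⟨w, hw⟩ := pow_mem z N hN n x
  rw [← hw, hz]
  exact zero_smul A w

theorem bijective_of_comp_sub (hz : z ^ n = 0) (γ : E →ₗ[A] E)
    (hγ : ∀ x, ∃ w, z • w = γ x - x) :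
    Function.Bijective γ := by
  have hN : ∀ x, ∃ w, z • w = (γ - (LinearMap.id : E →ₗ[A] E)) x := fun x => by
    rw [LinearMap.sub_apply, LinearMap.id_apply]
    exact hγ x
  have h := (isNilpotent_of z n hz (γ - (LinearMap.id : E →ₗ[A] E)) hN).isUnit_one_add
  rw [Module.End.isUnit_iff] at h
  have e : (1 + (γ - (LinearMap.id : E →ₗ[A] E)) : Module.End A E) = γ := by
    refine LinearMap.ext fun x => ?_
    rw [LinearMap.add_apply, Module.End.one_apply, LinearMap.sub_apply, LinearMap.id_apply]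
    abel
  rwa [e] at h

end nil

noncomputable section model
variable (A : Type u) [CommRing A] (z : A) (n : ℕ) (m : Fin n → ℕ)

/-- the free cover of the model -/
abbrev P : Type u := (i : Fin n) → (Fin (m i) → A)
/-- the model as a plain Pi type -/
abbrev Q : Type u := (i : Fin n) → (Fin (m i) → A ⧸ Ideal.span {z ^ (i.1 + 1)})

/-- the standard surjection -/
def psi : P A n m →ₗ[A] Q A z n m where
  toFun c := fun i k => Ideal.Quotient.mk _ (c i k)
  map_add' c d := by
    funext i k
    exact map_add _ _ _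
  map_smul' a c := by
    funext i k
    rfl

theorem psi_surjective : Function.Surjective (psi A z n m) := by
  intro y
  have h : ∀ (i : Fin n) (k : Fin (m i)), ∃ a : A,
      Ideal.Quotient.mk (Ideal.span {z ^ (i.1 + 1)}) a = y i k :=
    fun i k => Ideal.Quotient.mk_surjective _
  choose c hc using h
  exact ⟨c, funext fun i => funext fun k => hc i k⟩

theorem mem_ker_psi (c : P A n m) :
    c ∈ LinearMap.ker (psi A z n m) ↔ ∀ i k, c i k ∈ Ideal.span {z ^ (i.1 + 1)} := by
  rw [LinearMap.mem_ker]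
  constructor
  · intro h i k
    have := congrFun (congrFun h i) k
    exact Ideal.Quotient.eq_zero_iff_mem.mp this
  · intro h
    funext i k
    exact Ideal.Quotient.eq_zero_iff_mem.mpr (h i k)

/-- multiplication by `z^(i+1)` on the `i`-th block -/
def Lam : P A n m →ₗ[A] P A n m where
  toFun c := fun i k => z ^ (i.1 + 1) * c i k
  map_add' c d := by
    funext i k
    exact mul_add _ _ _
  map_smul' a c := by
    funext i k
    exact mul_left_comm _ _ _

theorem range_Lam : LinearMap.range (Lam A z n m) = LinearMap.ker (psi A z n m) := by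
  ext c
  rw [mem_ker_psi, LinearMap.mem_range]
  constructor
  · rintro ⟨d, rfl⟩ i k
    exact Ideal.mul_mem_right _ _ (Ideal.mem_span_singleton_self _)
  · intro h
    have h' : ∀ (i : Fin n) (k : Fin (m i)), ∃ d, c i k = z ^ (i.1 + 1) * d :=
      fun i k => Ideal.mem_span_singleton.mp (h i k)
    choose d hd using h'
    exact ⟨d, funext fun i => funext fun k => (hd i k).symm⟩

theorem ker_psi_le (c : P A n m) (hc : c ∈ LinearMap.ker (psi A z n m)) :
    ∃ w : P A n m, z • w = c := by
  rw [← range_Lam] at hc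
  obtain ⟨d, rfl⟩ := hc
  refine ⟨fun i k => z ^ i.1 * d i k, ?_⟩
  funext i k
  show z * (z ^ i.1 * d i k) = z ^ (i.1 + 1) * d i k
  ring

theorem mem_ker_Lam (hz : z ^ n = 0)
    (hF : ∀ j, j ≤ n → ∀ a : A, z ^ j * a = 0 → a ∈ Ideal.span {z ^ (n - j)}) (c : P A n m) :
    c ∈ LinearMap.ker (Lam A z n m) ↔ ∀ (i : Fin n) (k : Fin (m i)), i.1 + 1 < n →
      c i k ∈ Ideal.span {z ^ (n - (i.1 + 1))} := by
  rw [LinearMap.mem_ker]
  constructor
  · intro h i k _
    have := congrFun (congrFun h i) k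
    exact hF (i.1 + 1) (by omega) _ this
  · intro h
    funext i k
    show z ^ (i.1 + 1) * c i k = 0
    by_cases hi : i.1 + 1 < n
    · obtain ⟨b, hb⟩ := Ideal.mem_span_singleton.mp (h i k hi)
      rw [hb, ← mul_assoc, ← pow_add, show i.1 + 1 + (n - (i.1 + 1)) = n by omega, hz, zero_mul]
    · have : i.1 + 1 = n := by
        have := i.2
        omega
      rw [this, hz, zero_mul]

/-- the index reversal -/
def rho (i : Fin n) (h : i.1 + 1 < n) : Fin n := ⟨n - 2 - i.1, by omega⟩

theorem rho_val (i : Fin n) (h : i.1 + 1 < n) : (rho n i h).1 = n - 2 - i.1 := rfl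

theorem revType_pos (i : Fin n) (h : i.1 + 1 < n) : revType n m i = m (rho n i h) := by
  unfold revType rho
  rw [dif_pos h]

theorem revType_neg (i : Fin n) (h : ¬ i.1 + 1 < n) : revType n m i = 0 := by
  unfold revType
  rw [dif_neg h]

/-- the underlying function of `Xi` -/
def XiFun (c : P A n m) : Q A z n (revType n m) := fun i' k' =>
  if h : i'.1 + 1 < n then
    Ideal.Quotient.mk _ (c (rho n i' h) (Fin.cast (revType_pos n m i' h) k'))
  else 0

theorem XiFun_pos (c : P A n m) (i' : Fin n) (h : i'.1 + 1 < n) (k' : Fin (revType n m i')) :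
    XiFun A z n m c i' k' =
      Ideal.Quotient.mk _ (c (rho n i' h) (Fin.cast (revType_pos n m i' h) k')) :=
  dif_pos h

/-- the surjection onto the reversed model -/
def Xi : P A n m →ₗ[A] Q A z n (revType n m) where
  toFun := XiFun A z n m
  map_add' c d := by
    funext i' k'
    by_cases h : i'.1 + 1 < n
    · rw [Pi.add_apply, Pi.add_apply, XiFun_pos A z n m _ i' h, XiFun_pos A z n m _ i' h,
        XiFun_pos A z n m _ i' h]
      exact map_add _ _ _
    · exact (Fin.cast (revType_neg n m i' h) k').elim0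
  map_smul' a c := by
    funext i' k'
    by_cases h : i'.1 + 1 < n
    · rw [Pi.smul_apply, Pi.smul_apply, XiFun_pos A z n m _ i' h, XiFun_pos A z n m _ i' h]
      rfl
    · exact (Fin.cast (revType_neg n m i' h) k').elim0

theorem Xi_apply_pos (c : P A n m) (i' : Fin n) (h : i'.1 + 1 < n) (k' : Fin (revType n m i')) :
    Xi A z n m c i' k' =
      Ideal.Quotient.mk _ (c (rho n i' h) (Fin.cast (revType_pos n m i' h) k')) :=
  XiFun_pos A z n m c i' h k'

theorem mem_ker_Xi (c : P A n m) :
    c ∈ LinearMap.ker (Xi A z n m) ↔ ∀ (i' : Fin n) (h : i'.1 + 1 < n) (k' : Fin (revType n m i')),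
      c (rho n i' h) (Fin.cast (revType_pos n m i' h) k') ∈ Ideal.span {z ^ (i'.1 + 1)} := by
  rw [LinearMap.mem_ker]
  constructor
  · intro hc i' h k'
    have := congrFun (congrFun hc i') k'
    rw [Xi_apply_pos A z n m c i' h k'] at this
    exact Ideal.Quotient.eq_zero_iff_mem.mp this
  · intro hc
    funext i' k'
    by_cases h : i'.1 + 1 < n
    · rw [Xi_apply_pos A z n m c i' h k']
      exact Ideal.Quotient.eq_zero_iff_mem.mpr (hc i' h k')
    · exact (Fin.cast (revType_neg n m i' h) k').elim0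

theorem rho_rho (i : Fin n) (hi : i.1 + 1 < n) (hi' : (rho n i hi).1 + 1 < n) :
    rho n (rho n i hi) hi' = i := by
  apply Fin.ext
  rw [rho_val, rho_val]
  omega

theorem rho_lt (i : Fin n) (hi : i.1 + 1 < n) : (rho n i hi).1 + 1 < n := by
  rw [rho_val]
  omega

theorem ker_Lam_eq_ker_Xi (hz : z ^ n = 0)
    (hF : ∀ j, j ≤ n → ∀ a : A, z ^ j * a = 0 → a ∈ Ideal.span {z ^ (n - j)}) :
    LinearMap.ker (Lam A z n m) = LinearMap.ker (Xi A z n m) := by
  ext c
  rw [mem_ker_Lam A z n m hz hF, mem_ker_Xi]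
  constructor
  · intro h i' hi' k'
    have := h (rho n i' hi') (Fin.cast (revType_pos n m i' hi') k') (rho_lt n i' hi')
    have e : n - ((rho n i' hi').1 + 1) = i'.1 + 1 := by
      rw [rho_val]
      omega
    rwa [e] at this
  · intro h i k hi
    have hi' := rho_lt n i hi
    have e1 := rho_rho n i hi hi'
    have := h (rho n i hi) hi' (Fin.cast (by rw [revType_pos n m _ hi', e1]) k)
    have e2 : (rho n i hi).1 + 1 = n - (i.1 + 1) := by
      rw [rho_val]
      omega
    rw [e2] at this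
    have key : ∀ (j : Fin n) (_ : j = i) (κ : Fin (m j)),
        c j κ ∈ Ideal.span {z ^ (n - (i.1 + 1))} → κ.1 = k.1 →
        c i k ∈ Ideal.span {z ^ (n - (i.1 + 1))} := by
      intro j hj κ hmem hκ
      subst hj
      have : κ = k := Fin.ext hκ
      subst this
      exact hmem
    exact key _ e1 _ this (by rfl)

theorem Xi_surjective : Function.Surjective (Xi A z n m) := by
  intro y
  have hc : ∀ (i : Fin n) (k : Fin (m i)), ∃ a : A,
      ∀ (i' : Fin n) (h : i'.1 + 1 < n) (k' : Fin (revType n m i')), rho n i' h = i →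
        (Fin.cast (revType_pos n m i' h) k').1 = k.1 →
        Ideal.Quotient.mk (Ideal.span {z ^ (i'.1 + 1)}) a = y i' k' := by
    intro i k
    by_cases hi : i.1 + 1 < n
    · have hi' := rho_lt n i hi
      have e1 := rho_rho n i hi hi'
      obtain ⟨a, ha⟩ := Ideal.Quotient.mk_surjective
        (y (rho n i hi) (Fin.cast (by rw [revType_pos n m _ hi', e1]) k))
      refine ⟨a, ?_⟩
      intro i' h k' hρ hk
      have hii : rho n i hi = i' := by
        apply Fin.ext
        have := congrArg Fin.val hρ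
        rw [rho_val] at this ⊢
        omega
      subst hii
      have hkk : Fin.cast (by rw [revType_pos n m _ hi', e1]) k = k' := Fin.ext hk.symm
      subst hkk
      exact ha
    · refine ⟨0, ?_⟩
      intro i' h k' hρ _
      exfalso
      have := congrArg Fin.val hρ
      rw [rho_val] at this
      omega
  choose c hc' using hc
  refine ⟨c, ?_⟩
  funext i' k'
  by_cases h : i'.1 + 1 < n
  · rw [Xi_apply_pos A z n m c i' h k']
    exact hc' (rho n i' h) (Fin.cast (revType_pos n m i' h) k') i' h k' rfl rfl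
  · exact (Fin.cast (revType_neg n m i' h) k').elim0

theorem alpha_bij (hz : z ^ n = 0) {E : Type u} [AddCommGroup E] [Module A E]
    (Φ : E →ₗ[A] Q A z n m)
    (hker : ∀ f, Φ f = 0 → ∃ w, z • w = f)
    (α : E →ₗ[A] P A n m) (β : P A n m →ₗ[A] E)
    (hα' : ∀ f, psi A z n m (α f) = Φ f) (hβ' : ∀ c, Φ (β c) = psi A z n m c) :
    Function.Bijective α := by
  have h1 : Function.Bijective (α ∘ₗ β) := by
    apply bijective_of_comp_sub z n hz
    intro c
    apply ker_psi_le
    rw [LinearMap.mem_ker, map_sub, LinearMap.comp_apply, hα', hβ']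
    exact sub_self (psi A z n m c)
  have h2 : Function.Bijective (β ∘ₗ α) := by
    apply bijective_of_comp_sub z n hz
    intro f
    apply hker
    rw [map_sub, LinearMap.comp_apply, hβ', hα']
    exact sub_self (Φ f)
  constructor
  · refine Function.Injective.of_comp (f := β) ?_
    rw [← LinearMap.coe_comp]
    exact h2.1
  · refine Function.Surjective.of_comp (g := β) ?_
    rw [← LinearMap.coe_comp]
    exact h1.2

theorem ker_psi_equiv (hz : z ^ n = 0)
    (hF : ∀ j, j ≤ n → ∀ a : A, z ^ j * a = 0 → a ∈ Ideal.span {z ^ (n - j)}) :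
    Nonempty (LinearMap.ker (psi A z n m) ≃ₗ[A] Q A z n (revType n m)) :=
  ⟨(LinearEquiv.ofEq _ _ (range_Lam A z n m).symm).trans
      ((LinearMap.quotKerEquivRange (Lam A z n m)).symm.trans
        ((Submodule.quotEquivOfEq _ _ (ker_Lam_eq_ker_Xi A z n m hz hF)).trans
          (LinearMap.quotKerEquivOfSurjective (Xi A z n m) (Xi_surjective A z n m))))⟩

theorem core (hz : z ^ n = 0)
    (hF : ∀ j, j ≤ n → ∀ a : A, z ^ j * a = 0 → a ∈ Ideal.span {z ^ (n - j)})
    {E : Type u} [AddCommGroup E] [Module A E] [Module.Projective A E]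
    (Φ : E →ₗ[A] Q A z n m) (hΦ : Function.Surjective Φ)
    (hker : ∀ f, Φ f = 0 → ∃ w, z • w = f) :
    Nonempty (LinearMap.ker Φ ≃ₗ[A] Q A z n (revType n m)) := by
  have hψ : Function.Surjective (psi A z n m) := psi_surjective A z n m
  obtain ⟨α, hα⟩ := Module.projective_lifting_property (psi A z n m) Φ hψ
  obtain ⟨β, hβ⟩ := Module.projective_lifting_property Φ (psi A z n m) hΦ
  have hα' : ∀ f, psi A z n m (α f) = Φ f := fun f => LinearMap.congr_fun hα f
  have hβ' : ∀ c, Φ (β c) = psi A z n m c := fun c => LinearMap.congr_fun hβ c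
  have hαbij : Function.Bijective α := alpha_bij A z n m hz Φ hker α β hα' hβ'
  let αe : E ≃ₗ[A] P A n m := LinearEquiv.ofBijective α hαbij
  have hk : LinearMap.ker Φ =
      (LinearMap.ker (psi A z n m)).comap (αe : E →ₗ[A] P A n m) := by
    ext f
    rw [LinearMap.mem_ker, Submodule.mem_comap, LinearMap.mem_ker, ← hα']
    rfl
  obtain ⟨e0⟩ := ker_psi_equiv A z n m hz hF
  exact ⟨(LinearEquiv.ofEq _ _ hk).trans ((αe.ofSubmodule' _).trans e0)⟩

end model

section concrete
open Polynomial Groth.Agent.H11.MC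

theorem z_pow_mul_eq_zero (R : Type u) [CommRing R] [IsDomain R] (n : ℕ) (j : ℕ) (hj : j ≤ n)
    (a : Rn R n) (h : z R n ^ j * a = 0) : a ∈ Ideal.span {z R n ^ (n - j)} := by
  obtain ⟨f, rfl⟩ := Ideal.Quotient.mk_surjective a
  rw [z, ← map_pow, ← map_mul, Ideal.Quotient.eq_zero_iff_mem, Ideal.mem_span_singleton] at h
  obtain ⟨g, hg⟩ := h
  have hn : (X : R[X]) ^ n = X ^ j * X ^ (n - j) := by
    rw [← pow_add]
    congr 1
    omega
  rw [hn, mul_assoc] at hg
  have hf : f = X ^ (n - j) * g := mul_left_cancel₀ (pow_ne_zero j X_ne_zero) hg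
  rw [hf, map_mul, map_pow]
  exact Ideal.mul_mem_right _ _ (Ideal.mem_span_singleton_self _)

theorem main (R : Type u) [CommRing R] [IsDomain R] (n : ℕ) (m : Fin n → ℕ) (M : Type u)
    [AddCommGroup M] [Module (Rn R n) M] (hM : IsQuasiFreeOfType R n M m) (r : ℕ)
    (φ : (Fin r → Rn R n) →ₗ[Rn R n] M) (hφ : Function.Surjective φ)
    (hφz : ∀ f : Fin r → Rn R n, φ f ∈ filt R n M 1 → f ∈ filt R n (Fin r → Rn R n) 1) :
    IsQuasiFreeOfType R n ↥(LinearMap.ker φ) (revType n m) := by
  obtain ⟨eM⟩ := hM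
  let eM' : M ≃ₗ[Rn R n] Q (Rn R n) (z R n) n m := eM.trans (QFModel.equivPi R n m)
  let Φ : (Fin r → Rn R n) →ₗ[Rn R n] Q (Rn R n) (z R n) n m := eM'.toLinearMap ∘ₗ φ
  have hΦ : Function.Surjective Φ := eM'.surjective.comp hφ
  have hker : ∀ f, Φ f = 0 → ∃ w : Fin r → Rn R n, z R n • w = f := by
    intro f hf
    have h0 : φ f = 0 := eM'.map_eq_zero_iff.mp hf
    have h1 : f ∈ filt R n (Fin r → Rn R n) 1 := by
      apply hφz
      rw [h0]
      exact Submodule.zero_mem _
    obtain ⟨w, hw⟩ := (mem_filt_iff 1 f).mp h1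
    exact ⟨w, by rw [← hw, pow_one]⟩
  obtain ⟨e⟩ := core (Rn R n) (z R n) n m (z_pow_n R n) (z_pow_mul_eq_zero R n) Φ hΦ hker
  have hk : LinearMap.ker Φ = LinearMap.ker φ := by
    ext f
    rw [LinearMap.mem_ker, LinearMap.mem_ker]
    exact eM'.map_eq_zero_iff
  exact ⟨(LinearEquiv.ofEq _ _ hk.symm).trans (e.trans (QFModel.equivPi R n (revType n m)).symm)⟩

end concrete

end Groth.Agent.Helper1.MultCrv2
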