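import Mathlib

/-!
# The ideal of the variables in a polynomial ring (helper1)
-/

namespace Groth.Agent.Helper1.MvIdeal

open MvPolynomial

variable {K : Type*} [Field K] {σ τ : Type*}

/-- A ring homomorphism sending the variables into `J` sends `(X)^n` into `J^n`. -/
theorem map_mem_pow {S : Type*} [CommRing S] (φ : MvPolynomial σ K →+* S) (J : Ideal S)
    (hφ : ∀ i, φ (X i) ∈ J) (n : ℕ) {p : MvPolynomial σ K}
    (hp : p ∈ (Ideal.span (Set.range (X : σ → MvPolynomial σ K))) ^ n) : φ p ∈ J ^ n := by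
  have h1 : Ideal.map φ (Ideal.span (Set.range (X : σ → MvPolynomial σ K))) ≤ J := by
    rw [Ideal.map_span, Ideal.span_le]
    rintro _ ⟨_, ⟨i, rfl⟩, rfl⟩
    exact hφ i
  have h2 : Ideal.map φ ((Ideal.span (Set.range (X : σ → MvPolynomial σ K))) ^ n) ≤ J ^ n := by
    rw [Ideal.map_pow]
    exact Ideal.pow_right_mono h1 n
  exact h2 (Ideal.mem_map_of_mem φ hp)

theorem mem_span_X_iff (p : MvPolynomial σ K) :
    p ∈ Ideal.span (Set.range (X : σ → MvPolynomial σ K)) ↔ constantCoeff p = 0 := by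
  constructor
  · intro hp
    have h := map_mem_pow (constantCoeff : MvPolynomial σ K →+* K) ⊥ (fun i => by simp) 1
      (p := p) (by rwa [pow_one])
    rw [pow_one] at h
    exact h
  · intro hp
    have h1 : p ∈ (idealOfVars σ K) ^ 1 := by
      rw [mem_pow_idealOfVars_iff']
      intro x hx
      have hx0 : x = 0 := by
        rw [Nat.lt_one_iff] at hx
        exact (Finsupp.degree_eq_zero_iff x).mp hx
      rw [hx0]
      exact hp
    rwa [pow_one] at h1

theorem rename_mem_pow (f : σ → τ) (n : ℕ) {p : MvPolynomial σ K}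
    (hp : p ∈ (Ideal.span (Set.range (X : σ → MvPolynomial σ K))) ^ n) :
    rename f p ∈ (Ideal.span (Set.range (X : τ → MvPolynomial τ K))) ^ n := by
  refine map_mem_pow (rename f : MvPolynomial σ K →ₐ[K] MvPolynomial τ K).toRingHom _
    (fun i => ?_) n hp
  show rename f (X i) ∈ _
  rw [rename_X]
  exact Ideal.subset_span ⟨f i, rfl⟩

theorem rename_mem (f : σ → τ) {p : MvPolynomial σ K}
    (hp : p ∈ Ideal.span (Set.range (X : σ → MvPolynomial σ K))) :
    rename f p ∈ Ideal.span (Set.range (X : τ → MvPolynomial τ K)) := by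
  have := rename_mem_pow f 1 (p := p) (by rwa [pow_one])
  rwa [pow_one] at this

/-- The map `K[x,y,z] → K[x,y]` setting `z = 0`. -/
noncomputable def dropLast : MvPolynomial (Fin 3) K →ₐ[K] MvPolynomial (Fin 2) K :=
  aeval (fun i : Fin 3 => Fin.lastCases (0 : MvPolynomial (Fin 2) K) (fun j => X j) i)

theorem dropLast_rename (G : MvPolynomial (Fin 2) K) :
    dropLast (rename (Fin.castSucc : Fin 2 → Fin 3) G) = G := by
  rw [dropLast, aeval_rename]
  have : ((fun i : Fin 3 => Fin.lastCases (0 : MvPolynomial (Fin 2) K) (fun j => X j) i) ∘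
      (Fin.castSucc : Fin 2 → Fin 3)) = X := by
    funext j
    simp
  rw [this, aeval_X_left]
  rfl

theorem dropLast_X_two : dropLast (X (2 : Fin 3) : MvPolynomial (Fin 3) K) = 0 := by
  rw [dropLast, aeval_X]
  exact Fin.lastCases_last

theorem dropLast_mem_pow (n : ℕ) {p : MvPolynomial (Fin 3) K}
    (hp : p ∈ (Ideal.span (Set.range (X : Fin 3 → MvPolynomial (Fin 3) K))) ^ n) :
    dropLast p ∈ (Ideal.span (Set.range (X : Fin 2 → MvPolynomial (Fin 2) K))) ^ n := by
  refine map_mem_pow (dropLast : MvPolynomial (Fin 3) K →ₐ[K] MvPolynomial (Fin 2) K).toRingHom _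
    (fun i => ?_) n hp
  show dropLast (X i) ∈ _
  rw [dropLast, aeval_X]
  induction i using Fin.lastCases with
  | last =>
    rw [Fin.lastCases_last]
    exact Ideal.zero_mem _
  | cast j =>
    rw [Fin.lastCases_castSucc]
    exact Ideal.subset_span ⟨j, rfl⟩

/-- The map `K[x,y,z] → K[t]` setting `x = y = 0`, `z = t`. -/
noncomputable def onlyLast : MvPolynomial (Fin 3) K →ₐ[K] Polynomial K :=
  aeval (fun i : Fin 3 => Fin.lastCases (Polynomial.X : Polynomial K)
    (fun _ => (0 : Polynomial K)) i)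

theorem onlyLast_rename (G : MvPolynomial (Fin 2) K) :
    onlyLast (rename (Fin.castSucc : Fin 2 → Fin 3) G) = Polynomial.C (constantCoeff G) := by
  rw [onlyLast, aeval_rename]
  have : ((fun i : Fin 3 => Fin.lastCases (Polynomial.X : Polynomial K)
      (fun _ => (0 : Polynomial K)) i) ∘
      (Fin.castSucc : Fin 2 → Fin 3)) = fun _ : Fin 2 => (0 : Polynomial K) := by
    funext j
    simp
  rw [this, aeval_zero']
  rfl

theorem onlyLast_X_two : onlyLast (X (2 : Fin 3) : MvPolynomial (Fin 3) K) = Polynomial.X := by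
  rw [onlyLast, aeval_X]
  exact Fin.lastCases_last

theorem onlyLast_mem_pow (n : ℕ) {p : MvPolynomial (Fin 3) K}
    (hp : p ∈ (Ideal.span (Set.range (X : Fin 3 → MvPolynomial (Fin 3) K))) ^ n) :
    onlyLast p ∈ (Ideal.span {(Polynomial.X : Polynomial K)}) ^ n := by
  refine map_mem_pow (onlyLast : MvPolynomial (Fin 3) K →ₐ[K] Polynomial K).toRingHom _
    (fun i => ?_) n hp
  show onlyLast (X i) ∈ _
  rw [onlyLast, aeval_X]
  induction i using Fin.lastCases with
  | last =>
    rw [Fin.lastCases_last]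
    exact Ideal.subset_span rfl
  | cast j =>
    rw [Fin.lastCases_castSucc]
    exact Ideal.zero_mem _

/-- The quadric `G₂ z² + 2 G₃ z + G₄`. -/
noncomputable def quad (G₂ G₃ G₄ : MvPolynomial (Fin 2) K) : MvPolynomial (Fin 3) K :=
  rename (Fin.castSucc : Fin 2 → Fin 3) G₂ * X (2 : Fin 3) ^ 2
    + 2 * rename (Fin.castSucc : Fin 2 → Fin 3) G₃ * X (2 : Fin 3)
    + rename (Fin.castSucc : Fin 2 → Fin 3) G₄

theorem dropLast_quad (G₂ G₃ G₄ : MvPolynomial (Fin 2) K) : dropLast (quad G₂ G₃ G₄) = G₄ := by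
  simp only [quad, map_add, map_mul, map_pow, dropLast_rename, dropLast_X_two]
  ring

theorem onlyLast_quad (G₂ G₃ G₄ : MvPolynomial (Fin 2) K) :
    onlyLast (quad G₂ G₃ G₄) = Polynomial.C (constantCoeff G₂) * Polynomial.X ^ 2 +
      2 * Polynomial.C (constantCoeff G₃) * Polynomial.X + Polynomial.C (constantCoeff G₄) := by
  simp only [quad, map_add, map_mul, map_pow, onlyLast_rename, onlyLast_X_two, map_ofNat]

/-- If the quadric is in `(x,y,z)²` then `G₄ ∈ (x,y)²` and `G₃ ∈ (x,y)`. -/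
theorem of_quad_mem_sq (h2 : (2 : K) ≠ 0) (G₂ G₃ G₄ : MvPolynomial (Fin 2) K)
    (h : quad G₂ G₃ G₄ ∈ (Ideal.span (Set.range (X : Fin 3 → MvPolynomial (Fin 3) K))) ^ 2) :
    G₄ ∈ (Ideal.span (Set.range (X : Fin 2 → MvPolynomial (Fin 2) K))) ^ 2 ∧
      G₃ ∈ Ideal.span (Set.range (X : Fin 2 → MvPolynomial (Fin 2) K)) := by
  constructor
  · have := dropLast_mem_pow 2 h
    rwa [dropLast_quad] at this
  · rw [mem_span_X_iff]
    have h1 := onlyLast_mem_pow 2 h
    rw [onlyLast_quad, Ideal.span_singleton_pow, Ideal.mem_span_singleton,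
      Polynomial.X_pow_dvd_iff] at h1
    have h3 := h1 1 (by norm_num)
    simp only [Polynomial.coeff_add, Polynomial.coeff_C_mul, Polynomial.coeff_X_pow,
      Polynomial.coeff_C] at h3
    have h4 : (2 : K) * constantCoeff G₃ = 0 := by
      have e1 : ((2 : Polynomial K) * Polynomial.C (constantCoeff G₃) * Polynomial.X).coeff 1 =
          2 * constantCoeff G₃ := by
        rw [show (2 : Polynomial K) = Polynomial.C 2 from rfl, ← map_mul, Polynomial.coeff_C_mul,
          Polynomial.coeff_X_one, mul_one]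
      simpa [e1] using h3
    exact (mul_eq_zero.mp h4).resolve_left h2

/-- Conversely, ideal memberships of the `Gᵢ` give membership of the quadric. -/
theorem quad_mem_sq (G₂ G₃ G₄ : MvPolynomial (Fin 2) K)
    (h4 : G₄ ∈ (Ideal.span (Set.range (X : Fin 2 → MvPolynomial (Fin 2) K))) ^ 2)
    (h3 : G₃ ∈ Ideal.span (Set.range (X : Fin 2 → MvPolynomial (Fin 2) K))) :
    quad G₂ G₃ G₄ ∈ (Ideal.span (Set.range (X : Fin 3 → MvPolynomial (Fin 3) K))) ^ 2 := by
  have hX : (X (2 : Fin 3) : MvPolynomial (Fin 3) K) ∈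
      Ideal.span (Set.range (X : Fin 3 → MvPolynomial (Fin 3) K)) := Ideal.subset_span ⟨2, rfl⟩
  refine Ideal.add_mem _ (Ideal.add_mem _ ?_ ?_) (rename_mem_pow _ 2 h4)
  · exact Ideal.mul_mem_left _ _ (Ideal.pow_mem_pow hX 2)
  · rw [pow_two, mul_assoc]
    exact Ideal.mul_mem_left _ _ (Ideal.mul_mem_mul (rename_mem _ h3) hX)

end Groth.Agent.Helper1.MvIdeal
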