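import Groth.Agent.Helper1.SymmPoly2
import Groth.Agent.Helper1.LambdaAux

set_option autoImplicit false

open Finset

/-! Newton relations between sequences, uniqueness, and the Newton identities for families. -/

namespace Groth.Agent.Helper1.Newton

section Rel

variable {R : Type*} [CommRing R]

/-- Newton relation at index `m` between a sequence `a` (elementary symmetric functions) and a
sequence `s` (power sums). -/
def NewtonRel (a s : ℕ → R) (m : ℕ) : Prop :=
  ((m : R) + 1) * a (m + 1) = ∑ i ∈ range (m + 1), (-1) ^ i * s (i + 1) * a (m - i)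

theorem NewtonRel.map {R' F : Type*} [CommRing R'] [FunLike F R R'] [RingHomClass F R R'] (f : F)
    {a s : ℕ → R} {m : ℕ}
    (h : NewtonRel a s m) : NewtonRel (fun k => f (a k)) (fun k => f (s k)) m := by
  unfold NewtonRel at h ⊢
  have := congrArg f h
  rw [map_mul, map_add, map_natCast, map_one, map_sum] at this
  rw [this]
  refine Finset.sum_congr rfl fun i _ => ?_
  rw [map_mul, map_mul, map_pow, map_neg, map_one]

theorem NewtonRel.of_map {R' F : Type*} [CommRing R'] [FunLike F R R'] [RingHomClass F R R'] (f : F)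
    (hf : Function.Injective f)
    {a s : ℕ → R} {m : ℕ} (h : NewtonRel (fun k => f (a k)) (fun k => f (s k)) m) :
    NewtonRel a s m := by
  unfold NewtonRel at h ⊢
  apply hf
  rw [map_mul, map_add, map_natCast, map_one, map_sum, h]
  refine Finset.sum_congr rfl fun i _ => ?_
  rw [map_mul, map_mul, map_pow, map_neg, map_one]

theorem newton_unique (hK : ∀ (m : ℕ) (x y : R), ((m : R) + 1) * x = ((m : R) + 1) * y → x = y)
    (a b s s' : ℕ → R) (M : ℕ) (h0 : a 0 = b 0)
    (ha : ∀ m < M, NewtonRel a s m) (hb : ∀ m < M, NewtonRel b s' m)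
    (hs : ∀ k, 1 ≤ k → k ≤ M → s k = s' k) : ∀ m ≤ M, a m = b m := by
  intro m
  induction m using Nat.strong_induction_on with
  | _ m ih =>
    intro hm
    cases m with
    | zero => exact h0
    | succ m =>
      apply hK m
      have e1 := ha m (by omega)
      have e2 := hb m (by omega)
      unfold NewtonRel at e1 e2
      rw [e1, e2]
      refine Finset.sum_congr rfl fun i hi => ?_
      rw [Finset.mem_range] at hi
      rw [hs (i + 1) (by omega) (by omega), ih (m - i) (by omega) (by omega)]

theorem newton_unique' (a b s s' : ℕ → R) (M : ℕ) (h0 : a 0 = 1)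
    (ha : ∀ m < M, NewtonRel a s m) (hb : ∀ m < M, NewtonRel b s' m)
    (hab : ∀ m ≤ M, a m = b m) : ∀ k, 1 ≤ k → k ≤ M → s k = s' k := by
  intro k
  induction k using Nat.strong_induction_on with
  | _ k ih =>
    intro hk1 hkM
    obtain ⟨m, rfl⟩ : ∃ m, k = m + 1 := ⟨k - 1, by omega⟩
    have e1 := ha m (by omega)
    have e2 := hb m (by omega)
    unfold NewtonRel at e1 e2
    rw [Finset.sum_range_succ, Nat.sub_self] at e1 e2
    have hsum : ∑ i ∈ range m, (-1 : R) ^ i * s (i + 1) * a (m - i) =
        ∑ i ∈ range m, (-1 : R) ^ i * s' (i + 1) * b (m - i) := by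
      refine Finset.sum_congr rfl fun i hi => ?_
      rw [Finset.mem_range] at hi
      rw [ih (i + 1) (by omega) (by omega) (by omega), hab (m - i) (by omega)]
    have hb0 : b 0 = 1 := by rw [← hab 0 (by omega), h0]
    rw [hsum, h0, hab (m + 1) hkM] at e1
    rw [hb0] at e2
    have h3 : (-1 : R) ^ m * s (m + 1) = (-1 : R) ^ m * s' (m + 1) := by
      linear_combination e2 - e1
    have h1 : ((-1 : R) ^ m) * (-1) ^ m = 1 := by
      rw [← mul_pow]
      simp
    calc s (m + 1) = ((-1 : R) ^ m * (-1) ^ m) * s (m + 1) := by rw [h1, one_mul]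
      _ = (-1 : R) ^ m * ((-1 : R) ^ m * s (m + 1)) := by ring
      _ = (-1 : R) ^ m * ((-1 : R) ^ m * s' (m + 1)) := by rw [h3]
      _ = ((-1 : R) ^ m * (-1) ^ m) * s' (m + 1) := by ring
      _ = s' (m + 1) := by rw [h1, one_mul]

end Rel

section Family

open MvPolynomial

/-- Newton's identities in `MvPolynomial ι ℤ` in the form of `NewtonRel`. -/
theorem newton_mv (ι : Type*) [Fintype ι] (m : ℕ) :
    NewtonRel (fun k => esymm ι ℤ k) (fun k => psum ι ℤ k) m := by
  unfold NewtonRel
  have h := mul_esymm_eq_sum ι ℤ (m + 1)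
  rw [Nat.cast_add, Nat.cast_one] at h
  rw [h, Finset.sum_filter, Finset.Nat.sum_antidiagonal_eq_sum_range_succ_mk,
    Finset.sum_range_succ, if_neg (lt_irrefl _), add_zero, Finset.mul_sum,
    ← Finset.sum_range_reflect]
  refine Finset.sum_congr rfl fun i hi => ?_
  rw [Finset.mem_range] at hi
  have h1 : m + 1 - 1 - i < m + 1 := by omega
  rw [if_pos h1]
  have h2 : m + 1 - 1 - i = m - i := by omega
  have h3 : m + 1 - (m - i) = i + 1 := by omega
  rw [h2, h3]
  have h4 : (-1 : MvPolynomial ι ℤ) ^ (m + 1 + 1) * (-1) ^ (m - i) = (-1) ^ i := by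
    rw [← pow_add]
    have : m + 1 + 1 + (m - i) = 2 * (m + 1 - i) + i := by omega
    rw [this, pow_add, pow_mul]
    simp
  calc (-1 : MvPolynomial ι ℤ) ^ (m + 1 + 1) * ((-1) ^ (m - i) * esymm ι ℤ (m - i) * psum ι ℤ (i + 1))
      = ((-1 : MvPolynomial ι ℤ) ^ (m + 1 + 1) * (-1) ^ (m - i)) * psum ι ℤ (i + 1) *
          esymm ι ℤ (m - i) := by ring
    _ = (-1) ^ i * psum ι ℤ (i + 1) * esymm ι ℤ (m - i) := by rw [h4]

variable {R : Type*} [CommRing R]

/-- Newton's identities for a family indexed by a fintype. -/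
theorem newton_fintype {ι : Type*} [Fintype ι] (f : ι → R) (m : ℕ) :
    NewtonRel (fun k => (Finset.univ.val.map f).esymm k) (fun k => ∑ i, f i ^ k) m := by
  have h := (newton_mv ι m).map (aeval f : MvPolynomial ι ℤ →ₐ[ℤ] R)
  have e1 : (fun k => (aeval f : MvPolynomial ι ℤ →ₐ[ℤ] R) (esymm ι ℤ k)) =
      fun k => (Finset.univ.val.map f).esymm k := by
    funext k
    exact aeval_esymm_eq_multiset_esymm ι ℤ k f
  have e2 : (fun k => (aeval f : MvPolynomial ι ℤ →ₐ[ℤ] R) (psum ι ℤ k)) =
      fun k => ∑ i, f i ^ k := by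
    funext k
    simp [psum]
  rwa [e1, e2] at h

/-- Newton's identities for a family indexed by a finset. -/
theorem newton_finset {α : Type*} (P : Finset α) (g : α → R) (m : ℕ) :
    NewtonRel (fun k => (P.val.map g).esymm k) (fun k => ∑ a ∈ P, g a ^ k) m := by
  have h := newton_fintype (fun i : ↥P => g i.1) m
  have e1 : (fun k => ((Finset.univ : Finset ↥P).val.map fun i : ↥P => g i.1).esymm k) =
      fun k => (P.val.map g).esymm k := by
    funext k
    congr 1
    rw [Finset.univ_eq_attach, Finset.attach_val]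
    exact Multiset.attach_map_val' P.val g
  have e2 : (fun k => ∑ i : ↥P, g i.1 ^ k) = fun k => ∑ a ∈ P, g a ^ k := by
    funext k
    exact Finset.sum_coe_sort P (fun a => g a ^ k)
  rwa [e1, e2] at h

end Family

section Lam

open PowerSeries LambdaRing Groth.Agent.Helper1.LambdaAux

universe u

variable {K : Type u} [CommRing K] [LambdaOps K]

theorem lamSeries_add (x y : K) : lamSeries (x + y) = lamSeries x * lamSeries y := by
  ext k
  rw [coeff_lamSeries, coeff_mul, LambdaOps.lam_add,
    Finset.Nat.sum_antidiagonal_eq_sum_range_succ_mk]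
  refine Finset.sum_congr rfl fun i _ => ?_
  rw [coeff_lamSeries, coeff_lamSeries]

theorem logDerivSeries_add (x y : K) :
    logDerivSeries (x + y) = logDerivSeries x + logDerivSeries y := by
  apply logDerivSeries_eq_of_deriv
  rw [lamSeries_add, Derivation.leibniz, deriv_lamSeries, deriv_lamSeries]
  simp only [smul_eq_mul]
  ring

theorem adamsOp_add (k : ℕ) (x y : K) : adamsOp k (x + y) = adamsOp k x + adamsOp k y := by
  cases k with
  | zero => simp [adamsOp]
  | succ k =>
    rw [adamsOp_succ, adamsOp_succ, adamsOp_succ, logDerivSeries_add, map_add, mul_add]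

theorem adamsOp_zero_right (k : ℕ) : adamsOp k (0 : K) = 0 := by
  have h := adamsOp_add k (0 : K) 0
  rw [add_zero] at h
  exact left_eq_add.mp h

/-- The Adams operation as a ring homomorphism, when it is multiplicative and unital. -/
noncomputable def adamsHom (k : ℕ) (h1 : adamsOp k (1 : K) = 1)
    (hmul : ∀ x y : K, adamsOp k (x * y) = adamsOp k x * adamsOp k y) : K →+* K where
  toFun := adamsOp k
  map_one' := h1
  map_mul' := hmul
  map_zero' := adamsOp_zero_right k
  map_add' := adamsOp_add k

theorem adamsHom_apply (k : ℕ) (h1 : adamsOp k (1 : K) = 1)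
    (hmul : ∀ x y : K, adamsOp k (x * y) = adamsOp k x * adamsOp k y) (x : K) :
    adamsHom k h1 hmul x = adamsOp k x := rfl

/-- Newton's identities in a pre-λ-ring. -/
theorem newton_lam (x : K) (m : ℕ) :
    NewtonRel (fun k => LambdaOps.lam k x) (fun k => adamsOp k x) m := by
  unfold NewtonRel
  have h := congrArg (coeff m) (deriv_lamSeries x)
  rw [coeff_derivative, coeff_mul, Finset.Nat.sum_antidiagonal_eq_sum_range_succ_mk,
    coeff_lamSeries] at h
  rw [mul_comm, h]
  refine Finset.sum_congr rfl fun i _ => ?_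
  rw [coeff_logDerivSeries, coeff_lamSeries]

end Lam

end Groth.Agent.Helper1.Newton
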