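import Mathlib.Algebra.Module.Projective
import Mathlib.Algebra.Module.Torsion.Basic
import Mathlib.RingTheory.Nilpotent.Basic
import Mathlib.RingTheory.Ideal.Operations
import Mathlib.LinearAlgebra.Quotient.Basic

set_option autoImplicit false

namespace Groth.Agent.Helper1.NilLift

/-- Lifting left inverses modulo a nilpotent ideal: if `P` is projective, `I ^ n = ⊥`, and
`u : M → P` has a left inverse modulo `I`, then `u` has a left inverse. -/
theorem exists_leftInverse_of_nilpotent {R : Type*} [CommRing R] (I : Ideal R) (n : ℕ)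
    (hI : I ^ n = ⊥) {M P : Type*} [AddCommGroup M] [Module R M] [AddCommGroup P] [Module R P]
    [Module.Projective R P] (u : M →ₗ[R] P) (w₁ : P →ₗ[R] M ⧸ (I • ⊤ : Submodule R M))
    (h : ∀ x, w₁ (u x) = Submodule.Quotient.mk x) :
    ∃ w : P →ₗ[R] M, ∀ x, w (u x) = x := by
  obtain ⟨w', hw'⟩ := Module.projective_lifting_property (Submodule.mkQ (I • ⊤ : Submodule R M)) w₁
    (Submodule.mkQ_surjective _)
  have hw'' : ∀ p, Submodule.Quotient.mk (w' p) = w₁ p := fun p => LinearMap.congr_fun hw' p
  let φ : Module.End R M := w'.comp u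
  let ν : Module.End R M := 1 - φ
  have hνx : ∀ x, ν x = x - w' (u x) := fun x => rfl
  have hν0 : ∀ x, ν x ∈ (I • ⊤ : Submodule R M) := by
    intro x
    rw [hνx, ← Submodule.Quotient.mk_eq_zero, Submodule.Quotient.mk_sub, hw'', h, sub_self]
  have hνk : ∀ (k : ℕ) (x : M), x ∈ (I ^ k • ⊤ : Submodule R M) →
      ν x ∈ (I ^ (k + 1) • ⊤ : Submodule R M) := by
    intro k x hx
    refine Submodule.smul_induction_on hx ?_ ?_
    · intro a ha m _
      rw [map_smul, pow_succ, mul_smul]
      exact Submodule.smul_mem_smul ha (hν0 m)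
    · intro x y hx hy
      rw [map_add]
      exact Submodule.add_mem _ hx hy
  have hpow : ∀ (k : ℕ) (x : M), (ν ^ k) x ∈ (I ^ k • ⊤ : Submodule R M) := by
    intro k
    induction k with
    | zero => intro x; simp
    | succ k ih =>
      intro x
      have e : (ν ^ (k + 1)) x = ν ((ν ^ k) x) := by
        rw [pow_succ']; rfl
      rw [e]
      exact hνk k _ (ih x)
  have hnil : IsNilpotent ν := by
    refine ⟨n, ?_⟩
    ext x
    have := hpow n x
    rw [hI, Submodule.bot_smul, Submodule.mem_bot] at this
    simpa using this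
  have hunit : IsUnit φ := by
    have := hnil.isUnit_one_sub
    have e : (1 : Module.End R M) - ν = φ := by
      change 1 - (1 - φ) = φ
      abel
    rwa [e] at this
  obtain ⟨ψ, hψ⟩ := hunit.exists_left_inv
  refine ⟨ψ.comp w', fun x => ?_⟩
  have := LinearMap.congr_fun hψ x
  exact this

end Groth.Agent.Helper1.NilLift
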