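import Mathlib.Topology.NoetherianSpace
import Mathlib.Topology.Sets.Opens

set_option autoImplicit false

namespace Groth.Agent.Helper1.NoethTop

open TopologicalSpace

/-- In a space in which every point has a Noetherian open neighbourhood, every compact subset
is a Noetherian subspace. -/
theorem noetherianSpace_of_isCompact {Y : Type*} [TopologicalSpace Y]
    (hY : ∀ y : Y, ∃ U : Opens Y, y ∈ U ∧ NoetherianSpace U) {K : Set Y} (hK : IsCompact K) :
    NoetherianSpace K := by
  choose U hU hUN using hY
  obtain ⟨t, ht⟩ := hK.elim_finite_subcover (fun y => (U y : Set Y)) (fun y => (U y).isOpen)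
    (fun y _ => Set.mem_iUnion.2 ⟨y, hU y⟩)
  have hKeq : K = ⋃ y : t, (K ∩ (U y : Set Y)) := by
    ext x
    constructor
    · intro hx
      obtain ⟨y, hy⟩ := Set.mem_iUnion.1 (ht hx)
      obtain ⟨hyt, hxy⟩ := Set.mem_iUnion.1 hy
      exact Set.mem_iUnion.2 ⟨⟨y, hyt⟩, hx, hxy⟩
    · intro hx
      obtain ⟨y, hxK, _⟩ := Set.mem_iUnion.1 hx
      exact hxK
  have hN : ∀ y : t, NoetherianSpace (K ∩ (U y : Set Y) : Set Y) := by
    intro y
    haveI : NoetherianSpace ((U y : Opens Y) : Set Y) := hUN y
    exact NoetherianSpace.inter_of_right K (U y : Set Y)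
  rw [hKeq]
  exact NoetherianSpace.iUnion _

/-- In a space in which every point has a Noetherian open neighbourhood, every subset of a compact
subset is compact. -/
theorem isCompact_of_subset_isCompact {Y : Type*} [TopologicalSpace Y]
    (hY : ∀ y : Y, ∃ U : Opens Y, y ∈ U ∧ NoetherianSpace U) {K T : Set Y} (hK : IsCompact K)
    (hT : T ⊆ K) : IsCompact T :=
  (noetherianSpace_set_iff K).1 (noetherianSpace_of_isCompact hY hK) T hT

end Groth.Agent.Helper1.NoethTop
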