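import Mathlib

namespace Groth.Agent.Helper1.PFilt

universe u

variable {A : Type u} [CommRing A] {M : Type u} [AddCommGroup M] [Module A M]

/-- `L` is `p`-saturated. -/
def Sat (p : Ideal A) (L : Submodule A M) : Prop :=
  ∀ s : A, s ∉ p → ∀ y : M, s • y ∈ L → y ∈ L

def Emb (p : Ideal A) (L' L : Submodule A M) : Prop :=
  ∃ g : (↥L' ⧸ Submodule.comap L'.subtype L) →ₗ[A] (A ⧸ p), Function.Injective g

theorem emb_self (p : Ideal A) (L : Submodule A M) : Emb p L L := by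
  have h : Submodule.comap L.subtype L = ⊤ := Submodule.comap_subtype_self L
  have : Subsingleton (↥L ⧸ Submodule.comap L.subtype L) :=
    Submodule.Quotient.subsingleton_iff.mpr h
  exact ⟨0, Function.injective_of_subsingleton _⟩

def satOf (p : Ideal A) [hpp : p.IsPrime] (L₁ : Submodule A M) : Submodule A M where
  carrier := {y | ∃ s : A, s ∉ p ∧ s • y ∈ L₁}
  zero_mem' := ⟨1, (Ideal.ne_top_iff_one p).mp hpp.ne_top, by rw [smul_zero]; exact zero_mem _⟩
  add_mem' := by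
    rintro y y' ⟨s, hs, h⟩ ⟨s', hs', h'⟩
    refine ⟨s * s', fun hm => (hpp.mem_or_mem hm).elim hs hs', ?_⟩
    have : (s * s') • (y + y') = s' • (s • y) + s • (s' • y') := by
      rw [smul_add, mul_smul, mul_smul, smul_comm s s' y]
    rw [this]
    exact add_mem (L₁.smul_mem _ h) (L₁.smul_mem _ h')
  smul_mem' := by
    rintro a y ⟨s, hs, h⟩
    exact ⟨s, hs, by rw [smul_comm]; exact L₁.smul_mem _ h⟩

theorem mem_satOf (p : Ideal A) [p.IsPrime] (L₁ : Submodule A M) (y : M) :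
    y ∈ satOf p L₁ ↔ ∃ s : A, s ∉ p ∧ s • y ∈ L₁ := Iff.rfl

theorem sat_satOf (p : Ideal A) [hpp : p.IsPrime] (L₁ : Submodule A M) : Sat p (satOf p L₁) := by
  rintro s' hs' y ⟨s, hs, h⟩
  exact ⟨s * s', fun hm => (hpp.mem_or_mem hm).elim hs hs', by rwa [mul_smul]⟩

theorem le_satOf (p : Ideal A) [hpp : p.IsPrime] (L₁ : Submodule A M) : L₁ ≤ satOf p L₁ :=
  fun y hy => ⟨1, (Ideal.ne_top_iff_one p).mp hpp.ne_top, by rw [one_smul]; exact hy⟩

theorem step [IsNoetherianRing A] [Module.Finite A M] (p : Ideal A) [hpp : p.IsPrime] (n : ℕ)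
    (hn : p ^ n ≤ Module.annihilator A M) (L : Submodule A M) (hL : Sat p L) (hLt : L ≠ ⊤) :
    ∃ L' : Submodule A M, Sat p L' ∧ L < L' ∧ Emb p L' L := by
  classical
  have hex : ∃ k, p ^ k • (⊤ : Submodule A M) ≤ L := ⟨n, by
    rw [Submodule.smul_le]
    intro a ha y _
    rw [Module.mem_annihilator.mp (hn ha) y]; exact zero_mem _⟩
  obtain ⟨x, hxL, hpx⟩ : ∃ x : M, x ∉ L ∧ ∀ a ∈ p, a • x ∈ L := by
    have hk0 : Nat.find hex ≠ 0 := by
      intro h0
      have := Nat.find_spec hex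
      rw [h0, pow_zero, Ideal.one_eq_top, Submodule.top_smul] at this
      exact hLt (top_le_iff.mp this)
    obtain ⟨j, hj⟩ := Nat.exists_eq_succ_of_ne_zero hk0
    have hnot : ¬ p ^ j • (⊤ : Submodule A M) ≤ L := Nat.find_min hex (by omega)
    obtain ⟨x, hx, hxL⟩ := SetLike.not_le_iff_exists.mp hnot
    refine ⟨x, hxL, fun a ha => ?_⟩
    have h1 := Nat.find_spec hex
    rw [hj, pow_succ', Submodule.mul_smul] at h1
    exact h1 (Submodule.smul_mem_smul ha hx)
  have hann : ∀ a : A, a • x ∈ L ↔ a ∈ p := by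
    intro a
    refine ⟨fun h => ?_, hpx a⟩
    by_contra ha
    exact hxL (hL a ha x h)
  obtain ⟨L₁, hL₁⟩ : ∃ L₁ : Submodule A M, L₁ = L ⊔ Submodule.span A {x} := ⟨_, rfl⟩
  have hLL₁ : L ≤ L₁ := hL₁ ▸ le_sup_left
  have hxL₁ : x ∈ L₁ := hL₁ ▸ Submodule.mem_sup_right (Submodule.mem_span_singleton_self x)
  obtain ⟨L', hL'⟩ : ∃ L' : Submodule A M, L' = satOf p L₁ := ⟨_, rfl⟩
  have hsat : Sat p L' := hL' ▸ sat_satOf p L₁
  have hL₁L' : L₁ ≤ L' := hL' ▸ le_satOf p L₁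
  have hlt : L < L' :=
    lt_of_le_of_ne (hLL₁.trans hL₁L') (fun h => hxL (h ▸ hL₁L' hxL₁))
  refine ⟨L', hsat, hlt, ?_⟩
  -- common denominator
  have hfg : L'.FG := IsNoetherian.noetherian L'
  obtain ⟨T, hT⟩ := hfg
  have hT' : ∀ t ∈ T, ∃ s : A, s ∉ p ∧ s • t ∈ L₁ := fun t ht => by
    have h1 : t ∈ L' := hT ▸ Submodule.subset_span ht
    rw [hL'] at h1
    exact h1
  choose! σ hσ using hT'
  obtain ⟨s, hs⟩ : ∃ s, s = ∏ t ∈ T, σ t := ⟨_, rfl⟩
  have hsp : s ∉ p := by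
    rw [hs, Ideal.IsPrime.prod_mem_iff]
    rintro ⟨t, ht, h⟩
    exact (hσ t ht).1 h
  have hsL' : ∀ y ∈ L', s • y ∈ L₁ := by
    intro y hy
    rw [← hT] at hy
    refine Submodule.span_induction ?_ ?_ ?_ ?_ hy
    · intro t ht
      rw [hs, ← Finset.mul_prod_erase T σ ht, mul_comm, mul_smul]
      exact L₁.smul_mem _ (hσ t ht).2
    · rw [smul_zero]; exact zero_mem _
    · intro y z _ _ hy hz; rw [smul_add]; exact add_mem hy hz
    · intro a y _ hy; rw [smul_comm]; exact L₁.smul_mem _ hy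
  -- the maps
  obtain ⟨φ₀, hφ₀⟩ : ∃ φ₀ : A →ₗ[A] M ⧸ L, ∀ a, φ₀ a = L.mkQ (a • x) :=
    ⟨LinearMap.toSpanSingleton A (M ⧸ L) (L.mkQ x), fun a => by
      rw [LinearMap.toSpanSingleton_apply, map_smul]⟩
  have hker : p ≤ LinearMap.ker φ₀ := by
    intro a ha
    rw [LinearMap.mem_ker, hφ₀, Submodule.mkQ_apply, Submodule.Quotient.mk_eq_zero]
    exact hpx a ha
  have hker' : LinearMap.ker φ₀ ≤ p := by
    intro a ha
    rw [LinearMap.mem_ker, hφ₀, Submodule.mkQ_apply, Submodule.Quotient.mk_eq_zero] at ha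
    exact (hann a).mp ha
  obtain ⟨φ, hφdef⟩ : ∃ φ : (A ⧸ p) →ₗ[A] M ⧸ L, φ = Submodule.liftQ p φ₀ hker := ⟨_, rfl⟩
  have hφ : Function.Injective φ := by
    rw [hφdef]; exact LinearMap.ker_eq_bot.mp (Submodule.ker_liftQ_eq_bot _ _ _ hker')
  have hφmk : ∀ a : A, φ (Submodule.Quotient.mk a) = φ₀ a := fun a => by
    rw [hφdef, Submodule.liftQ_apply]
  obtain ⟨ψ, hψ⟩ : ∃ ψ : ↥L' →ₗ[A] M ⧸ L, ∀ y : L', ψ y = L.mkQ (s • (y : M)) :=
    ⟨(s • L.mkQ) ∘ₗ L'.subtype, fun y => by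
      rw [LinearMap.comp_apply, LinearMap.smul_apply, Submodule.subtype_apply, map_smul]⟩
  have hrange : ∀ y : L', ψ y ∈ LinearMap.range φ := by
    intro y
    have h1 := hsL' y y.2
    rw [hL₁, Submodule.mem_sup] at h1
    obtain ⟨l, hl, z, hz, hlz⟩ := h1
    obtain ⟨a, rfl⟩ := Submodule.mem_span_singleton.mp hz
    refine ⟨Submodule.Quotient.mk a, ?_⟩
    rw [hφmk, hφ₀, hψ, ← hlz, map_add]
    have : L.mkQ l = 0 := by rw [Submodule.mkQ_apply, Submodule.Quotient.mk_eq_zero]; exact hl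
    rw [this, zero_add]
  obtain ⟨g', hg'⟩ : ∃ g' : ↥L' →ₗ[A] (A ⧸ p), g' =
      (LinearEquiv.ofInjective φ hφ).symm.toLinearMap ∘ₗ
        (ψ.codRestrict (LinearMap.range φ) hrange) := ⟨_, rfl⟩
  have hk : LinearMap.ker g' = Submodule.comap L'.subtype L := by
    rw [hg', LinearEquiv.ker_comp, LinearMap.ker_codRestrict]
    ext y
    rw [LinearMap.mem_ker, hψ, Submodule.mkQ_apply, Submodule.Quotient.mk_eq_zero,
      Submodule.mem_comap, Submodule.subtype_apply]
    exact ⟨fun h => hL s hsp _ h, fun h => L.smul_mem _ h⟩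
  exact ⟨Submodule.liftQ _ g' hk.ge,
    LinearMap.ker_eq_bot.mp (Submodule.ker_liftQ_eq_bot _ _ _ hk.le)⟩

theorem main (A : Type u) [CommRing A] [IsNoetherianRing A]
    (M : Type u) [AddCommGroup M] [Module A M] [Module.Finite A M] (p : Ideal A)
    (hp : associatedPrimes A M = {p}) :
    ∃ (m : ℕ) (F : Fin (m + 1) → Submodule A M), Antitone F ∧ F 0 = ⊤ ∧ F (Fin.last m) = ⊥ ∧
      ∀ i : Fin m, ∃ g : (↥(F i.castSucc) ⧸
        Submodule.comap (F i.castSucc).subtype (F i.succ)) →ₗ[A] (A ⧸ p),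
        Function.Injective g := by
  have hpass : IsAssociatedPrime p M := by
    have : p ∈ associatedPrimes A M := by rw [hp]; exact Set.mem_singleton p
    exact this
  have hpp : p.IsPrime := hpass.isPrime
  have hass : ∀ P : Ideal A, IsAssociatedPrime P M → P = p := by
    intro P hP
    have : P ∈ associatedPrimes A M := hP
    rw [hp] at this
    exact this
  -- ⊥ is saturated
  have hbot : Sat p (⊥ : Submodule A M) := by
    intro s hs y hy
    rw [Submodule.mem_bot] at hy ⊢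
    by_contra hy0
    obtain ⟨P, hP, hle⟩ := exists_le_isAssociatedPrime_of_isNoetherianRing (R := A) y hy0
    rw [hass P hP] at hle
    exact hs (hle (Submodule.mem_colon_singleton.mpr (by rw [hy]; exact zero_mem _)))
  -- power of p kills M
  have hrad : p ≤ (Module.annihilator A M).radical := by
    rw [← Ideal.sInf_minimalPrimes]
    intro a ha
    rw [Submodule.mem_sInf]
    intro q hq
    have := Module.associatedPrimes.minimalPrimes_annihilator_subset_associatedPrimes A M hq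
    rw [hass q this]; exact ha
  obtain ⟨n, hn⟩ := Ideal.exists_pow_le_of_le_radical_of_fg hrad (IsNoetherian.noetherian p)
  have hstep : ∀ L : {L : Submodule A M // Sat p L}, ∃ L' : {L : Submodule A M // Sat p L},
      L.1 ≤ L'.1 ∧ (L.1 ≠ ⊤ → L.1 < L'.1) ∧ Emb p L'.1 L.1 := by
    rintro ⟨L, hL⟩
    by_cases hLt : L = ⊤
    · exact ⟨⟨L, hL⟩, le_rfl, fun h => (h hLt).elim, emb_self p L⟩
    · obtain ⟨L', h1, h2, h3⟩ := step p n hn L hL hLt
      exact ⟨⟨L', h1⟩, h2.le, fun _ => h2, h3⟩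
  choose next hnext using hstep
  obtain ⟨f, hf0, hf⟩ : ∃ f : ℕ → {L : Submodule A M // Sat p L}, (f 0).1 = ⊥ ∧
      ∀ k, f (k + 1) = next (f k) :=
    ⟨fun k => next^[k] ⟨⊥, hbot⟩, rfl, fun k => Function.iterate_succ_apply' next k _⟩
  have hmono : Monotone (fun k => (f k).1) :=
    monotone_nat_of_le_succ (fun k => by rw [hf]; exact (hnext (f k)).1)
  have : IsNoetherian A M := isNoetherian_of_isNoetherianRing_of_finite A M
  obtain ⟨N, hN⟩ := monotone_stabilizes_iff_noetherian.mpr (inferInstance : IsNoetherian A M)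
    ⟨fun k => (f k).1, hmono⟩
  have htop : (f N).1 = ⊤ := by
    by_contra h
    have h1 := (hnext (f N)).2.1 h
    rw [← hf] at h1
    exact h1.ne (hN (N + 1) (Nat.le_succ N))
  refine ⟨N, fun i => (f (N - i)).1, ?_, ?_, ?_, ?_⟩
  · intro i j hij
    exact hmono (by have := Fin.le_def.mp hij; omega)
  · simpa using htop
  · simpa using hf0
  · intro i
    have h1 : N - ((i.castSucc : Fin (N + 1)) : ℕ) = (N - ((i.succ : Fin (N + 1)) : ℕ)) + 1 := by
      have := i.2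
      simp only [Fin.val_castSucc, Fin.val_succ]
      omega
    change Emb p (f (N - ((i.castSucc : Fin (N + 1)) : ℕ))).1 (f (N - ((i.succ : Fin (N + 1)) : ℕ))).1
    rw [h1, hf]
    exact (hnext _).2.2

end Groth.Agent.Helper1.PFilt
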