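import Mathlib
import Groth.Prelude.Def_CycAlg
import Groth.Agent.S16234

/-!
# `M/φψM` as an exact (2,1)-periodic complex (helper for S6476)
-/

set_option autoImplicit false

namespace Groth.Agent.Helper1.PerQuot

universe u v

variable {A : Type u} [CommRing A] [IsNoetherianRing A] [IsLocalRing A] {M : Type v}
  [AddCommGroup M] [Module A M] [Module.Finite A M]

theorem isFiniteLength_quot_range (hdim : Module.supportDim A M = 1) (θ : M →ₗ[A] M)
    (hθ : Function.Injective θ) : IsFiniteLength A (M ⧸ LinearMap.range θ) := by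
  classical
  rw [← Groth.Agent.S16234.result]
  intro p hp
  by_contra hmax
  have hpM : p ∈ Module.support A M :=
    Module.support_subset_of_surjective _ (Submodule.mkQ_surjective (LinearMap.range θ)) hp
  have hple : p ≤ IsLocalRing.closedPoint A := IsLocalRing.le_maximalIdeal p.2.ne_top
  have hpne : p ≠ IsLocalRing.closedPoint A := by
    intro h
    apply hmax
    rw [h]
    exact IsLocalRing.maximalIdeal.isMaximal A
  have hcl : IsLocalRing.closedPoint A ∈ Module.support A M := Module.mem_support_mono hple hpM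
  have hdim' : Order.krullDim (Module.support A M) ≤ 1 := le_of_eq hdim
  rcases (Order.krullDim_le_one_iff.mp hdim') ⟨p, hpM⟩ with hmin | hmaxx
  swap
  · have h1 : (⟨IsLocalRing.closedPoint A, hcl⟩ : Module.support A M) ≤ ⟨p, hpM⟩ :=
      hmaxx (show (⟨p, hpM⟩ : Module.support A M) ≤ ⟨IsLocalRing.closedPoint A, hcl⟩ from hple)
    exact hpne (le_antisymm hple h1)
  have hminp : ∀ q ∈ Module.support A M, q ≤ p → p ≤ q := fun q hq hqp =>
    hmin (b := ⟨q, hq⟩) hqp
  -- `M_p` has finite length over `A_p`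
  have hfl : IsFiniteLength (Localization.AtPrime p.asIdeal)
      (LocalizedModule p.asIdeal.primeCompl M) := by
    rw [← Groth.Agent.S16234.result]
    intro q' hq'
    rw [Module.mem_support_iff'] at hq'
    obtain ⟨y, hy⟩ := hq'
    induction y using LocalizedModule.induction_on with
    | h m s =>
      let q : PrimeSpectrum A := PrimeSpectrum.comap (algebraMap A (Localization.AtPrime p.asIdeal)) q'
      have hq : q ∈ Module.support A M := by
        rw [Module.mem_support_iff']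
        refine ⟨m, fun r hr h0 => ?_⟩
        have hr' : algebraMap A (Localization.AtPrime p.asIdeal) r ∉ q'.asIdeal := hr
        apply hy _ hr'
        rw [algebraMap_smul, LocalizedModule.smul'_mk, h0, LocalizedModule.zero_mk]
      have hqp : q ≤ p := by
        have h1 : q'.asIdeal ≤ IsLocalRing.maximalIdeal (Localization.AtPrime p.asIdeal) :=
          IsLocalRing.le_maximalIdeal q'.2.ne_top
        have h2 := Ideal.comap_mono (f := algebraMap A (Localization.AtPrime p.asIdeal)) h1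
        have h3 : (IsLocalRing.maximalIdeal (Localization.AtPrime p.asIdeal)).comap
            (algebraMap A (Localization.AtPrime p.asIdeal)) = p.asIdeal :=
          IsLocalization.AtPrime.under_maximalIdeal (Localization.AtPrime p.asIdeal) p.asIdeal
        exact h2.trans h3.le
      have hpq : p ≤ q := hminp q hq hqp
      have heq : q.asIdeal = p.asIdeal := le_antisymm hqp hpq
      have h3 : q'.asIdeal = IsLocalRing.maximalIdeal (Localization.AtPrime p.asIdeal) := by
        have e1 : q'.asIdeal = Ideal.map (algebraMap A (Localization.AtPrime p.asIdeal)) q.asIdeal :=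
          (IsLocalization.map_under p.asIdeal.primeCompl _ q'.asIdeal).symm
        rw [e1, congrArg (Ideal.map (algebraMap A (Localization.AtPrime p.asIdeal))) heq]
        exact Localization.AtPrime.map_eq_maximalIdeal
      rw [h3]
      exact IsLocalRing.maximalIdeal.isMaximal _
  haveI : IsArtinian (Localization.AtPrime p.asIdeal) (LocalizedModule p.asIdeal.primeCompl M) :=
    (isFiniteLength_iff_isNoetherian_isArtinian.mp hfl).2
  have hinj : Function.Injective (LocalizedModule.map p.asIdeal.primeCompl θ) :=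
    LocalizedModule.map_injective _ θ hθ
  have hsurj : Function.Surjective (LocalizedModule.map p.asIdeal.primeCompl θ) :=
    IsArtinian.surjective_of_injective_endomorphism _ hinj
  revert hp
  rw [imp_false, Module.notMem_support_iff']
  intro x
  obtain ⟨m, rfl⟩ := Submodule.mkQ_surjective _ x
  obtain ⟨y, hy⟩ := hsurj (LocalizedModule.mk m 1)
  induction y using LocalizedModule.induction_on with
  | h m' t =>
    rw [LocalizedModule.map_mk, LocalizedModule.mk_eq] at hy
    obtain ⟨u, hu⟩ := hy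
    refine ⟨(u : A) * (t : A), (u * t).2, ?_⟩
    rw [← map_smul, Submodule.mkQ_apply, Submodule.Quotient.mk_eq_zero]
    refine ⟨(u : A) • m', ?_⟩
    rw [map_smul]
    simp only [one_smul, Submonoid.smul_def] at hu
    rw [hu, mul_smul]

omit [IsNoetherianRing A] [IsLocalRing A] [Module.Finite A M] in
theorem periodic_exact (φ ψ : M →ₗ[A] M) (hφ : Function.Injective φ)
    (hψ : Function.Injective ψ)
    (hcomm : Submodule.map φ (LinearMap.range ψ) = Submodule.map ψ (LinearMap.range φ))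
    (R : Submodule A M) (hR : R = LinearMap.range (φ ∘ₗ ψ))
    (φ' ψ' : (M ⧸ R) →ₗ[A] (M ⧸ R))
    (hφ' : φ' ∘ₗ R.mkQ = R.mkQ ∘ₗ φ)
    (hψ' : ψ' ∘ₗ R.mkQ = R.mkQ ∘ₗ ψ) :
    CycAlg.IsPeriodic φ' ψ' ∧ Subsingleton (CycAlg.perH φ' ψ') ∧
      Subsingleton (CycAlg.perH ψ' φ') := by
  have hφ'a : ∀ m, φ' (R.mkQ m) = R.mkQ (φ m) := fun m => LinearMap.congr_fun hφ' m
  have hψ'a : ∀ m, ψ' (R.mkQ m) = R.mkQ (ψ m) := fun m => LinearMap.congr_fun hψ' m
  have hRmem : ∀ x, x ∈ R ↔ ∃ m, φ (ψ m) = x := fun x => by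
    rw [hR]
    exact Iff.rfl
  have hRmem' : ∀ x, x ∈ R ↔ ∃ m, ψ (φ m) = x := by
    intro x
    rw [hRmem]
    constructor
    · rintro ⟨m, rfl⟩
      have h1 : φ (ψ m) ∈ Submodule.map φ (LinearMap.range ψ) :=
        Submodule.mem_map_of_mem ⟨m, rfl⟩
      rw [hcomm] at h1
      obtain ⟨_, ⟨m', rfl⟩, h2⟩ := h1
      exact ⟨m', h2⟩
    · rintro ⟨m, rfl⟩
      have h1 : ψ (φ m) ∈ Submodule.map ψ (LinearMap.range φ) :=
        Submodule.mem_map_of_mem ⟨m, rfl⟩
      rw [← hcomm] at h1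
      obtain ⟨_, ⟨m', rfl⟩, h2⟩ := h1
      exact ⟨m', h2⟩
  refine ⟨⟨?_, ?_⟩, ?_, ?_⟩
  · apply LinearMap.ext
    intro x
    obtain ⟨m, rfl⟩ := R.mkQ_surjective x
    rw [LinearMap.comp_apply, hψ'a, hφ'a, LinearMap.zero_apply, Submodule.mkQ_apply,
      Submodule.Quotient.mk_eq_zero, hRmem]
    exact ⟨m, rfl⟩
  · apply LinearMap.ext
    intro x
    obtain ⟨m, rfl⟩ := R.mkQ_surjective x
    rw [LinearMap.comp_apply, hφ'a, hψ'a, LinearMap.zero_apply, Submodule.mkQ_apply,
      Submodule.Quotient.mk_eq_zero, hRmem']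
    exact ⟨m, rfl⟩
  · rw [Submodule.Quotient.subsingleton_iff, Submodule.submoduleOf_eq_top]
    intro x hx
    obtain ⟨m, rfl⟩ := R.mkQ_surjective x
    rw [LinearMap.mem_ker, hφ'a, Submodule.mkQ_apply, Submodule.Quotient.mk_eq_zero, hRmem] at hx
    obtain ⟨m', hm'⟩ := hx
    have : m = ψ m' := (hφ hm').symm
    exact ⟨R.mkQ m', by rw [hψ'a, this]⟩
  · rw [Submodule.Quotient.subsingleton_iff, Submodule.submoduleOf_eq_top]
    intro x hx
    obtain ⟨m, rfl⟩ := R.mkQ_surjective x
    rw [LinearMap.mem_ker, hψ'a, Submodule.mkQ_apply, Submodule.Quotient.mk_eq_zero, hRmem'] at hx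
    obtain ⟨m', hm'⟩ := hx
    have : m = φ m' := (hψ hm').symm
    exact ⟨R.mkQ m', by rw [hφ'a, this]⟩

theorem main (hdim : Module.supportDim A M = 1) (φ ψ : M →ₗ[A] M) (hφ : Function.Injective φ)
    (hψ : Function.Injective ψ)
    (hcomm : Submodule.map φ (LinearMap.range ψ) = Submodule.map ψ (LinearMap.range φ))
    (φ' ψ' : (M ⧸ LinearMap.range (φ ∘ₗ ψ)) →ₗ[A] (M ⧸ LinearMap.range (φ ∘ₗ ψ)))
    (hφ' : φ' ∘ₗ (LinearMap.range (φ ∘ₗ ψ)).mkQ = (LinearMap.range (φ ∘ₗ ψ)).mkQ ∘ₗ φ)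
    (hψ' : ψ' ∘ₗ (LinearMap.range (φ ∘ₗ ψ)).mkQ = (LinearMap.range (φ ∘ₗ ψ)).mkQ ∘ₗ ψ) :
    Module.length A (M ⧸ LinearMap.range (φ ∘ₗ ψ)) < ⊤ ∧ CycAlg.IsPeriodic φ' ψ' ∧
      Subsingleton (CycAlg.perH φ' ψ') ∧ Subsingleton (CycAlg.perH ψ' φ') := by
  refine ⟨?_, periodic_exact φ ψ hφ hψ hcomm _ rfl φ' ψ' hφ' hψ'⟩
  rw [lt_top_iff_ne_top, Module.length_ne_top_iff]
  exact isFiniteLength_quot_range hdim (φ ∘ₗ ψ) (hφ.comp hψ)

end Groth.Agent.Helper1.PerQuot
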