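import Mathlib

/-!
# Bounding `m` with `b = a^m c` in finite extensions of a one-dimensional local ring
(helper for S1835)
-/

set_option autoImplicit false

namespace Groth.Agent.Helper1.PowBound

universe u

open IsLocalRing

theorem exists_pow_mem_span (R : Type u) [CommRing R] [IsLocalRing R]
    (hR : ringKrullDim R = 1) (a b : R) (ham : a ∈ maximalIdeal R) (hb : b ∈ nonZeroDivisors R) :
    ∃ n : ℕ, a ^ n ∈ Ideal.span {b} := by
  have hrad : a ∈ (Ideal.span {b}).radical := by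
    rw [Ideal.radical_eq_sInf, Ideal.mem_sInf]
    rintro p ⟨hbp, hp⟩
    have hbp' : b ∈ p := hbp (Ideal.mem_span_singleton_self b)
    have hdim : Order.krullDim (PrimeSpectrum R) ≤ 1 := le_of_eq hR
    rcases (Order.krullDim_le_one_iff.mp hdim) ⟨p, hp⟩ with hmin | hmax
    · exfalso
      have hmem : p ∈ minimalPrimes R := PrimeSpectrum.isMin_iff.mp hmin
      exact Set.disjoint_left.mp (Ideal.disjoint_nonZeroDivisors_of_mem_minimalPrimes hmem) hbp' hb
    · have hle : (⟨p, hp⟩ : PrimeSpectrum R) ≤ closedPoint R := le_maximalIdeal hp.ne_top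
      have hge : closedPoint R ≤ ⟨p, hp⟩ := hmax hle
      exact hge ham
  exact hrad

theorem map_maximalIdeal_le_jacobson (R : Type u) [CommRing R] [IsLocalRing R] (R' : Type u)
    [CommRing R'] [Algebra R R'] [Algebra.IsIntegral R R'] :
    (maximalIdeal R).map (algebraMap R R') ≤ Ideal.jacobson ⊥ := by
  rw [Ideal.jacobson]
  refine le_sInf ?_
  rintro J ⟨-, hJ⟩
  haveI := hJ
  haveI : (J.comap (algebraMap R R')).IsMaximal := Ideal.isMaximal_comap_of_isIntegral_of_isMaximal J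
  rw [Ideal.map_le_iff_le_comap, IsLocalRing.eq_maximalIdeal ‹(J.comap (algebraMap R R')).IsMaximal›]

theorem main (R : Type u) [CommRing R] [IsNoetherianRing R] [IsLocalRing R]
    (hR : ringKrullDim R = 1) (a b : R) (ha : a ∈ nonZeroDivisors R)
    (ham : a ∈ IsLocalRing.maximalIdeal R) (hb : b ∈ nonZeroDivisors R) :
    ∃ n : ℕ, ∀ (R' : Type u) [CommRing R'] [Algebra R R'],
      Function.Injective (algebraMap R R') → Module.Finite R R' → ∀ (m : ℕ) (c : R'),
        algebraMap R R' b = algebraMap R R' a ^ m * c → m ≤ n := by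
  obtain ⟨n, hn⟩ := exists_pow_mem_span R hR a b ham hb
  obtain ⟨d, hd⟩ := Ideal.mem_span_singleton'.mp hn
  refine ⟨n, ?_⟩
  intro R' _ _ hinj hfin m c hbc
  by_contra hlt
  push Not at hlt
  haveI : Algebra.IsIntegral R R' := Algebra.IsIntegral.of_finite R R'
  set φ := algebraMap R R' with hφ
  obtain ⟨k, hk⟩ : ∃ k, m = n + (k + 1) := ⟨m - n - 1, by omega⟩
  have h1 : φ a ^ n = φ a ^ n * (φ a * (φ a ^ k * c * φ d)) := by
    calc φ a ^ n = φ (a ^ n) := (map_pow φ a n).symm
      _ = φ (d * b) := by rw [hd]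
      _ = φ d * (φ a ^ m * c) := by rw [map_mul, hbc]
      _ = φ a ^ n * (φ a * (φ a ^ k * c * φ d)) := by rw [hk]; ring
  have hjac : φ a * (-(φ a ^ k * c * φ d)) ∈ Ideal.jacobson (⊥ : Ideal R') := by
    apply map_maximalIdeal_le_jacobson R R'
    exact Ideal.mul_mem_right _ _ (Ideal.mem_map_of_mem φ ham)
  have hunit : IsUnit (φ a * (-(φ a ^ k * c * φ d)) * 1 + 1) := Ideal.mem_jacobson_bot.mp hjac 1
  have h2 : φ a ^ n * (φ a * (-(φ a ^ k * c * φ d)) * 1 + 1) = 0 := by
    have : φ a ^ n * (φ a * (-(φ a ^ k * c * φ d)) * 1 + 1) =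
        φ a ^ n - φ a ^ n * (φ a * (φ a ^ k * c * φ d)) := by ring
    rw [this, ← h1, sub_self]
  have h3 : φ a ^ n = 0 := (hunit.mul_left_eq_zero).mp h2
  have h4 : a ^ n = 0 := by
    apply hinj
    rw [map_pow, h3, map_zero]
  have h5 : a ^ n ∈ nonZeroDivisors R := pow_mem ha n
  exact nonZeroDivisors.ne_zero h5 h4

end Groth.Agent.Helper1.PowBound
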