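import Mathlib

/-!
# Field extensions in which every element has a power in the base field
-/

open Polynomial

namespace Groth.Agent.Helper1.PowInBase

universe u

lemma isAlgebraic_of_roots {F Ω : Type*} [Field F] [Field Ω] [Algebra F Ω] {u z0 z1 : Ω}
    {m0 m1 : ℕ} (hm0 : 0 < m0) (hm1 : 0 < m1) (h0 : z0 ^ m0 = 1) (h1 : z1 ^ m1 = 1)
    (hu : u = (z1 - 1) * (z0 - z1)⁻¹) : IsAlgebraic F u := by
  have a0 : IsAlgebraic F z0 := IsAlgebraic.of_pow hm0 (h0 ▸ isAlgebraic_one)
  have a1 : IsAlgebraic F z1 := IsAlgebraic.of_pow hm1 (h1 ▸ isAlgebraic_one)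
  rw [hu]
  exact (a1.sub isAlgebraic_one).mul (a0.sub a1).inv

section
variable {k k' : Type u} [Field k] [Field k'] [Algebra k k']

lemma exists_conj
    (hpow : ∀ x : k', ∃ n : ℕ, 0 < n ∧ x ^ n ∈ Set.range (algebraMap k k'))
    (x : k') (hsep : IsSeparable k x) (hx : x ∉ Set.range (algebraMap k k')) :
    ∃ v : AlgebraicClosure k', v ≠ algebraMap k' (AlgebraicClosure k') x ∧
      ∀ y : k, ∃ m : ℕ, 0 < m ∧ (v + algebraMap k (AlgebraicClosure k') y) ^ m =
        (algebraMap k' (AlgebraicClosure k') x + algebraMap k (AlgebraicClosure k') y) ^ m := by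
  have hint : IsIntegral k x := hsep.isIntegral
  have hdeg : 2 ≤ (minpoly k x).natDegree :=
    (minpoly.two_le_natDegree_iff hint).mpr (by simpa using hx)
  have hsplit : ((minpoly k x).map (algebraMap k (AlgebraicClosure k'))).Splits :=
    IsAlgClosed.splits _
  have hcard : Fintype.card ((minpoly k x).rootSet (AlgebraicClosure k')) =
      (minpoly k x).natDegree :=
    Polynomial.card_rootSet_eq_natDegree hsep hsplit
  have hu : algebraMap k' (AlgebraicClosure k') x ∈ (minpoly k x).rootSet (AlgebraicClosure k') := by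
    rw [Polynomial.mem_rootSet]
    refine ⟨minpoly.ne_zero hint, ?_⟩
    rw [Polynomial.aeval_algebraMap_apply, minpoly.aeval, map_zero]
  haveI : Nontrivial ((minpoly k x).rootSet (AlgebraicClosure k')) :=
    Fintype.one_lt_card_iff_nontrivial.mp (by omega)
  obtain ⟨⟨v, hv⟩, hne⟩ := exists_ne
    (⟨algebraMap k' (AlgebraicClosure k') x, hu⟩ : (minpoly k x).rootSet (AlgebraicClosure k'))
  refine ⟨v, fun h => hne (Subtype.ext h), fun y => ?_⟩
  obtain ⟨m, hm, c, hc⟩ := hpow (x + algebraMap k k' y)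
  refine ⟨m, hm, ?_⟩
  have hq : aeval x ((X + C y) ^ m - C c : k[X]) = 0 := by
    simp [hc]
  have hdvd := minpoly.dvd k x hq
  have hv0 : aeval v (minpoly k x) = 0 := (Polynomial.mem_rootSet.mp hv).2
  have hqv : aeval v ((X + C y) ^ m - C c : k[X]) = 0 := by
    obtain ⟨r, hr⟩ := hdvd
    rw [hr, map_mul, hv0, zero_mul]
  have hqu : aeval (algebraMap k' (AlgebraicClosure k') x) ((X + C y) ^ m - C c : k[X]) = 0 := by
    rw [Polynomial.aeval_algebraMap_apply, hq, map_zero]
  simp only [map_sub, map_pow, map_add, aeval_X, aeval_C] at hqv hqu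
  rw [sub_eq_zero] at hqv hqu
  rw [hqv, hqu]

lemma core' {Ω : Type u} [Field Ω] [Algebra k' Ω] [Algebra k Ω] [IsScalarTower k k' Ω]
    (x : k') (hx : x ∉ Set.range (algebraMap k k')) (v : Ω) (hvu : v ≠ algebraMap k' Ω x)
    (hrel : ∀ y : k, ∃ m : ℕ, 0 < m ∧
      (v + algebraMap k Ω y) ^ m = (algebraMap k' Ω x + algebraMap k Ω y) ^ m) :
    (∀ (F : Type u) [Field F] [Algebra F k'], IsAlgebraic F x) ∧ ¬ CharZero k' := by
  set u : Ω := algebraMap k' Ω x with hu
  have hne : ∀ y : k, u + algebraMap k Ω y ≠ 0 := by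
    intro y h0
    apply hx
    refine ⟨-y, ?_⟩
    have h1 : algebraMap k' Ω (x + algebraMap k k' y) = 0 := by
      rw [map_add, ← IsScalarTower.algebraMap_apply]; exact h0
    have h2 := (map_eq_zero _).mp h1
    rw [map_neg]; exact (eq_neg_of_add_eq_zero_left h2).symm
  let ζ : k → Ω := fun y => (v + algebraMap k Ω y) / (u + algebraMap k Ω y)
  have hζpow : ∀ y, ∃ m, 0 < m ∧ ζ y ^ m = 1 := by
    intro y
    obtain ⟨m, hm, h⟩ := hrel y
    exact ⟨m, hm, by simp only [ζ]; rw [div_pow, h, div_self (pow_ne_zero _ (hne y))]⟩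
  have hζinj : ∀ y y', ζ y = ζ y' → y = y' := by
    intro y y' h
    simp only [ζ] at h
    rw [div_eq_div_iff (hne y) (hne y')] at h
    have h2 : (v - u) * (algebraMap k Ω y' - algebraMap k Ω y) = 0 := by linear_combination h
    rcases mul_eq_zero.mp h2 with h3 | h3
    · exact absurd (sub_eq_zero.mp h3) hvu
    · exact ((algebraMap k Ω).injective (sub_eq_zero.mp h3)).symm
  have hζeq : ∀ y, ζ y * (u + algebraMap k Ω y) = v + algebraMap k Ω y :=
    fun y => div_mul_cancel₀ _ (hne y)
  have h0 := hζeq 0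
  have h1 := hζeq 1
  simp only [map_zero, add_zero, map_one] at h0 h1
  have hζne : ζ 0 - ζ 1 ≠ 0 := fun h => zero_ne_one (hζinj 0 1 (sub_eq_zero.mp h))
  have hu_eq : u = (ζ 1 - 1) * (ζ 0 - ζ 1)⁻¹ := by
    rw [eq_mul_inv_iff_mul_eq₀ hζne]
    linear_combination h0 - h1
  obtain ⟨m0, hm0, hz0⟩ := hζpow 0
  obtain ⟨m1, hm1, hz1⟩ := hζpow 1
  have hxalg : ∀ (F : Type u) [Field F] [Algebra F k'], IsAlgebraic F x := by
    intro F _ _
    letI : Algebra F Ω := ((algebraMap k' Ω).comp (algebraMap F k')).toAlgebra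
    haveI : IsScalarTower F k' Ω := IsScalarTower.of_algebraMap_eq (fun _ => rfl)
    have hualg : IsAlgebraic F u := isAlgebraic_of_roots hm0 hm1 hz0 hz1 hu_eq
    exact (isAlgebraic_algebraMap_iff (algebraMap k' Ω).injective).mp hualg
  refine ⟨hxalg, fun hchar => ?_⟩
  haveI : CharZero Ω := charZero_of_injective_algebraMap (algebraMap k' Ω).injective
  haveI : CharZero k := (RingHom.charZero_iff (algebraMap k k').injective).mpr hchar
  have hualg : IsAlgebraic ℚ u := isAlgebraic_of_roots hm0 hm1 hz0 hz1 hu_eq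
  have hvalg : IsAlgebraic ℚ v := by
    rw [← h0]
    exact (IsAlgebraic.of_pow hm0 (hz0 ▸ isAlgebraic_one)).mul hualg
  have huint : IsIntegral ℚ u := (isAlgebraic_iff_isIntegral).mp hualg
  have hvint : IsIntegral ℚ v := (isAlgebraic_iff_isIntegral).mp hvalg
  let K : IntermediateField ℚ Ω := IntermediateField.adjoin ℚ {u, v}
  haveI : FiniteDimensional ℚ K := IntermediateField.finiteDimensional_adjoin_pair huint hvint
  haveI : NumberField K := ⟨⟩
  have huK : u ∈ K := IntermediateField.subset_adjoin ℚ _ (by simp)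
  have hvK : v ∈ K := IntermediateField.subset_adjoin ℚ _ (by simp)
  let g : ℕ → K := fun n => ⟨ζ (n : k), by
    simp only [ζ, map_natCast]
    exact K.div_mem (K.add_mem hvK (natCast_mem K n)) (K.add_mem huK (natCast_mem K n))⟩
  have hginj : Function.Injective g := by
    intro a b hab
    have h3 : ζ (a : k) = ζ (b : k) := congrArg Subtype.val hab
    have h4 := hζinj _ _ h3
    exact_mod_cast h4
  have hgmem : ∀ n, g n ∈ {z : K | IsIntegral ℤ z ∧ ∀ φ : K →+* ℂ, ‖φ z‖ ≤ 1} := by
    intro n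
    obtain ⟨m, hm, h⟩ := hζpow (n : k)
    have hgm : g n ^ m = 1 := Subtype.ext (by simpa using h)
    refine ⟨IsIntegral.of_pow hm (by rw [hgm]; exact isIntegral_one), fun φ => ?_⟩
    have h5 : ‖φ (g n)‖ ^ m = 1 := by rw [← norm_pow, ← map_pow, hgm, map_one, norm_one]
    exact ((pow_eq_one_iff_of_nonneg (norm_nonneg _) hm.ne').mp h5).le
  exact (Set.infinite_of_injective_forall_mem hginj hgmem)
    (NumberField.Embeddings.finite_of_norm_le K ℂ 1)

lemma core
    (hpow : ∀ x : k', ∃ n : ℕ, 0 < n ∧ x ^ n ∈ Set.range (algebraMap k k'))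
    (x : k') (hsep : IsSeparable k x) (hx : x ∉ Set.range (algebraMap k k')) :
    (∀ (F : Type u) [Field F] [Algebra F k'], IsAlgebraic F x) ∧ ¬ CharZero k' := by
  obtain ⟨v, hvu, hrel⟩ := exists_conj hpow x hsep hx
  exact core' x hx v hvu hrel

theorem forward
    (hpow : ∀ x : k', ∃ n : ℕ, 0 < n ∧ x ^ n ∈ Set.range (algebraMap k k')) :
    Function.Surjective (algebraMap k k') ∨
      ∃ p : ℕ, p.Prime ∧ CharP k' p ∧
        (IsPurelyInseparable k k' ∨ Algebra.IsAlgebraic (⊥ : Subfield k') k') := by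
  by_cases hsurj : Function.Surjective (algebraMap k k')
  · exact Or.inl hsurj
  right
  haveI halg : Algebra.IsAlgebraic k k' := ⟨fun x => by
    obtain ⟨n, hn, c, hc⟩ := hpow x
    exact IsAlgebraic.of_pow hn (hc ▸ isAlgebraic_algebraMap c)⟩
  by_cases hpi : IsPurelyInseparable k k'
  · obtain ⟨p, hp⟩ := CharP.exists k'
    rcases CharP.char_is_prime_or_zero k' p with hpp | hp0
    · exact ⟨p, hpp, hp, Or.inl hpi⟩
    · exfalso
      subst hp0
      haveI : CharZero k' := CharP.charP_to_charZero k'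
      haveI : CharZero k := (RingHom.charZero_iff (algebraMap k k').injective).mpr inferInstance
      exact hsurj (IsPurelyInseparable.surjective_algebraMap_of_isSeparable k k')
  · have hsc : separableClosure k k' ≠ ⊥ := fun h => hpi ((separableClosure.eq_bot_iff).mp h)
    obtain ⟨x, hxs, hxk⟩ : ∃ x : k', IsSeparable k x ∧ x ∉ Set.range (algebraMap k k') := by
      by_contra hcon
      push_neg at hcon
      apply hsc
      rw [eq_bot_iff]
      intro x hx
      rw [mem_separableClosure_iff] at hx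
      exact IntermediateField.mem_bot.mpr (hcon x hx)
    obtain ⟨hxalg, hnchar⟩ := core hpow x hxs hxk
    have hkint : ∀ y : k, IsIntegral (⊥ : Subfield k') (algebraMap k k' y) := by
      intro y
      have hxy : IsSeparable k (x + algebraMap k k' y) :=
        Field.isSeparable_add hxs (isSeparable_algebraMap y)
      have hxyk : x + algebraMap k k' y ∉ Set.range (algebraMap k k') := fun ⟨c, hc⟩ =>
        hxk ⟨c - y, by rw [map_sub, hc]; ring⟩
      have h1 := (core hpow _ hxy hxyk).1 (⊥ : Subfield k')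
      have h2 : IsAlgebraic (⊥ : Subfield k') (algebraMap k k' y) := by
        have := h1.sub (hxalg (⊥ : Subfield k'))
        simpa using this
      exact h2.isIntegral
    have hall : ∀ z : k', IsIntegral (⊥ : Subfield k') z := by
      intro z
      let IC := integralClosure (⊥ : Subfield k') k'
      let φ : k →+* IC := (algebraMap k k').codRestrict IC.toSubring (fun y => hkint y)
      obtain ⟨q, hq, hroot⟩ := (halg.isAlgebraic z).isIntegral
      have hz : IsIntegral IC z := by
        refine ⟨q.map φ, hq.map φ, ?_⟩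
        rw [Polynomial.eval₂_map]
        exact hroot
      have hz2 : z ∈ integralClosure IC k' := hz
      rw [integralClosure_idem] at hz2
      obtain ⟨w, hw⟩ := Algebra.mem_bot.mp hz2
      rw [← hw]
      exact w.2
    obtain ⟨p, hp⟩ := CharP.exists k'
    rcases CharP.char_is_prime_or_zero k' p with hpp | hp0
    · exact ⟨p, hpp, hp, Or.inr ⟨fun z => (hall z).isAlgebraic⟩⟩
    · subst hp0
      exact absurd (CharP.charP_to_charZero k') hnchar

theorem backward
    (h : Function.Surjective (algebraMap k k') ∨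
      ∃ p : ℕ, p.Prime ∧ CharP k' p ∧
        (IsPurelyInseparable k k' ∨ Algebra.IsAlgebraic (⊥ : Subfield k') k')) :
    ∀ x : k', ∃ n : ℕ, 0 < n ∧ x ^ n ∈ Set.range (algebraMap k k') := by
  intro x
  rcases h with h | ⟨p, hp, hchar, h | h⟩
  · obtain ⟨y, rfl⟩ := h x
    exact ⟨1, one_pos, y, by simp⟩
  · haveI : CharP k p := (RingHom.charP_iff (algebraMap k k') (algebraMap k k').injective p).mpr hchar
    haveI : ExpChar k p := ExpChar.prime hp
    obtain ⟨n, hn⟩ := IsPurelyInseparable.pow_mem k p x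
    exact ⟨p ^ n, pow_pos hp.pos n, by simpa using hn⟩
  · by_cases hx0 : x = 0
    · exact ⟨1, one_pos, 0, by simp [hx0]⟩
    haveI : Fact p.Prime := ⟨hp⟩
    letI := Subfield.fintypeBot k' p
    have hint : IsIntegral (⊥ : Subfield k') x := (h.isAlgebraic x).isIntegral
    let L := IntermediateField.adjoin (⊥ : Subfield k') {x}
    haveI : FiniteDimensional (⊥ : Subfield k') L := IntermediateField.adjoin.finiteDimensional hint
    haveI : Finite L := Module.finite_of_finite (⊥ : Subfield k')
    letI := Fintype.ofFinite L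
    let a : L := ⟨x, IntermediateField.mem_adjoin_simple_self _ x⟩
    have ha : a ≠ 0 := fun h0 => hx0 (congrArg Subtype.val h0)
    have h6 := FiniteField.pow_card_sub_one_eq_one a ha
    refine ⟨Fintype.card L - 1, Nat.sub_pos_of_lt Fintype.one_lt_card, 1, ?_⟩
    rw [map_one]
    have h7 := congrArg Subtype.val h6
    simpa [a] using h7.symm

end

end Groth.Agent.Helper1.PowInBase
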