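import Mathlib

set_option autoImplicit false

/-! Elementary arguments with weakly regular sequences: affine blow-up algebra presentation,
Rees algebra presentation. -/

namespace Groth.Agent.Helper1.RegSeq

open RingTheory.Sequence

section Elem

variable {A : Type*} [CommRing A]

theorem wreg_elem {rs : List A} (h : IsWeaklyRegular A rs) (i : ℕ) (hi : i < rs.length) (x : A)
    (hx : rs[i] * x ∈ Ideal.ofList (rs.take i)) : x ∈ Ideal.ofList (rs.take i) := by
  have h1 := h.regular_mod_prev i hi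
  have hI : (Ideal.ofList (rs.take i) • (⊤ : Submodule A A)) = Ideal.ofList (rs.take i) := by
    rw [smul_eq_mul, Ideal.mul_top]
  have h2 : (Submodule.Quotient.mk x :
      A ⧸ (Ideal.ofList (rs.take i) • (⊤ : Submodule A A))) = 0 := by
    apply h1
    show rs[i] • (Submodule.Quotient.mk x : A ⧸ _) = rs[i] • (0 : A ⧸ _)
    rw [smul_zero, ← Submodule.Quotient.mk_smul, Submodule.Quotient.mk_eq_zero, hI, smul_eq_mul]
    exact hx
  rw [Submodule.Quotient.mk_eq_zero, hI] at h2
  exact h2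

theorem nzd_map_C {σ : Type*} (𝔞 : Ideal A) (c : A) (h : ∀ x, c * x ∈ 𝔞 → x ∈ 𝔞)
    (G : MvPolynomial σ A)
    (hG : MvPolynomial.C c * G ∈ 𝔞.map (MvPolynomial.C : A →+* MvPolynomial σ A)) :
    G ∈ 𝔞.map (MvPolynomial.C : A →+* MvPolynomial σ A) := by
  rw [MvPolynomial.mem_map_C_iff] at hG ⊢
  intro m
  have := hG m
  rw [MvPolynomial.coeff_C_mul] at this
  exact h _ this

end Elem

section Blowup

variable {A : Type*} [CommRing A] {n : ℕ} (a : Fin (n + 1) → A)

open MvPolynomial

/-- generator `a_0 T_i - a_{i+1}` -/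
noncomputable def gen (i : Fin n) : MvPolynomial (Fin n) A := C (a 0) * X i - C (a i.succ)

/-- ideal generated by the first `k` generators -/
noncomputable def J (k : ℕ) : Ideal (MvPolynomial (Fin n) A) :=
  Ideal.span {q | ∃ i : Fin n, (i : ℕ) < k ∧ q = gen a i}

theorem J_zero : J a 0 = ⊥ := by
  rw [J, Ideal.span_eq_bot]; rintro q ⟨i, hi, _⟩; omega

theorem J_succ (k : ℕ) (hk : k < n) : J a (k+1) = J a k ⊔ Ideal.span {gen a ⟨k, hk⟩} := by
  rw [J, J, ← Ideal.span_union]
  congr 1
  ext q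
  simp only [Set.mem_ofPred_eq, Set.mem_union, Set.mem_singleton_iff]
  constructor
  · rintro ⟨i, hi, rfl⟩
    rcases Nat.lt_succ_iff_lt_or_eq.mp hi with h | h
    · exact Or.inl ⟨i, h, rfl⟩
    · right; congr 1; exact Fin.ext h
  · rintro (⟨i, hi, rfl⟩ | rfl)
    · exact ⟨i, by omega, rfl⟩
    · exact ⟨⟨k, hk⟩, by simp, rfl⟩

theorem J_top_eq : J a n =
    Ideal.span (Set.range fun i : Fin n => C (a 0) * X i - C (a i.succ)) := by
  rw [J]; congr 1; ext q
  simp only [Set.mem_ofPred_eq, Set.mem_range, gen]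
  constructor
  · rintro ⟨i, _, rfl⟩; exact ⟨i, rfl⟩
  · rintro ⟨i, rfl⟩; exact ⟨i, i.isLt, rfl⟩

/-- the ideal `(a_0, …, a_{k-1})` -/
def aa (k : ℕ) : Ideal A := Ideal.ofList ((List.ofFn a).take k)

theorem aa_succ (k : ℕ) (hk : k < n + 1) : aa a (k+1) = aa a k ⊔ Ideal.span {a ⟨k, hk⟩} := by
  unfold aa
  rw [List.take_succ_eq_append_getElem (by simpa using hk), Ideal.ofList_append,
    Ideal.ofList_singleton, List.getElem_ofFn]

theorem J_sup (k : ℕ) (hk : k ≤ n) :
    J a k ⊔ Ideal.span {C (a 0)} = (aa a (k+1)).map (C : A →+* MvPolynomial (Fin n) A) := by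
  induction k with
  | zero =>
    rw [J_zero, bot_sup_eq, aa_succ a 0 (by omega)]
    have h0 : aa a 0 = ⊥ := by simp [aa, Ideal.ofList_nil]
    rw [h0, bot_sup_eq, Ideal.map_span, Set.image_singleton]; rfl
  | succ k ih =>
    have hk' : k < n := by omega
    rw [J_succ a k hk', aa_succ a (k+1) (by omega), Ideal.map_sup, ← ih (by omega), Ideal.map_span,
      Set.image_singleton]
    have hsucc : a ⟨k+1, by omega⟩ = a (Fin.succ ⟨k, hk'⟩) := rfl
    have key : Ideal.span {gen a ⟨k, hk'⟩} ⊔ Ideal.span {C (a 0)} =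
        Ideal.span {C (a 0)} ⊔ Ideal.span {(C : A →+* MvPolynomial (Fin n) A) (a ⟨k+1, by omega⟩)} := by
      apply le_antisymm
      · rw [sup_le_iff]; refine ⟨?_, le_sup_left⟩
        rw [Ideal.span_singleton_le_iff_mem, gen, hsucc]
        exact Ideal.sub_mem _
          (Ideal.mul_mem_right _ _ (Ideal.mem_sup_left (Ideal.mem_span_singleton_self _)))
          (Ideal.mem_sup_right (Ideal.mem_span_singleton_self _))
      · rw [sup_le_iff]; refine ⟨le_sup_right, ?_⟩
        rw [Ideal.span_singleton_le_iff_mem]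
        have h : (C : A →+* MvPolynomial (Fin n) A) (a ⟨k+1, by omega⟩) =
            C (a 0) * X ⟨k, hk'⟩ - gen a ⟨k, hk'⟩ := by
          rw [gen, hsucc]; ring
        rw [h]
        exact Ideal.sub_mem _
          (Ideal.mul_mem_right _ _ (Ideal.mem_sup_right (Ideal.mem_span_singleton_self _)))
          (Ideal.mem_sup_left (Ideal.mem_span_singleton_self _))
    rw [sup_assoc, key, ← sup_assoc]

theorem a0_nzd (ha : IsWeaklyRegular A (List.ofFn a)) (x : A) (hx : a 0 * x = 0) : x = 0 := by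
  have h := wreg_elem ha 0 (by simp) x
  simp only [List.take_zero, Ideal.ofList_nil, List.getElem_ofFn, Ideal.mem_bot] at h
  exact h hx

theorem claim2 (ha : IsWeaklyRegular A (List.ofFn a)) (k : ℕ) (hk : k ≤ n)
    (F : MvPolynomial (Fin n) A) (hF : C (a 0) * F ∈ J a k) : F ∈ J a k := by
  induction k generalizing F with
  | zero =>
    rw [J_zero, Ideal.mem_bot] at hF ⊢
    ext m
    have := congrArg (coeff m) hF
    rw [coeff_C_mul, coeff_zero] at this
    rw [coeff_zero]; exact a0_nzd a ha _ this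
  | succ k ih =>
    have hk' : k < n := by omega
    rw [J_succ a k hk', Submodule.mem_sup] at hF
    obtain ⟨j, hj, y, hy, hsum⟩ := hF
    obtain ⟨G, rfl⟩ := Ideal.mem_span_singleton'.mp hy
    have hg' : gen a ⟨k, hk'⟩ = C (a 0) * X ⟨k, hk'⟩ - C (a (Fin.succ ⟨k, hk'⟩)) := rfl
    set g := gen a ⟨k, hk'⟩ with hg
    have h1 : C (a (Fin.succ ⟨k, hk'⟩)) * G ∈ (aa a (k+1)).map C := by
      rw [← J_sup a k (by omega)]
      have h : C (a (Fin.succ ⟨k, hk'⟩)) * G = j + C (a 0) * (X ⟨k, hk'⟩ * G - F) := by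
        linear_combination (-1 : MvPolynomial (Fin n) A) * hsum + G * hg'
      rw [h]
      exact Ideal.add_mem _ (Ideal.mem_sup_left hj)
        (Ideal.mem_sup_right (Ideal.mul_mem_right _ _ (Ideal.mem_span_singleton_self _)))
    have h2 : G ∈ (aa a (k+1)).map C := by
      refine nzd_map_C _ (a (Fin.succ ⟨k, hk'⟩)) ?_ G h1
      intro x hx
      have h := wreg_elem ha (k+1) (by simp; omega) x
      simp only [List.getElem_ofFn] at h
      exact h hx
    rw [← J_sup a k (by omega), Submodule.mem_sup] at h2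
    obtain ⟨j', hj', z, hz, hsum'⟩ := h2
    obtain ⟨G', rfl⟩ := Ideal.mem_span_singleton'.mp hz
    have h3 : C (a 0) * (F - G' * g) ∈ J a k := by
      have h : C (a 0) * (F - G' * g) = j + j' * g := by
        linear_combination (-1 : MvPolynomial (Fin n) A) * hsum - g * hsum'
      rw [h]; exact Ideal.add_mem _ hj (Ideal.mul_mem_right _ _ hj')
    have h4 := ih (by omega) _ h3
    rw [J_succ a k hk', Submodule.mem_sup]
    exact ⟨F - G' * g, h4, G' * g,
      Ideal.mul_mem_left _ _ (Ideal.mem_span_singleton_self _), by ring⟩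

theorem claim2_pow (ha : IsWeaklyRegular A (List.ofFn a)) (N : ℕ) (F : MvPolynomial (Fin n) A)
    (hF : C (a 0) ^ N * F ∈ J a n) : F ∈ J a n := by
  induction N with
  | zero => simpa using hF
  | succ N ih =>
    apply ih; apply claim2 a ha n le_rfl; rw [← mul_assoc, ← pow_succ']; exact hF

theorem claim3 (F : MvPolynomial (Fin n) A) :
    ∃ (N : ℕ) (c : A), C (a 0) ^ N * F - C c ∈ J a n := by
  induction F using MvPolynomial.induction_on with
  | C r => exact ⟨0, r, by simp⟩
  | add p q hp hq =>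
    obtain ⟨N1, c1, h1⟩ := hp
    obtain ⟨N2, c2, h2⟩ := hq
    refine ⟨N1 + N2, a 0 ^ N2 * c1 + a 0 ^ N1 * c2, ?_⟩
    have h : C (a 0) ^ (N1 + N2) * (p + q) - C (a 0 ^ N2 * c1 + a 0 ^ N1 * c2) =
        C (a 0) ^ N2 * (C (a 0) ^ N1 * p - C c1) + C (a 0) ^ N1 * (C (a 0) ^ N2 * q - C c2) := by
      simp only [map_add, map_mul, map_pow]; ring
    rw [h]; exact Ideal.add_mem _ (Ideal.mul_mem_left _ _ h1) (Ideal.mul_mem_left _ _ h2)
  | mul_X p i hp =>
    obtain ⟨N, c, h⟩ := hp
    refine ⟨N + 1, c * a i.succ, ?_⟩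
    have h' : C (a 0) ^ (N+1) * (p * X i) - C (c * a i.succ) =
        (C (a 0) ^ N * p - C c) * (C (a 0) * X i) + C c * gen a i := by
      rw [gen]; simp only [map_mul]; ring
    rw [h']
    exact Ideal.add_mem _ (Ideal.mul_mem_right _ _ h)
      (Ideal.mul_mem_left _ _ (Ideal.subset_span ⟨i, i.isLt, rfl⟩))

theorem ker_blowup (ha : IsWeaklyRegular A (List.ofFn a)) :
    RingHom.ker (MvPolynomial.aeval (R := A) (S₁ := Localization.Away (a 0))
      (fun i : Fin n => IsLocalization.mk' (Localization.Away (a 0)) (a i.succ)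
        (⟨a 0, Submonoid.mem_powers (a 0)⟩ : Submonoid.powers (a 0)))) =
      Ideal.span (Set.range fun i : Fin n => C (a 0) * X i - C (a i.succ)) := by
  rw [← J_top_eq]
  set φ := (MvPolynomial.aeval (R := A) (S₁ := Localization.Away (a 0))
      (fun i : Fin n => IsLocalization.mk' (Localization.Away (a 0)) (a i.succ)
        (⟨a 0, Submonoid.mem_powers (a 0)⟩ : Submonoid.powers (a 0)))) with hφ
  have hgen : ∀ i, φ (gen a i) = 0 := by
    intro i
    rw [gen, map_sub, map_mul, hφ, aeval_C, aeval_X, aeval_C]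
    have h := IsLocalization.mk'_spec' (Localization.Away (a 0)) (a i.succ)
      (⟨a 0, Submonoid.mem_powers (a 0)⟩ : Submonoid.powers (a 0))
    rw [sub_eq_zero]; exact h
  have hJ : J a n ≤ RingHom.ker φ := by
    rw [J, Ideal.span_le]; rintro q ⟨i, _, rfl⟩; exact (RingHom.mem_ker).mpr (hgen i)
  apply le_antisymm
  · intro F hF
    rw [RingHom.mem_ker] at hF
    obtain ⟨N, c, h⟩ := claim3 a F
    have h1 := hJ h
    rw [RingHom.mem_ker, map_sub, map_mul, map_pow, hF, mul_zero, zero_sub, neg_eq_zero, hφ,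
      aeval_C] at h1
    rw [IsLocalization.map_eq_zero_iff (Submonoid.powers (a 0))] at h1
    obtain ⟨⟨_, m, rfl⟩, hm⟩ := h1
    have hc : c = 0 := by
      simp only at hm
      induction m with
      | zero => simpa using hm
      | succ m ih => apply ih; apply a0_nzd a ha; rw [← mul_assoc, ← pow_succ']; exact hm
    rw [hc, map_zero, sub_zero] at h
    exact claim2_pow a ha N F h
  · exact hJ

end Blowup

end Groth.Agent.Helper1.RegSeq
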