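import Mathlib
import Groth.Agent.Helper1.RegSeq

set_option autoImplicit false

/-! Ideals generated by weakly regular sequences are of linear type: presentation of the Rees
algebra. -/

namespace Groth.Agent.Helper1.RegSeq

open RingTheory.Sequence MvPolynomial

section Rees

variable {A : Type*} [CommRing A]

/-- The ideal generated by the Koszul relations `a_i X_j - a_j X_i`. -/
noncomputable def KK {n : ℕ} (a : Fin n → A) : Ideal (MvPolynomial (Fin n) A) :=
  Ideal.span {q | ∃ i j : Fin n, q = C (a i) * X j - C (a j) * X i}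

/-- the ideal generated by the family -/
abbrev II {n : ℕ} (a : Fin n → A) : Ideal A := Ideal.span (Set.range a)

/-- homogeneous relations are generated by the Koszul relations -/
def LinType {n : ℕ} (a : Fin n → A) : Prop :=
  ∀ (d : ℕ) (G : MvPolynomial (Fin n) A), G.IsHomogeneous d → eval a G = 0 → G ∈ KK a

theorem KK_le_map {n : ℕ} (a : Fin n → A) :
    KK a ≤ (II a).map (C : A →+* MvPolynomial (Fin n) A) := by
  rw [KK, Ideal.span_le]
  rintro q ⟨i, j, rfl⟩
  apply Ideal.sub_mem
  · exact Ideal.mul_mem_right _ _ (Ideal.mem_map_of_mem _ (Ideal.subset_span ⟨i, rfl⟩))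
  · exact Ideal.mul_mem_right _ _ (Ideal.mem_map_of_mem _ (Ideal.subset_span ⟨j, rfl⟩))

theorem eval_KK {n : ℕ} (a : Fin n → A) {q : MvPolynomial (Fin n) A} (hq : q ∈ KK a) :
    eval a q = 0 := by
  have : KK a ≤ RingHom.ker (eval a) := by
    rw [KK, Ideal.span_le]
    rintro q ⟨i, j, rfl⟩
    rw [SetLike.mem_coe, RingHom.mem_ker]
    simp only [map_sub, map_mul, eval_C, eval_X]
    ring
  exact RingHom.mem_ker.mp (this hq)

theorem sum_eq_of_mem_support {n : ℕ} {d : ℕ} {G : MvPolynomial (Fin n) A}
    (hG : G.IsHomogeneous d) {m : Fin n →₀ ℕ} (hm : m ∈ G.support) : ∑ i, m i = d := by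
  have h := hG (mem_support_iff.mp hm)
  rw [← Finsupp.degree_eq_sum]
  rw [Finsupp.degree_eq_weight_one]
  exact h

theorem eval_mem_mul_pow {n : ℕ} (a : Fin n → A) (𝔟 : Ideal A) (d : ℕ)
    (G : MvPolynomial (Fin n) A) (hG : G.IsHomogeneous d) (hc : ∀ m, coeff m G ∈ 𝔟) :
    eval a G ∈ 𝔟 * II a ^ d := by
  rw [eval_eq']
  apply Ideal.sum_mem
  intro m hm
  apply Ideal.mul_mem_mul (hc m)
  rw [← sum_eq_of_mem_support hG hm, ← Finset.prod_pow_eq_pow_sum]
  apply Ideal.prod_mem_prod
  intro i _
  exact Ideal.pow_mem_pow (Ideal.subset_span (Set.mem_range_self i)) _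

theorem exists_of_mem_pow_succ {n : ℕ} (a : Fin n → A) (d : ℕ) (c : A)
    (hc : c ∈ II a ^ (d+1)) :
    ∃ e : Fin n → A, (∀ i, e i ∈ II a ^ d) ∧ c = ∑ i, a i * e i := by
  rw [pow_succ'] at hc
  refine Submodule.mul_induction_on hc ?_ ?_
  · intro x hx y hy
    obtain ⟨f, rfl⟩ := (Ideal.mem_span_range_iff_exists_fun).mp hx
    refine ⟨fun i => f i * y, fun i => Ideal.mul_mem_left _ _ hy, ?_⟩
    rw [Finset.sum_mul]; apply Finset.sum_congr rfl; intro i _; ring
  · rintro x y ⟨e1, h1, rfl⟩ ⟨e2, h2, rfl⟩
    refine ⟨fun i => e1 i + e2 i, fun i => Ideal.add_mem _ (h1 i) (h2 i), ?_⟩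
    rw [← Finset.sum_add_distrib]; apply Finset.sum_congr rfl; intro i _; ring

theorem nzd_pow {n : ℕ} (a : Fin n → A) (hL : LinType a) (x : A)
    (hx : ∀ y, x * y ∈ II a → y ∈ II a) (d : ℕ) :
    ∀ y, x * y ∈ II a ^ d → y ∈ II a ^ d := by
  induction d with
  | zero => intro y _; simp
  | succ d ih =>
    intro y hy
    have hy1 : y ∈ II a ^ d := ih y (Ideal.pow_le_pow_right (Nat.le_succ d) hy)
    obtain ⟨G, hG, rfl⟩ := (Ideal.mem_span_pow_iff_exists_isHomogeneous a y).mp hy1
    obtain ⟨e, he, hsum⟩ := exists_of_mem_pow_succ a d _ hy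
    have hex : ∀ i, ∃ p : MvPolynomial (Fin n) A, p.IsHomogeneous d ∧ eval a p = e i :=
      fun i => (Ideal.mem_span_pow_iff_exists_isHomogeneous a (e i)).mp (he i)
    choose G2 hG2 hG2e using hex
    set Q : MvPolynomial (Fin n) A := C x * G - ∑ i, C (a i) * G2 i with hQ
    have hQhom : Q.IsHomogeneous d := by
      apply IsHomogeneous.sub
      · exact hG.C_mul x
      · apply IsHomogeneous.sum; intro i _; exact (hG2 i).C_mul (a i)
    have hQ0 : eval a Q = 0 := by
      rw [hQ, map_sub, map_mul, eval_C, map_sum, hsum, sub_eq_zero]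
      apply Finset.sum_congr rfl; intro i _
      rw [map_mul, eval_C, hG2e]
    have hQK := KK_le_map a (hL d Q hQhom hQ0)
    rw [mem_map_C_iff] at hQK
    have hcoef : ∀ m, coeff m G ∈ II a := by
      intro m
      apply hx
      have h1 := hQK m
      rw [hQ, coeff_sub, coeff_C_mul, coeff_sum] at h1
      have h2 : ∑ i, coeff m (C (a i) * G2 i) ∈ II a := by
        apply Ideal.sum_mem; intro i _
        rw [coeff_C_mul]
        exact Ideal.mul_mem_right _ _ (Ideal.subset_span ⟨i, rfl⟩)
      have := Ideal.add_mem _ h1 h2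
      rwa [sub_add_cancel] at this
    have := eval_mem_mul_pow a (II a) d G hG hcoef
    rwa [← pow_succ'] at this

/-- set the last variable to zero -/
noncomputable def kap (n : ℕ) : MvPolynomial (Fin (n+1)) A →ₐ[A] MvPolynomial (Fin n) A :=
  aeval (Fin.lastCases (0 : MvPolynomial (Fin n) A) (fun i => X i))

/-- inclusion of the first `n` variables -/
noncomputable def iot (n : ℕ) : MvPolynomial (Fin n) A →ₐ[A] MvPolynomial (Fin (n+1)) A :=
  rename Fin.castSucc

theorem iot_C (n : ℕ) (r : A) : iot n (C r) = C r := by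
  rw [iot, rename_C]

theorem iot_X (n : ℕ) (i : Fin n) : iot (A := A) n (X i) = X i.castSucc := by
  rw [iot, rename_X]

theorem kap_X_last (n : ℕ) : kap (A := A) n (X (Fin.last n)) = 0 := by
  rw [kap, aeval_X, Fin.lastCases_last]

theorem kap_X_castSucc (n : ℕ) (i : Fin n) : kap (A := A) n (X i.castSucc) = X i := by
  rw [kap, aeval_X, Fin.lastCases_castSucc]

theorem sub_iot_kap_mem {n : ℕ} (F : MvPolynomial (Fin (n+1)) A) :
    F - iot n (kap n F) ∈ Ideal.span {(X (Fin.last n) : MvPolynomial (Fin (n+1)) A)} := by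
  induction F using MvPolynomial.induction_on with
  | C r =>
    have : kap n (C r) = C r := by rw [kap, aeval_C]; rfl
    rw [this, iot_C, sub_self]; exact Ideal.zero_mem _
  | add p q hp hq =>
    have : p + q - iot n (kap n (p + q)) = (p - iot n (kap n p)) + (q - iot n (kap n q)) := by
      rw [map_add, map_add]; ring
    rw [this]; exact Ideal.add_mem _ hp hq
  | mul_X p i hp =>
    induction i using Fin.lastCases with
    | last =>
      rw [map_mul, kap_X_last, mul_zero, map_zero, sub_zero]
      exact Ideal.mul_mem_left _ _ (Ideal.mem_span_singleton_self _)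
    | cast j =>
      rw [map_mul, map_mul, kap_X_castSucc, iot_X, ← sub_mul]
      exact Ideal.mul_mem_right _ _ hp

theorem isHomogeneous_of_X_mul {σ : Type*} (s : σ) (H : MvPolynomial σ A) (d : ℕ)
    (h : (X s * H).IsHomogeneous (d+1)) : H.IsHomogeneous d := by
  intro m hm
  have h1 : coeff (m + Finsupp.single s 1) (X s * H) ≠ 0 := by
    rw [mul_comm, coeff_mul_X]; exact hm
  have h2 := h h1
  rw [map_add] at h2
  have h3 : (Finsupp.weight (1 : σ → ℕ)) (Finsupp.single s 1) = 1 := by
    have := Finsupp.degree_single s (1 : ℕ)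
    rw [Finsupp.degree_eq_weight_one] at this
    exact this
  rw [h3] at h2
  exact Nat.succ_injective h2

theorem exists_decomp {n : ℕ} (d : ℕ) (F : MvPolynomial (Fin (n+1)) A)
    (hF : F.IsHomogeneous (d+1)) :
    ∃ (G : MvPolynomial (Fin n) A) (H : MvPolynomial (Fin (n+1)) A),
      G.IsHomogeneous (d+1) ∧ H.IsHomogeneous d ∧ F = iot n G + X (Fin.last n) * H := by
  have hG : (kap n F).IsHomogeneous (d+1) := by
    have := hF.aeval (Fin.lastCases (0 : MvPolynomial (Fin n) A) (fun i => X i)) (n := 1) ?_
    · rw [one_mul] at this; exact this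
    · intro i
      induction i using Fin.lastCases with
      | last => rw [Fin.lastCases_last]; exact isHomogeneous_zero _ _ _
      | cast j => rw [Fin.lastCases_castSucc]; exact isHomogeneous_X _ _
  obtain ⟨H, hH⟩ := Ideal.mem_span_singleton'.mp (sub_iot_kap_mem F)
  refine ⟨kap n F, H, hG, ?_, ?_⟩
  · apply isHomogeneous_of_X_mul (Fin.last n)
    rw [mul_comm, hH]
    exact hF.sub (hG.rename_isHomogeneous)
  · rw [mul_comm, hH]; ring

theorem eval_iot {n : ℕ} (a : Fin (n+1) → A) (G : MvPolynomial (Fin n) A) :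
    eval a (iot n G) = eval (fun i => a i.castSucc) G := by
  rw [iot, eval_rename]; rfl

theorem iot_KK {n : ℕ} (a : Fin (n+1) → A) {G : MvPolynomial (Fin n) A}
    (hG : G ∈ KK (fun i => a i.castSucc)) : iot n G ∈ KK a := by
  have : KK (fun i => a i.castSucc) ≤ (KK a).comap (iot n) := by
    rw [KK, Ideal.span_le]
    rintro q ⟨i, j, rfl⟩
    rw [SetLike.mem_coe, Ideal.mem_comap]
    rw [map_sub, map_mul, map_mul, iot_C, iot_C, iot_X, iot_X]
    exact Ideal.subset_span ⟨i.castSucc, j.castSucc, rfl⟩
  exact this hG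

theorem ofList_ofFn {n : ℕ} (a : Fin n → A) : Ideal.ofList (List.ofFn a) = II a := by
  unfold Ideal.ofList
  congr 1; ext x; simp [List.mem_ofFn]

theorem linType_of_wreg : ∀ (n : ℕ) (a : Fin n → A),
    IsWeaklyRegular A (List.ofFn a) → LinType a := by
  intro n
  induction n with
  | zero =>
    intro a _ d G _ hG0
    have hG : G = C (coeff 0 G) := eq_C_of_isEmpty G
    rw [hG, eval_C] at hG0
    rw [hG, hG0, map_zero]; exact Ideal.zero_mem _
  | succ n ihn =>
    intro a ha
    have hlist : List.ofFn a = List.ofFn (fun i : Fin n => a i.castSucc) ++ [a (Fin.last n)] := by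
      rw [List.ofFn_succ', List.concat_eq_append]
    have hwr' : IsWeaklyRegular A (List.ofFn (fun i : Fin n => a i.castSucc)) := by
      have := ha; rw [hlist, isWeaklyRegular_append_iff] at this; exact this.1
    have hL' : LinType (fun i : Fin n => a i.castSucc) := ihn _ hwr'
    have hxn : ∀ y, a (Fin.last n) * y ∈ II (fun i : Fin n => a i.castSucc) →
        y ∈ II (fun i : Fin n => a i.castSucc) := by
      intro y hy
      have h := wreg_elem ha n (by simp) y
      have htake : (List.ofFn a).take n = List.ofFn (fun i : Fin n => a i.castSucc) := by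
        rw [hlist]; exact List.take_left' (by simp)
      rw [htake, ofList_ofFn] at h
      apply h
      have : (List.ofFn a)[n]'(by simp) = a (Fin.last n) := by rw [List.getElem_ofFn]; rfl
      rw [this]; exact hy
    have hxd := nzd_pow _ hL' _ hxn
    intro d
    induction d with
    | zero =>
      intro G hG hG0
      have h1 : G = C (coeff 0 G) := by
        rw [← totalDegree_eq_zero_iff_eq_C, totalDegree_zero_iff_isHomogeneous]; exact hG
      rw [h1, eval_C] at hG0
      rw [h1, hG0, map_zero]; exact Ideal.zero_mem _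
    | succ d ihd =>
      intro F hF hF0
      obtain ⟨G, H, hG, hH, rfl⟩ := exists_decomp d F hF
      have h0 : eval (fun i : Fin n => a i.castSucc) G + a (Fin.last n) * eval a H = 0 := by
        rw [map_add, map_mul, eval_X, eval_iot] at hF0; exact hF0
      have h1 : eval (fun i : Fin n => a i.castSucc) G ∈
          II (fun i : Fin n => a i.castSucc) ^ (d+1) :=
        (Ideal.mem_span_pow_iff_exists_isHomogeneous _ _).mpr ⟨G, hG, rfl⟩
      have h2 : a (Fin.last n) * eval a H ∈ II (fun i : Fin n => a i.castSucc) ^ (d+1) := by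
        have : a (Fin.last n) * eval a H = - eval (fun i : Fin n => a i.castSucc) G := by
          linear_combination h0
        rw [this]; exact neg_mem h1
      have h3 := hxd (d+1) _ h2
      obtain ⟨e, he, hsum⟩ := exists_of_mem_pow_succ _ d _ h3
      have hex : ∀ i, ∃ p : MvPolynomial (Fin n) A, p.IsHomogeneous d ∧
          eval (fun i : Fin n => a i.castSucc) p = e i :=
        fun i => (Ideal.mem_span_pow_iff_exists_isHomogeneous _ (e i)).mp (he i)
      choose G' hG' hG'e using hex
      have hiot : ∀ i, iot n (C (a (Fin.last n)) * X i * G' i) =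
          C (a (Fin.last n)) * X i.castSucc * iot n (G' i) := by
        intro i; rw [map_mul, map_mul, iot_C, iot_X]
      set H' : MvPolynomial (Fin (n+1)) A := H - ∑ i, C (a i.castSucc) * iot n (G' i) with hH'
      have hH'hom : H'.IsHomogeneous d := by
        apply hH.sub
        apply IsHomogeneous.sum; intro i _
        exact ((hG' i).rename_isHomogeneous).C_mul _
      have hH'0 : eval a H' = 0 := by
        rw [hH', map_sub, map_sum, hsum, sub_eq_zero]
        apply Finset.sum_congr rfl; intro i _
        rw [map_mul, eval_C, eval_iot, hG'e]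
      have hH'K : H' ∈ KK a := ihd H' hH'hom hH'0
      set G'' : MvPolynomial (Fin n) A := G + ∑ i, C (a (Fin.last n)) * X i * G' i with hG''
      have hG''hom : G''.IsHomogeneous (d+1) := by
        apply hG.add
        apply IsHomogeneous.sum; intro i _
        have h1 : (C (a (Fin.last n)) * X i : MvPolynomial (Fin n) A).IsHomogeneous 1 :=
          (isHomogeneous_X A i).C_mul _
        have h2 := h1.mul (hG' i)
        rwa [add_comm] at h2
      have hG''0 : eval (fun i : Fin n => a i.castSucc) G'' = 0 := by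
        rw [hG'', map_add, map_sum]
        have : ∑ i, eval (fun i : Fin n => a i.castSucc) (C (a (Fin.last n)) * X i * G' i) =
            a (Fin.last n) * eval a H := by
          rw [hsum, Finset.mul_sum]; apply Finset.sum_congr rfl; intro i _
          rw [map_mul, map_mul, eval_C, eval_X, hG'e]; ring
        rw [this]; exact h0
      have hG''K : iot n G'' ∈ KK a := iot_KK a (hL' (d+1) G'' hG''hom hG''0)
      have hsum0 : ∑ i, iot n (C (a (Fin.last n)) * X i * G' i) -
          ∑ i, X (Fin.last n) * (C (a i.castSucc) * iot n (G' i)) +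
          ∑ i, (C (a i.castSucc) * X (Fin.last n) - C (a (Fin.last n)) * X i.castSucc) *
            iot n (G' i) = 0 := by
        rw [← Finset.sum_sub_distrib, ← Finset.sum_add_distrib]
        apply Finset.sum_eq_zero; intro i _; rw [hiot]; ring
      have key : iot n G + X (Fin.last n) * H = iot n G'' + X (Fin.last n) * H' +
          ∑ i, (C (a i.castSucc) * X (Fin.last n) - C (a (Fin.last n)) * X i.castSucc) *
            iot n (G' i) := by
        rw [hG'', hH', map_add, map_sum, mul_sub, Finset.mul_sum]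
        linear_combination (-1 : MvPolynomial (Fin (n+1)) A) * hsum0
      rw [key]
      refine Ideal.add_mem _ (Ideal.add_mem _ hG''K (Ideal.mul_mem_left _ _ hH'K)) ?_
      apply Ideal.sum_mem; intro i _
      exact Ideal.mul_mem_right _ _ (Ideal.subset_span ⟨i.castSucc, Fin.last n, rfl⟩)

theorem psi_homog {n : ℕ} (a : Fin n → A) (d : ℕ) (G : MvPolynomial (Fin n) A)
    (hG : G.IsHomogeneous d) :
    aeval (fun i : Fin n => Polynomial.C (a i) * (Polynomial.X : Polynomial A)) G =
      Polynomial.C (eval a G) * Polynomial.X ^ d := by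
  rw [aeval_def, eval₂_eq', eval_eq', map_sum, Finset.sum_mul]
  apply Finset.sum_congr rfl
  intro m hm
  have hdeg : ∑ i, m i = d := sum_eq_of_mem_support hG hm
  rw [← Polynomial.C_eq_algebraMap, map_mul, map_prod, mul_assoc]
  congr 1
  simp only [mul_pow, Finset.prod_mul_distrib, Finset.prod_pow_eq_pow_sum, hdeg, map_pow]

theorem ker_rees {n : ℕ} (a : Fin n → A) (ha : IsWeaklyRegular A (List.ofFn a)) :
    RingHom.ker (MvPolynomial.aeval (R := A)
      (fun i : Fin n => Polynomial.C (a i) * (Polynomial.X : Polynomial A))) =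
      Ideal.span {q : MvPolynomial (Fin n) A | ∃ i j : Fin n,
        q = MvPolynomial.C (a i) * MvPolynomial.X j - MvPolynomial.C (a j) * MvPolynomial.X i} := by
  have hL := linType_of_wreg n a ha
  apply le_antisymm
  · intro F hF
    rw [RingHom.mem_ker] at hF
    rw [← sum_homogeneousComponent (φ := F)] at hF ⊢
    rw [map_sum] at hF
    have hh : ∀ k, (homogeneousComponent k F).IsHomogeneous k :=
      fun k => homogeneousComponent_isHomogeneous k F
    have h0 : ∀ k ∈ Finset.range (F.totalDegree + 1), eval a (homogeneousComponent k F) = 0 := by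
      intro k hk
      have h1 := congrArg (fun P => Polynomial.coeff P k) hF
      simp only [Polynomial.finsetSum_coeff, Polynomial.coeff_zero] at h1
      rw [Finset.sum_eq_single k] at h1
      · rw [psi_homog a k _ (hh k), Polynomial.coeff_C_mul_X_pow, if_pos rfl] at h1
        exact h1
      · intro j _ hjk
        rw [psi_homog a j _ (hh j), Polynomial.coeff_C_mul_X_pow, if_neg (Ne.symm hjk)]
      · intro h; exact absurd hk h
    apply Ideal.sum_mem
    intro k hk
    exact hL k _ (hh k) (h0 k hk)
  · rw [Ideal.span_le]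
    rintro q ⟨i, j, rfl⟩
    rw [SetLike.mem_coe, RingHom.mem_ker, map_sub, map_mul, map_mul, aeval_C, aeval_C, aeval_X,
      aeval_X, ← Polynomial.C_eq_algebraMap, ← Polynomial.C_eq_algebraMap]
    ring

/-- linear type implies quasi-regularity -/
theorem coeff_mem_of_linType {n : ℕ} (a : Fin n → A) (hL : LinType a) (d : ℕ)
    (P : MvPolynomial (Fin n) A) (hP : P.IsHomogeneous d) (h : eval a P ∈ II a ^ (d+1))
    (m : Fin n →₀ ℕ) : coeff m P ∈ II a := by
  obtain ⟨e, he, hsum⟩ := exists_of_mem_pow_succ a d _ h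
  have hex : ∀ i, ∃ p : MvPolynomial (Fin n) A, p.IsHomogeneous d ∧ eval a p = e i :=
    fun i => (Ideal.mem_span_pow_iff_exists_isHomogeneous a (e i)).mp (he i)
  choose G2 hG2 hG2e using hex
  set Q : MvPolynomial (Fin n) A := P - ∑ i, C (a i) * G2 i with hQ
  have hQhom : Q.IsHomogeneous d := by
    apply IsHomogeneous.sub hP
    apply IsHomogeneous.sum; intro i _; exact (hG2 i).C_mul (a i)
  have hQ0 : eval a Q = 0 := by
    rw [hQ, map_sub, map_sum, hsum, sub_eq_zero]
    apply Finset.sum_congr rfl; intro i _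
    rw [map_mul, eval_C, hG2e]
  have hQK := KK_le_map a (hL d Q hQhom hQ0)
  rw [mem_map_C_iff] at hQK
  have h1 := hQK m
  rw [hQ, coeff_sub, coeff_sum] at h1
  have h2 : ∑ i, coeff m (C (a i) * G2 i) ∈ II a := by
    apply Ideal.sum_mem; intro i _
    rw [coeff_C_mul]
    exact Ideal.mul_mem_right _ _ (Ideal.subset_span ⟨i, rfl⟩)
  have := Ideal.add_mem _ h1 h2
  rwa [sub_add_cancel] at this

end Rees

end Groth.Agent.Helper1.RegSeq
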