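import Mathlib
import Groth.Agent.Helper1.Rees

set_option autoImplicit false

/-! In a Noetherian local ring, `n` generators of an ideal generated by a regular sequence of
length `n` form a regular sequence. -/

namespace Groth.Agent.Helper1.RegSpan

open RingTheory.Sequence IsLocalRing
open Groth.Agent.Helper1.RegSeq (II ofList_ofFn)

variable {A : Type*} [CommRing A]

/-- elementwise weak regularity modulo an ideal `J` -/
def EW (J : Ideal A) (rs : List A) : Prop :=
  ∀ (i : ℕ) (hi : i < rs.length) (x : A),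
    rs[i] * x ∈ J ⊔ Ideal.ofList (rs.take i) → x ∈ J ⊔ Ideal.ofList (rs.take i)

theorem isWeaklyRegular_self_iff (rs : List A) : IsWeaklyRegular A rs ↔ EW ⊥ rs := by
  rw [isWeaklyRegular_iff]
  apply forall_congr'; intro i
  apply forall_congr'; intro hi
  rw [isSMulRegular_quotient_iff_mem_of_smul_mem]
  have hI : (Ideal.ofList (rs.take i) • (⊤ : Submodule A A)) = Ideal.ofList (rs.take i) := by
    rw [smul_eq_mul, Ideal.mul_top]
  rw [hI, bot_sup_eq]
  rfl

theorem mem_smul_top_quot (J I : Ideal A) (y : A) :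
    (Ideal.Quotient.mk J y : A ⧸ J) ∈ I • (⊤ : Submodule A (A ⧸ J)) ↔ y ∈ J ⊔ I := by
  have h : I • (⊤ : Submodule A (A ⧸ J)) = Submodule.map (Submodule.mkQ J) I := by
    have h1 : (⊤ : Submodule A (A ⧸ J)) = Submodule.map (Submodule.mkQ J) ⊤ := by
      rw [Submodule.map_top, Submodule.range_mkQ]
    rw [h1, ← Submodule.map_smul'', smul_eq_mul, Ideal.mul_top]
  rw [h]
  have h2 : (Ideal.Quotient.mk J y : A ⧸ J) = Submodule.mkQ J y := rfl
  rw [h2, ← Submodule.mem_comap, Submodule.comap_map_mkQ]

theorem isWeaklyRegular_quot_iff (J : Ideal A) (rs : List A) :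
    IsWeaklyRegular (A ⧸ J) rs ↔ EW J rs := by
  rw [isWeaklyRegular_iff]
  apply forall_congr'; intro i
  apply forall_congr'; intro hi
  rw [isSMulRegular_quotient_iff_mem_of_smul_mem]
  constructor
  · intro h x hx
    have h1 := h (Ideal.Quotient.mk J x)
    rw [← mem_smul_top_quot] at hx ⊢
    exact h1 hx
  · intro h x hx
    obtain ⟨y, rfl⟩ := Ideal.Quotient.mk_surjective x
    rw [mem_smul_top_quot]
    apply h
    rw [← mem_smul_top_quot]
    exact hx

theorem EW_cons (J : Ideal A) (r : A) (rs : List A) :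
    EW J (r :: rs) ↔ (∀ x, r * x ∈ J → x ∈ J) ∧ EW (J ⊔ Ideal.span {r}) rs := by
  constructor
  · intro h
    refine ⟨?_, ?_⟩
    · intro x hx
      have h1 := h 0 (by simp) x
      simp only [List.getElem_cons_zero, List.take_zero, Ideal.ofList_nil, sup_bot_eq] at h1
      exact h1 hx
    · intro i hi x hx
      have h1 := h (i+1) (by simp; omega) x
      simp only [List.getElem_cons_succ, List.take_succ_cons, Ideal.ofList_cons] at h1
      rw [← sup_assoc] at h1
      exact h1 hx
  · rintro ⟨h1, h2⟩ i hi x hx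
    cases i with
    | zero =>
      simp only [List.getElem_cons_zero, List.take_zero, Ideal.ofList_nil, sup_bot_eq] at hx ⊢
      exact h1 x hx
    | succ i =>
      simp only [List.getElem_cons_succ, List.take_succ_cons, Ideal.ofList_cons] at hx ⊢
      rw [← sup_assoc] at hx ⊢
      exact h2 i (by simpa using hi) x hx

theorem EW_append (J : Ideal A) (rs : List A) (r : A) :
    EW J (rs ++ [r]) ↔
      EW J rs ∧ ∀ x, r * x ∈ J ⊔ Ideal.ofList rs → x ∈ J ⊔ Ideal.ofList rs := by
  constructor
  · intro h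
    refine ⟨?_, ?_⟩
    · intro i hi x hx
      have h1 := h i (by simp; omega) x
      have e1 : (rs ++ [r])[i]'(by simp; omega) = rs[i] := List.getElem_append_left hi
      have e2 : (rs ++ [r]).take i = rs.take i := List.take_append_of_le_length (le_of_lt hi)
      rw [e1, e2] at h1
      exact h1 hx
    · intro x hx
      have h1 := h rs.length (by simp) x
      have e1 : (rs ++ [r])[rs.length]'(by simp) = r := List.getElem_concat_length rfl _
      have e2 : (rs ++ [r]).take rs.length = rs := List.take_left' rfl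
      rw [e1, e2] at h1
      exact h1 hx
  · rintro ⟨h1, h2⟩ i hi x hx
    have hi' : i < rs.length + 1 := by simpa using hi
    rcases Nat.lt_succ_iff_lt_or_eq.mp hi' with h | h
    · have e1 : (rs ++ [r])[i]'hi = rs[i] := List.getElem_append_left h
      have e2 : (rs ++ [r]).take i = rs.take i := List.take_append_of_le_length (le_of_lt h)
      rw [e1, e2] at hx
      rw [e2]
      exact h1 i h x hx
    · subst h
      have e1 : (rs ++ [r])[rs.length]'hi = r := List.getElem_concat_length rfl _
      have e2 : (rs ++ [r]).take rs.length = rs := List.take_left' rfl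
      rw [e1, e2] at hx
      rw [e2]
      exact h2 x hx

theorem EW_perm [IsLocalRing A] [IsNoetherianRing A] (J : Ideal A) {rs rs' : List A}
    (h : EW J rs) (hp : rs.Perm rs') (hm : ∀ r ∈ rs, r ∈ maximalIdeal A) : EW J rs' := by
  rw [← isWeaklyRegular_quot_iff] at h ⊢
  exact IsLocalRing.isWeaklyRegular_of_perm_of_subset_maximalIdeal h hp hm

theorem exchange [IsLocalRing A] [IsNoetherianRing A] (J : Ideal A) (r b c : A) (as' : List A)
    (hc : IsUnit c) (hb : b - c * r ∈ J ⊔ Ideal.ofList as') (h : EW J (r :: as'))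
    (hm : ∀ x ∈ r :: as', x ∈ maximalIdeal A) (hbm : b ∈ maximalIdeal A) :
    EW J (b :: as') := by
  have h1 : EW J (as' ++ [r]) := EW_perm J h (List.perm_append_singleton r as').symm hm
  rw [EW_append] at h1
  have h2 : EW J (as' ++ [b]) := by
    rw [EW_append]; refine ⟨h1.1, ?_⟩
    intro x hx
    have h3 : r * (c * x) ∈ J ⊔ Ideal.ofList as' := by
      have : r * (c * x) = b * x - (b - c * r) * x := by ring
      rw [this]; exact Ideal.sub_mem _ hx (Ideal.mul_mem_right _ _ hb)
    have h4 := h1.2 _ h3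
    obtain ⟨u, rfl⟩ := hc
    have : x = ↑u⁻¹ * (↑u * x) := by rw [← mul_assoc, Units.inv_mul, one_mul]
    rw [this]; exact Ideal.mul_mem_left _ _ h4
  refine EW_perm J h2 (List.perm_append_singleton b as') ?_
  intro x hx
  rw [List.mem_append, List.mem_singleton] at hx
  rcases hx with hx | rfl
  · exact hm x (List.mem_cons_of_mem _ hx)
  · exact hbm

theorem rel_coeff : ∀ (n : ℕ) (J : Ideal A) (a : Fin n → A), EW J (List.ofFn a) →
    ∀ c : Fin n → A, ∑ l, c l * a l ∈ J → ∀ l, c l ∈ J ⊔ Ideal.span (Set.range a) := by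
  intro n
  induction n with
  | zero => intro J a _ c _ l; exact l.elim0
  | succ n ih =>
    intro J a ha c hc
    have hlist : List.ofFn a = List.ofFn (fun i : Fin n => a i.castSucc) ++ [a (Fin.last n)] := by
      rw [List.ofFn_succ', List.concat_eq_append]
    rw [hlist, EW_append, ofList_ofFn] at ha
    obtain ⟨ha1, ha2⟩ := ha
    have hle : Ideal.span (Set.range (fun i : Fin n => a i.castSucc)) ≤
        Ideal.span (Set.range a) :=
      Ideal.span_mono (by rintro _ ⟨i, rfl⟩; exact ⟨i.castSucc, rfl⟩)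
    rw [Fin.sum_univ_castSucc] at hc
    have h1 : c (Fin.last n) ∈ J ⊔ Ideal.span (Set.range (fun i : Fin n => a i.castSucc)) := by
      apply ha2
      have : a (Fin.last n) * c (Fin.last n) =
          (∑ l : Fin n, c l.castSucc * a l.castSucc + c (Fin.last n) * a (Fin.last n)) -
            ∑ l : Fin n, c l.castSucc * a l.castSucc := by ring
      rw [this]
      refine Ideal.sub_mem _ (Ideal.mem_sup_left hc) (Ideal.mem_sup_right ?_)
      exact Ideal.sum_mem _ fun l _ => Ideal.mul_mem_left _ _ (Ideal.subset_span ⟨l, rfl⟩)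
    obtain ⟨j, hj, y, hy, hjy⟩ := Submodule.mem_sup.mp h1
    obtain ⟨dd, rfl⟩ := Ideal.mem_span_range_iff_exists_fun.mp hy
    have h2 : ∑ l : Fin n, (c l.castSucc + dd l * a (Fin.last n)) * a l.castSucc ∈ J := by
      have e1 : ∑ l : Fin n, (c l.castSucc + dd l * a (Fin.last n)) * a l.castSucc =
          ∑ l : Fin n, c l.castSucc * a l.castSucc +
            a (Fin.last n) * ∑ l : Fin n, dd l * a l.castSucc := by
        rw [Finset.mul_sum, ← Finset.sum_add_distrib]
        apply Finset.sum_congr rfl; intro l _; ring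
      have : ∑ l : Fin n, (c l.castSucc + dd l * a (Fin.last n)) * a l.castSucc =
          (∑ l : Fin n, c l.castSucc * a l.castSucc + c (Fin.last n) * a (Fin.last n)) -
            j * a (Fin.last n) := by
        rw [e1, ← hjy]; ring
      rw [this]; exact Ideal.sub_mem _ hc (Ideal.mul_mem_right _ _ hj)
    have h3 := ih J (fun i : Fin n => a i.castSucc) ha1 _ h2
    intro l
    induction l using Fin.lastCases with
    | last => exact sup_le_sup_left hle J h1
    | cast l =>
      have h4 := sup_le_sup_left hle J (h3 l)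
      have : c l.castSucc = (c l.castSucc + dd l * a (Fin.last n)) - dd l * a (Fin.last n) := by
        ring
      rw [this]
      exact Ideal.sub_mem _ h4 (Ideal.mem_sup_right
        (Ideal.mul_mem_left _ _ (Ideal.subset_span ⟨Fin.last n, rfl⟩)))

theorem exists_unit_coeff [IsLocalRing A] (n : ℕ) (J : Ideal A) (a b : Fin n → A)
    (ha : EW J (List.ofFn a))
    (hab : J ⊔ Ideal.span (Set.range a) = J ⊔ Ideal.span (Set.range b))
    (hK : J ⊔ Ideal.span (Set.range a) ≠ ⊤) (i₀ : Fin n) :
    ∃ (k : Fin n) (c : A), IsUnit c ∧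
      b i₀ - c * a k ∈ J ⊔ Ideal.span (a '' {l | l ≠ k}) := by
  classical
  have hKm : J ⊔ Ideal.span (Set.range a) ≤ maximalIdeal A := IsLocalRing.le_maximalIdeal hK
  have hM : ∀ i, ∃ f : Fin n → A, b i - ∑ k, f k * a k ∈ J := by
    intro i
    have : b i ∈ J ⊔ Ideal.span (Set.range a) := by
      rw [hab]; exact Ideal.mem_sup_right (Ideal.subset_span ⟨i, rfl⟩)
    obtain ⟨j, hj, y, hy, hjy⟩ := Submodule.mem_sup.mp this
    obtain ⟨f, rfl⟩ := Ideal.mem_span_range_iff_exists_fun.mp hy
    exact ⟨f, by rw [← hjy, add_sub_cancel_right]; exact hj⟩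
  choose M hM using hM
  have hN : ∀ k, ∃ f : Fin n → A, a k - ∑ i, f i * b i ∈ J := by
    intro k
    have : a k ∈ J ⊔ Ideal.span (Set.range b) := by
      rw [← hab]; exact Ideal.mem_sup_right (Ideal.subset_span ⟨k, rfl⟩)
    obtain ⟨j, hj, y, hy, hjy⟩ := Submodule.mem_sup.mp this
    obtain ⟨f, rfl⟩ := Ideal.mem_span_range_iff_exists_fun.mp hy
    exact ⟨f, by rw [← hjy, add_sub_cancel_right]; exact hj⟩
  choose N hN using hN
  have hrel : ∀ k, ∑ l, ((if k = l then (1 : A) else 0) - ∑ i, N k i * M i l) * a l ∈ J := by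
    intro k
    have e1 : ∑ l, (∑ i, N k i * M i l) * a l = ∑ i, N k i * ∑ l, M i l * a l := by
      simp only [Finset.sum_mul, Finset.mul_sum]
      rw [Finset.sum_comm]
      apply Finset.sum_congr rfl; intro i _
      apply Finset.sum_congr rfl; intro l _; ring
    have e2 : ∑ l, ((if k = l then (1 : A) else 0) - ∑ i, N k i * M i l) * a l =
        (a k - ∑ i, N k i * b i) + ∑ i, N k i * (b i - ∑ l, M i l * a l) := by
      simp only [sub_mul, Finset.sum_sub_distrib, ite_mul, one_mul, zero_mul, Finset.sum_ite_eq,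
        Finset.mem_univ, if_true, mul_sub]
      rw [e1]; ring
    rw [e2]
    exact Ideal.add_mem _ (hN k) (Ideal.sum_mem _ fun i _ => Ideal.mul_mem_left _ _ (hM i))
  have hcoef : ∀ k l, (if k = l then (1 : A) else 0) - ∑ i, N k i * M i l ∈ maximalIdeal A :=
    fun k l => hKm (rel_coeff n J a ha _ (hrel k) l)
  let MM : Matrix (Fin n) (Fin n) A := Matrix.of M
  let NN : Matrix (Fin n) (Fin n) A := Matrix.of N
  have hNM : (NN * MM).map (Ideal.Quotient.mk (maximalIdeal A)) = 1 := by
    ext k l
    have h1 := hcoef k l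
    rw [← Ideal.Quotient.eq_zero_iff_mem, map_sub, sub_eq_zero] at h1
    rw [Matrix.map_apply, Matrix.mul_apply, Matrix.one_apply]
    simp only [NN, MM, Matrix.of_apply]
    rw [← h1]
    split_ifs <;> simp
  have hdet : IsUnit (NN * MM).det := by
    have h1 : Ideal.Quotient.mk (maximalIdeal A) (NN * MM).det = 1 := by
      rw [RingHom.map_det, RingHom.mapMatrix_apply, hNM, Matrix.det_one]
    by_contra hnu
    have h2 : (NN * MM).det ∈ maximalIdeal A := (IsLocalRing.mem_maximalIdeal _).mpr hnu
    rw [← Ideal.Quotient.eq_zero_iff_mem, h1] at h2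
    exact one_ne_zero h2
  rw [Matrix.det_mul] at hdet
  have hdetM : IsUnit MM.det := isUnit_of_mul_isUnit_right hdet
  have hex : ∃ k, IsUnit (M i₀ k) := by
    by_contra hno
    push Not at hno
    have h0 : (MM.map (Ideal.Quotient.mk (maximalIdeal A))).det = 0 := by
      apply Matrix.det_eq_zero_of_row_eq_zero i₀
      intro j
      rw [Matrix.map_apply, Ideal.Quotient.eq_zero_iff_mem]
      exact (IsLocalRing.mem_maximalIdeal _).mpr (hno j)
    have h1 : Ideal.Quotient.mk (maximalIdeal A) MM.det = 0 := by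
      rw [RingHom.map_det, RingHom.mapMatrix_apply, h0]
    rw [Ideal.Quotient.eq_zero_iff_mem] at h1
    exact (IsLocalRing.mem_maximalIdeal _).mp h1 hdetM
  obtain ⟨k, hk⟩ := hex
  refine ⟨k, M i₀ k, hk, ?_⟩
  have e : b i₀ - M i₀ k * a k =
      (b i₀ - ∑ l, M i₀ l * a l) + ∑ l ∈ Finset.univ.erase k, M i₀ l * a l := by
    rw [← Finset.add_sum_erase Finset.univ (fun l => M i₀ l * a l) (Finset.mem_univ k)]
    ring
  rw [e]
  refine Ideal.add_mem _ (Ideal.mem_sup_left (hM i₀)) (Ideal.mem_sup_right ?_)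
  apply Ideal.sum_mem
  intro l hl
  exact Ideal.mul_mem_left _ _ (Ideal.subset_span ⟨l, (Finset.mem_erase.mp hl).1, rfl⟩)

theorem main [IsLocalRing A] [IsNoetherianRing A] : ∀ (n : ℕ) (J : Ideal A) (a b : Fin n → A),
    EW J (List.ofFn a) →
    J ⊔ Ideal.span (Set.range a) = J ⊔ Ideal.span (Set.range b) →
    J ⊔ Ideal.span (Set.range a) ≠ ⊤ → EW J (List.ofFn b) := by
  intro n
  induction n with
  | zero =>
    intro J a b _ _ _ i hi
    simp at hi
  | succ n ih =>
    intro J a b ha hab hK
    have hKm : J ⊔ Ideal.span (Set.range a) ≤ maximalIdeal A := IsLocalRing.le_maximalIdeal hK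
    obtain ⟨k, c, hc, hbk⟩ := exists_unit_coeff (n+1) J a b ha hab hK 0
    have hperm : (List.ofFn (a ∘ ⇑(Equiv.swap 0 k))).Perm (List.ofFn a) :=
      Equiv.Perm.ofFn_comp_perm (Equiv.swap 0 k) a
    have ham : ∀ r ∈ List.ofFn a, r ∈ maximalIdeal A := by
      intro r hr
      rw [List.mem_ofFn] at hr
      obtain ⟨i, rfl⟩ := hr
      exact hKm (Ideal.mem_sup_right (Ideal.subset_span ⟨i, rfl⟩))
    have ha' : EW J (List.ofFn (a ∘ ⇑(Equiv.swap 0 k))) := EW_perm J ha hperm.symm ham
    have hcons : List.ofFn (a ∘ ⇑(Equiv.swap 0 k)) =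
        a k :: List.ofFn (fun i : Fin n => a (Equiv.swap 0 k i.succ)) := by
      rw [List.ofFn_succ]
      simp only [Function.comp_apply, Equiv.swap_apply_left]
    have himg : a '' {l | l ≠ k} ⊆ Set.range (fun i : Fin n => a (Equiv.swap 0 k i.succ)) := by
      rintro _ ⟨l, hl, rfl⟩
      have h0 : (Equiv.swap 0 k).symm l ≠ 0 := by
        intro h
        apply hl
        rw [← (Equiv.swap 0 k).apply_symm_apply l, h, Equiv.swap_apply_left]
      obtain ⟨i, hi⟩ := Fin.exists_succ_eq.mpr h0
      refine ⟨i, ?_⟩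
      simp only
      rw [hi, Equiv.apply_symm_apply]
    have hbk' : b 0 - c * a k ∈
        J ⊔ Ideal.ofList (List.ofFn (fun i : Fin n => a (Equiv.swap 0 k i.succ))) := by
      rw [ofList_ofFn]; exact sup_le_sup_left (Ideal.span_mono himg) J hbk
    have hb0K : b 0 ∈ J ⊔ Ideal.span (Set.range a) := by
      rw [hab]; exact Ideal.mem_sup_right (Ideal.subset_span ⟨0, rfl⟩)
    have hb0m : b 0 ∈ maximalIdeal A := hKm hb0K
    have hm' : ∀ x ∈ a k :: List.ofFn (fun i : Fin n => a (Equiv.swap 0 k i.succ)),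
        x ∈ maximalIdeal A := by
      rw [← hcons]; intro x hx; exact ham x (hperm.mem_iff.mp hx)
    rw [hcons] at ha'
    have hex := exchange J (a k) (b 0) c _ hc hbk' ha' hm' hb0m
    rw [EW_cons] at hex
    have hlistb : List.ofFn b = b 0 :: List.ofFn (fun i : Fin n => b i.succ) := List.ofFn_succ
    rw [hlistb, EW_cons]
    refine ⟨hex.1, ?_⟩
    have e1 : (J ⊔ Ideal.span {b 0}) ⊔
        Ideal.span (Set.range (fun i : Fin n => a (Equiv.swap 0 k i.succ))) =
        J ⊔ Ideal.span (Set.range a) := by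
      apply le_antisymm
      · refine sup_le (sup_le le_sup_left ?_) ?_
        · rw [Ideal.span_singleton_le_iff_mem]; exact hb0K
        · refine le_sup_of_le_right (Ideal.span_mono ?_)
          rintro _ ⟨i, rfl⟩; exact ⟨_, rfl⟩
      · refine sup_le (le_sup_of_le_left le_sup_left) ?_
        rw [Ideal.span_le]
        rintro _ ⟨l, rfl⟩
        by_cases hl : l = k
        · subst hl
          obtain ⟨u, rfl⟩ := hc
          have e : a l = ↑u⁻¹ * (b 0 - (b 0 - ↑u * a l)) := by
            have : b 0 - (b 0 - ↑u * a l) = ↑u * a l := by ring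
            rw [this, ← mul_assoc, Units.inv_mul, one_mul]
          rw [SetLike.mem_coe, e]
          apply Ideal.mul_mem_left
          apply Ideal.sub_mem
          · exact Ideal.mem_sup_left (Ideal.mem_sup_right (Ideal.mem_span_singleton_self _))
          · have h1 := sup_le_sup_left (Ideal.span_mono himg) J hbk
            exact (sup_le_sup_right (le_sup_left : J ≤ J ⊔ Ideal.span {b 0}) _) h1
        · exact Ideal.mem_sup_right (Ideal.span_mono himg (Ideal.subset_span ⟨l, hl, rfl⟩))
    have e2 : (J ⊔ Ideal.span {b 0}) ⊔ Ideal.span (Set.range (fun i : Fin n => b i.succ)) =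
        J ⊔ Ideal.span (Set.range b) := by
      apply le_antisymm
      · refine sup_le (sup_le le_sup_left ?_) ?_
        · rw [Ideal.span_singleton_le_iff_mem]
          exact Ideal.mem_sup_right (Ideal.subset_span ⟨0, rfl⟩)
        · refine le_sup_of_le_right (Ideal.span_mono ?_)
          rintro _ ⟨i, rfl⟩; exact ⟨_, rfl⟩
      · refine sup_le (le_sup_of_le_left le_sup_left) ?_
        rw [Ideal.span_le]
        rintro _ ⟨l, rfl⟩
        induction l using Fin.cases with
        | zero => exact Ideal.mem_sup_left (Ideal.mem_sup_right (Ideal.mem_span_singleton_self _))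
        | succ i => exact Ideal.mem_sup_right (Ideal.subset_span ⟨i, rfl⟩)
    apply ih (J ⊔ Ideal.span {b 0}) (fun i : Fin n => a (Equiv.swap 0 k i.succ))
      (fun i : Fin n => b i.succ) hex.2
    · rw [e1, e2, hab]
    · rw [e1]; exact hK

theorem isRegular_of_span_eq [IsLocalRing A] [IsNoetherianRing A] {n : ℕ} (a b : Fin n → A)
    (ha : IsRegular A (List.ofFn a))
    (hab : Ideal.span (Set.range a) = Ideal.span (Set.range b)) :
    IsRegular A (List.ofFn b) := by
  have hne : Ideal.span (Set.range a) ≠ ⊤ := by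
    intro h
    apply ha.top_ne_smul
    rw [ofList_ofFn]
    show (⊤ : Submodule A A) = Ideal.span (Set.range a) • ⊤
    rw [h, Submodule.top_smul]
  refine ⟨?_, ?_⟩
  · rw [isWeaklyRegular_self_iff]
    apply main n ⊥ a b ((isWeaklyRegular_self_iff _).mp ha.toIsWeaklyRegular)
    · rw [bot_sup_eq, bot_sup_eq]; exact hab
    · rw [bot_sup_eq]; exact hne
  · have h1 := ha.top_ne_smul
    rw [ofList_ofFn] at h1 ⊢
    show (⊤ : Submodule A A) ≠ Ideal.span (Set.range b) • ⊤
    rw [← hab]; exact h1

end Groth.Agent.Helper1.RegSpan
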