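import Mathlib
import Groth.Agent.Helper1.RegSpan

set_option autoImplicit false

/-! Quasi-regular sequences in the Jacobson radical of a Noetherian ring are regular. -/

namespace Groth.Agent.Helper1.QuasiReg

open RingTheory.Sequence MvPolynomial
open Groth.Agent.Helper1.RegSpan (EW EW_cons isWeaklyRegular_self_iff mem_smul_top_quot)
open Groth.Agent.Helper1.RegSeq (eval_mem_mul_pow exists_of_mem_pow_succ)

variable {A : Type*} [CommRing A]

/-- quasi-regularity modulo an ideal `K` -/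
def QRK {c : ℕ} (K : Ideal A) (f : Fin c → A) : Prop :=
  ∀ (n : ℕ) (P : MvPolynomial (Fin c) A), P.IsHomogeneous n →
    eval f P ∈ K ⊔ Ideal.span (Set.range f) ^ (n+1) →
      ∀ d, coeff d P ∈ K ⊔ Ideal.span (Set.range f)

theorem mul_pow_le (K J : Ideal A) (μ : ℕ) : (K ⊔ J) * J ^ μ ≤ K ⊔ J ^ (μ+1) := by
  rw [Ideal.sup_mul]
  apply sup_le_sup
  · exact Ideal.mul_le_left
  · rw [pow_succ']

theorem QRK_step {c : ℕ} (K : Ideal A) (f : Fin c → A) (hq : QRK K f) (i₀ : Fin c) (μ : ℕ)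
    (H : MvPolynomial (Fin c) A) (hH : H.IsHomogeneous μ)
    (h : f i₀ * eval f H ∈ K ⊔ Ideal.span (Set.range f) ^ (μ+2)) :
    eval f H ∈ K ⊔ Ideal.span (Set.range f) ^ (μ+1) := by
  have hXH : (X i₀ * H).IsHomogeneous (μ+1) := by
    have := (isHomogeneous_X A i₀).mul hH; rwa [add_comm] at this
  have hev : eval f (X i₀ * H) ∈ K ⊔ Ideal.span (Set.range f) ^ (μ+1+1) := by
    rw [map_mul, eval_X]; exact h
  have hc := hq (μ+1) _ hXH hev
  have hcH : ∀ m, coeff m H ∈ K ⊔ Ideal.span (Set.range f) := by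
    intro m
    have := hc (m + Finsupp.single i₀ 1)
    rwa [mul_comm, coeff_mul_X] at this
  exact mul_pow_le K _ μ (eval_mem_mul_pow f _ μ H hH hcH)

theorem QRK_div {c : ℕ} (K : Ideal A) (f : Fin c → A) (hq : QRK K f) (i₀ : Fin c) (n : ℕ)
    (ω : A) (h : f i₀ * ω ∈ K ⊔ Ideal.span (Set.range f) ^ n) :
    ∀ μ, μ + 1 ≤ n → ω ∈ K ⊔ Ideal.span (Set.range f) ^ μ := by
  intro μ
  induction μ with
  | zero => intro _; rw [pow_zero, Ideal.one_eq_top, sup_top_eq]; trivial
  | succ μ ih =>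
    intro hμ
    have h1 := ih (by omega)
    obtain ⟨κ', hκ', y, hy, rfl⟩ := Submodule.mem_sup.mp h1
    obtain ⟨H, hH, rfl⟩ := (Ideal.mem_span_pow_iff_exists_isHomogeneous f y).mp hy
    have h2 : f i₀ * eval f H ∈ K ⊔ Ideal.span (Set.range f) ^ (μ+2) := by
      have hle : Ideal.span (Set.range f) ^ n ≤ Ideal.span (Set.range f) ^ (μ+2) :=
        Ideal.pow_le_pow_right (by omega)
      have : f i₀ * eval f H = f i₀ * (κ' + eval f H) - f i₀ * κ' := by ring
      rw [this]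
      exact Ideal.sub_mem _ (sup_le_sup_left hle K h)
        (Ideal.mem_sup_left (Ideal.mul_mem_left _ _ hκ'))
    have h3 := QRK_step K f hq i₀ μ H hH h2
    exact Ideal.add_mem _ (Ideal.mem_sup_left hκ') h3

theorem mem_of_forall_mem_sup_pow [IsNoetherianRing A] (K J : Ideal A)
    (hJ : J ≤ Ideal.jacobson ⊥) (ξ : A) (h : ∀ ν, ξ ∈ K ⊔ J ^ ν) : ξ ∈ K := by
  have hk := Ideal.iInf_pow_smul_eq_bot_of_le_jacobson (M := A ⧸ K) J hJ
  have h1 : (Ideal.Quotient.mk K ξ : A ⧸ K) ∈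
      (⨅ i : ℕ, J ^ i • (⊤ : Submodule A (A ⧸ K))) := by
    rw [Submodule.mem_iInf]; intro ν; rw [mem_smul_top_quot]; exact h ν
  rw [hk, Submodule.mem_bot, Ideal.Quotient.eq_zero_iff_mem] at h1
  exact h1

theorem QRK_nzd [IsNoetherianRing A] {c : ℕ} (K : Ideal A) (f : Fin c → A)
    (hf : ∀ i, f i ∈ Ring.jacobson A) (hq : QRK K f) (i₀ : Fin c) (ξ : A)
    (h : f i₀ * ξ ∈ K) : ξ ∈ K := by
  apply mem_of_forall_mem_sup_pow K (Ideal.span (Set.range f)) ?_ ξ
  · intro ν
    exact QRK_div K f hq i₀ (ν+1) ξ (Ideal.mem_sup_left h) ν le_rfl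
  · rw [Ideal.span_le, Ideal.jacobson_bot]; rintro _ ⟨i, rfl⟩; exact hf i

theorem QRK_tail {c : ℕ} (K : Ideal A) (f : Fin (c+1) → A) (hq : QRK K f) :
    QRK (K ⊔ Ideal.span {f 0}) (fun i : Fin c => f i.succ) := by
  classical
  intro n F hF hev d
  have hJ'J : Ideal.span (Set.range (fun i : Fin c => f i.succ)) ≤ Ideal.span (Set.range f) :=
    Ideal.span_mono (by rintro _ ⟨i, rfl⟩; exact ⟨i.succ, rfl⟩)
  have hf0J : f 0 ∈ Ideal.span (Set.range f) := Ideal.subset_span ⟨0, rfl⟩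
  have hKK : K ⊔ Ideal.span {f 0} ⊔ Ideal.span (Set.range (fun i : Fin c => f i.succ)) =
      K ⊔ Ideal.span (Set.range f) := by
    apply le_antisymm
    · refine sup_le (sup_le le_sup_left ?_) (le_sup_of_le_right hJ'J)
      rw [Ideal.span_singleton_le_iff_mem]; exact Ideal.mem_sup_right hf0J
    · refine sup_le (le_sup_of_le_left le_sup_left) ?_
      rw [Ideal.span_le]; rintro _ ⟨i, rfl⟩
      induction i using Fin.cases with
      | zero => exact Ideal.mem_sup_left (Ideal.mem_sup_right (Ideal.mem_span_singleton_self _))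
      | succ i => exact Ideal.mem_sup_right (Ideal.subset_span ⟨i, rfl⟩)
  rw [hKK]
  obtain ⟨k', hk', g, hg, hsum⟩ := Submodule.mem_sup.mp hev
  obtain ⟨κ, hκ, z, hz, rfl⟩ := Submodule.mem_sup.mp hk'
  obtain ⟨ω, rfl⟩ := Ideal.mem_span_singleton'.mp hz
  obtain ⟨e, he, hge⟩ := exists_of_mem_pow_succ (fun i : Fin c => f i.succ) n g hg
  have hex : ∀ j, ∃ p : MvPolynomial (Fin c) A, p.IsHomogeneous n ∧
      eval (fun i : Fin c => f i.succ) p = e j :=
    fun j => (Ideal.mem_span_pow_iff_exists_isHomogeneous _ (e j)).mp (he j)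
  choose G hG hGe using hex
  set F' : MvPolynomial (Fin c) A := F - ∑ j, C (f j.succ) * G j with hF'
  have hF'hom : F'.IsHomogeneous n := by
    apply hF.sub
    apply IsHomogeneous.sum; intro j _; exact (hG j).C_mul _
  have hF'ev : eval (fun i : Fin c => f i.succ) F' = κ + ω * f 0 := by
    have h1 : ∑ j, eval (fun i : Fin c => f i.succ) (C (f j.succ) * G j) = g := by
      rw [hge]; apply Finset.sum_congr rfl; intro j _
      rw [map_mul, eval_C, hGe]
    rw [hF', map_sub, map_sum, h1, ← hsum]; ring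
  suffices hsuff : coeff d F' ∈ K ⊔ Ideal.span (Set.range f) by
    have h1 : coeff d F = coeff d F' + ∑ j, f j.succ * coeff d (G j) := by
      rw [hF', coeff_sub, coeff_sum]
      simp only [coeff_C_mul]; ring
    rw [h1]
    exact Ideal.add_mem _ hsuff (Ideal.mem_sup_right (Ideal.sum_mem _ fun j _ =>
      Ideal.mul_mem_right _ _ (Ideal.subset_span ⟨j.succ, rfl⟩)))
  cases n with
  | zero =>
    have h1 : F' = C (coeff 0 F') := by
      rw [← totalDegree_eq_zero_iff_eq_C, totalDegree_zero_iff_isHomogeneous]; exact hF'hom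
    rw [h1, eval_C] at hF'ev
    rw [h1, coeff_C]
    split_ifs
    · rw [hF'ev]
      exact Ideal.add_mem _ (Ideal.mem_sup_left hκ)
        (Ideal.mem_sup_right (Ideal.mul_mem_left _ _ hf0J))
    · exact Ideal.zero_mem _
  | succ n =>
    have h1 : f 0 * ω ∈ K ⊔ Ideal.span (Set.range f) ^ (n+1) := by
      have : f 0 * ω = eval (fun i : Fin c => f i.succ) F' - κ := by rw [hF'ev]; ring
      rw [this]
      refine Ideal.sub_mem _ (Ideal.mem_sup_right ?_) (Ideal.mem_sup_left hκ)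
      exact Ideal.pow_right_mono hJ'J _
        ((Ideal.mem_span_pow_iff_exists_isHomogeneous _ _).mpr ⟨F', hF'hom, rfl⟩)
    have h2 := QRK_div K f hq 0 (n+1) ω h1 n le_rfl
    obtain ⟨κ'', hκ'', y, hy, hωeq⟩ := Submodule.mem_sup.mp h2
    obtain ⟨H, hH, rfl⟩ := (Ideal.mem_span_pow_iff_exists_isHomogeneous f y).mp hy
    set Φ : MvPolynomial (Fin (c+1)) A := rename Fin.succ F' - X 0 * H with hΦ
    have hΦhom : Φ.IsHomogeneous (n+1) := by
      apply (hF'hom.rename_isHomogeneous).sub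
      have h7 := (isHomogeneous_X A (0 : Fin (c+1))).mul hH
      rw [add_comm 1 n] at h7; exact h7
    have hΦev : eval f Φ ∈ K ⊔ Ideal.span (Set.range f) ^ (n+1+1) := by
      have h3 : eval f Φ = κ + f 0 * κ'' := by
        rw [hΦ, map_sub, eval_rename, map_mul, eval_X]
        have h4 : eval (f ∘ Fin.succ) F' = κ + ω * f 0 := hF'ev
        rw [h4, ← hωeq]; ring
      rw [h3]
      exact Ideal.mem_sup_left (Ideal.add_mem _ hκ (Ideal.mul_mem_left _ _ hκ''))
    have hΦc := hq (n+1) Φ hΦhom hΦev (d.mapDomain Fin.succ)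
    have h5 : coeff (d.mapDomain Fin.succ) Φ = coeff d F' := by
      have h6 : (0 : Fin (c+1)) ∉ (Finsupp.mapDomain Fin.succ d).support := by
        rw [Finsupp.mem_support_iff, not_not]
        exact Finsupp.mapDomain_of_notMem_range d 0
          (by rintro ⟨i, hi⟩; exact Fin.succ_ne_zero i hi)
      rw [hΦ, coeff_sub, coeff_rename_mapDomain Fin.succ (Fin.succ_injective _), coeff_X_mul',
        if_neg h6, sub_zero]
    rw [h5] at hΦc; exact hΦc

theorem EW_of_QRK [IsNoetherianRing A] : ∀ (c : ℕ) (K : Ideal A) (f : Fin c → A),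
    (∀ i, f i ∈ Ring.jacobson A) → QRK K f → EW K (List.ofFn f) := by
  intro c
  induction c with
  | zero => intro K f _ _ i hi; simp at hi
  | succ c ih =>
    intro K f hf hq
    rw [List.ofFn_succ, EW_cons]
    refine ⟨fun x hx => QRK_nzd K f hf hq 0 x hx, ?_⟩
    exact ih _ _ (fun i => hf i.succ) (QRK_tail K f hq)

theorem isWeaklyRegular_of_quasiRegular [IsNoetherianRing A] (c : ℕ) (f : Fin c → A)
    (hf : ∀ i, f i ∈ Ring.jacobson A)
    (hq : ∀ (n : ℕ) (P : MvPolynomial (Fin c) A), P.IsHomogeneous n →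
      eval f P ∈ Ideal.span (Set.range f) ^ (n + 1) →
        ∀ d : Fin c →₀ ℕ, P.coeff d ∈ Ideal.span (Set.range f)) :
    IsWeaklyRegular A (List.ofFn f) := by
  rw [isWeaklyRegular_self_iff]
  apply EW_of_QRK c ⊥ f hf
  intro n P hP h d
  rw [bot_sup_eq] at h ⊢
  exact hq n P hP h d

end Groth.Agent.Helper1.QuasiReg
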