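import Mathlib
import Groth.Agent.H27.ReflLoc
import Groth.Agent.Helper1.DepthTwo

namespace Groth.Agent.Helper1.ReflLocal

open Groth.Agent.S18703 IsLocalRing

universe u

section Gen

variable {A : Type u} [CommRing A] [IsNoetherianRing A] {G : Type u} [AddCommGroup G]
  [Module A G] [Module.Finite A G]

noncomputable def L2 (p : Ideal A) [p.IsPrime] : Module.Dual A (Module.Dual A G) →ₗ[A]
    Module.Dual (Localization.AtPrime p)
      (Module.Dual (Localization.AtPrime p) (LocalizedModule p.primeCompl G)) :=
  IsLocalizedModule.mapExtendScalars p.primeCompl (Lmap (G := G) p)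
    (Algebra.linearMap A (Localization.AtPrime p)) (Localization.AtPrime p)

theorem L2_apply (p : Ideal A) [p.IsPrime] (ψ : Module.Dual A (Module.Dual A G))
    (f : Module.Dual A G) :
    L2 p ψ (Lmap p f) = algebraMap A (Localization.AtPrime p) (ψ f) := by
  unfold L2
  rw [IsLocalizedModule.mapExtendScalars_apply_apply, IsLocalizedModule.map_apply]
  rfl

instance L2_loc (p : Ideal A) [p.IsPrime] : IsLocalizedModule p.primeCompl (L2 (G := G) p) := by
  unfold L2
  have : Module.Finite A (Module.Dual A G) := Module.IsNoetherian.finite A (G →ₗ[A] A)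
  have : Module.FinitePresentation A (Module.Dual A G) :=
    Module.finitePresentation_of_finite A _
  infer_instance

noncomputable def E (p : Ideal A) [p.IsPrime] : LocalizedModule p.primeCompl G →ₗ[A]
    Module.Dual (Localization.AtPrime p)
      (Module.Dual (Localization.AtPrime p) (LocalizedModule p.primeCompl G)) :=
  (Module.Dual.eval (Localization.AtPrime p) (LocalizedModule p.primeCompl G)).restrictScalars A

theorem E_comp_mk (p : Ideal A) [p.IsPrime] :
    E (G := G) p ∘ₗ (LocalizedModule.mkLinearMap p.primeCompl G) =
      L2 p ∘ₗ Module.Dual.eval A G := by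
  have hunits : ∀ s : p.primeCompl,
      IsUnit (algebraMap A (Module.End A (Localization.AtPrime p)) s) :=
    IsLocalizedModule.map_units (Algebra.linearMap A (Localization.AtPrime p))
  refine LinearMap.ext fun g => ?_
  apply LinearMap.restrictScalars_injective A
  apply IsLocalizedModule.ext p.primeCompl (Lmap (G := G) p) hunits
  refine LinearMap.ext fun f => ?_
  show Module.Dual.eval (Localization.AtPrime p) (LocalizedModule p.primeCompl G)
    (LocalizedModule.mkLinearMap p.primeCompl G g) (Lmap p f) =
      L2 p (Module.Dual.eval A G g) (Lmap p f)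
  rw [Module.Dual.eval_apply, L2_apply, Module.Dual.eval_apply]
  exact Lmap_apply p f g

theorem E_eq_map (p : Ideal A) [p.IsPrime] :
    E (G := G) p = IsLocalizedModule.map p.primeCompl
      (LocalizedModule.mkLinearMap p.primeCompl G) (L2 p) (Module.Dual.eval A G) := by
  apply IsLocalizedModule.ext p.primeCompl (LocalizedModule.mkLinearMap p.primeCompl G)
    (IsLocalizedModule.map_units (L2 (G := G) p))
  rw [E_comp_mk]
  refine LinearMap.ext fun g => ?_
  rw [LinearMap.comp_apply, LinearMap.comp_apply, IsLocalizedModule.map_apply]

theorem isReflexive_of_forall_maximal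
    (h : ∀ (m : Ideal A) [m.IsMaximal],
      Module.IsReflexive (Localization.AtPrime m) (LocalizedModule m.primeCompl G)) :
    Module.IsReflexive A G := by
  refine ⟨bijective_of_isLocalized_maximal
    (fun P _ => LocalizedModule P.primeCompl G)
    (fun P _ => LocalizedModule.mkLinearMap P.primeCompl G)
    (fun P _ => Module.Dual (Localization.AtPrime P)
      (Module.Dual (Localization.AtPrime P) (LocalizedModule P.primeCompl G)))
    (fun P _ => L2 P) (Module.Dual.eval A G) (fun P _ => ?_)⟩
  rw [← E_eq_map]
  exact Module.bijective_dual_eval (Localization.AtPrime P) (LocalizedModule P.primeCompl G)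

theorem map_eval_bijective (p : Ideal A) [p.IsPrime]
    [Module.IsReflexive (Localization.AtPrime p) (LocalizedModule p.primeCompl G)] :
    Function.Bijective (LocalizedModule.map p.primeCompl (Module.Dual.eval A G)) := by
  obtain ⟨ℓ, hℓ⟩ : ∃ ℓ : LocalizedModule p.primeCompl (Module.Dual A (Module.Dual A G)) ≃ₗ[A]
      Module.Dual (Localization.AtPrime p)
        (Module.Dual (Localization.AtPrime p) (LocalizedModule p.primeCompl G)),
      ∀ y, ℓ (LocalizedModule.mkLinearMap p.primeCompl _ y) = L2 p y :=
    ⟨IsLocalizedModule.linearEquiv p.primeCompl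
      (LocalizedModule.mkLinearMap p.primeCompl (Module.Dual A (Module.Dual A G))) (L2 p),
      fun y => IsLocalizedModule.linearEquiv_apply _ _ _ y⟩
  have key : ℓ.toLinearMap ∘ₗ
      (LocalizedModule.map p.primeCompl (Module.Dual.eval A G)).restrictScalars A = E p := by
    apply IsLocalizedModule.ext p.primeCompl (LocalizedModule.mkLinearMap p.primeCompl G)
      (IsLocalizedModule.map_units (L2 (G := G) p))
    rw [E_comp_mk]
    refine LinearMap.ext fun g => ?_
    simp only [LinearMap.comp_apply, LinearMap.restrictScalars_apply, LinearEquiv.coe_coe]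
    rw [LocalizedModule.mkLinearMap_apply, LocalizedModule.map_mk,
      ← LocalizedModule.mkLinearMap_apply, hℓ]
  have hE : Function.Bijective (E (G := G) p) :=
    Module.bijective_dual_eval (Localization.AtPrime p) (LocalizedModule p.primeCompl G)
  have h1 : Function.Bijective (ℓ ∘ (LocalizedModule.map p.primeCompl (Module.Dual.eval A G))) := by
    have : (ℓ ∘ (LocalizedModule.map p.primeCompl (Module.Dual.eval A G))) = E (G := G) p := by
      funext x
      exact LinearMap.congr_fun key x
    rw [this]; exact hE
  exact (Function.Bijective.of_comp_iff' ℓ.bijective _).mp h1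

end Gen

theorem main71 (R : Type u) [CommRing R] [IsNoetherianRing R] (M : Type u)
    [AddCommGroup M] [Module R M] [Module.Finite R M] :
    (Module.IsReflexive R M ↔
      ∀ (p : Ideal R) [p.IsPrime],
        Module.IsReflexive (Localization.AtPrime p) (LocalizedModule p.primeCompl M)) ∧
    (Module.IsReflexive R M ↔
      ∀ (m : Ideal R) (_ : m.IsMaximal),
        Module.IsReflexive (Localization.AtPrime m) (LocalizedModule m.primeCompl M)) := by
  refine ⟨⟨fun h p _ => ?_, fun h => ?_⟩, ⟨fun h m hm => ?_, fun h => ?_⟩⟩
  · exact Groth.Agent.H27.ReflLoc.isReflexive_localization (G := M) p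
  · exact isReflexive_of_forall_maximal (fun m _ => h m)
  · exact Groth.Agent.H27.ReflLoc.isReflexive_localization (G := M) m
  · exact isReflexive_of_forall_maximal (fun m hm => h m hm)

theorem main79 (R : Type u) [CommRing R] [IsDomain R]
    [IsNoetherianRing R] (M : Type u) [AddCommGroup M] [Module R M] [Module.Finite R M] :
    Module.IsReflexive R M ↔ ∀ (p : Ideal R) [p.IsPrime],
      Module.IsReflexive (Localization.AtPrime p) (LocalizedModule p.primeCompl M) ∨
        2 ≤ LocCoh.depth (Localization.AtPrime p) (LocalizedModule p.primeCompl M) := by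
  constructor
  · intro h p _
    exact Or.inl (Groth.Agent.H27.ReflLoc.isReflexive_localization (G := M) p)
  · intro h
    refine ⟨DepthTwo.main (Module.Dual.eval R M) (fun p _ => ?_)⟩
    rcases h p with h1 | h2
    · exact Or.inl (map_eval_bijective p)
    · refine Or.inr ⟨h2, fun hass => ?_⟩
      -- p is associated to the double dual, hence p = ⊥ and M_⊥ ≠ 0
      obtain ⟨-, ψ, hψ⟩ := isAssociatedPrime_iff.mp hass
      have hψ0 : ψ ≠ 0 := by
        rintro rfl
        apply (show p.IsPrime from inferInstance).ne_top
        rw [hψ, Ideal.eq_top_iff_one, Submodule.mem_colon_singleton, smul_zero]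
        exact zero_mem _
      have hpbot : p = ⊥ := by
        rw [eq_bot_iff]
        intro a ha
        rw [hψ, Submodule.mem_colon_singleton, Submodule.mem_bot] at ha
        rw [Submodule.mem_bot]
        by_contra ha0
        apply hψ0
        refine LinearMap.ext fun f => ?_
        have h3 : a • ψ f = 0 := by
          have := LinearMap.congr_fun ha f
          simpa using this
        rw [smul_eq_mul] at h3
        rcases mul_eq_zero.mp h3 with h4 | h4
        · exact absurd h4 ha0
        · rw [h4]; rfl
      obtain ⟨f, hf⟩ : ∃ f : Module.Dual R M, ψ f ≠ 0 := by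
        by_contra hcon
        push Not at hcon
        exact hψ0 (LinearMap.ext fun f => by rw [hcon f]; rfl)
      obtain ⟨x, hx⟩ : ∃ x : M, f x ≠ 0 := by
        by_contra hcon
        push Not at hcon
        apply hf
        have : f = 0 := LinearMap.ext fun x => by rw [hcon x]; rfl
        rw [this, map_zero]
      have hne : LocalizedModule.mk x (1 : p.primeCompl) ≠ 0 := by
        intro h0
        rw [← LocalizedModule.zero_mk 1, LocalizedModule.mk_eq] at h0
        obtain ⟨u, hu⟩ := h0
        rw [one_smul, one_smul, smul_zero] at hu
        have hu' : (u : R) • x = 0 := hu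
        have h5 : (u : R) * f x = 0 := by rw [← smul_eq_mul, ← map_smul, hu', map_zero]
        rcases mul_eq_zero.mp h5 with h6 | h6
        · exact u.2 (by rw [h6]; exact zero_mem _)
        · exact hx h6
      have : Nontrivial (LocalizedModule p.primeCompl M) := ⟨⟨_, 0, hne⟩⟩
      have hd0 : LocCoh.depth (Localization.AtPrime p) (LocalizedModule p.primeCompl M) = 0 := by
        rw [Groth.Agent.H29.depth_eq_zero_iff]
        intro c hc hreg
        have hc0 : c = 0 := by
          obtain ⟨a, s, rfl⟩ := IsLocalization.exists_mk'_eq p.primeCompl c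
          rw [IsLocalization.AtPrime.mk'_mem_maximal_iff (Localization.AtPrime p) p] at hc
          rw [hpbot, Submodule.mem_bot] at hc
          rw [hc, IsLocalization.mk'_zero]
        rw [hc0] at hreg
        exact hne (hreg (by simp only [zero_smul]))
      rw [hd0] at h2
      exact absurd h2 (by norm_num)

end Groth.Agent.Helper1.ReflLocal
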