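import Mathlib
import Groth.Agent.S0601
import Groth.Agent.Helper1.ReflLocal

namespace Groth.Agent.Helper1.ReflNormal

open IsLocalRing

universe u

theorem intClosed_loc (R : Type u) [CommRing R] [IsDomain R] [IsIntegrallyClosed R]
    (p : Ideal R) [p.IsPrime] : IsIntegrallyClosed (Localization.AtPrime p) :=
  isIntegrallyClosed_of_isLocalization (S := Localization.AtPrime p) p.primeCompl
    p.primeCompl_le_nonZeroDivisors

theorem hasS2_self (R : Type u) [CommRing R] [IsDomain R] [IsNoetherianRing R]
    [IsIntegrallyClosed R] : LocCoh.HasSk 2 R R :=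
  ((Groth.Agent.S0601.result R).mp (fun p _ => ⟨inferInstance, intClosed_loc R p⟩)).2

variable {R M : Type u} [CommRing R] [IsDomain R] [IsNoetherianRing R]
    [IsIntegrallyClosed R] [AddCommGroup M] [Module R M] [Module.Finite R M]

omit [IsNoetherianRing R] [IsIntegrallyClosed R] [Module.Finite R M] in
theorem tf_of_refl [Module.IsReflexive R M] : NoZeroSMulDivisors R M := by
  refine ⟨fun {c x} hcx => ?_⟩
  by_cases hc : c = 0
  · exact Or.inl hc
  · right
    apply (Module.bijective_dual_eval R M).1
    rw [map_zero]
    refine LinearMap.ext fun f => ?_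
    rw [Module.Dual.eval_apply, LinearMap.zero_apply]
    have h1 : c * f x = 0 := by rw [← smul_eq_mul, ← map_smul, hcx, map_zero]
    exact (mul_eq_zero.mp h1).resolve_left hc

theorem refl_of_tf_s2 [NoZeroSMulDivisors R M] (hS2 : LocCoh.HasSk 2 R M) :
    Module.IsReflexive R M := by
  rw [ReflLocal.main79 R M]
  intro p _
  by_cases hsub : Subsingleton (LocalizedModule p.primeCompl M)
  · right
    rw [Groth.Agent.H29.depth_eq_top_of_subsingleton]
    exact le_top
  · rw [not_subsingleton_iff_nontrivial] at hsub
    have hdim : ringKrullDim (Localization.AtPrime p) = p.height :=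
      IsLocalization.AtPrime.ringKrullDim_eq_height p (Localization.AtPrime p)
    by_cases hht : p.height ≤ 1
    · left
      have hdim1 : ringKrullDim (Localization.AtPrime p) ≤ 1 := by
        rw [hdim]
        exact_mod_cast hht
      have hK : Ring.KrullDimLE 1 (Localization.AtPrime p) := by
        rw [Ring.krullDimLE_iff, Nat.cast_one]; exact hdim1
      have hic : IsIntegrallyClosed (Localization.AtPrime p) := intClosed_loc R p
      have hpid : IsPrincipalIdealRing (Localization.AtPrime p) := by
        have tfae := tfae_of_isNoetherianRing_of_isLocalRing_of_isDomain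
          (R := Localization.AtPrime p)
        have h30 : (IsIntegrallyClosed (Localization.AtPrime p) ∧
            ∀ P : Ideal (Localization.AtPrime p), P ≠ ⊥ → P.IsPrime →
              P = maximalIdeal (Localization.AtPrime p)) →
            IsPrincipalIdealRing (Localization.AtPrime p) := (tfae.out 3 0).mp
        exact h30 ⟨hic, fun P hP0 hPp =>
          IsLocalRing.eq_maximalIdeal (hPp.isMaximal_of_ne_bot hP0)⟩
      have : Module.Free (Localization.AtPrime p) (LocalizedModule p.primeCompl M) :=
        Module.free_of_finite_type_torsion_free'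
      infer_instance
    · right
      have h2 : (2 : ℕ∞) ≤ p.height := by
        rw [not_le] at hht
        have := Order.add_one_le_of_lt hht
        rwa [one_add_one_eq_two] at this
      obtain ⟨y, hy⟩ := exists_ne (0 : LocalizedModule p.primeCompl M)
      have hinj : Function.Injective (LinearMap.toSpanSingleton (Localization.AtPrime p)
          (LocalizedModule p.primeCompl M) y) := by
        rw [injective_iff_map_eq_zero]
        intro c hc
        rw [LinearMap.toSpanSingleton_apply] at hc
        by_contra hc0
        have hreg : IsRegular c := IsRegular.of_ne_zero hc0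
        have hsm : IsSMulRegular (LocalizedModule p.primeCompl M) c :=
          Module.IsTorsionFree.isSMulRegular hreg
        exact hy (hsm (by simp only [hc, smul_zero]))
      have hsd : (2 : WithBot ℕ∞) ≤
          Module.supportDim (Localization.AtPrime p) (LocalizedModule p.primeCompl M) := by
        refine le_trans ?_ (Module.supportDim_le_of_injective _ hinj)
        rw [Module.supportDim_self_eq_ringKrullDim, hdim]
        exact (le_of_eq rfl).trans (WithBot.coe_le_coe.mpr h2)
      have h3 := hS2 p
      have hsd' : ((2 : ℕ) : WithBot ℕ∞) ≤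
          Module.supportDim (Localization.AtPrime p) (LocalizedModule p.primeCompl M) :=
        (le_of_eq rfl).trans hsd
      rw [min_eq_left hsd'] at h3
      have h4 : ((2 : ℕ∞) : WithBot ℕ∞) ≤
          ((LocCoh.depth (Localization.AtPrime p) (LocalizedModule p.primeCompl M) : ℕ∞) :
            WithBot ℕ∞) := (le_of_eq rfl).trans h3
      exact WithBot.coe_le_coe.mp h4

theorem main : Module.IsReflexive R M ↔ NoZeroSMulDivisors R M ∧ LocCoh.HasSk 2 R M := by
  constructor
  · intro h
    exact ⟨tf_of_refl, Groth.Agent.H27.ReflLoc.hasSk_of_isReflexive 2 (Or.inr rfl) (hasS2_self R)⟩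
  · rintro ⟨h1, h2⟩
    exact refl_of_tf_s2 h2

end Groth.Agent.Helper1.ReflNormal
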