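import Mathlib
import Groth.Agent.H29.RegLocal3

/-!
# Ideals of a regular local ring generated by regular sequences (helper for S2167)
-/

set_option autoImplicit false

namespace Groth.Agent.Helper1.RegCot

open RingTheory.Sequence IsLocalRing

universe u

variable {R : Type u} [CommRing R]

theorem mk_smul_cotangent (I : Ideal R) (c : R) (z : I.Cotangent) :
    (Ideal.Quotient.mk I c) • z = c • z := by
  rw [← Ideal.Quotient.algebraMap_eq, algebraMap_smul]

theorem spanFinrank_cotangent_le (rs : List R) :
    (⊤ : Submodule (R ⧸ Ideal.ofList rs) (Ideal.ofList rs).Cotangent).spanFinrank ≤ rs.length := by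
  classical
  set I := Ideal.ofList rs with hI
  have hmem : ∀ i : Fin rs.length, rs.get i ∈ I := fun i =>
    Ideal.subset_span (List.get_mem rs i)
  let gen : Fin rs.length → I.Cotangent := fun i => I.toCotangent ⟨rs.get i, hmem i⟩
  have key : ∀ (y : R) (hy : y ∈ Submodule.span R {r | r ∈ rs}),
      I.toCotangent ⟨y, hy⟩ ∈ Submodule.span (R ⧸ I) (Set.range gen) := by
    intro y hy
    induction hy using Submodule.span_induction with
    | mem x h =>
      obtain ⟨i, hi⟩ := List.mem_iff_get.mp h
      subst hi
      exact Submodule.subset_span ⟨i, rfl⟩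
    | zero =>
      have : I.toCotangent ⟨0, I.zero_mem⟩ = 0 := map_zero I.toCotangent
      rw [this]
      exact Submodule.zero_mem _
    | add x y hx hy ihx ihy =>
      have : I.toCotangent ⟨x + y, I.add_mem hx hy⟩ =
          I.toCotangent ⟨x, hx⟩ + I.toCotangent ⟨y, hy⟩ := map_add I.toCotangent ⟨x, hx⟩ ⟨y, hy⟩
      rw [this]
      exact Submodule.add_mem _ ihx ihy
    | smul a x hx ihx =>
      have : I.toCotangent ⟨a • x, I.smul_mem a hx⟩ = a • I.toCotangent ⟨x, hx⟩ :=
        map_smul I.toCotangent a ⟨x, hx⟩
      rw [this, ← mk_smul_cotangent]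
      exact Submodule.smul_mem _ _ ihx
  have hspan : Submodule.span (R ⧸ I) (Set.range gen) = ⊤ := by
    rw [eq_top_iff]
    intro z _
    obtain ⟨y, rfl⟩ := I.toCotangent_surjective z
    exact key y.1 y.2
  have hcard : (Set.range gen).ncard ≤ rs.length := by
    rw [← Set.image_univ]
    refine (Set.ncard_image_le Set.finite_univ).trans ?_
    rw [Set.ncard_univ, Nat.card_fin]
  rw [← hspan]
  exact (Submodule.spanFinrank_span_le_ncard_of_finite (Set.finite_range gen)).trans hcard

theorem main [IsRegularLocalRing R] (I : Ideal R) (hI : I ≠ ⊤) :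
    (∃ rs : List R, Ideal.ofList rs = I ∧ IsRegular R rs) ↔
      (((⊤ : Submodule (R ⧸ I) I.Cotangent).spanFinrank : WithBot ℕ∞) + ringKrullDim (R ⧸ I)
        ≤ ringKrullDim R) := by
  classical
  have hIm : I ≤ maximalIdeal R := IsLocalRing.le_maximalIdeal hI
  have hquot : ∀ xs : List R, Ideal.ofList xs = I →
      Module.supportDim R (R ⧸ Ideal.ofList xs • (⊤ : Submodule R R)) = ringKrullDim (R ⧸ I) := by
    intro xs hxs
    have e1 : Ideal.ofList xs • (⊤ : Submodule R R) = I := by
      rw [smul_eq_mul, Ideal.mul_top, hxs]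
    rw [e1]
    exact Module.supportDim_quotient_eq_ringKrullDim I
  constructor
  · rintro ⟨rs, rfl, hreg⟩
    have hmem : ∀ x ∈ rs, x ∈ maximalIdeal R := fun x hx => hIm (Ideal.subset_span hx)
    have h1 := Groth.Agent.H29.supportDim_quotient_add_length_of_isWeaklyRegular R R rs hmem
      hreg.toIsWeaklyRegular
    rw [hquot rs rfl, Module.supportDim_self_eq_ringKrullDim] at h1
    rw [← h1, add_comm]
    gcongr
    exact_mod_cast spanFinrank_cotangent_le rs
  · intro h
    haveI : Module.Finite R I.Cotangent :=
      Module.Finite.of_surjective I.toCotangent I.toCotangent_surjective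
    haveI : Module.Finite (R ⧸ I) I.Cotangent := Module.Finite.of_restrictScalars_finite R _ _
    obtain ⟨s, hscard, hsspan⟩ := Submodule.FG.exists_span_finset_card_eq_spanFinrank
      (Module.finite_def.mp (inferInstance : Module.Finite (R ⧸ I) I.Cotangent))
    -- lifts
    let lift : I.Cotangent → I := fun z => Classical.choose (I.toCotangent_surjective z)
    have hlift : ∀ z, I.toCotangent (lift z) = z := fun z =>
      Classical.choose_spec (I.toCotangent_surjective z)
    let xs : List R := s.toList.map (fun z => ((lift z : I) : R))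
    have hxslen : xs.length = (⊤ : Submodule (R ⧸ I) I.Cotangent).spanFinrank := by
      rw [List.length_map, Finset.length_toList, hscard]
    have hxsI : ∀ x ∈ xs, x ∈ I := by
      intro x hx
      obtain ⟨z, -, rfl⟩ := List.mem_map.mp hx
      exact (lift z).2
    have hle : Ideal.ofList xs ≤ I := Ideal.span_le.mpr hxsI
    -- every element of the cotangent space comes from `ofList xs`
    have key : ∀ z ∈ Submodule.span (R ⧸ I) (s : Set I.Cotangent),
        ∃ y : I, (y : R) ∈ Ideal.ofList xs ∧ I.toCotangent y = z := by
      intro z hz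
      induction hz using Submodule.span_induction with
      | mem z hz =>
        refine ⟨lift z, Ideal.subset_span ?_, hlift z⟩
        exact List.mem_map.mpr ⟨z, Finset.mem_toList.mpr hz, rfl⟩
      | zero => exact ⟨0, Submodule.zero_mem _, map_zero _⟩
      | add a b _ _ iha ihb =>
        obtain ⟨ya, hya, rfl⟩ := iha
        obtain ⟨yb, hyb, rfl⟩ := ihb
        exact ⟨ya + yb, Submodule.add_mem _ hya hyb, map_add _ _ _⟩
      | smul c a _ iha =>
        obtain ⟨ya, hya, rfl⟩ := iha
        obtain ⟨c, rfl⟩ := Ideal.Quotient.mk_surjective c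
        refine ⟨c • ya, ?_, ?_⟩
        · exact Ideal.mul_mem_left _ c hya
        · rw [map_smul, mk_smul_cotangent]
    have hIle : I ≤ Ideal.ofList xs := by
      have hfg : (I : Submodule R R).FG := IsNoetherian.noetherian I
      have hjac : I ≤ Ideal.jacobson ⊥ := by
        rw [IsLocalRing.jacobson_eq_maximalIdeal ⊥ bot_ne_top]
        exact hIm
      refine Submodule.le_of_le_smul_of_le_jacobson_bot hfg hjac ?_
      intro y hy
      have hz : I.toCotangent ⟨y, hy⟩ ∈ Submodule.span (R ⧸ I) (s : Set I.Cotangent) := by
        rw [hsspan]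
        exact Submodule.mem_top
      obtain ⟨y', hy', hyy'⟩ := key _ hz
      rw [Ideal.toCotangent_eq] at hyy'
      have hsq : y - (y' : R) ∈ I • (I : Submodule R R) := by
        rw [smul_eq_mul, ← pow_two]
        have : y - (y' : R) = -((y' : R) - y) := by ring
        rw [this]
        exact (Ideal.neg_mem_iff _).mpr hyy'
      have : y = (y' : R) + (y - (y' : R)) := by ring
      rw [this]
      exact Submodule.add_mem_sup hy' hsq
    have hxs : Ideal.ofList xs = I := le_antisymm hle hIle
    have hmem : ∀ x ∈ xs, x ∈ maximalIdeal R := fun x hx => hIm (hxsI x hx)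
    have hCM : LocCoh.IsCohenMacaulayModule R R :=
      Groth.Agent.H29.isCohenMacaulayModule_self_of_isRegularLocalRing R
    have h1 := Groth.Agent.H29.supportDim_le_supportDim_quotient_add_length R xs R hmem
    rw [hquot xs hxs, Module.supportDim_self_eq_ringKrullDim, hxslen] at h1
    have heq : Module.supportDim R (R ⧸ Ideal.ofList xs • (⊤ : Submodule R R)) + xs.length =
        Module.supportDim R R := by
      rw [hquot xs hxs, Module.supportDim_self_eq_ringKrullDim, hxslen]
      exact le_antisymm (by rw [add_comm]; exact h) h1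
    have hw := Groth.Agent.H29.isWeaklyRegular_of_supportDim_quotient_add_length R xs R hCM hmem heq
    refine ⟨xs, hxs, ⟨hw, ?_⟩⟩
    rw [smul_eq_mul, Ideal.mul_top, hxs]
    exact fun h => hI h.symm

end Groth.Agent.Helper1.RegCot
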