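import Mathlib
import Groth.Agent.H29.RegLocal3

/-!
# Generators of `I R` in a localisation of a polynomial ring form a regular sequence
(helper for S12082)
-/

set_option autoImplicit false

namespace Groth.Agent.Helper1.RegLocPoly

open RingTheory.Sequence IsLocalRing

universe u

/-- In a regular local ring, `c` elements of the maximal ideal generating an ideal `J` with
`dim R/J + c = dim R` form a regular sequence. -/
theorem isRegular_of_dim {R : Type u} [CommRing R] [IsRegularLocalRing R] (J : Ideal R)
    (hJ : J ≤ maximalIdeal R) (c : ℕ) (f : Fin c → R) (hspan : Ideal.span (Set.range f) = J)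
    (hdim : ringKrullDim (R ⧸ J) + (c : WithBot ℕ∞) = ringKrullDim R) :
    IsRegular R (List.ofFn f) := by
  have hCM : LocCoh.IsCohenMacaulayModule R R :=
    Groth.Agent.H29.isCohenMacaulayModule_self_of_isRegularLocalRing R
  have hmem : ∀ y ∈ List.ofFn f, y ∈ maximalIdeal R := by
    intro y hy
    rw [List.mem_ofFn] at hy
    apply hJ
    rw [← hspan]
    exact Ideal.subset_span hy
  have hof : Ideal.ofList (List.ofFn f) = J := by
    rw [Ideal.ofList, ← hspan]
    congr 1
    ext y
    simp [List.mem_ofFn]
  apply IsRegular.of_isWeaklyRegular_of_mem_maximalIdeal R hmem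
  apply Groth.Agent.H29.isWeaklyRegular_of_supportDim_quotient_add_length R _ R hCM hmem
  have e1 : Ideal.ofList (List.ofFn f) • (⊤ : Submodule R R) = J := by
    rw [smul_eq_mul, Ideal.mul_top, hof]
  rw [e1, List.length_ofFn, Module.supportDim_self_eq_ringKrullDim,
    Module.supportDim_quotient_eq_ringKrullDim]
  exact hdim

theorem main' {P : Type u} [CommRing P] (I : Ideal P) (q : Ideal (P ⧸ I)) [q.IsPrime]
    (R : Type u) [CommRing R] [Algebra P R]
    [IsLocalization.AtPrime R (q.comap (Ideal.Quotient.mk I))] [IsRegularLocalRing R] (c : ℕ)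
    (hc : (c : ℕ∞) + q.height = (q.comap (Ideal.Quotient.mk I)).height)
    (f : Fin c → R) (hf : ∀ i, f i ∈ I.map (algebraMap P R))
    (hgen : Ideal.span (Set.range f) ⊔ IsLocalRing.maximalIdeal R * I.map (algebraMap P R) =
      I.map (algebraMap P R)) :
    RingTheory.Sequence.IsRegular R (List.ofFn f) := by
  have hIq' : I ≤ q.comap (Ideal.Quotient.mk I) := by
    intro x hx
    rw [Ideal.mem_comap, Ideal.Quotient.eq_zero_iff_mem.mpr hx]
    exact q.zero_mem
  have hJm : I.map (algebraMap P R) ≤ maximalIdeal R := by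
    rw [← IsLocalization.AtPrime.map_eq_maximalIdeal (q.comap (Ideal.Quotient.mk I)) R]
    exact Ideal.map_mono hIq'
  -- Nakayama
  have hspan : Ideal.span (Set.range f) = I.map (algebraMap P R) := by
    apply le_antisymm
    · exact Ideal.span_le.mpr (by rintro _ ⟨i, rfl⟩; exact hf i)
    · have hfg : (I.map (algebraMap P R) : Submodule R R).FG := IsNoetherian.noetherian _
      have hjac : maximalIdeal R ≤ Ideal.jacobson ⊥ := by
        rw [IsLocalRing.jacobson_eq_maximalIdeal ⊥ bot_ne_top]
      refine Submodule.le_of_le_smul_of_le_jacobson_bot hfg hjac ?_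
      rw [smul_eq_mul]
      exact hgen.ge
  -- dimensions
  have h3 : ringKrullDim R = (q.comap (Ideal.Quotient.mk I)).height :=
    IsLocalization.AtPrime.ringKrullDim_eq_height (q.comap (Ideal.Quotient.mk I)) R
  have hsub : Algebra.algebraMapSubmonoid (P ⧸ I) (q.comap (Ideal.Quotient.mk I)).primeCompl =
      q.primeCompl := by
    ext x
    constructor
    · rintro ⟨y, hy, rfl⟩
      exact hy
    · intro hx
      obtain ⟨y, rfl⟩ := Ideal.Quotient.mk_surjective x
      exact ⟨y, hx, rfl⟩
  haveI : IsLocalization.AtPrime (R ⧸ I.map (algebraMap P R)) q := by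
    have h := (inferInstance : IsLocalization (Algebra.algebraMapSubmonoid (P ⧸ I)
      (q.comap (Ideal.Quotient.mk I)).primeCompl) (R ⧸ I.map (algebraMap P R)))
    rwa [hsub] at h
  have h4 : ringKrullDim (R ⧸ I.map (algebraMap P R)) = q.height :=
    IsLocalization.AtPrime.ringKrullDim_eq_height q (R ⧸ I.map (algebraMap P R))
  refine isRegular_of_dim (I.map (algebraMap P R)) hJm c f hspan ?_
  rw [h3, h4, ← hc, add_comm]
  push_cast
  rfl

theorem main (k : Type u) [Field k] (n : ℕ)
    (I : Ideal (MvPolynomial (Fin n) k)) (q : Ideal (MvPolynomial (Fin n) k ⧸ I)) [q.IsPrime] (c : ℕ)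
    (hc : (c : ℕ∞) + q.height = (q.comap (Ideal.Quotient.mk I)).height)
    (f : Fin c → Localization.AtPrime (q.comap (Ideal.Quotient.mk I)))
    (hf : ∀ i, f i ∈ I.map (algebraMap _ (Localization.AtPrime (q.comap (Ideal.Quotient.mk I)))))
    (hgen : Ideal.span (Set.range f) ⊔
        IsLocalRing.maximalIdeal (Localization.AtPrime (q.comap (Ideal.Quotient.mk I))) *
          I.map (algebraMap _ (Localization.AtPrime (q.comap (Ideal.Quotient.mk I)))) =
      I.map (algebraMap _ (Localization.AtPrime (q.comap (Ideal.Quotient.mk I))))) :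
    RingTheory.Sequence.IsRegular (Localization.AtPrime (q.comap (Ideal.Quotient.mk I)))
      (List.ofFn f) := by
  haveI : IsRegularLocalRing (Localization.AtPrime (q.comap (Ideal.Quotient.mk I))) :=
    IsRegularRing.isRegularLocalRing_localization (q.comap (Ideal.Quotient.mk I))
  exact main' I q _ c hc f hf hgen

end Groth.Agent.Helper1.RegLocPoly
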