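import Mathlib
import Groth.Prelude.Def_CAlg
import Groth.Agent.H29.Depth
import Groth.Agent.H29.DepthLocal
import Groth.Agent.H29.CMLoc

namespace Groth.Agent.Helper1.S1Emb

open IsLocalRing

universe u

variable {R M : Type u} [CommRing R] [AddCommGroup M] [Module R M]

theorem comap_mem_support (p : Ideal R) [p.IsPrime] (Q : PrimeSpectrum (Localization.AtPrime p))
    (hQ : Q ∈ Module.support (Localization.AtPrime p) (LocalizedModule p.primeCompl M)) :
    PrimeSpectrum.comap (algebraMap R (Localization.AtPrime p)) Q ∈ Module.support R M :=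
  Groth.Agent.H29.support_localizedModule_subset R M _
    (Module.support_subset_preimage_comap (R := R) (A := Localization.AtPrime p)
      (M := LocalizedModule p.primeCompl M) hQ)

theorem comap_le (p : Ideal R) [p.IsPrime] (Q : PrimeSpectrum (Localization.AtPrime p)) :
    Ideal.comap (algebraMap R (Localization.AtPrime p)) Q.asIdeal ≤ p := by
  intro x hx
  rw [← IsLocalization.AtPrime.to_map_mem_maximal_iff (Localization.AtPrime p) p x]
  exact IsLocalRing.le_maximalIdeal Q.2.ne_top (Ideal.mem_comap.mp hx)

theorem mem_support_localized (p : Ideal R) [p.IsPrime]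
    (Q : PrimeSpectrum (Localization.AtPrime p))
    (hq : PrimeSpectrum.comap (algebraMap R (Localization.AtPrime p)) Q ∈ Module.support R M) :
    Q ∈ Module.support (Localization.AtPrime p) (LocalizedModule p.primeCompl M) := by
  rw [Module.mem_support_iff'] at hq ⊢
  obtain ⟨m, hm⟩ := hq
  refine ⟨LocalizedModule.mk m 1, fun r hr h0 => ?_⟩
  obtain ⟨a, s, rfl⟩ := IsLocalization.exists_mk'_eq p.primeCompl r
  have ha : algebraMap R (Localization.AtPrime p) a ∉ Q.asIdeal :=
    (IsLocalization.mk'_mem_iff).not.mp hr
  rw [← Localization.mk_eq_mk'_apply, LocalizedModule.mk_smul_mk, ← LocalizedModule.zero_mk 1,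
    LocalizedModule.mk_eq] at h0
  obtain ⟨u, hu⟩ := h0
  rw [smul_zero, smul_zero, one_smul] at hu
  have hu' : ((u : R) * a) • m = 0 := by rw [mul_smul]; exact hu.symm ▸ rfl
  refine hm ((u : R) * a) ?_ hu'
  intro hmem
  have hmem' : algebraMap R (Localization.AtPrime p) ((u : R) * a) ∈ Q.asIdeal := hmem
  rw [map_mul] at hmem'
  rcases Q.2.mem_or_mem hmem' with h1 | h1
  · exact Q.2.ne_top (Ideal.eq_top_of_isUnit_mem _ h1
      (IsLocalization.map_units (Localization.AtPrime p) u))
  · exact ha h1

theorem supportDim_le_zero_of_minimal (p : Ideal R) [p.IsPrime]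
    (hp : p ∈ (Module.annihilator R M).minimalPrimes) :
    Module.supportDim (Localization.AtPrime p) (LocalizedModule p.primeCompl M) ≤ 0 := by
  rw [Module.supportDim]
  have key : ∀ Q : Module.support (Localization.AtPrime p) (LocalizedModule p.primeCompl M),
      Q.1.asIdeal = maximalIdeal (Localization.AtPrime p) := by
    intro Q
    have h1 := comap_mem_support p Q.1 Q.2
    have h2 : Module.annihilator R M ≤
        Ideal.comap (algebraMap R (Localization.AtPrime p)) Q.1.asIdeal :=
      Module.annihilator_le_of_mem_support h1
    have h3 := comap_le p Q.1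
    have h4 : p ≤ Ideal.comap (algebraMap R (Localization.AtPrime p)) Q.1.asIdeal :=
      hp.2 ⟨Ideal.comap_isPrime _ _, h2⟩ h3
    apply le_antisymm (IsLocalRing.le_maximalIdeal Q.1.2.ne_top)
    rw [← IsLocalization.AtPrime.map_eq_maximalIdeal p (Localization.AtPrime p),
      ← IsLocalization.map_under p.primeCompl (Localization.AtPrime p) Q.1.asIdeal]
    exact Ideal.map_mono h4
  have : Subsingleton (Module.support (Localization.AtPrime p)
      (LocalizedModule p.primeCompl M)) :=
    ⟨fun Q Q' => Subtype.ext (PrimeSpectrum.ext ((key Q).trans (key Q').symm))⟩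
  exact Order.krullDim_nonpos_of_subsingleton

variable [IsNoetherianRing R] [Module.Finite R M]

omit [IsNoetherianRing R] [Module.Finite R M] [AddCommGroup M] [Module R M] in
theorem comap_max (p : Ideal R) [p.IsPrime] :
    Ideal.comap (algebraMap R (Localization.AtPrime p)) (maximalIdeal (Localization.AtPrime p))
      = p :=
  IsLocalization.AtPrime.under_maximalIdeal (Localization.AtPrime p) p

theorem main : (∀ p ∈ associatedPrimes R M, p ∈ (Module.annihilator R M).minimalPrimes) ↔
    LocCoh.HasSk 1 R M := by
  constructor
  · intro h p _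
    by_cases hd : LocCoh.depth (Localization.AtPrime p) (LocalizedModule p.primeCompl M) = 0
    · rw [hd]
      have h1 := (Groth.Agent.H29.depth_eq_zero_iff_mem_ass (Localization.AtPrime p)
        (LocalizedModule p.primeCompl M)).mp hd
      have h2 : p ∈ associatedPrimes R M := by
        have e := Module.associatedPrimes.preimage_comap_associatedPrimes_eq_associatedPrimes_of_isLocalizedModule
          (S := p.primeCompl) (f := LocalizedModule.mkLinearMap p.primeCompl M)
          (R' := Localization.AtPrime p)
        have h3 : maximalIdeal (Localization.AtPrime p) ∈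
            (Ideal.comap (algebraMap R (Localization.AtPrime p))) ⁻¹' (associatedPrimes R M) := by
          rw [e]; exact h1
        rwa [Set.mem_preimage, comap_max p] at h3
      have h4 := supportDim_le_zero_of_minimal p (h p h2)
      exact (min_le_right _ _).trans (by simpa using h4)
    · have h1 : (1 : ℕ∞) ≤ LocCoh.depth (Localization.AtPrime p)
          (LocalizedModule p.primeCompl M) := Order.one_le_iff_ne_zero.mpr hd
      refine (min_le_left _ _).trans ?_
      exact_mod_cast WithBot.coe_le_coe.mpr h1
  · intro h p hp
    have hpp : p.IsPrime := (show IsAssociatedPrime p M from hp).isPrime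
    have hdepth := Groth.Agent.H29.depth_localizedModule_eq_zero_of_mem_associatedPrimes R M p hp
    have hS := h p
    rw [hdepth] at hS
    replace hS : min (1 : WithBot ℕ∞)
        (Module.supportDim (Localization.AtPrime p) (LocalizedModule p.primeCompl M)) ≤ 0 := by
      simpa using hS
    have hdim : Module.supportDim (Localization.AtPrime p) (LocalizedModule p.primeCompl M) ≤ 0 := by
      rcases le_total (1 : WithBot ℕ∞)
        (Module.supportDim (Localization.AtPrime p) (LocalizedModule p.primeCompl M)) with h' | h'
      · rw [min_eq_left h'] at hS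
        exact absurd hS (by norm_num)
      · rw [min_eq_right h'] at hS; simpa using hS
    have hann : Module.annihilator R M ≤ p :=
      Groth.Agent.H29.annihilator_le_of_mem_associatedPrimes R M p hp
    refine ⟨⟨hpp, hann⟩, ?_⟩
    rintro q ⟨hq, hqa⟩ hqp
    have hdisj : Disjoint (p.primeCompl : Set R) (q : Set R) := by
      rw [Set.disjoint_left]
      intro x hx hxq
      exact hx (hqp hxq)
    have hQprime : (q.map (algebraMap R (Localization.AtPrime p))).IsPrime :=
      IsLocalization.isPrime_of_isPrime_disjoint p.primeCompl _ q hq hdisj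
    have hQcomap : Ideal.comap (algebraMap R (Localization.AtPrime p))
        (q.map (algebraMap R (Localization.AtPrime p))) = q :=
      IsLocalization.under_map_of_isPrime_disjoint p.primeCompl _ hq hdisj
    obtain ⟨Q, hQ⟩ : ∃ Q : PrimeSpectrum (Localization.AtPrime p),
        Q.asIdeal = q.map (algebraMap R (Localization.AtPrime p)) := ⟨⟨_, hQprime⟩, rfl⟩
    obtain ⟨P, hP⟩ : ∃ P : PrimeSpectrum (Localization.AtPrime p),
        P.asIdeal = maximalIdeal (Localization.AtPrime p) :=
      ⟨⟨_, (maximalIdeal.isMaximal _).isPrime⟩, rfl⟩
    have hQs : Q ∈ Module.support (Localization.AtPrime p) (LocalizedModule p.primeCompl M) := by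
      apply mem_support_localized
      rw [Module.mem_support_iff_of_finite]
      show Module.annihilator R M ≤ Ideal.comap _ Q.asIdeal
      rw [hQ, hQcomap]; exact hqa
    have hPs : P ∈ Module.support (Localization.AtPrime p) (LocalizedModule p.primeCompl M) := by
      apply mem_support_localized
      rw [Module.mem_support_iff_of_finite]
      show Module.annihilator R M ≤ Ideal.comap _ P.asIdeal
      rw [hP, comap_max p]; exact hann
    rw [Module.supportDim, Order.krullDim_nonpos_iff_forall_isMax] at hdim
    have hle : (⟨Q, hQs⟩ : Module.support (Localization.AtPrime p)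
        (LocalizedModule p.primeCompl M)) ≤ ⟨P, hPs⟩ := by
      show Q.asIdeal ≤ P.asIdeal
      rw [hP]; exact IsLocalRing.le_maximalIdeal Q.2.ne_top
    have hge := hdim ⟨Q, hQs⟩ hle
    have hge' : P.asIdeal ≤ Q.asIdeal := hge
    rw [hP, hQ] at hge'
    have := Ideal.comap_mono (f := algebraMap R (Localization.AtPrime p)) hge'
    rwa [comap_max p, hQcomap] at this

end Groth.Agent.Helper1.S1Emb
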