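import Mathlib

set_option autoImplicit false
universe u
open TensorProduct

namespace Groth.Agent.Helper1.SepDegSum

section fin
variable (F : Type u) [Field F] (T : Type u) [CommRing T] [Algebra F T] [Module.Finite F T]
  (Ω : Type u) [Field Ω] [Algebra F Ω]

theorem ker_isMaximal (φ : T →ₐ[F] Ω) : (RingHom.ker (φ : T →+* Ω)).IsMaximal := by
  haveI : IsArtinianRing T := IsArtinianRing.of_finite F T
  haveI : (RingHom.ker (φ : T →+* Ω)).IsPrime := RingHom.ker_isPrime _
  exact IsArtinianRing.isMaximal_of_isPrime _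

/-- Homs with prescribed maximal kernel are homs from the quotient. -/
noncomputable def fiberEquiv (m : Ideal T) [m.IsMaximal] :
    {φ : T →ₐ[F] Ω // RingHom.ker (φ : T →+* Ω) = m} ≃ (T ⧸ m →ₐ[F] Ω) where
  toFun φ := Ideal.Quotient.liftₐ m φ.1 (fun a ha => by
    have h := φ.2
    rw [← h] at ha
    exact ha)
  invFun ψ := ⟨ψ.comp (Ideal.Quotient.mkₐ F m), by
    ext a
    rw [RingHom.mem_ker]
    constructor
    · intro h
      have h1 : ψ (Ideal.Quotient.mk m a) = 0 := h
      have h2 : Ideal.Quotient.mk m a = 0 := by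
        letI : Field (T ⧸ m) := Ideal.Quotient.field m
        have hinj : Function.Injective (ψ : T ⧸ m →+* Ω) := RingHom.injective _
        exact hinj (by rw [map_zero]; exact h1)
      exact Ideal.Quotient.eq_zero_iff_mem.1 h2
    · intro h
      have h2 : Ideal.Quotient.mk m a = 0 := Ideal.Quotient.eq_zero_iff_mem.2 h
      show ψ (Ideal.Quotient.mk m a) = 0
      rw [h2, map_zero]⟩
  left_inv φ := by
    apply Subtype.ext
    apply AlgHom.ext
    intro a
    rfl
  right_inv ψ := by
    apply Ideal.Quotient.algHom_ext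
    apply AlgHom.ext
    intro a
    rfl

theorem card_algHom_eq_sum :
    Nat.card (T →ₐ[F] Ω) = ∑ᶠ m : MaximalSpectrum T, Nat.card (T ⧸ m.asIdeal →ₐ[F] Ω) := by
  classical
  haveI : IsArtinianRing T := IsArtinianRing.of_finite F T
  haveI : Fintype (T →ₐ[F] Ω) := minpoly.AlgHom.fintype F T Ω
  haveI : Finite (MaximalSpectrum T) := inferInstance
  haveI : Fintype (MaximalSpectrum T) := Fintype.ofFinite _
  let κ : (T →ₐ[F] Ω) → MaximalSpectrum T := fun φ => ⟨RingHom.ker (φ : T →+* Ω), ker_isMaximal F T Ω φ⟩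
  rw [finsum_eq_sum_of_fintype, Nat.card_congr (Equiv.sigmaFiberEquiv κ).symm, Nat.card_sigma]
  refine Finset.sum_congr rfl (fun m _ => ?_)
  haveI := m.isMaximal
  refine Nat.card_congr (Equiv.trans (Equiv.subtypeEquivRight (fun φ => ?_)) (fiberEquiv F T Ω m.asIdeal))
  constructor
  · intro h
    exact congrArg MaximalSpectrum.asIdeal h
  · intro h
    exact MaximalSpectrum.ext h

/-- `T/m ≃ κ(m)` over `F`. -/
noncomputable def quotEquiv (m : Ideal T) [m.IsMaximal] : (T ⧸ m) ≃ₐ[F] m.ResidueField :=
  AlgEquiv.ofBijective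
    { (algebraMap (T ⧸ m) m.ResidueField) with
      commutes' := fun r => by
        show algebraMap (T ⧸ m) m.ResidueField (algebraMap F (T ⧸ m) r) = algebraMap F m.ResidueField r
        rw [IsScalarTower.algebraMap_apply F T (T ⧸ m),
          ← IsScalarTower.algebraMap_apply T (T ⧸ m) m.ResidueField,
          ← IsScalarTower.algebraMap_apply F T m.ResidueField] }
    (Ideal.bijective_algebraMap_quotient_residueField m)

variable [IsAlgClosed Ω]

theorem finSepDegree_residueField (m : Ideal T) [m.IsMaximal] :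
    Field.finSepDegree F (IsLocalRing.ResidueField (Localization.AtPrime m)) =
      Nat.card (T ⧸ m →ₐ[F] Ω) := by
  letI : Field (T ⧸ m) := Ideal.Quotient.field m
  haveI : Module.Finite F (T ⧸ m) := inferInstance
  haveI : Algebra.IsAlgebraic F (T ⧸ m) := Algebra.IsAlgebraic.of_finite F (T ⧸ m)
  rw [← Field.finSepDegree_eq_of_equiv F (T ⧸ m) m.ResidueField (quotEquiv F T m)]
  exact Field.finSepDegree_eq_of_isAlgClosed F (T ⧸ m) Ω

theorem sum_finSepDegree :
    ∑ᶠ m : MaximalSpectrum T,
      Field.finSepDegree F (IsLocalRing.ResidueField (Localization.AtPrime m.asIdeal)) =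
      Nat.card (T →ₐ[F] Ω) := by
  rw [card_algHom_eq_sum F T Ω]
  refine finsum_congr (fun m => ?_)
  haveI := m.isMaximal
  exact finSepDegree_residueField F T Ω m.asIdeal

theorem finSepDegree_local [IsLocalRing T] :
    Field.finSepDegree F (IsLocalRing.ResidueField T) = Nat.card (T →ₐ[F] Ω) := by
  haveI : Module.Finite F (T ⧸ IsLocalRing.maximalIdeal T) := inferInstance
  haveI : Algebra.IsAlgebraic F (IsLocalRing.ResidueField T) :=
    Algebra.IsAlgebraic.of_finite F (T ⧸ IsLocalRing.maximalIdeal T)
  rw [Field.finSepDegree_eq_of_isAlgClosed F (IsLocalRing.ResidueField T) Ω]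
  refine Nat.card_congr ?_
  refine Equiv.trans (fiberEquiv F T Ω (IsLocalRing.maximalIdeal T)).symm ?_
  exact Equiv.subtypeUnivEquiv (fun φ => IsLocalRing.eq_maximalIdeal (ker_isMaximal F T Ω φ))

end fin

section bc
variable (k A k' : Type u) [Field k] [CommRing A] [Algebra k A] [Field k'] [Algebra k k']
  (Ω : Type u) [Field Ω] [Algebra k Ω] [Algebra k' Ω] [IsScalarTower k k' Ω]

noncomputable def bcEquiv : (k' ⊗[k] A →ₐ[k'] Ω) ≃ (A →ₐ[k] Ω) where
  toFun φ := (φ.restrictScalars k).comp (Algebra.TensorProduct.includeRight : A →ₐ[k] k' ⊗[k] A)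
  invFun ψ := Algebra.TensorProduct.lift (Algebra.ofId k' Ω) ψ (fun _ _ => Commute.all _ _)
  left_inv φ := by
    apply AlgHom.ext
    intro x
    induction x using TensorProduct.induction_on with
    | zero => simp
    | tmul a b =>
      simp only [Algebra.TensorProduct.lift_tmul, AlgHom.coe_comp, AlgHom.coe_restrictScalars',
        Function.comp_apply, Algebra.TensorProduct.includeRight_apply, Algebra.ofId_apply]
      have h1 : algebraMap k' Ω a = φ (a ⊗ₜ[k] (1 : A)) := by
        have := φ.commutes a
        rw [Algebra.TensorProduct.algebraMap_apply] at this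
        simpa using this.symm
      rw [h1, ← map_mul, Algebra.TensorProduct.tmul_mul_tmul, mul_one, one_mul]
    | add x y hx hy => rw [map_add, map_add, hx, hy]
  right_inv ψ := by
    apply AlgHom.ext
    intro a
    simp

end bc

theorem main (k A k' : Type u) [Field k] [CommRing A] [Algebra k A]
    [Module.Finite k A] [IsLocalRing A] [Field k'] [Algebra k k'] :
    Field.finSepDegree k (IsLocalRing.ResidueField A) =
      ∑ᶠ m : MaximalSpectrum (k' ⊗[k] A),
        Field.finSepDegree k' (IsLocalRing.ResidueField (Localization.AtPrime m.asIdeal)) := by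
  haveI : Module.Finite k' (k' ⊗[k] A) := inferInstance
  rw [sum_finSepDegree k' (k' ⊗[k] A) (AlgebraicClosure k'),
    finSepDegree_local k A (AlgebraicClosure k')]
  exact (Nat.card_congr (bcEquiv k A k' (AlgebraicClosure k'))).symm

end Groth.Agent.Helper1.SepDegSum
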