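import Mathlib
import Groth.Prelude.Def_RegImm

set_option autoImplicit false
universe u

namespace Groth.Agent.Helper1.SplitSynt

open Polynomial

/-- presentation of `AdjoinRoot P` with one generator and one relation -/
noncomputable def presAdjoin {A : Type u} [CommRing A] (P : A[X]) :
    Algebra.Presentation A (AdjoinRoot P) Unit Unit := by
  let v : Unit → MvPolynomial Unit A := fun _ => (MvPolynomial.pUnitAlgEquiv A).symm P
  have hmap : Ideal.span {P} = (Ideal.span (Set.range v)).map
      ((MvPolynomial.pUnitAlgEquiv A : MvPolynomial Unit A ≃ₐ[A] A[X]) :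
        MvPolynomial Unit A →ₐ[A] A[X]) := by
    rw [Ideal.map_span]
    congr 1
    have hr : Set.range v = {(MvPolynomial.pUnitAlgEquiv A).symm P} := by
      ext y
      simp [v]
    rw [hr, Set.image_singleton]
    congr 1
    exact ((MvPolynomial.pUnitAlgEquiv A).apply_symm_apply P).symm
  exact (Algebra.Presentation.naive (v := v)).ofAlgEquiv
    (Ideal.quotientEquivAlg _ _ (MvPolynomial.pUnitAlgEquiv A) hmap)

/-- the inductive property -/
def Good (A : Type u) [CommRing A] (A' : Type u) [CommRing A'] [Algebra A A'] : Prop :=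
  Module.Finite A A' ∧ Module.Free A A' ∧ (Nontrivial A → Nontrivial A') ∧
    ∃ n : ℕ, Nonempty (Algebra.Presentation A A' (Fin n) (Fin n))

theorem good_adjoin {A : Type u} [CommRing A] (P : A[X]) (hP : P.Monic) (hd : 0 < P.natDegree) :
    Good A (AdjoinRoot P) := by
  let pb := AdjoinRoot.powerBasis' hP
  refine ⟨pb.finite, Module.Free.of_basis pb.basis, fun hA => ?_, 1,
    ⟨(presAdjoin P).reindex (Equiv.equivPUnit (Fin 1)) (Equiv.equivPUnit (Fin 1))⟩⟩
  haveI : Nonempty (Fin pb.dim) := by
    rw [AdjoinRoot.powerBasis'_dim]; exact ⟨⟨0, hd⟩⟩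
  exact pb.basis.repr.symm.injective.nontrivial

theorem good_trans {A A₁ A' : Type u} [CommRing A] [CommRing A₁] [CommRing A'] [Algebra A A₁]
    [Algebra A₁ A'] [Algebra A A'] [IsScalarTower A A₁ A'] (h₁ : Good A A₁) (h₂ : Good A₁ A') :
    Good A A' := by
  obtain ⟨f1, fr1, nt1, n1, ⟨P1⟩⟩ := h₁
  obtain ⟨f2, fr2, nt2, n2, ⟨P2⟩⟩ := h₂
  refine ⟨Module.Finite.trans A₁ A',
    Module.Free.of_basis ((Module.Free.chooseBasis A A₁).smulTower (Module.Free.chooseBasis A₁ A')),
    fun h => nt2 (nt1 h), n2 + n1,
    ⟨(P2.comp P1).reindex finSumFinEquiv.symm finSumFinEquiv.symm⟩⟩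

theorem good_self (A : Type u) [CommRing A] : Good A A :=
  ⟨inferInstance, inferInstance, id, 0,
    ⟨(Algebra.Presentation.id.{0, 0} A).reindex (Equiv.equivPEmpty (Fin 0)) (Equiv.equivPEmpty (Fin 0))⟩⟩

theorem split_aux (d : ℕ) : ∀ (A : Type u) [CommRing A] (P : A[X]), P.Monic → P.natDegree = d →
    ∃ (A' : Type u) (_ : CommRing A') (_ : Algebra A A'), Good A A' ∧
      ∃ s : Multiset A', P.map (algebraMap A A') = (s.map fun b => X - C b).prod := by
  induction d with
  | zero =>
    intro A _ P hP hd
    refine ⟨A, inferInstance, inferInstance, good_self A, 0, ?_⟩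
    rw [hP.natDegree_eq_zero.mp hd]
    simp
  | succ d ih =>
    intro A _ P hP hd
    haveI : Nontrivial A := by
      by_contra h
      rw [not_nontrivial_iff_subsingleton] at h
      rw [Subsingleton.elim P 0, Polynomial.natDegree_zero] at hd
      omega
    haveI : Nontrivial (AdjoinRoot P) := (good_adjoin P hP (by omega)).2.2.1 inferInstance
    have hr : (P.map (algebraMap A (AdjoinRoot P))).IsRoot (AdjoinRoot.root P) := by
      rw [Polynomial.IsRoot, Polynomial.eval_map]
      exact AdjoinRoot.eval₂_root P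
    have hmul := Polynomial.mul_divByMonic_eq_iff_isRoot.mpr hr
    set Q := P.map (algebraMap A (AdjoinRoot P)) /ₘ (X - C (AdjoinRoot.root P)) with hQ
    have hP1 : (P.map (algebraMap A (AdjoinRoot P))).Monic := hP.map _
    have hQm : Q.Monic := by
      have : ((X - C (AdjoinRoot.root P)) * Q).Monic := by rw [hmul]; exact hP1
      exact (Polynomial.monic_X_sub_C _).of_mul_monic_left this
    have hQd : Q.natDegree = d := by
      rw [hQ, Polynomial.natDegree_divByMonic _ (Polynomial.monic_X_sub_C _),
        Polynomial.natDegree_X_sub_C, hP.natDegree_map]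
      omega
    obtain ⟨A', i1, i2, hgood, s, hs⟩ := ih (AdjoinRoot P) Q hQm hQd
    letI : Algebra A A' := ((algebraMap (AdjoinRoot P) A').comp (algebraMap A (AdjoinRoot P))).toAlgebra
    haveI : IsScalarTower A (AdjoinRoot P) A' := IsScalarTower.of_algebraMap_eq (fun _ => rfl)
    refine ⟨A', i1, inferInstance, good_trans (good_adjoin P hP (by omega)) hgood,
      algebraMap (AdjoinRoot P) A' (AdjoinRoot.root P) ::ₘ s, ?_⟩
    rw [Multiset.map_cons, Multiset.prod_cons, ← hs,
      IsScalarTower.algebraMap_eq A (AdjoinRoot P) A', ← Polynomial.map_map, ← hmul]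
    simp

theorem faithfullyFlat_of_good {A A' : Type u} [CommRing A] [CommRing A'] [Algebra A A']
    (h : Good A A') : Module.FaithfullyFlat A A' := by
  obtain ⟨hf, hfr, hnt, -⟩ := h
  rcases subsingleton_or_nontrivial A with hA | hA
  · exact
      { toFlat := inferInstance
        submodule_ne_top := fun m hm => absurd
          ((Ideal.eq_top_iff_one m).mpr (by rw [Subsingleton.elim (1 : A) 0]; exact m.zero_mem))
          hm.ne_top }
  · haveI := hnt hA
    infer_instance

theorem globalCI_of_pres {k S : Type u} [Field k] [CommRing S] [Algebra k S] [IsArtinianRing S]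
    {n : ℕ} (P : Algebra.Presentation k S (Fin n) (Fin n)) : Synt.IsGlobalCI k S := by
  rcases subsingleton_or_nontrivial S with h | h
  · exact Or.inl h
  · refine Or.inr ⟨n, n, le_rfl, MvPolynomial.aeval P.val, P.relation, P.aeval_val_surjective,
      ?_, ?_⟩
    · rw [P.span_range_relation_eq_ker, Algebra.Generators.ker_eq_ker_aeval_val]
      rfl
    · rw [Nat.sub_self, Nat.cast_zero]
      haveI : Ring.KrullDimLE 0 S :=
        Ring.KrullDimLE.mk₀ (fun I hI => IsArtinianRing.isMaximal_of_isPrime I)
      exact ringKrullDimZero_iff_ringKrullDim_eq_zero.mp inferInstance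

theorem syntomic_of_good {A A' : Type u} [CommRing A] [CommRing A'] [Algebra A A']
    (h : Good A A') : Synt.IsSyntomic A A' := by
  obtain ⟨hf, hfr, hnt, n, ⟨P⟩⟩ := h
  refine ⟨inferInstance, P.finitePresentation_of_isFinite, fun p => ⟨?_, fun q => ⟨1, ?_, ?_⟩⟩⟩
  · haveI := (P.baseChange p.asIdeal.ResidueField).finitePresentation_of_isFinite
    infer_instance
  · exact q.isPrime.one_notMem
  · haveI : Module.Finite p.asIdeal.ResidueField (p.asIdeal.Fiber A') :=
      Module.Finite.base_change A p.asIdeal.ResidueField A'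
    haveI : IsArtinianRing (p.asIdeal.Fiber A') :=
      IsArtinianRing.of_finite p.asIdeal.ResidueField _
    exact globalCI_of_pres
      (((Algebra.Presentation.localizationAway
          (Localization.Away (1 : p.asIdeal.Fiber A')) (1 : p.asIdeal.Fiber A')).comp
        (P.baseChange p.asIdeal.ResidueField)).reindex
        ((finSumFinEquiv (m := 1) (n := n)).symm.trans
          (Equiv.sumCongr (Equiv.equivPUnit (Fin 1)) (Equiv.refl _)))
        ((finSumFinEquiv (m := 1) (n := n)).symm.trans
          (Equiv.sumCongr (Equiv.equivPUnit (Fin 1)) (Equiv.refl _))))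

theorem main (A : Type u) [CommRing A] (P : A[X]) (hP : P.Monic) :
    ∃ (A' : Type u) (_ : CommRing A') (_ : Algebra A A'),
      Synt.IsSyntomic A A' ∧ Module.Finite A A' ∧ Module.Free A A' ∧ Module.FaithfullyFlat A A' ∧
        ∃ s : Multiset A', P.map (algebraMap A A') = (s.map fun b => X - C b).prod := by
  obtain ⟨A', i1, i2, hg, s, hs⟩ := split_aux P.natDegree A P hP rfl
  exact ⟨A', i1, i2, syntomic_of_good hg, hg.1, hg.2.1, faithfullyFlat_of_good hg, s, hs⟩

end Groth.Agent.Helper1.SplitSynt
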