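import Groth.Agent.Helper1.SymmPoly

set_option autoImplicit false

open MvPolynomial Finset

namespace Groth.Agent.Helper1.SymmPoly

open LambdaRing

theorem mulGen_bisymm (N k : ℕ) : IsBisymm ℤ (mulGen N k) := by
  intro σ τ
  rw [mulGen, map_multiset_esymm, Multiset.map_map]
  have h : ((rename (Sum.map σ τ) : MvPolynomial (Fin N ⊕ Fin N) ℤ →ₐ[ℤ] _) ∘
      fun ab : Fin N × Fin N => (X (Sum.inl ab.1) * X (Sum.inr ab.2) : MvPolynomial (Fin N ⊕ Fin N) ℤ)) =
      (fun ab : Fin N × Fin N => (X (Sum.inl ab.1) * X (Sum.inr ab.2) : MvPolynomial (Fin N ⊕ Fin N) ℤ)) ∘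
        (Equiv.prodCongr σ τ) := by
    funext ab
    simp
  rw [h, ← Multiset.map_map, Multiset.map_univ_val_equiv]

theorem compGen_symm (N i j : ℕ) : (compGen N i j).IsSymmetric := by
  intro σ
  rw [compGen, map_multiset_esymm, Multiset.map_map]
  have h : ((rename σ : MvPolynomial (Fin N) ℤ →ₐ[ℤ] _) ∘
      fun s : Finset (Fin N) => (∏ a ∈ s, X a : MvPolynomial (Fin N) ℤ)) =
      (fun s : Finset (Fin N) => (∏ a ∈ s, X a : MvPolynomial (Fin N) ℤ)) ∘
        (Finset.mapEmbedding σ.toEmbedding) := by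
    funext s
    simp [Finset.prod_map]
  rw [h, ← Multiset.map_map]
  congr 2
  have h2 := Finset.powersetCard_map σ.toEmbedding i (Finset.univ : Finset (Fin N))
  rw [Finset.map_univ_equiv] at h2
  conv_rhs => rw [h2]
  rw [Finset.map_val]
  rfl

theorem exists_mulGen (N k : ℕ) : ∃ p : MvPolynomial (Fin N ⊕ Fin N) ℤ, ev2 ℤ N N p = mulGen N k :=
  ev2_surjective ℤ N _ (mulGen_bisymm N k)

theorem exists_compGen (N i j : ℕ) : ∃ q : MvPolynomial (Fin N) ℤ, ev1 ℤ N N q = compGen N i j :=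
  ev1_surjective ℤ N _ (compGen_symm N i j)

end Groth.Agent.Helper1.SymmPoly
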