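import Groth.Agent.Helper1.SymmPoly2

set_option autoImplicit false

open MvPolynomial Finset

namespace Groth.Agent.Helper1.SymmPoly

open LambdaRing

section Weights

variable {R : Type*} [CommRing R] {σ τ M : Type*} [AddCommMonoid M]

theorem aeval_monomial_isWeightedHomogeneous (w : σ → M) (w' : τ → M) (g : σ → MvPolynomial τ R)
    (hg : ∀ s, IsWeightedHomogeneous w' (g s) (w s)) (d : σ →₀ ℕ) (c : R) :
    IsWeightedHomogeneous w' (aeval g (monomial d c)) (Finsupp.weight w d) := by
  rw [aeval_monomial, Finsupp.prod, Finsupp.weight_apply, Finsupp.sum]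
  have h1 := IsWeightedHomogeneous.prod d.support (fun s => g s ^ d s) (fun s => d s • w s)
    (w := w') (fun s _ => (hg s).pow (d s))
  have h2 := (isWeightedHomogeneous_C w' c).mul h1
  rwa [zero_add] at h2

theorem component_aeval [DecidableEq M] (w : σ → M) (w' : τ → M) (g : σ → MvPolynomial τ R)
    (hg : ∀ s, IsWeightedHomogeneous w' (g s) (w s)) (m : M) (p : MvPolynomial σ R) :
    weightedHomogeneousComponent w' m (aeval g p) =
      aeval g (weightedHomogeneousComponent w m p) := by
  induction p using MvPolynomial.induction_on' with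
  | monomial d c =>
    have h1 : IsWeightedHomogeneous w (monomial d c) (Finsupp.weight w d) :=
      isWeightedHomogeneous_monomial w d c rfl
    have h2 := aeval_monomial_isWeightedHomogeneous w w' g hg d c
    rw [weightedHomogeneousComponent_of_mem ((mem_weightedHomogeneousSubmodule R w _ _).mpr h1),
      weightedHomogeneousComponent_of_mem ((mem_weightedHomogeneousSubmodule R w' _ _).mpr h2)]
    split_ifs <;> simp
  | add p q hp hq => simp only [map_add, hp, hq]

theorem exists_isWeightedHomogeneous_of_aeval [DecidableEq M] (w : σ → M) (w' : τ → M)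
    (g : σ → MvPolynomial τ R) (hg : ∀ s, IsWeightedHomogeneous w' (g s) (w s)) (m : M)
    (p : MvPolynomial σ R) (G : MvPolynomial τ R) (hG : IsWeightedHomogeneous w' G m)
    (h : aeval g p = G) :
    ∃ p' : MvPolynomial σ R, aeval g p' = G ∧ IsWeightedHomogeneous w p' m :=
  ⟨weightedHomogeneousComponent w m p, by
    rw [← component_aeval (R := R) w w' g hg m p, h, hG.weightedHomogeneousComponent_same],
    weightedHomogeneousComponent_isWeightedHomogeneous m p⟩

end Weights

section Homog

variable (R : Type*) [CommRing R]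

theorem esymm_isWeightedHomogeneous (N k : ℕ) :
    IsWeightedHomogeneous (fun _ : Fin N => (1 : ℕ)) (esymm (Fin N) R k) k := by
  rw [esymm]
  apply IsWeightedHomogeneous.sum
  intro t ht
  have := IsWeightedHomogeneous.prod t (fun i => (X i : MvPolynomial (Fin N) R)) (fun _ => 1)
    (w := fun _ : Fin N => (1 : ℕ)) (fun i _ => isWeightedHomogeneous_X R _ i)
  simpa [(mem_powersetCard.mp ht).2] using this

/-- bidegree weights on two families -/
def w2 (N : ℕ) : Fin N ⊕ Fin N → ℕ × ℕ := Sum.elim (fun _ => (1, 0)) (fun _ => (0, 1))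

theorem rename_inl_esymm_isWeightedHomogeneous (N k : ℕ) :
    IsWeightedHomogeneous (w2 N) (rename Sum.inl (esymm (Fin N) R k) :
      MvPolynomial (Fin N ⊕ Fin N) R) (k, 0) := by
  rw [esymm, map_sum]
  apply IsWeightedHomogeneous.sum
  intro t ht
  rw [map_prod]
  have := IsWeightedHomogeneous.prod t
    (fun i => (rename Sum.inl (X i : MvPolynomial (Fin N) R) : MvPolynomial (Fin N ⊕ Fin N) R))
    (fun _ => ((1, 0) : ℕ × ℕ)) (w := w2 N) (fun i _ => by
      rw [rename_X]
      exact isWeightedHomogeneous_X R _ _)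
  simpa [(mem_powersetCard.mp ht).2] using this

theorem rename_inr_esymm_isWeightedHomogeneous (N k : ℕ) :
    IsWeightedHomogeneous (w2 N) (rename Sum.inr (esymm (Fin N) R k) :
      MvPolynomial (Fin N ⊕ Fin N) R) (0, k) := by
  rw [esymm, map_sum]
  apply IsWeightedHomogeneous.sum
  intro t ht
  rw [map_prod]
  have := IsWeightedHomogeneous.prod t
    (fun i => (rename Sum.inr (X i : MvPolynomial (Fin N) R) : MvPolynomial (Fin N ⊕ Fin N) R))
    (fun _ => ((0, 1) : ℕ × ℕ)) (w := w2 N) (fun i _ => by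
      rw [rename_X]
      exact isWeightedHomogeneous_X R _ _)
  simpa [(mem_powersetCard.mp ht).2] using this

end Homog

theorem compGen_isWeightedHomogeneous (N i j : ℕ) :
    IsWeightedHomogeneous (fun _ : Fin N => (1 : ℕ)) (compGen N i j) (i * j) := by
  rw [compGen, Finset.esymm_map_val]
  apply IsWeightedHomogeneous.sum
  intro t ht
  rw [mem_powersetCard] at ht
  have h1 : ∀ s ∈ t, IsWeightedHomogeneous (fun _ : Fin N => (1 : ℕ))
      (∏ a ∈ s, (X a : MvPolynomial (Fin N) ℤ)) i := by
    intro s hs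
    have hs' := mem_powersetCard.mp (ht.1 hs)
    have := IsWeightedHomogeneous.prod s (fun a => (X a : MvPolynomial (Fin N) ℤ)) (fun _ => 1)
      (w := fun _ : Fin N => (1 : ℕ)) (fun a _ => isWeightedHomogeneous_X ℤ _ a)
    simpa [hs'.2] using this
  have := IsWeightedHomogeneous.prod t (fun s => ∏ a ∈ s, (X a : MvPolynomial (Fin N) ℤ))
    (fun _ => i) (w := fun _ : Fin N => (1 : ℕ)) h1
  simpa [ht.2, mul_comm] using this

theorem mulGen_isWeightedHomogeneous (N k : ℕ) :
    IsWeightedHomogeneous (w2 N) (mulGen N k) (k, k) := by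
  rw [mulGen, Finset.esymm_map_val]
  apply IsWeightedHomogeneous.sum
  intro t ht
  rw [mem_powersetCard] at ht
  have := IsWeightedHomogeneous.prod t
    (fun ab : Fin N × Fin N => (X (Sum.inl ab.1) * X (Sum.inr ab.2) : MvPolynomial (Fin N ⊕ Fin N) ℤ))
    (fun _ => ((1, 1) : ℕ × ℕ)) (w := w2 N) (fun ab _ => by
      have := (isWeightedHomogeneous_X ℤ (w2 N) (Sum.inl ab.1)).mul
        (isWeightedHomogeneous_X ℤ (w2 N) (Sum.inr ab.2))
      simpa [w2] using this)
  simpa [ht.2] using this

theorem exists_isCompPoly (i j : ℕ) : ∃ Q : MvPolynomial (Fin (i * j)) ℤ, IsCompPoly i j Q := by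
  obtain ⟨q, hq⟩ := exists_compGen (i * j) i j
  exact exists_isWeightedHomogeneous_of_aeval (fun k : Fin (i * j) => (k : ℕ) + 1)
    (fun _ : Fin (i * j) => (1 : ℕ)) _ (fun k => esymm_isWeightedHomogeneous ℤ _ _) (i * j) q _
    (compGen_isWeightedHomogeneous _ i j) hq

theorem exists_isMulPoly (n : ℕ) : ∃ P : MvPolynomial (Fin n ⊕ Fin n) ℤ, IsMulPoly n P := by
  obtain ⟨p, hp⟩ := exists_mulGen n n
  exact exists_isWeightedHomogeneous_of_aeval
    (Sum.elim (fun k : Fin n => (((k : ℕ) + 1, 0) : ℕ × ℕ)) (fun k : Fin n => ((0, (k : ℕ) + 1) : ℕ × ℕ)))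
    (w2 n) _ (fun s => by
      rcases s with k | k
      · exact rename_inl_esymm_isWeightedHomogeneous ℤ n _
      · exact rename_inr_esymm_isWeightedHomogeneous ℤ n _) (n, n) p _
    (mulGen_isWeightedHomogeneous n n) hp

end Groth.Agent.Helper1.SymmPoly
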