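import Mathlib
import Groth.Agent.Helper1.S1Emb

namespace Groth.Agent.Helper1.TFS1

universe u

variable (R : Type u) [CommRing R] [IsDomain R] [IsNoetherianRing R] (M : Type u)
  [AddCommGroup M] [Module R M] [Module.Finite R M] [Nontrivial M]

theorem tf_iff_ass : Module.IsTorsionFree R M ↔ associatedPrimes R M = {⊥} := by
  constructor
  · intro h
    apply Set.eq_singleton_iff_nonempty_unique_mem.mpr
    refine ⟨associatedPrimes.nonempty R M, fun p hp => ?_⟩
    obtain ⟨hpp, x, hx⟩ := isAssociatedPrime_iff.mp hp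
    rw [eq_bot_iff]
    intro a ha
    rw [Submodule.mem_bot]
    by_contra ha0
    have hreg : IsRegular a := IsRegular.of_ne_zero ha0
    have hsm := h.isSMulRegular hreg
    have hax : a • x = 0 := by
      rw [hx, Submodule.mem_colon_singleton, Submodule.mem_bot] at ha
      exact ha
    have hx0 : x = 0 := hsm (by simp only [hax, smul_zero])
    apply hpp.ne_top
    rw [hx, hx0, Ideal.eq_top_iff_one, Submodule.mem_colon_singleton, smul_zero]
    exact zero_mem _
  · intro h
    refine ⟨fun r hr x y hxy => ?_⟩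
    by_contra hne
    have hz : x - y ≠ 0 := sub_ne_zero.mpr hne
    obtain ⟨P, hP, hle⟩ := exists_le_isAssociatedPrime_of_isNoetherianRing R (x - y) hz
    have hPbot : P = ⊥ := by
      have h1 : P ∈ associatedPrimes R M := hP
      rw [h] at h1
      exact h1
    have h0 : r • (x - y) = 0 := by rw [smul_sub]; exact sub_eq_zero.mpr hxy
    have hr0 : r ∈ P := hle (Submodule.mem_colon_singleton.mpr (by rw [h0]; exact zero_mem _))
    rw [hPbot, Submodule.mem_bot] at hr0
    exact hr.ne_zero hr0

theorem tf_iff_s1 : Module.IsTorsionFree R M ↔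
    (⟨⊥, Ideal.isPrime_bot⟩ : PrimeSpectrum R) ∈ Module.support R M ∧ LocCoh.HasSk 1 R M := by
  rw [tf_iff_ass, ← S1Emb.main]
  constructor
  · intro h
    have hbot : (⊥ : Ideal R) ∈ associatedPrimes R M := by rw [h]; rfl
    have hann : Module.annihilator R M ≤ ⊥ :=
      Groth.Agent.H29.annihilator_le_of_mem_associatedPrimes R M ⊥ hbot
    refine ⟨Module.mem_support_iff_of_finite.mpr hann, fun p hp => ?_⟩
    rw [h] at hp
    rw [Set.mem_singleton_iff.mp hp, le_bot_iff.mp hann]
    change ⊥ ∈ minimalPrimes R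
    rw [IsDomain.minimalPrimes_eq_singleton_bot]; rfl
  · rintro ⟨hs, h⟩
    have hann : Module.annihilator R M = ⊥ :=
      le_bot_iff.mp (Module.mem_support_iff_of_finite.mp hs)
    apply Set.eq_singleton_iff_nonempty_unique_mem.mpr
    refine ⟨associatedPrimes.nonempty R M, fun p hp => ?_⟩
    have h1 := h p hp
    rw [hann] at h1
    have h2 : p ∈ minimalPrimes R := h1
    rw [IsDomain.minimalPrimes_eq_singleton_bot] at h2
    exact h2

theorem main : (Module.IsTorsionFree R M ↔ associatedPrimes R M = {⊥}) ∧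
    (Module.IsTorsionFree R M ↔
      (⟨⊥, Ideal.isPrime_bot⟩ : PrimeSpectrum R) ∈ Module.support R M ∧ LocCoh.HasSk 1 R M) :=
  ⟨tf_iff_ass R M, tf_iff_s1 R M⟩

end Groth.Agent.Helper1.TFS1
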