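import Mathlib
import Groth.Prelude.Def_TopMod
import Groth.Prelude.Def_LinTop

/-!
# Left inverses of continuous linear maps into complete modules (S5838, S5839)
-/

set_option autoImplicit false
universe u v w

namespace Groth.Agent.Helper1.TopLim

open TopMod Filter Topology

section Lift

variable {A : Type*} [CommRing A]

theorem smul_quot_eq_zero {M : Type*} [AddCommGroup M] [Module A M] (J : Ideal A) (a : A)
    (ha : a ∈ J) (p : M ⧸ (J • (⊤ : Submodule A M))) : a • p = 0 := by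
  obtain ⟨m, rfl⟩ := Submodule.Quotient.mk_surjective _ p
  rw [← Submodule.Quotient.mk_smul, Submodule.Quotient.mk_eq_zero]
  exact Submodule.smul_mem_smul ha Submodule.mem_top

theorem exists_lift_of_projective (J : Ideal A) {C : Type*} [AddCommGroup C] [Module A C]
    (hproj : Module.Projective (A ⧸ J) (C ⧸ (J • (⊤ : Submodule A C))))
    {P Q : Type*} [AddCommGroup P] [Module A P] [AddCommGroup Q] [Module A Q]
    (hP : ∀ a ∈ J, ∀ p : P, a • p = 0)
    (red : P →ₗ[A] Q) (hred : Function.Surjective red) (d : C →ₗ[A] Q) :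
    ∃ θ : C →ₗ[A] P, red ∘ₗ θ = d := by
  classical
  have hQ : ∀ a ∈ J, ∀ q : Q, a • q = 0 := by
    intro a ha q
    obtain ⟨p, rfl⟩ := hred q
    rw [← map_smul, hP a ha, map_zero]
  obtain ⟨s, hs⟩ := Module.projective_def'.mp hproj
  have hle : J • (⊤ : Submodule A C) ≤ LinearMap.ker d := by
    rw [Submodule.smul_le]
    intro a ha c _
    rw [LinearMap.mem_ker, map_smul, hQ a ha]
  let dbar : (C ⧸ (J • (⊤ : Submodule A C))) →ₗ[A] Q := Submodule.liftQ _ d hle
  choose p hp using fun c' : C ⧸ (J • (⊤ : Submodule A C)) => hred (dbar c')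
  let ev : (C ⧸ (J • (⊤ : Submodule A C))) → (A ⧸ J) →ₗ[A] P := fun c' =>
    Submodule.liftQ J (LinearMap.toSpanSingleton A P (p c')) (by
      intro a ha
      rw [LinearMap.mem_ker, LinearMap.toSpanSingleton_apply, hP a ha])
  let Λ : ((C ⧸ (J • (⊤ : Submodule A C))) →₀ (A ⧸ J)) →ₗ[A] P := Finsupp.lsum A ev
  have hΛ : ∀ x, red (Λ x) = dbar (Finsupp.linearCombination (A ⧸ J) id x) := by
    intro x
    induction x using Finsupp.induction_linear with
    | zero => rw [map_zero, map_zero, map_zero, map_zero]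
    | add x y hx hy => rw [map_add, map_add, hx, hy, map_add, map_add]
    | single c' ā =>
      obtain ⟨a, rfl⟩ := Ideal.Quotient.mk_surjective ā
      have h1 : Λ (Finsupp.single c' (Ideal.Quotient.mk J a)) = a • p c' := by
        show Finsupp.lsum A ev (Finsupp.single c' (Ideal.Quotient.mk J a)) = _
        rw [Finsupp.lsum_single]
        show Submodule.liftQ J (LinearMap.toSpanSingleton A P (p c')) _
          (Submodule.Quotient.mk a) = _
        rw [Submodule.liftQ_apply, LinearMap.toSpanSingleton_apply]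
      rw [h1, map_smul, hp, Finsupp.linearCombination_single, id_eq]
      obtain ⟨c, rfl⟩ := Submodule.Quotient.mk_surjective _ c'
      rw [Module.Quotient.mk_smul_mk, ← map_smul, Submodule.Quotient.mk_smul]
  let sA : (C ⧸ (J • (⊤ : Submodule A C))) →ₗ[A] ((C ⧸ (J • (⊤ : Submodule A C))) →₀ (A ⧸ J)) :=
    s.restrictScalars A
  refine ⟨Λ ∘ₗ sA ∘ₗ (J • (⊤ : Submodule A C)).mkQ, ?_⟩
  refine LinearMap.ext fun c => ?_
  show red (Λ (s (Submodule.Quotient.mk c))) = d c
  rw [hΛ]
  have h2 := LinearMap.congr_fun hs (Submodule.Quotient.mk c)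
  rw [LinearMap.comp_apply, LinearMap.id_apply] at h2
  rw [h2]
  rfl

theorem nil_lift {M N : Type*} [AddCommGroup M] [Module A M] [AddCommGroup N] [Module A N]
    (u : M →ₗ[A] N) (J J' : Ideal A) (hle : J' ≤ J) (m : ℕ) (hm : J ^ m ≤ J')
    (hproj : Module.Projective (A ⧸ J') (N ⧸ (J' • (⊤ : Submodule A N))))
    (w : N →ₗ[A] M ⧸ (J • (⊤ : Submodule A M)))
    (hw : ∀ x, w (u x) = Submodule.Quotient.mk x) :
    ∃ w' : N →ₗ[A] M ⧸ (J' • (⊤ : Submodule A M)),
      (∀ x, w' (u x) = Submodule.Quotient.mk x) ∧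
      (Submodule.factor (Submodule.smul_mono_left hle)) ∘ₗ w' = w := by
  obtain ⟨red, hred_def⟩ : ∃ red : (M ⧸ (J' • (⊤ : Submodule A M))) →ₗ[A]
      M ⧸ (J • (⊤ : Submodule A M)), red = Submodule.factor (Submodule.smul_mono_left hle) :=
    ⟨_, rfl⟩
  rw [← hred_def]
  have hredmk : ∀ x : M, red (Submodule.Quotient.mk x) = Submodule.Quotient.mk x := by
    intro x; rw [hred_def]; exact Submodule.factor_mk _ _
  have hredsurj : Function.Surjective red := by
    rw [hred_def]; exact Submodule.factor_surjective _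
  have hP := smul_quot_eq_zero (M := M) J'
  obtain ⟨w₁, hw₁⟩ := exists_lift_of_projective J' hproj hP red hredsurj w
  let ε : M →ₗ[A] M ⧸ (J' • (⊤ : Submodule A M)) := w₁ ∘ₗ u - (J' • (⊤ : Submodule A M)).mkQ
  have hεle : J' • (⊤ : Submodule A M) ≤ LinearMap.ker ε := by
    rw [Submodule.smul_le]
    intro a ha x _
    rw [LinearMap.mem_ker, map_smul, hP a ha]
  let εb : Module.End A (M ⧸ (J' • (⊤ : Submodule A M))) := Submodule.liftQ _ ε hεle
  have hεb : ∀ x : M, εb (Submodule.Quotient.mk x) = w₁ (u x) - Submodule.Quotient.mk x :=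
    fun x => rfl
  have hredε : ∀ p, red (εb p) = 0 := by
    intro p
    obtain ⟨x, rfl⟩ := Submodule.Quotient.mk_surjective _ p
    rw [hεb, map_sub, ← LinearMap.comp_apply, hw₁, hw, hredmk, sub_self]
  have hker : ∀ p, red p = 0 →
      p ∈ (J • ⊤ : Submodule A (M ⧸ (J' • (⊤ : Submodule A M)))) := by
    intro p hp
    obtain ⟨x, rfl⟩ := Submodule.Quotient.mk_surjective _ p
    rw [hredmk] at hp
    have h2 : x ∈ (J • ⊤ : Submodule A M) := (Submodule.Quotient.mk_eq_zero _).mp hp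
    have h3 : (J • ⊤ : Submodule A M).map (J' • (⊤ : Submodule A M)).mkQ ≤ J • ⊤ := by
      rw [Submodule.map_smul'']
      exact Submodule.smul_mono le_rfl le_top
    exact h3 ⟨x, h2, rfl⟩
  have hpow : ∀ i p, (εb ^ i) p ∈
      (J ^ i • ⊤ : Submodule A (M ⧸ (J' • (⊤ : Submodule A M)))) := by
    intro i
    induction i with
    | zero =>
      intro p
      rw [pow_zero, Ideal.one_eq_top, Submodule.top_smul]
      exact Submodule.mem_top
    | succ i ih =>
      intro p
      rw [pow_succ' εb i, Module.End.mul_apply]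
      refine Submodule.smul_induction_on
        (p := fun x => εb x ∈ (J ^ (i + 1) • ⊤ : Submodule A (M ⧸ (J' • (⊤ : Submodule A M)))))
        (ih p) (fun a ha q _ => ?_) (fun x y hx hy => ?_)
      · rw [map_smul, pow_succ, Submodule.mul_smul]
        exact Submodule.smul_mem_smul ha (hker _ (hredε q))
      · rw [map_add]
        exact add_mem hx hy
  have hnil : IsNilpotent εb := by
    refine ⟨m, ?_⟩
    refine LinearMap.ext fun p => ?_
    have h5 := hpow m p
    have h6 : (J ^ m • ⊤ : Submodule A (M ⧸ (J' • (⊤ : Submodule A M)))) = ⊥ := by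
      rw [eq_bot_iff, Submodule.smul_le]
      intro a ha q _
      rw [hP a (hm ha) q]
      exact zero_mem _
    rw [h6, Submodule.mem_bot] at h5
    rw [h5]
    rfl
  obtain ⟨U, hU⟩ := hnil.isUnit_one_add
  have h8 : red ∘ₗ (↑U : Module.End A (M ⧸ (J' • (⊤ : Submodule A M)))) = red := by
    refine LinearMap.ext fun p => ?_
    rw [hU]
    show red (p + εb p) = red p
    rw [map_add, hredε, add_zero]
  have h9 : red ∘ₗ (↑U⁻¹ : Module.End A (M ⧸ (J' • (⊤ : Submodule A M)))) = red := by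
    conv_lhs => rw [← h8]
    rw [LinearMap.comp_assoc]
    have h10 : (↑U : Module.End A (M ⧸ (J' • (⊤ : Submodule A M)))) ∘ₗ
        (↑U⁻¹ : Module.End A (M ⧸ (J' • (⊤ : Submodule A M)))) = LinearMap.id := by
      rw [← Module.End.mul_eq_comp, Units.mul_inv]
      rfl
    rw [h10, LinearMap.comp_id]
  refine ⟨(↑U⁻¹ : Module.End A (M ⧸ (J' • (⊤ : Submodule A M)))) ∘ₗ w₁, ?_, ?_⟩
  · intro x
    show (↑U⁻¹ : Module.End A (M ⧸ (J' • (⊤ : Submodule A M)))) (w₁ (u x)) = _
    have h7 : w₁ (u x) = (↑U : Module.End A (M ⧸ (J' • (⊤ : Submodule A M))))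
        (Submodule.Quotient.mk x) := by
      rw [hU, LinearMap.add_apply, Module.End.one_apply, hεb]
      abel
    rw [h7, ← Module.End.mul_apply, Units.inv_mul, Module.End.one_apply]
  · rw [← LinearMap.comp_assoc, h9, hw₁]

end Lift

section Top

variable {A : Type u} {M : Type v} [CommRing A] [TopologicalSpace A] [AddCommGroup M] [Module A M]
  [TopologicalSpace M]

theorem smul_top_mem_nhds (hM : IsDeduced A M) (J : Ideal A) (hJ : IsOpen (J : Set A)) :
    ((J • ⊤ : Submodule A M) : Set M) ∈ 𝓝 (0 : M) := hM.2.mem_of_mem hJ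

theorem isOpen_smul_top (hM : IsDeduced A M) (J : Ideal A) (hJ : IsOpen (J : Set A)) :
    IsOpen ((J • ⊤ : Submodule A M) : Set M) := by
  haveI := hM.1
  exact (J • ⊤ : Submodule A M).toAddSubgroup.isOpen_of_mem_nhds (g := 0)
    (smul_top_mem_nhds hM J hJ)

theorem isClosed_smul_top (hM : IsDeduced A M) (J : Ideal A) (hJ : IsOpen (J : Set A)) :
    IsClosed ((J • ⊤ : Submodule A M) : Set M) := by
  haveI := hM.1
  exact (J • ⊤ : Submodule A M).toAddSubgroup.isClosed_of_isOpen (isOpen_smul_top hM J hJ)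

theorem continuous_of_ker {E : Type*} [AddCommGroup E] [Module A E] [TopologicalSpace E]
    [DiscreteTopology E] (hM : IsDeduced A M) (f : M →ₗ[A] E) (J : Ideal A)
    (hJ : IsOpen (J : Set A)) (hker : ∀ x ∈ (J • ⊤ : Submodule A M), f x = 0) :
    Continuous f := by
  haveI := hM.1
  apply continuous_of_continuousAt_zero f
  rw [ContinuousAt, map_zero, nhds_discrete E, tendsto_pure]
  exact Filter.mem_of_superset (smul_top_mem_nhds hM J hJ) (fun x hx => hker x hx)

theorem exists_ker_of_continuous {E : Type*} [AddCommGroup E] [Module A E] [TopologicalSpace E]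
    [DiscreteTopology E] (hM : IsDeduced A M) (f : M →ₗ[A] E) (hf : Continuous f) :
    ∃ J : Ideal A, IsOpen (J : Set A) ∧ ∀ x ∈ (J • ⊤ : Submodule A M), f x = 0 := by
  have h0 : ({0} : Set E) ∈ 𝓝 (f 0) := by
    rw [map_zero, nhds_discrete E]
    exact Filter.mem_pure.mpr (Set.mem_singleton 0)
  have h1 : f ⁻¹' {0} ∈ 𝓝 (0 : M) := hf.continuousAt.preimage_mem_nhds h0
  obtain ⟨J, hJ, hsub⟩ := hM.2.mem_iff.mp h1
  exact ⟨J, hJ, fun x hx => hsub hx⟩

end Top

section Complete

variable {A : Type u} {M : Type v} [CommRing A] [TopologicalSpace A] [AddCommGroup M] [Module A M]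
  [UniformSpace M] [IsUniformAddGroup M]
  (J : ℕ → Ideal A) (hJopen : ∀ k, IsOpen (J k : Set A)) (hJanti : Antitone J)
  (hJbasis : (𝓝 (0 : A)).HasBasis (fun _ : ℕ => True) (fun k => (J k : Set A)))
  (hM : IsDeduced A M)

include hJbasis hM in
theorem eq_of_forall_mk_eq [T2Space M] {m m' : M}
    (h : ∀ k, (Submodule.Quotient.mk m : M ⧸ (J k • (⊤ : Submodule A M))) =
      Submodule.Quotient.mk m') : m = m' := by
  by_contra hne
  have hx : m - m' ≠ 0 := sub_ne_zero.mpr hne
  have h1 : ({m - m'}ᶜ : Set M) ∈ 𝓝 (0 : M) := isOpen_compl_singleton.mem_nhds (Ne.symm hx)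
  obtain ⟨I, hI, hsub⟩ := hM.2.mem_iff.mp h1
  obtain ⟨k, -, hk⟩ := hJbasis.mem_iff.mp (hI.mem_nhds I.zero_mem)
  have h2 : m - m' ∈ (J k • ⊤ : Submodule A M) := (Submodule.Quotient.eq _).mp (h k)
  have h3 : (J k • ⊤ : Submodule A M) ≤ I • ⊤ := Submodule.smul_mono_left (fun a ha => hk ha)
  exact hsub (h3 h2) (Set.mem_singleton _)

include hJopen hJbasis hM in
theorem exists_of_compatible [CompleteSpace M]
    (z : ∀ k, M ⧸ (J k • (⊤ : Submodule A M)))
    (hz : ∀ k, Submodule.factor (Submodule.smul_mono_left (hJanti (Nat.le_succ k))) (z (k + 1)) =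
      z k) :
    ∃ m : M, ∀ k, (Submodule.Quotient.mk m : M ⧸ (J k • (⊤ : Submodule A M))) = z k := by
  choose x hx using fun k => Submodule.Quotient.mk_surjective _ (z k)
  have hstep : ∀ l, x (l + 1) - x l ∈ (J l • ⊤ : Submodule A M) := by
    intro l
    rw [← Submodule.Quotient.eq, hx l, ← hz l, ← hx (l + 1)]
    exact (Submodule.factor_mk _ _).symm
  have hmono : ∀ {k l}, k ≤ l → (J l • ⊤ : Submodule A M) ≤ J k • ⊤ :=
    fun h => Submodule.smul_mono_left (hJanti h)
  have hdiff : ∀ k l, k ≤ l → x l - x k ∈ (J k • ⊤ : Submodule A M) := by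
    intro k l hkl
    induction l, hkl using Nat.le_induction with
    | base => rw [sub_self]; exact zero_mem _
    | succ l hkl ih =>
      have h1 : x (l + 1) - x k = (x (l + 1) - x l) + (x l - x k) := by abel
      rw [h1]
      exact add_mem (hmono hkl (hstep l)) ih
  have hbasisU := (hM.2).uniformity_of_nhds_zero
  have hcauchy : CauchySeq x := by
    rw [hbasisU.cauchySeq_iff]
    intro I hI
    obtain ⟨k, -, hk⟩ := hJbasis.mem_iff.mp (hI.mem_nhds I.zero_mem)
    have h3 : (J k • ⊤ : Submodule A M) ≤ I • ⊤ := Submodule.smul_mono_left (fun a ha => hk ha)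
    refine ⟨k, fun a ha b hb => ?_⟩
    show x b - x a ∈ (I • ⊤ : Submodule A M)
    have h4 : x b - x a = (x b - x k) - (x a - x k) := by abel
    rw [h4]
    exact h3 (sub_mem (hdiff k b hb) (hdiff k a ha))
  obtain ⟨m, hm⟩ := cauchySeq_tendsto_of_complete hcauchy
  refine ⟨m, fun k => ?_⟩
  rw [← hx k, Submodule.Quotient.eq]
  have hcl : IsClosed ((J k • ⊤ : Submodule A M) : Set M) :=
    isClosed_smul_top hM (J k) (hJopen k)
  have htend : Tendsto (fun l => x l - x k) atTop (𝓝 (m - x k)) := hm.sub_const (x k)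
  exact hcl.mem_of_tendsto htend (eventually_atTop.mpr ⟨k, fun l hl => hdiff k l hl⟩)

include hJopen hJbasis hM in
theorem exists_limit {N : Type w} [AddCommGroup N] [Module A N] [CompleteSpace M] [T2Space M]
    (W : ∀ k, (N →ₗ[A] M ⧸ (J k • (⊤ : Submodule A M))) → Prop)
    (h0 : ∃ w, W 0 w)
    (hstep : ∀ k w, W k w → ∃ w', W (k + 1) w' ∧
      (Submodule.factor (Submodule.smul_mono_left (hJanti (Nat.le_succ k)))) ∘ₗ w' = w) :
    ∃ w : N →ₗ[A] M, ∀ k, W k ((J k • ⊤ : Submodule A M).mkQ ∘ₗ w) := by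
  classical
  obtain ⟨w0, hw0⟩ := h0
  let s : ∀ k, {w : N →ₗ[A] M ⧸ (J k • (⊤ : Submodule A M)) // W k w} := fun k =>
    Nat.rec (motive := fun k => {w : N →ₗ[A] M ⧸ (J k • (⊤ : Submodule A M)) // W k w})
      ⟨w0, hw0⟩
      (fun k w => ⟨Classical.choose (hstep k w.1 w.2),
        (Classical.choose_spec (hstep k w.1 w.2)).1⟩) k
  have hs : ∀ k, (Submodule.factor (Submodule.smul_mono_left (hJanti (Nat.le_succ k)))) ∘ₗ
      (s (k + 1)).1 = (s k).1 :=
    fun k => (Classical.choose_spec (hstep k (s k).1 (s k).2)).2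
  have hex : ∀ y : N, ∃ m : M, ∀ k,
      (Submodule.Quotient.mk m : M ⧸ (J k • (⊤ : Submodule A M))) = (s k).1 y :=
    fun y => exists_of_compatible J hJopen hJanti hJbasis hM (fun k => (s k).1 y)
      (fun k => LinearMap.congr_fun (hs k) y)
  choose wf hwf using hex
  have huniq : ∀ {m m' : M}, (∀ k, (Submodule.Quotient.mk m : M ⧸ (J k • (⊤ : Submodule A M))) =
      Submodule.Quotient.mk m') → m = m' :=
    fun h => eq_of_forall_mk_eq J hJbasis hM h
  let w : N →ₗ[A] M :=
    { toFun := wf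
      map_add' := fun y y' => huniq (fun k => by
        rw [Submodule.Quotient.mk_add, hwf, hwf, hwf, map_add])
      map_smul' := fun a y => huniq (fun k => by
        rw [RingHom.id_apply, Submodule.Quotient.mk_smul, hwf, hwf, map_smul]) }
  refine ⟨w, fun k => ?_⟩
  have h1 : (J k • ⊤ : Submodule A M).mkQ ∘ₗ w = (s k).1 := LinearMap.ext fun y => hwf y k
  rw [h1]
  exact (s k).2

end Complete

section Main

variable {A : Type u} {M : Type v} {N : Type w}
  [CommRing A] [TopologicalSpace A] [AddCommGroup M] [Module A M] [UniformSpace M]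
  [IsUniformAddGroup M] [CompleteSpace M] [T2Space M] [AddCommGroup N] [Module A N]
  [TopologicalSpace N]

theorem main_S5838
    (𝔍 : ℕ → Ideal A) (h𝔍open : ∀ n, IsOpen (𝔍 n : Set A)) (h𝔍anti : Antitone 𝔍)
    (h𝔍basis : (nhds (0 : A)).HasBasis (fun _ : ℕ => True) (fun n => (𝔍 n : Set A)))
    (hM : TopMod.IsDeduced A M) (hN : TopMod.IsDeduced A N) (u : M →L[A] N)
    (hcoker : ∀ n, Module.Projective (A ⧸ 𝔍 n)
      ((N ⧸ LinearMap.range u.toLinearMap) ⧸
        (𝔍 n • (⊤ : Submodule A (N ⧸ LinearMap.range u.toLinearMap))))) :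
    TopMod.IsFormallyLeftInvertible u ↔ ∃ w : N →ₗ[A] M, ∀ x : M, w (u x) = x := by
  constructor
  · intro hfli
    have hW : ∀ k, ∃ w : N →ₗ[A] M ⧸ (𝔍 k • (⊤ : Submodule A M)),
        ∀ x, w (u x) = Submodule.Quotient.mk x := by
      intro k
      letI : TopologicalSpace (M ⧸ (𝔍 k • (⊤ : Submodule A M))) := ⊥
      haveI : DiscreteTopology (M ⧸ (𝔍 k • (⊤ : Submodule A M))) := ⟨rfl⟩
      have hcont : Continuous (𝔍 k • (⊤ : Submodule A M)).mkQ :=
        continuous_of_ker hM _ (𝔍 k) (h𝔍open k)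
          (fun x hx => (Submodule.Quotient.mk_eq_zero _).mpr hx)
      obtain ⟨w, hw⟩ := hfli (M ⧸ (𝔍 k • (⊤ : Submodule A M)))
        ⟨(𝔍 k • (⊤ : Submodule A M)).mkQ, hcont⟩
      exact ⟨w.toLinearMap, fun x => hw x⟩
    obtain ⟨w, hw⟩ := exists_limit 𝔍 h𝔍open h𝔍anti h𝔍basis hM (N := N)
      (fun k w => ∀ x, w (u x) = Submodule.Quotient.mk x) (hW 0) (by
        intro k w hw
        obtain ⟨w', hw'⟩ := hW (k + 1)
        obtain ⟨red, hred_def⟩ : ∃ red : (M ⧸ (𝔍 (k + 1) • (⊤ : Submodule A M))) →ₗ[A]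
            M ⧸ (𝔍 k • (⊤ : Submodule A M)),
            red = Submodule.factor (Submodule.smul_mono_left (h𝔍anti (Nat.le_succ k))) :=
          ⟨_, rfl⟩
        rw [← hred_def]
        have hredmk : ∀ x : M, red (Submodule.Quotient.mk x) = Submodule.Quotient.mk x := by
          intro x; rw [hred_def]; exact Submodule.factor_mk _ _
        have hredsurj : Function.Surjective red := by
          rw [hred_def]; exact Submodule.factor_surjective _
        let d : N →ₗ[A] M ⧸ (𝔍 k • (⊤ : Submodule A M)) := w - red ∘ₗ w'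
        have hd : LinearMap.range u.toLinearMap ≤ LinearMap.ker d := by
          rintro _ ⟨x, rfl⟩
          rw [LinearMap.mem_ker]
          show w (u x) - red (w' (u x)) = 0
          rw [hw, hw', hredmk, sub_self]
        obtain ⟨θ, hθ⟩ := exists_lift_of_projective (𝔍 (k + 1)) (hcoker (k + 1))
          (smul_quot_eq_zero (M := M) (𝔍 (k + 1))) red hredsurj (Submodule.liftQ _ d hd)
        refine ⟨w' + θ ∘ₗ (LinearMap.range u.toLinearMap).mkQ, ?_, ?_⟩
        · intro x
          show w' (u x) + θ (Submodule.Quotient.mk (u x)) = _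
          have h1 : (Submodule.Quotient.mk (u x) : N ⧸ LinearMap.range u.toLinearMap) = 0 :=
            (Submodule.Quotient.mk_eq_zero _).mpr ⟨x, rfl⟩
          rw [h1, map_zero, add_zero, hw']
        · rw [LinearMap.comp_add, ← LinearMap.comp_assoc, hθ]
          refine LinearMap.ext fun y => ?_
          show red (w' y) + (w y - red (w' y)) = w y
          abel)
    exact ⟨w, fun x => eq_of_forall_mk_eq 𝔍 h𝔍basis hM (fun k => hw k x)⟩
  · rintro ⟨w, hw⟩ E _ _ _ _ v
    obtain ⟨I, hI, hker⟩ := exists_ker_of_continuous hM v.toLinearMap v.continuous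
    have hcont : Continuous (v.toLinearMap ∘ₗ w) := continuous_of_ker hN _ I hI (by
      intro y hy
      show v (w y) = 0
      apply hker
      have h1 : (I • ⊤ : Submodule A N) ≤ (I • ⊤ : Submodule A M).comap w := by
        rw [Submodule.smul_le]
        intro a ha n _
        rw [Submodule.mem_comap, map_smul]
        exact Submodule.smul_mem_smul ha Submodule.mem_top
      exact h1 hy)
    exact ⟨⟨v.toLinearMap ∘ₗ w, hcont⟩, fun x => by
      show v (w (u x)) = v x
      rw [hw]⟩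

theorem main_S5839
    (𝔍 : ℕ → Ideal A) (h𝔍open : ∀ n, IsOpen (𝔍 n : Set A)) (h𝔍anti : Antitone 𝔍)
    (h𝔍basis : (nhds (0 : A)).HasBasis (fun _ : ℕ => True) (fun n => (𝔍 n : Set A)))
    (hM : TopMod.IsDeduced A M) (u : M →L[A] N)
    (𝔏 : Ideal A) (h𝔏 : LinTop.IsIdealOfDefinition A 𝔏)
    (hproj : ∀ J : Ideal A, IsOpen (J : Set A) →
      Module.Projective (A ⧸ J) (N ⧸ (J • (⊤ : Submodule A N)))) :
    (∃ w : N →ₗ[A] M, ∀ x : M, w (u x) = x) ↔
      ∃ w₀ : N →ₗ[A] M ⧸ (𝔏 • ⊤ : Submodule A M), ∀ x : M, w₀ (u x) = Submodule.Quotient.mk x := by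
  constructor
  · rintro ⟨w, hw⟩
    exact ⟨(𝔏 • ⊤ : Submodule A M).mkQ ∘ₗ w, fun x => by
      show Submodule.Quotient.mk (w (u x)) = _
      rw [hw]⟩
  · rintro ⟨w₀, hw₀⟩
    let J : ℕ → Ideal A := fun k => 𝔍 k ⊓ 𝔏
    have hJopen : ∀ k, IsOpen (J k : Set A) := fun k => (h𝔍open k).inter h𝔏.1
    have hJanti : Antitone J := fun a b hab => inf_le_inf_right 𝔏 (h𝔍anti hab)
    have hJbasis : (𝓝 (0 : A)).HasBasis (fun _ : ℕ => True) (fun k => (J k : Set A)) := by
      refine ⟨fun U => ⟨fun hU => ?_, ?_⟩⟩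
      · obtain ⟨k, -, hk⟩ := h𝔍basis.mem_iff.mp hU
        exact ⟨k, trivial, fun a ha => hk ha.1⟩
      · rintro ⟨k, -, hk⟩
        exact Filter.mem_of_superset ((hJopen k).mem_nhds (J k).zero_mem) hk
    have hpowle : ∀ (I : Ideal A), IsOpen (I : Set A) → ∃ m, 𝔏 ^ m ≤ I := by
      intro I hI
      obtain ⟨m, -, hm⟩ := h𝔏.2 I (hI.mem_nhds I.zero_mem)
      exact ⟨m, fun a ha => hm ha⟩
    obtain ⟨w, hw⟩ := exists_limit J hJopen hJanti hJbasis hM (N := N)
      (fun k w => ∀ x, w (u x) = Submodule.Quotient.mk x)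
      (by
        obtain ⟨m, hm⟩ := hpowle (J 0) (hJopen 0)
        obtain ⟨w', hw', -⟩ := nil_lift u.toLinearMap 𝔏 (J 0) inf_le_right m hm
          (hproj (J 0) (hJopen 0)) w₀ hw₀
        exact ⟨w', hw'⟩)
      (by
        intro k w hw
        obtain ⟨m, hm⟩ := hpowle (J (k + 1)) (hJopen (k + 1))
        have hm' : J k ^ m ≤ J (k + 1) := (Ideal.pow_right_mono inf_le_right m).trans hm
        exact nil_lift u.toLinearMap (J k) (J (k + 1)) (hJanti (Nat.le_succ k)) m hm'
          (hproj _ (hJopen (k + 1))) w hw)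
    exact ⟨w, fun x => eq_of_forall_mk_eq J hJbasis hM (fun k => hw k x)⟩

end Main

end Groth.Agent.Helper1.TopLim
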