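import Groth.Prelude.Def_TopMod
import Mathlib.Topology.Algebra.OpenSubgroup
import Mathlib.Topology.Algebra.Group.Basic
import Mathlib.Topology.DenseEmbedding
import Mathlib.LinearAlgebra.Quotient.Basic

set_option autoImplicit false
universe u v w

namespace Groth.Agent.Helper1.TopModAux

variable {A : Type u} {M : Type v} {N : Type w} [CommRing A]
    [TopologicalSpace A] [AddCommGroup M] [Module A M] [TopologicalSpace M] [AddCommGroup N] [Module A N]
    [TopologicalSpace N]

theorem smul_top_mem_nhds (hM : TopMod.IsDeduced A M) {J : Ideal A} (hJ : IsOpen (J : Set A)) :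
    ((J • ⊤ : Submodule A M) : Set M) ∈ nhds (0 : M) :=
  hM.2.mem_of_mem hJ

theorem isOpen_smul_top (hM : TopMod.IsDeduced A M) {J : Ideal A} (hJ : IsOpen (J : Set A)) :
    IsOpen ((J • ⊤ : Submodule A M) : Set M) := by
  haveI := hM.1
  exact (J • ⊤ : Submodule A M).toAddSubgroup.isOpen_of_mem_nhds (g := 0) (smul_top_mem_nhds hM hJ)

/-- A linear map to a discrete module whose kernel contains `J • ⊤` for an open `J` is continuous. -/
theorem continuous_of_le_ker (hM : TopMod.IsDeduced A M) {E : Type*} [AddCommGroup E] [Module A E]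
    [TopologicalSpace E] [DiscreteTopology E] (f : M →ₗ[A] E) {J : Ideal A} (hJ : IsOpen (J : Set A))
    (h : (J • ⊤ : Submodule A M) ≤ LinearMap.ker f) : Continuous f := by
  haveI := hM.1
  haveI : IsTopologicalAddGroup E := ⟨⟩
  have hc : Continuous f.toAddMonoidHom := by
    apply continuous_of_continuousAt_zero
    rw [ContinuousAt, map_zero, nhds_discrete E, Filter.tendsto_pure]
    filter_upwards [smul_top_mem_nhds hM hJ] with x hx
    exact h hx
  exact hc

/-- The kernel of a continuous linear map to a discrete module contains `J • ⊤` for an open `J`. -/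
theorem exists_le_ker (hM : TopMod.IsDeduced A M) {E : Type*} [AddCommGroup E] [Module A E]
    [TopologicalSpace E] [DiscreteTopology E] (f : M →ₗ[A] E) (hf : Continuous f) :
    ∃ J : Ideal A, IsOpen (J : Set A) ∧ (J • ⊤ : Submodule A M) ≤ LinearMap.ker f := by
  have h0 : (f ⁻¹' {0}) ∈ nhds (0 : M) := by
    apply hf.continuousAt.preimage_mem_nhds
    rw [map_zero]
    exact (isOpen_discrete _).mem_nhds rfl
  obtain ⟨J, hJ, hJs⟩ := hM.2.mem_iff.1 h0
  exact ⟨J, hJ, fun x hx => hJs hx⟩

end Groth.Agent.Helper1.TopModAux
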