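import Mathlib

/-!
# Unipotent action of a group generated by two unipotent subgroups, one normalizing the other
(helper for S17446)
-/

namespace Groth.Agent.Helper1.Unip

universe u v

variable {K : Type u} {V : Type v} [Field K] [AddCommGroup V] [Module K V]

/-- vectors moved into `W` by all `g - 1`, `g ∈ G` -/
def plus (G : Subgroup (V ≃ₗ[K] V)) (W : Submodule K V) : Submodule K V where
  carrier := {v | ∀ g ∈ G, g v - v ∈ W}
  add_mem' {a b} ha hb := by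
    intro g hg
    have : g (a + b) - (a + b) = (g a - a) + (g b - b) := by rw [map_add]; abel
    rw [this]; exact W.add_mem (ha g hg) (hb g hg)
  zero_mem' := by intro g _; simp
  smul_mem' c x hx := by
    intro g hg
    have : g (c • x) - c • x = c • (g x - x) := by rw [map_smul, smul_sub]
    rw [this]; exact W.smul_mem c (hx g hg)

lemma mem_plus {G : Subgroup (V ≃ₗ[K] V)} {W : Submodule K V} {v : V} :
    v ∈ plus G W ↔ ∀ g ∈ G, g v - v ∈ W := Iff.rfl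

/-- all `n`-fold products of `(g - 1)` send `v` into `W` -/
def R (G : Subgroup (V ≃ₗ[K] V)) (W : Submodule K V) : ℕ → V → Prop
  | 0, v => v ∈ W
  | n+1, v => ∀ g ∈ G, R G W n (g v - v)

abbrev prodOf (G : Subgroup (V ≃ₗ[K] V)) {n : ℕ} (f : Fin n → ↥G) : Module.End K V :=
  (List.ofFn fun i => (((f i : ↥G) : V ≃ₗ[K] V) : Module.End K V) - 1).prod

lemma prod_snoc (G : Subgroup (V ≃ₗ[K] V)) {n : ℕ} (f' : Fin n → ↥G) (g : ↥G) :
    prodOf G (Fin.snoc f' g : Fin (n+1) → ↥G) =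
      prodOf G f' * ((((g : ↥G) : V ≃ₗ[K] V) : Module.End K V) - 1) := by
  unfold prodOf
  rw [List.ofFn_succ', List.concat_eq_append, List.prod_append, List.prod_singleton]
  simp only [Fin.snoc_castSucc, Fin.snoc_last]

lemma R_of_prod (G : Subgroup (V ≃ₗ[K] V)) (W : Submodule K V) :
    ∀ (n : ℕ) (v : V), (∀ f : Fin n → ↥G, prodOf G f v ∈ W) → R G W n v := by
  intro n
  induction n with
  | zero =>
    intro v h
    have h0 := h Fin.elim0
    show v ∈ W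
    simpa [prodOf] using h0
  | succ n ih =>
    intro v h
    show ∀ g ∈ G, R G W n (g v - v)
    intro g hg
    apply ih
    intro f'
    have h1 := h (Fin.snoc f' ⟨g, hg⟩ : Fin (n+1) → ↥G)
    rw [prod_snoc] at h1
    simpa [Module.End.mul_apply] using h1

lemma lemmaA (G : Subgroup (V ≃ₗ[K] V)) (W U : Submodule K V)
    (hU : ∀ g ∈ G, ∀ u ∈ U, g u ∈ U) :
    ∀ (n : ℕ) (v : V), v ∈ U → v ∉ W → R G W n v →
      ∃ v' ∈ U, v' ∉ W ∧ ∀ g ∈ G, g v' - v' ∈ W := by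
  intro n
  induction n with
  | zero => intro v _ hvW h; exact absurd h hvW
  | succ n ih =>
    intro v hvU hvW h
    by_cases hall : ∀ g ∈ G, g v - v ∈ W
    · exact ⟨v, hvU, hvW, hall⟩
    · push Not at hall
      obtain ⟨g, hg, hgv⟩ := hall
      exact ih (g v - v) (U.sub_mem (hU g hg v hvU) hvU) hgv (h g hg)

lemma plus_stable (G₁ : Subgroup (V ≃ₗ[K] V)) (W : Submodule K V) (g : V ≃ₗ[K] V)
    (hg : ∀ h ∈ G₁, g⁻¹ * h * g ∈ G₁) (hgW : ∀ w ∈ W, g w ∈ W) :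
    ∀ v ∈ plus G₁ W, g v ∈ plus G₁ W := by
  intro v hv h hh
  have h1 := hv (g⁻¹ * h * g) (hg h hh)
  have h2 := hgW _ h1
  have h3 : g ((g⁻¹ * h * g) v - v) = h (g v) - g v := by
    rw [map_sub, LinearEquiv.mul_apply, LinearEquiv.mul_apply, LinearEquiv.coe_inv,
      LinearEquiv.apply_symm_apply]
  rw [h3] at h2; exact h2

/-- the subgroup of automorphisms stabilizing `W` and fixing `v₂` modulo `W` -/
def stabSub (W : Submodule K V) (v₂ : V) : Subgroup (V ≃ₗ[K] V) where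
  carrier := {h | (∀ w ∈ W, h w ∈ W) ∧ (∀ w ∈ W, h⁻¹ w ∈ W) ∧ h v₂ - v₂ ∈ W}
  mul_mem' {a b} ha hb := by
    refine ⟨fun w hw => ?_, fun w hw => ?_, ?_⟩
    · rw [LinearEquiv.mul_apply]; exact ha.1 _ (hb.1 w hw)
    · rw [mul_inv_rev, LinearEquiv.mul_apply]; exact hb.2.1 _ (ha.2.1 w hw)
    · have : (a * b) v₂ - v₂ = a (b v₂ - v₂) + (a v₂ - v₂) := by
        rw [LinearEquiv.mul_apply, map_sub]; abel
      rw [this]; exact W.add_mem (ha.1 _ hb.2.2) ha.2.2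
  one_mem' := by
    refine ⟨fun w hw => hw, fun w hw => by simpa using hw, by simp⟩
  inv_mem' {a} ha := by
    refine ⟨ha.2.1, fun w hw => by rw [inv_inv]; exact ha.1 w hw, ?_⟩
    have : a⁻¹ v₂ - v₂ = -(a⁻¹ (a v₂ - v₂)) := by
      rw [map_sub, LinearEquiv.coe_inv, LinearEquiv.symm_apply_apply]; abel
    rw [this]; exact W.neg_mem (ha.2.1 _ ha.2.2)

theorem main (K : Type u) (V : Type v) [Field K]
    [AddCommGroup V] [Module K V] [FiniteDimensional K V]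
    (H₁ H₂ : Subgroup (V ≃ₗ[K] V)) (hnorm : ∀ g ∈ H₂, ∀ h ∈ H₁, g * h * g⁻¹ ∈ H₁)
    (h₁ : ∃ n : ℕ, ∀ f : Fin n → ↥H₁,
      (List.ofFn fun i => (((f i : ↥H₁) : V ≃ₗ[K] V) : Module.End K V) - 1).prod = 0)
    (h₂ : ∃ n : ℕ, ∀ f : Fin n → ↥H₂,
      (List.ofFn fun i => (((f i : ↥H₂) : V ≃ₗ[K] V) : Module.End K V) - 1).prod = 0) :
    ∃ n : ℕ, ∀ f : Fin n → ↥(H₁ ⊔ H₂),
      (List.ofFn fun i => (((f i : ↥(H₁ ⊔ H₂)) : V ≃ₗ[K] V) : Module.End K V) - 1).prod = 0 := by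
  obtain ⟨n₁, hn₁⟩ := h₁
  obtain ⟨n₂, hn₂⟩ := h₂
  have hH₁ : H₁ ≤ H₁ ⊔ H₂ := le_sup_left
  have hH₂ : H₂ ≤ H₁ ⊔ H₂ := le_sup_right
  have key : ∀ W : Submodule K V, (∀ h ∈ H₁ ⊔ H₂, ∀ w ∈ W, h w ∈ W) → W ≠ ⊤ →
      ∃ v ∈ plus (H₁ ⊔ H₂) W, v ∉ W := by
    intro W hW hne
    obtain ⟨v₀, hv₀⟩ : ∃ v, v ∉ W := by
      by_contra hcon
      push Not at hcon
      exact hne (eq_top_iff.2 fun v _ => hcon v)
    have hR₁ : ∀ v, R H₁ W n₁ v := fun v => R_of_prod H₁ W n₁ v (fun f => by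
      rw [show prodOf H₁ f = 0 from hn₁ f]; exact W.zero_mem)
    have hR₂ : ∀ v, R H₂ W n₂ v := fun v => R_of_prod H₂ W n₂ v (fun f => by
      rw [show prodOf H₂ f = 0 from hn₂ f]; exact W.zero_mem)
    obtain ⟨v₁, -, hv₁W, hv₁⟩ := lemmaA H₁ W ⊤ (fun _ _ _ _ => Submodule.mem_top) n₁ v₀
      Submodule.mem_top hv₀ (hR₁ v₀)
    have hU₁ : ∀ g ∈ H₂, ∀ u ∈ plus H₁ W, g u ∈ plus H₁ W := by
      intro g hg
      apply plus_stable H₁ W g
      · intro h hh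
        have h3 := hnorm g⁻¹ (H₂.inv_mem hg) h hh
        rwa [inv_inv] at h3
      · exact hW g (hH₂ hg)
    obtain ⟨v₂, hv₂U, hv₂W, hv₂⟩ := lemmaA H₂ W (plus H₁ W) hU₁ n₂ v₁ hv₁ hv₁W (hR₂ v₁)
    refine ⟨v₂, ?_, hv₂W⟩
    have hle : H₁ ⊔ H₂ ≤ stabSub W v₂ := by
      apply sup_le
      · intro h hh
        exact ⟨hW h (hH₁ hh), hW h⁻¹ ((H₁ ⊔ H₂).inv_mem (hH₁ hh)), hv₂U h hh⟩
      · intro h hh
        exact ⟨hW h (hH₂ hh), hW h⁻¹ ((H₁ ⊔ H₂).inv_mem (hH₂ hh)), hv₂ h hh⟩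
    intro h hh
    exact (hle hh).2.2
  have chain : ∀ W : Submodule K V, (∀ h ∈ H₁ ⊔ H₂, ∀ w ∈ W, h w ∈ W) →
      ∃ n, ∀ f : Fin n → ↥(H₁ ⊔ H₂), ∀ v, prodOf (H₁ ⊔ H₂) f v ∈ W := by
    intro W
    induction W using WellFoundedGT.induction with
    | ind W ih =>
      intro hW
      by_cases hne : W = ⊤
      · exact ⟨0, fun f v => by rw [hne]; exact Submodule.mem_top⟩
      · obtain ⟨v, hvP, hvW⟩ := key W hW hne
        have hlt : W < plus (H₁ ⊔ H₂) W := by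
          refine lt_of_le_of_ne ?_ ?_
          · intro w hw h hh; exact W.sub_mem (hW h hh w hw) hw
          · intro heq
            apply hvW
            rw [heq]; exact hvP
        have hstab : ∀ h ∈ H₁ ⊔ H₂, ∀ w ∈ plus (H₁ ⊔ H₂) W, h w ∈ plus (H₁ ⊔ H₂) W := by
          intro g hg
          apply plus_stable (H₁ ⊔ H₂) W g
          · intro h hh
            exact (H₁ ⊔ H₂).mul_mem ((H₁ ⊔ H₂).mul_mem ((H₁ ⊔ H₂).inv_mem hg) hh) hg
          · exact hW g hg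
        obtain ⟨n, hn⟩ := ih (plus (H₁ ⊔ H₂) W) hlt hstab
        refine ⟨n + 1, fun f v => ?_⟩
        have hprod : prodOf (H₁ ⊔ H₂) f =
            ((((f 0 : ↥(H₁ ⊔ H₂)) : V ≃ₗ[K] V) : Module.End K V) - 1) *
              prodOf (H₁ ⊔ H₂) (fun i => f i.succ) := by
          unfold prodOf; rw [List.ofFn_succ, List.prod_cons]
        rw [hprod, Module.End.mul_apply]
        have hu := hn (fun i => f i.succ) v
        have h4 := hu (f 0) (f 0).2
        simpa using h4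
  obtain ⟨n, hn⟩ := chain ⊥ (fun h _ w hw => by
    rw [Submodule.mem_bot] at hw ⊢; rw [hw, map_zero])
  refine ⟨n, fun f => ?_⟩
  ext v
  have h5 := hn f v
  rw [Submodule.mem_bot] at h5
  simpa using h5

end Groth.Agent.Helper1.Unip
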