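import Mathlib

/-!
# Universal idempotent of a finite, finitely presented algebra (helper for S1458)
-/

namespace Groth.Agent.Helper1.UnivIdem

open TensorProduct MvPolynomial

universe u v w

section gen
variable {A : Type u} [CommRing A] {M : Type v} [AddCommGroup M] [Module A M]
  {A' : Type w} [CommRing A'] [Algebra A A'] {n : ℕ}

/-- `E v x = ∑ v i ⊗ x i`. -/
noncomputable def E (v : Fin n → M) (x : Fin n → A') : M ⊗[A] A' := ∑ i, v i ⊗ₜ[A] x i

lemma E_add (v : Fin n → M) (x y : Fin n → A') : E (A := A) v (x + y) = E v x + E v y := by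
  simp [E, TensorProduct.tmul_add, Finset.sum_add_distrib]

lemma E_sub (v : Fin n → M) (x y : Fin n → A') : E (A := A) v (x - y) = E v x - E v y := by
  simp [E, TensorProduct.tmul_sub, Finset.sum_sub_distrib]

lemma E_surj (v : Fin n → M) (hv : Submodule.span A (Set.range v) = ⊤) (t : M ⊗[A] A') :
    ∃ x, E v x = t := by
  induction t using TensorProduct.induction_on with
  | zero => exact ⟨0, by simp [E]⟩
  | tmul m a =>
    have hm : m ∈ Submodule.span A (Set.range v) := hv ▸ Submodule.mem_top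
    obtain ⟨r, rfl⟩ := (Submodule.mem_span_range_iff_exists_fun A).1 hm
    refine ⟨fun i => r i • a, ?_⟩
    simp [E, TensorProduct.sum_tmul, TensorProduct.smul_tmul]
  | add x y hx hy =>
    obtain ⟨a, rfl⟩ := hx
    obtain ⟨b, rfl⟩ := hy
    exact ⟨a + b, E_add _ _ _⟩

lemma rTensor_E {N : Type*} [AddCommGroup N] [Module A N] (f : M →ₗ[A] N) (v : Fin n → M)
    (x : Fin n → A') : (f.rTensor A') (E v x) = E (fun i => f (v i)) x := by
  simp [E, map_sum]

/-- the `k`-th coordinate `(Fin n → A) ⊗ A' → A'`. -/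
noncomputable def ev (k : Fin n) : (Fin n → A) ⊗[A] A' →ₗ[A] A' :=
  TensorProduct.lift ((LinearMap.lsmul A A').comp (LinearMap.proj k : (Fin n → A) →ₗ[A] A))

lemma ev_E {m : ℕ} (k : Fin n) (v : Fin m → (Fin n → A)) (x : Fin m → A') :
    ev k (E v x) = ∑ l, v l k • x l := by
  simp [ev, E, map_sum]

lemma E_ker {m : ℕ} (b : Fin n → M) (κ : Fin m → (Fin n → A))
    (hκ : ∀ l, ∑ k, κ l k • b k = 0) (y : Fin m → A') :
    E (A := A) b (fun k => ∑ l, κ l k • y l) = 0 := by
  simp only [E, TensorProduct.tmul_sum]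
  rw [Finset.sum_comm]
  refine Finset.sum_eq_zero fun l _ => ?_
  have : ∑ k, b k ⊗ₜ[A] (κ l k • y l) = (∑ k, κ l k • b k) ⊗ₜ[A] y l := by
    simp [TensorProduct.sum_tmul, TensorProduct.smul_tmul]
  rw [this, hκ, TensorProduct.zero_tmul]

lemma E_eq_zero {m : ℕ} (b : Fin n → M) (π : (Fin n → A) →ₗ[A] M)
    (hπs : Function.Surjective π) (hπb : ∀ i, π (Pi.basisFun A (Fin n) i) = b i)
    (κ : Fin m → (Fin n → A)) (hκ : Submodule.span A (Set.range κ) = LinearMap.ker π)
    (x : Fin n → A') (hx : E (A := A) b x = 0) :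
    ∃ y : Fin m → A', ∀ k, x k = ∑ l, κ l k • y l := by
  classical
  set ρ : (Fin m → A) →ₗ[A] (Fin n → A) := Fintype.linearCombination A κ with hρ
  have hex : Function.Exact ρ π := by
    rw [LinearMap.exact_iff, Fintype.range_linearCombination, hκ]
  have hex' := rTensor_exact A' hex hπs
  have h1 : (π.rTensor A') (E (⇑(Pi.basisFun A (Fin n))) x) = 0 := by
    rw [rTensor_E]
    simp only [hπb]
    exact hx
  obtain ⟨s, hs⟩ := (hex' _).1 h1
  obtain ⟨y, rfl⟩ := E_surj (⇑(Pi.basisFun A (Fin m))) (Pi.basisFun A (Fin m)).span_eq s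
  refine ⟨y, fun k => ?_⟩
  have h2 := congrArg (ev k) hs
  rw [rTensor_E, ev_E, ev_E] at h2
  simp only [hρ, Pi.basisFun_apply, Fintype.linearCombination_apply_single, one_smul,
    Pi.single_apply, ite_smul, zero_smul, Finset.sum_ite_eq, Finset.mem_univ, if_true] at h2
  exact h2.symm

end gen

section alg
variable {A : Type u} [CommRing A] {B : Type v} [CommRing B] [Algebra A B]
  {A' : Type w} [CommRing A'] [Algebra A A'] {n : ℕ}

lemma E_mul (b : Fin n → B) (c : Fin n → Fin n → Fin n → A)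
    (hc : ∀ i j, b i * b j = ∑ k, c i j k • b k) (x : Fin n → A') :
    E (A := A) b x * E b x = E b (fun k => ∑ i, ∑ j, c i j k • (x i * x j)) := by
  simp only [E, Finset.sum_mul_sum, Algebra.TensorProduct.tmul_mul_tmul, hc,
    TensorProduct.sum_tmul, TensorProduct.tmul_sum, TensorProduct.smul_tmul]
  conv_rhs => rw [Finset.sum_comm]
  refine Finset.sum_congr rfl fun i _ => ?_
  rw [Finset.sum_comm]

end alg

theorem main {A B : Type u} [CommRing A] [CommRing B] [Algebra A B] [Module.Finite A B]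
    [Algebra.FinitePresentation A B] :
    ∃ (Au : Type u) (_ : CommRing Au) (_ : Algebra A Au) (eu : B ⊗[A] Au),
      Algebra.FinitePresentation A Au ∧ IsIdempotentElem eu ∧
      ∀ (A' : Type u) [CommRing A'] [Algebra A A'] (e : B ⊗[A] A'), IsIdempotentElem e →
        ∃ φ : Au →ₐ[A] A', Algebra.TensorProduct.map (AlgHom.id A B) φ eu = e := by
  classical
  obtain ⟨n, b, hb⟩ := Module.Finite.exists_fin (R := A) (M := B)
  set π : (Fin n → A) →ₗ[A] B := Fintype.linearCombination A b with hπ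
  have hπs : Function.Surjective π := by
    rw [← LinearMap.range_eq_top, Fintype.range_linearCombination, hb]
  have hπb : ∀ i, π (Pi.basisFun A (Fin n) i) = b i := by
    intro i
    simp [hπ, Pi.basisFun_apply, Fintype.linearCombination_apply_single]
  have : Module.FinitePresentation A B :=
    Module.FinitePresentation.of_finite_of_finitePresentation A B
  obtain ⟨m, κ, hκ⟩ : ∃ (m : ℕ) (κ : Fin m → (Fin n → A)),
      Submodule.span A (Set.range κ) = LinearMap.ker π :=
    Submodule.fg_iff_exists_fin_generating_family.1 (Module.FinitePresentation.fg_ker π hπs)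
  have hκ0 : ∀ l, ∑ k, κ l k • b k = 0 := by
    intro l
    have : κ l ∈ LinearMap.ker π := hκ ▸ Submodule.subset_span ⟨l, rfl⟩
    rw [LinearMap.mem_ker, hπ, Fintype.linearCombination_apply] at this
    exact this
  have hc : ∀ i j, ∃ c : Fin n → A, b i * b j = ∑ k, c k • b k := by
    intro i j
    obtain ⟨c, hc⟩ := hπs (b i * b j)
    exact ⟨c, by rw [← hc, hπ, Fintype.linearCombination_apply]⟩
  choose c hc using hc
  let σ := Fin n ⊕ Fin m
  let P : Fin n → MvPolynomial σ A := fun k =>
    (∑ i, ∑ j, c i j k • (X (Sum.inl i) * X (Sum.inl j))) - X (Sum.inl k)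
      - ∑ l, κ l k • X (Sum.inr l)
  let I : Ideal (MvPolynomial σ A) := Ideal.span (Set.range P)
  let q : MvPolynomial σ A →ₐ[A] (MvPolynomial σ A ⧸ I) := Ideal.Quotient.mkₐ A I
  let xb : Fin n → (MvPolynomial σ A ⧸ I) := fun i => q (X (Sum.inl i))
  let yb : Fin m → (MvPolynomial σ A ⧸ I) := fun l => q (X (Sum.inr l))
  have hrel : ∀ k, (∑ i, ∑ j, c i j k • (xb i * xb j)) - xb k = ∑ l, κ l k • yb l := by
    intro k
    have h0 : q (P k) = 0 := by
      show Ideal.Quotient.mk I (P k) = 0
      exact Ideal.Quotient.eq_zero_iff_mem.2 (Ideal.subset_span ⟨k, rfl⟩)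
    simp only [P, map_sub, map_sum, map_mul, map_smul] at h0
    exact sub_eq_zero.1 h0
  refine ⟨MvPolynomial σ A ⧸ I, inferInstance, inferInstance, E b xb, ?_, ?_, ?_⟩
  · exact Algebra.FinitePresentation.quotient (Submodule.fg_span (Set.finite_range P))
  · show E b xb * E b xb = E b xb
    rw [E_mul b c hc]
    have : (fun k => ∑ i, ∑ j, c i j k • (xb i * xb j)) = xb + fun k => ∑ l, κ l k • yb l := by
      funext k
      rw [Pi.add_apply, ← hrel k]
      ring
    rw [this, E_add, E_ker b κ hκ0, add_zero]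
  · intro A' _ _ e he
    obtain ⟨a, rfl⟩ := E_surj b hb e
    have h1 : E (A := A) b ((fun k => ∑ i, ∑ j, c i j k • (a i * a j)) - a) = 0 := by
      rw [E_sub, ← E_mul b c hc, he.eq, sub_self]
    obtain ⟨y, hy⟩ := E_eq_zero b π hπs hπb κ hκ _ h1
    let ψ : MvPolynomial σ A →ₐ[A] A' := aeval (Sum.elim a y)
    have hψ : ∀ p ∈ I, ψ p = 0 := by
      intro p hp
      have hle : I ≤ RingHom.ker ψ.toRingHom := by
        refine Ideal.span_le.2 ?_
        rintro _ ⟨k, rfl⟩
        show ψ (P k) = 0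
        have := hy k
        simp only [Pi.sub_apply] at this
        simp only [P, ψ, map_sub, map_sum, map_mul, map_smul, aeval_X, Sum.elim_inl, Sum.elim_inr]
        rw [this, sub_self]
      exact hle hp
    refine ⟨Ideal.Quotient.liftₐ I ψ hψ, ?_⟩
    simp only [E, map_sum, Algebra.TensorProduct.map_tmul, AlgHom.coe_id, id_eq]
    refine Finset.sum_congr rfl fun i _ => ?_
    congr 1
    show Ideal.Quotient.liftₐ I ψ hψ (Ideal.Quotient.mk I (X (Sum.inl i))) = a i
    rw [Ideal.Quotient.liftₐ_apply, Ideal.Quotient.lift_mk]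
    simp [ψ]

end Groth.Agent.Helper1.UnivIdem
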