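import Mathlib
import Groth.Prelude

/-!
# Flatness descends along unramified maps (helper1)

If `R → T` is formally unramified and essentially of finite type, then any `T`-module `N` is a
`T`-linear retract of `T ⊗[R] N`; hence `N` flat over `R` implies `N` flat over `T`.
-/

set_option autoImplicit false

namespace Groth.Agent.Helper1.UnramFlat

open TensorProduct

universe u

variable {R T : Type u} [CommRing R] [CommRing T] [Algebra R T]
  (N : Type u) [AddCommGroup N] [Module T N] [Module R N] [IsScalarTower R T N]

/-- The action `a ⊗ b ↦ (n ↦ a ⊗ b • n)` of `T ⊗ T` on `T ⊗ N`, evaluated at `1 ⊗ n`. -/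
noncomputable def Φ : T ⊗[R] T →ₗ[R] (N →ₗ[R] T ⊗[R] N) :=
  TensorProduct.lift (LinearMap.mk₂ R
    (fun a b => (TensorProduct.mk R T N a).comp ((LinearMap.lsmul T N b).restrictScalars R))
    (by intro a a' b; ext n; simp [add_tmul])
    (by intro c a b; ext n; simp [smul_tmul'])
    (by intro a b b'; ext n; simp [add_smul, tmul_add])
    (by intro c a b; ext n; simp [smul_assoc]))

@[simp] lemma Φ_tmul (a b : T) (n : N) : Φ N (a ⊗ₜ[R] b) n = a ⊗ₜ[R] (b • n) := by
  simp [Φ]

lemma Φ_mul_right (u : T ⊗[R] T) (c : T) (n : N) :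
    Φ N u (c • n) = Φ N (u * ((1 : T) ⊗ₜ[R] c)) n := by
  induction u using TensorProduct.induction_on with
  | zero => simp
  | tmul a b =>
    rw [Algebra.TensorProduct.tmul_mul_tmul, Φ_tmul, Φ_tmul, mul_one, mul_smul]
  | add x y hx hy =>
    rw [add_mul, map_add, map_add, LinearMap.add_apply, LinearMap.add_apply, hx, hy]

lemma Φ_mul_left (u : T ⊗[R] T) (c : T) (n : N) :
    c • Φ N u n = Φ N (u * (c ⊗ₜ[R] (1 : T))) n := by
  induction u using TensorProduct.induction_on with
  | zero => simp
  | tmul a b =>
    rw [Algebra.TensorProduct.tmul_mul_tmul, Φ_tmul, Φ_tmul, mul_one, smul_tmul', smul_eq_mul,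
      mul_comm]
  | add x y hx hy =>
    rw [add_mul, map_add, map_add, LinearMap.add_apply, LinearMap.add_apply, smul_add, hx, hy]

lemma lift_Φ (u : T ⊗[R] T) (n : N) :
    LinearMap.liftBaseChange T (LinearMap.id : N →ₗ[R] N) (Φ N u n) =
      (Algebra.TensorProduct.lmul' R u : T) • n := by
  induction u using TensorProduct.induction_on with
  | zero => simp
  | tmul a b =>
    rw [Φ_tmul, LinearMap.liftBaseChange_tmul, Algebra.TensorProduct.lmul'_apply_tmul,
      LinearMap.id_apply, mul_smul]
  | add x y hx hy =>
    rw [map_add, map_add, LinearMap.add_apply, map_add, hx, hy, add_smul]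

/-- Over a formally unramified, essentially finite type base change, `R`-flat implies `T`-flat. -/
theorem flat_of_unramified [Algebra.FormallyUnramified R T] [Algebra.EssFiniteType R T]
    [Module.Flat R N] : Module.Flat T N := by
  obtain ⟨t, ht1, ht2⟩ :=
    Algebra.FormallyUnramified.iff_exists_tensorProduct.mp (inferInstance :
      Algebra.FormallyUnramified R T)
  let s : N →ₗ[T] T ⊗[R] N :=
    { toFun := fun n => Φ N t n
      map_add' := fun x y => map_add _ x y
      map_smul' := fun c n => by
        simp only [RingHom.id_apply]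
        rw [Φ_mul_right, Φ_mul_left]
        have h := ht1 c
        rw [sub_mul, sub_eq_zero] at h
        rw [mul_comm t, mul_comm t, h] }
  haveI : Module.Flat T (T ⊗[R] N) := inferInstance
  refine Module.Flat.of_retract s (LinearMap.liftBaseChange T (LinearMap.id : N →ₗ[R] N)) ?_
  ext n
  show LinearMap.liftBaseChange T (LinearMap.id : N →ₗ[R] N) (Φ N t n) = n
  rw [lift_Φ, ht2, one_smul]

end Groth.Agent.Helper1.UnramFlat
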